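import Groth.Agent.Lib.DR.BaseChange
import Mathlib.Algebra.Category.ModuleCat.Products

/-!
# Derived base change of unbounded complexes: existence, K-projectives, composition
-/

universe u

open CategoryTheory CategoryTheory.Limits
open Groth.Agent.Lib.DR
open Groth.Agent.Lib.DR.Basic Groth.Agent.Lib.DR.PseudoCoherent Groth.Agent.Lib.DR.BaseChange

attribute [local instance] HasDerivedCategory.standard

namespace Groth.Agent.Lib.DR.BaseChangeU

variable {A : Type u} [CommRing A] {B : Type u} [CommRing B] (φ : A →+* B)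

/-- Derived base change exists. -/
theorem hasLBaseChange : DRing.HasLBaseChange φ :=
  have := LeftDerived.isLeftDerivedFunctor (L := DerivedCategory.Qh)
    (KProjRes.resDataK (DRing.baseChangeKh φ))
  Functor.HasLeftDerivedFunctor.mk' _
    (LeftDerived.counit (L := DerivedCategory.Qh) (KProjRes.resDataK (DRing.baseChangeKh φ)))

/-- Extension of scalars preserves K-projectivity. -/
theorem isKProjective_ext (G : CochainComplex (ModuleCat.{u} A) ℤ) [G.IsKProjective] :
    CochainComplex.IsKProjective ((ext φ).obj G) where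
  nonempty_homotopy_zero {Y} f hY := by
    let R := ModuleCat.restrictScalars.{u} φ
    let adj := Derived.cxAdj (ModuleCat.extendRestrictScalarsAdj.{u} φ)
    have hY' : ((R.mapHomologicalComplex _).obj Y).Acyclic := fun i => by
      have h := hY i
      rw [HomologicalComplex.exactAt_iff] at h ⊢
      exact h.map R
    obtain ⟨h⟩ := CochainComplex.IsKProjective.nonempty_homotopy_zero (adj.homEquiv G Y f) hY'
    refine ⟨(Homotopy.ofEq ?_).trans ((((ModuleCat.extendScalars.{u, u, u} φ).mapHomotopy h).compRight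
      (adj.counit.app Y)).trans (Homotopy.ofEq ?_))⟩
    · exact ((adj.homEquiv G Y).symm_apply_apply f).symm.trans (adj.homEquiv_counit _ _ _)
    · simp

/-- Every object has a K-projective representative with projective terms. -/
theorem exists_rep (K : Dual.D A) : ∃ G : DRing.Cx A, CochainComplex.IsKProjective G ∧
    (∀ i, proj A (G.X i)) ∧ Nonempty (DerivedCategory.Q.obj G ≅ K) := by
  let K₀ := DerivedCategory.Q.objPreimage K
  have : IsIso (DerivedCategory.Q.map ((KProjRes.aug A).app K₀)) := Localization.inverts DerivedCategory.Q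
    (HomologicalComplex.quasiIso (ModuleCat.{u} A) (ComplexShape.up ℤ)) _ (KProjRes.quasiIso_aug A K₀)
  refine ⟨(KProjRes.res A).obj K₀, KProjRes.isKProjective_res A K₀, fun i => ?_,
    ⟨asIso (DerivedCategory.Q.map ((KProjRes.aug A).app K₀)) ≪≫ DerivedCategory.Q.objObjPreimageIso K⟩⟩
  obtain ⟨r⟩ := KProjRes.exists_retract_res A K₀ i
  have hgen : ∀ a : (Σ j, KProjRes.gen A j ⟶ ((KProjRes.res A).obj K₀).X i), Projective (KProjRes.gen A a.1) :=
    fun a => KProjRes.projective_gen A a.1
  have h := r.projective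
  exact (IsProjective.iff_projective (R := A) (((KProjRes.res A).obj K₀).X i)).2 h

variable {C : Type u} [CommRing C] (ψ : B →+* C)

/-- Transitivity. -/
theorem nonempty_LBaseChange_comp [DRing.HasLBaseChange φ] [DRing.HasLBaseChange ψ]
    [DRing.HasLBaseChange (ψ.comp φ)] (K : Dual.D A) :
    Nonempty ((DRing.LBaseChange ψ).obj ((DRing.LBaseChange φ).obj K) ≅
      (DRing.LBaseChange (ψ.comp φ)).obj K) := by
  obtain ⟨G, hG, -, ⟨e⟩⟩ := exists_rep K
  have := isKProjective_ext φ G
  exact ⟨(DRing.LBaseChange ψ).mapIso ((DRing.LBaseChange φ).mapIso e.symm ≪≫ bc φ G) ≪≫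
    bc ψ ((ext φ).obj G) ≪≫
    DerivedCategory.Q.mapIso ((NatIso.mapHomologicalComplex (ModuleCat.extendScalarsComp φ ψ).symm
      (ComplexShape.up ℤ)).app G) ≪≫ (bc (ψ.comp φ) G).symm ≪≫
    (DRing.LBaseChange (ψ.comp φ)).mapIso e⟩

end Groth.Agent.Lib.DR.BaseChangeU
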