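import Groth.Agent.Lib.DR.DTenBasic
import Groth.Agent.Lib.DR.BaseChangeU
import Groth.Prelude.Def_DTen4
import Groth.Prelude.Def_DTen6

/-!
# Values of change of rings for the derived tensor product
-/

universe u

open CategoryTheory CategoryTheory.Limits MonoidalCategory HomologicalComplex
open Groth.Agent.Lib.DerivedOX
open scoped TensorProduct

attribute [local instance] HasDerivedCategory.standard

namespace Groth.Agent.Lib.DR.DTenRing

variable {A : Type u} [CommRing A]

theorem homotopyEquivalences_tensor {K K' L L' : DRing.Cx A} (f : K ⟶ K') (g : L ⟶ L')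
    (hf : homotopyEquivalences _ _ f) (hg : homotopyEquivalences _ _ g) :
    homotopyEquivalences _ _ (f ▷ L ≫ K' ◁ g) := by
  obtain ⟨e₂, rfl⟩ := hg
  obtain ⟨e, rfl⟩ := hf
  let e₁ : HomotopyEquiv (((KFlat.tcx A).obj K).obj L) (((KFlat.tcx A).obj K').obj L) :=
    { hom := ((KFlat.tcx A).map e.hom).app L
      inv := ((KFlat.tcx A).map e.inv).app L
      homotopyHomInvId := (Homotopy.ofEq (((KFlat.tcx A).flip.obj L).map_comp _ _).symm).trans
        ((Bifunctor.homotopy₁ (KFlat.tbi A) e.homotopyHomInvId L).trans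
          (Homotopy.ofEq (((KFlat.tcx A).flip.obj L).map_id _)))
      homotopyInvHomId := (Homotopy.ofEq (((KFlat.tcx A).flip.obj L).map_comp _ _).symm).trans
        ((Bifunctor.homotopy₁ (KFlat.tbi A) e.homotopyInvHomId L).trans
          (Homotopy.ofEq (((KFlat.tcx A).flip.obj L).map_id _))) }
  exact ⟨e₁.trans (KFlat.mapHomotopyEquiv K' e₂), rfl⟩

theorem isIso_Q_map_of_hequiv {K L : DRing.Cx A} (f : K ⟶ L) (hf : homotopyEquivalences _ _ f) :
    IsIso (DerivedCategory.Q.map f) :=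
  DTenBasic.isIso_Q_map f (homotopyEquivalences_le_quasiIso _ _ f hf)

theorem hequiv_res {K L : DRing.Cx A} (f : K ⟶ L) (hf : DTen.qis A f) :
    homotopyEquivalences _ _ ((KProjRes.res A).map f) :=
  have : QuasiIso f := hf
  KProjRes.res_map_homotopyEquivalences A f

/-- K-flatness is stable under tensor products. -/
theorem isKFlat_tensor {X Y : DRing.Cx A} (hX : DRing.IsKFlat A X) (hY : DRing.IsKFlat A Y) :
    DRing.IsKFlat A (X ⊗ Y) := by
  rw [KFlat.isKFlat_iff] at hX hY ⊢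
  exact fun L hL => StalkCx.acyclic_of_iso (α_ L X Y) (hY _ (hX L hL))

variable {R : Type u} [CommRing R] (φ : R →+* A)

theorem hequiv_ext {K L : DRing.Cx R} (f : K ⟶ L) (hf : homotopyEquivalences _ _ f) :
    homotopyEquivalences _ _ ((DTen.extCx φ).map f) := by
  obtain ⟨e, rfl⟩ := hf
  exact ⟨(ModuleCat.extendScalars.{u, u, u} φ).mapHomotopyEquiv e, rfl⟩

set_option backward.isDefEq.respectTransparency false in
theorem acyclic_ext {C : DRing.Cx R} (hC : C.Acyclic) (hK : DRing.IsKFlat R C) :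
    ((DTen.extCx φ).obj C).Acyclic := by
  let := φ.toAlgebra
  intro i
  have h : ((TorAmp.tens (ModuleCat.of R A)).obj C).ExactAt i :=
    StalkCx.acyclic_of_iso (LTensorCx.singleTensorIso _ C)
      (KFlat.acyclic_tensor_of_acyclic_isKFlat hC hK _) i
  rw [exactAt_iff' _ (i - 1) i (i + 1) (by simp) (by simp),
    ShortComplex.ShortExact.moduleCat_exact_iff_function_exact] at h ⊢
  exact (Function.Exact.iff_of_ladder_linearEquiv (e₁ := TensorProduct.comm R A (C.X (i - 1)))
    (e₂ := TensorProduct.comm R A (C.X i)) (e₃ := TensorProduct.comm R A (C.X (i + 1)))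
    (f₁₂ := (C.d (i - 1) i).hom.lTensor A) (f₂₃ := (C.d i (i + 1)).hom.lTensor A)
    (TensorProduct.ext' fun _ _ => rfl) (TensorProduct.ext' fun _ _ => rfl)).1 h

/-- Base change preserves quasi-isomorphisms between K-flat complexes. -/
theorem quasiIso_ext {K L : DRing.Cx R} (f : K ⟶ L) [QuasiIso f] (hK : DRing.IsKFlat R K)
    (hL : DRing.IsKFlat R L) : QuasiIso ((DTen.extCx φ).map f) := by
  have h := acyclic_ext φ ((BaseChange.quasiIso_iff_acyclic f).1 inferInstance)
    (KFlatTri.isKFlat_mappingCone f hK hL)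
  rw [BaseChange.quasiIso_iff_acyclic]
  exact StalkCx.acyclic_of_iso (CochainComplex.mappingCone.mapHomologicalComplexIso f _) h

theorem quasiIso_ext_aug {K : DRing.Cx R} (hK : DRing.IsKFlat R K) :
    QuasiIso ((DTen.extCx φ).map ((KProjRes.aug R).app K)) :=
  have := KProjRes.quasiIso_aug R K
  quasiIso_ext φ _ (KFlat.isKFlat_res K) hK

theorem isKFlat_ext_of_isKProjective (P : DRing.Cx R) [P.IsKProjective] :
    DRing.IsKFlat A ((DTen.extCx φ).obj P) :=
  have := BaseChangeU.isKProjective_ext φ P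
  KFlat.isKFlat_of_isKProjective ((BaseChange.ext φ).obj P)

section Base

variable [DTen.HasLBase φ]

omit [DTen.HasLBase φ] in
theorem unitCx_eq (K : DRing.Cx R) :
    (DTen.unitCx φ).app K = (Derived.cxAdj (ModuleCat.extendRestrictScalarsAdj.{u} φ)).unit.app K := rfl

/-- Derived base change is computed by K-projective complexes. -/
theorem isIso_baseCmp_of_isKProjective (P : DRing.Cx R) [P.IsKProjective] :
    IsIso ((DTen.baseCmp φ).app P) := by
  have := BaseChangeU.isKProjective_ext φ P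
  let adj := Derived.cxAdj (ModuleCat.extendRestrictScalarsAdj.{u} φ)
  refine isIso_of_coyoneda_map_bijective _ fun T => ?_
  let e := ((DTen.baseAdj φ).homEquiv (DerivedCategory.Q.obj P) T)
  rw [← Function.Bijective.of_comp_iff' e.bijective]
  have hkey : ∀ g, (e ∘ fun g => (DTen.baseCmp φ).app P ≫ g) g =
      (DTen.baseγ φ).app P ≫ (DRing.restrictD φ).map g := fun g => by
    show e ((DTen.baseCmp φ).app P ≫ g) = _
    rw [← DTen.baseCmp_fac, Category.assoc, ← Functor.map_comp]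
    exact (DTen.baseAdj φ).homEquiv_unit _ _ _
  rw [funext hkey]
  let Y := DerivedCategory.Q.objPreimage T
  let eY : DerivedCategory.Q.obj Y ≅ T := DerivedCategory.Q.objObjPreimageIso T
  have hcalc : ∀ h : (DTen.extCx φ).obj P ⟶ Y,
      (DTen.baseγ φ).app P ≫ (DRing.restrictD φ).map (DerivedCategory.Q.map h ≫ eY.hom) =
        DerivedCategory.Q.map (adj.homEquiv _ _ h) ≫ (DTen.resFactors φ).inv.app Y ≫
          (DRing.restrictD φ).map eY.hom := fun h => by
    have hn := (DTen.resFactors φ).inv.naturality h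
    dsimp at hn
    rw [adj.homEquiv_unit, ← unitCx_eq φ P, Functor.map_comp, Functor.map_comp]
    show (_ ≫ _) ≫ _ ≫ _ = _
    simp only [Category.assoc]
    exact congrArg (_ ≫ ·) ((Category.assoc _ _ _).symm.trans
      ((congrArg (· ≫ _) hn.symm).trans (Category.assoc _ _ _)))
  constructor
  · intro g g' hg
    obtain ⟨h, hh⟩ := Basic.exists_Q_map_eq (g ≫ eY.inv)
    obtain ⟨h', hh'⟩ := Basic.exists_Q_map_eq (g' ≫ eY.inv)
    have e1 : g = DerivedCategory.Q.map h ≫ eY.hom := by rw [hh, Category.assoc, Iso.inv_hom_id, Category.comp_id]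
    have e2 : g' = DerivedCategory.Q.map h' ≫ eY.hom := by rw [hh', Category.assoc, Iso.inv_hom_id, Category.comp_id]
    simp only [e1, e2, hcalc, cancel_mono] at hg
    obtain ⟨H⟩ := Basic.nonempty_homotopy_of_Q_map_eq hg
    rw [e1, e2]
    refine congrArg (· ≫ eY.hom) (DerivedCategory.Q_map_eq_of_homotopy _
      (((Homotopy.ofEq ?_).trans (((ModuleCat.extendScalars.{u, u, u} φ).mapHomotopy H).compRight
        (adj.counit.app Y))).trans (Homotopy.ofEq ?_)))
    · exact ((adj.homEquiv _ _).symm_apply_apply h).symm.trans (adj.homEquiv_counit _ _ _)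
    · exact ((adj.homEquiv_counit _ _ _).symm.trans ((adj.homEquiv _ _).symm_apply_apply h'))
  · intro g
    obtain ⟨h₀, hh₀⟩ := Basic.exists_Q_map_eq
      (g ≫ (DRing.restrictD φ).map eY.inv ≫ (DTen.resFactors φ).hom.app Y)
    refine ⟨DerivedCategory.Q.map ((adj.homEquiv _ _).symm h₀) ≫ eY.hom, ?_⟩
    dsimp only
    rw [hcalc, Equiv.apply_symm_apply, hh₀]
    simp only [Category.assoc, Iso.hom_inv_id_app_assoc]
    rw [← Functor.map_comp, Iso.inv_hom_id, CategoryTheory.Functor.map_id]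
    exact Category.comp_id g

/-- Derived base change is computed by K-flat complexes. -/
theorem isIso_baseCmp (K : DRing.Cx R) (hK : DRing.IsKFlat R K) :
    IsIso ((DTen.baseCmp φ).app K) := by
  have h1 := isIso_baseCmp_of_isKProjective φ ((KProjRes.res R).obj K)
  have h2 : IsIso (DerivedCategory.Q.map ((KProjRes.aug R).app K)) :=
    DTenBasic.isIso_Q_map _ (KProjRes.quasiIso_aug R K)
  have h3 : IsIso ((DTen.extCx φ ⋙ DerivedCategory.Q).map ((KProjRes.aug R).app K)) :=
    DTenBasic.isIso_Q_map _ (quasiIso_ext_aug φ hK)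
  have h4 : IsIso ((DerivedCategory.Q ⋙ DTen.LBase φ).map ((KProjRes.aug R).app K)) :=
    inferInstanceAs (IsIso ((DTen.LBase φ).map (DerivedCategory.Q.map _)))
  exact IsIso.of_isIso_fac_left ((DTen.baseCmp φ).naturality ((KProjRes.aug R).app K))

end Base

section Mix

/-- Resolution data for the mixed tensor product. -/
theorem resDataMix : LeftDerived.ResData (DTen.qisMix R A) (DTen.mix₂ φ)
    ((KProjRes.res R).prod (KProjRes.res A)) (NatTrans.prod (KProjRes.aug R) (KProjRes.aug A)) where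
  mem X := ⟨KProjRes.quasiIso_aug R X.1, KProjRes.quasiIso_aug A X.2⟩
  inverts _ _ f hf := isIso_Q_map_of_hequiv _ (homotopyEquivalences_tensor _ _
    (hequiv_ext φ _ (hequiv_res f.1 hf.1)) (hequiv_res f.2 hf.2))
  idem X := isIso_Q_map_of_hequiv _ (homotopyEquivalences_tensor _ _
    (hequiv_ext φ _ (KProjRes.aug_homotopyEquivalences R ((KProjRes.res R).obj X.1)))
    (KProjRes.aug_homotopyEquivalences A ((KProjRes.res A).obj X.2)))

variable [DTen.HasLTenMix φ]

/-- The mixed derived tensor product is computed by K-flat complexes. -/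
theorem isIso_εMix {K : DRing.Cx R} {N : DRing.Cx A} (hK : DRing.IsKFlat R K) (hN : DRing.IsKFlat A N) :
    IsIso ((DTen.εMix φ).app (K, N)) := by
  refine LeftDerived.isIso_totalLeftDerivedCounit_app (resDataMix φ) (K, N) (DTenBasic.isIso_Q_map _ ?_)
  show QuasiIso ((DTen.extCx φ).map ((KProjRes.aug R).app K) ▷ (KProjRes.res A).obj N ≫
    (DTen.extCx φ).obj K ◁ (KProjRes.aug A).app N)
  have hw : (DTen.extCx φ).map ((KProjRes.aug R).app K) ▷ (KProjRes.res A).obj N ≫
      (DTen.extCx φ).obj K ◁ (KProjRes.aug A).app N =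
      (DTen.extCx φ).obj ((KProjRes.res R).obj K) ◁ (KProjRes.aug A).app N ≫
        (DTen.extCx φ).map ((KProjRes.aug R).app K) ▷ N := (whisker_exchange _ _).symm
  rw [hw]
  have := KProjRes.quasiIso_aug A N
  have h1 : QuasiIso ((DTen.extCx φ).obj ((KProjRes.res R).obj K) ◁ (KProjRes.aug A).app N) :=
    LTensorCx.quasiIso_tensor_left (isKFlat_ext_of_isKProjective φ _) _
  have h2 : QuasiIso ((DTen.extCx φ).map ((KProjRes.aug R).app K) ▷ N) :=
    @KFlat.quasiIso_tensor_of_isKFlat _ _ _ hN _ _ _ (quasiIso_ext_aug φ hK)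
  exact inferInstance

theorem isIso_split [DTen.HasLTen A] [DTen.HasLBase φ] (X : Dual.D R × Dual.D A) :
    IsIso ((DTen.split φ).app X) := by
  obtain ⟨P, hP, ⟨eP⟩⟩ := DTenBasic.exists_rep X.1
  obtain ⟨Q, hQ, ⟨eQ⟩⟩ := DTenBasic.exists_rep X.2
  refine (NatTrans.isIso_app_iff_of_iso (DTen.split φ)
    (show (DTen.QMix R A).obj (P, Q) ≅ X from eP.prod eQ)).1 ?_
  have := isIso_baseCmp_of_isKProjective φ P
  have h1 : IsIso ((DTen.LTen₂ A).map (Prod.mkHom ((DTen.baseCmp φ).app P) (𝟙 (DerivedCategory.Q.obj Q)))) :=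
    ((DTen.LTen₂ A).mapIso ((asIso ((DTen.baseCmp φ).app P)).prod (Iso.refl _))).isIso_hom
  have : IsIso ((DTen.splitβ φ).app (P, Q)) := IsIso.comp_isIso' h1 inferInstance
  have := isIso_εMix φ (KFlat.isKFlat_of_isKProjective P) (KFlat.isKFlat_of_isKProjective Q)
  have : IsIso ((DTen.split φ).app ((DTen.QMix R A).obj (P, Q)) ≫ (DTen.εMix φ).app (P, Q)) := by
    rw [DTen.split_fac]
    infer_instance
  exact IsIso.of_isIso_comp_right _ ((DTen.εMix φ).app (P, Q))

end Mix

section Mix₃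

variable {B C : Type u} [CommRing B] [CommRing C] (φ' : A →+* B) (ψ : B →+* C)

/-- Resolution data for the triple mixed tensor product. -/
theorem resDataMix₃ : LeftDerived.ResData (DTen.qisMix₃ A B C) (DTen.mix₃ φ' ψ)
    ((KProjRes.res A).prod ((KProjRes.res B).prod (KProjRes.res C)))
    (NatTrans.prod (KProjRes.aug A) (NatTrans.prod (KProjRes.aug B) (KProjRes.aug C))) where
  mem X := ⟨KProjRes.quasiIso_aug A X.1, KProjRes.quasiIso_aug B X.2.1, KProjRes.quasiIso_aug C X.2.2⟩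
  inverts _ _ f hf := isIso_Q_map_of_hequiv _ (homotopyEquivalences_tensor _ _
    (hequiv_ext ψ _ (homotopyEquivalences_tensor _ _ (hequiv_ext φ' _ (hequiv_res f.1 hf.1))
      (hequiv_res f.2.1 hf.2.1))) (hequiv_res f.2.2 hf.2.2))
  idem X := isIso_Q_map_of_hequiv _ (homotopyEquivalences_tensor _ _
    (hequiv_ext ψ _ (homotopyEquivalences_tensor _ _
      (hequiv_ext φ' _ (KProjRes.aug_homotopyEquivalences A ((KProjRes.res A).obj X.1)))
      (KProjRes.aug_homotopyEquivalences B ((KProjRes.res B).obj X.2.1))))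
    (KProjRes.aug_homotopyEquivalences C ((KProjRes.res C).obj X.2.2)))

variable [DTen.HasLTenMix φ'] [DTen.HasLTenMix ψ] [DTen.HasLTenMix (ψ.comp φ')] [DTen.HasLTenMix₃ φ' ψ]

theorem isIso_leg₃ (X : Dual.D A × (Dual.D B × Dual.D C)) :
    IsIso ((DTen.leg₃L φ' ψ).app X) ∧ IsIso ((DTen.leg₃R φ' ψ).app X) := by
  obtain ⟨M, hM, ⟨eM⟩⟩ := DTenBasic.exists_rep X.1
  obtain ⟨N, hN, ⟨eN⟩⟩ := DTenBasic.exists_rep X.2.1
  obtain ⟨K, hK, ⟨eK⟩⟩ := DTenBasic.exists_rep X.2.2
  let e : (DTen.QMix₃ A B C).obj (M, (N, K)) ≅ X := eM.prod (eN.prod eK)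
  have hMf := KFlat.isKFlat_of_isKProjective M
  have hNf := KFlat.isKFlat_of_isKProjective N
  have hKf := KFlat.isKFlat_of_isKProjective K
  have h0 : IsIso ((DTen.εMix₃ φ' ψ).app (M, (N, K))) :=
    LeftDerived.isIso_totalLeftDerivedCounit_app (resDataMix₃ φ' ψ) (M, (N, K)) (isIso_Q_map_of_hequiv _
      (homotopyEquivalences_tensor _ _ (hequiv_ext ψ _ (homotopyEquivalences_tensor _ _
        (hequiv_ext φ' _ (KProjRes.aug_homotopyEquivalences A M))
        (KProjRes.aug_homotopyEquivalences B N))) (KProjRes.aug_homotopyEquivalences C K)))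
  constructor
  · refine (NatTrans.isIso_app_iff_of_iso (DTen.leg₃L φ' ψ) e).1 ?_
    have := isIso_εMix φ' hMf hNf
    have h1 : IsIso ((DTen.LTenMix ψ).map (Prod.mkHom ((DTen.εMix φ').app (M, N)) (𝟙 (DerivedCategory.Q.obj K)))) :=
      ((DTen.LTenMix ψ).mapIso ((asIso ((DTen.εMix φ').app (M, N))).prod (Iso.refl _))).isIso_hom
    have h2 : IsIso ((DTen.εMix ψ).app ((DTen.mixT φ').obj (M, N), K)) :=
      isIso_εMix ψ (isKFlat_tensor (isKFlat_ext_of_isKProjective φ' M) hNf) hKf
    have : IsIso ((DTen.β₃L φ' ψ).app (M, (N, K))) := IsIso.comp_isIso' h1 h2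
    have : IsIso ((DTen.leg₃L φ' ψ).app ((DTen.QMix₃ A B C).obj (M, (N, K))) ≫ (DTen.εMix₃ φ' ψ).app (M, (N, K))) := by
      rw [DTen.leg₃L_fac]
      infer_instance
    exact IsIso.of_isIso_comp_right _ ((DTen.εMix₃ φ' ψ).app (M, (N, K)))
  · refine (NatTrans.isIso_app_iff_of_iso (DTen.leg₃R φ' ψ) e).1 ?_
    have := isIso_εMix ψ hNf hKf
    have h1 : IsIso ((DTen.LTenMix (ψ.comp φ')).map
        (Prod.mkHom (𝟙 (DerivedCategory.Q.obj M)) ((DTen.εMix ψ).app (N, K)))) :=
      ((DTen.LTenMix (ψ.comp φ')).mapIso ((Iso.refl _).prod (asIso ((DTen.εMix ψ).app (N, K))))).isIso_hom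
    have h2 : IsIso ((DTen.εMix (ψ.comp φ')).app (M, (DTen.mixT ψ).obj (N, K))) :=
      isIso_εMix (ψ.comp φ') hMf (isKFlat_tensor (isKFlat_ext_of_isKProjective ψ N) hKf)
    have : IsIso ((DTen.β₃R φ' ψ).app (M, (N, K))) := IsIso.comp_isIso' h1 (IsIso.comp_isIso' h2 inferInstance)
    have : IsIso ((DTen.leg₃R φ' ψ).app ((DTen.QMix₃ A B C).obj (M, (N, K))) ≫ (DTen.εMix₃ φ' ψ).app (M, (N, K))) := by
      rw [DTen.leg₃R_fac]
      infer_instance
    exact IsIso.of_isIso_comp_right _ ((DTen.εMix₃ φ' ψ).app (M, (N, K)))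

end Mix₃

end Groth.Agent.Lib.DR.DTenRing
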