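import Groth.Agent.Lib.DR.ProjAmp

/-!
# Perfect objects: triangles, retracts, dévissage
-/

universe u

open CategoryTheory CategoryTheory.Limits CategoryTheory.Pretriangulated
open Groth.Agent.Lib.DR.Basic Groth.Agent.Lib.DR.FiniteComplex Groth.Agent.Lib.DR.PseudoCoherent
open Groth.Agent.Lib.DR.Representative Groth.Agent.Lib.DR.Amplitude Groth.Agent.Lib.DR.ProjAmp
open Groth.Agent.Lib.DR.TopCohomology

attribute [local instance] HasDerivedCategory.standard

namespace Groth.Agent.Lib.DR.Perfect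

variable {A : Type u} [CommRing A]

/-- Represented by a bounded complex of finite projectives. -/
def Pf (K : Dual.D A) : Prop := ∃ a b, Bdd (fproj A) a b K

lemma pf_iff (K : Dual.D A) : DRing.IsPerfect A K ↔ Pf K := isPerfect_iff K

variable {K L : Dual.D A}

lemma Pf.of_iso (h : Pf K) (e : K ≅ L) : Pf L :=
  let ⟨a, b, h⟩ := h
  ⟨a, b, h.of_iso e⟩

lemma pf_zero (h : IsZero K) : Pf K := ⟨0, 0, bdd_zero good_fproj h 0 0⟩

lemma Pf.shift (h : Pf K) (k : ℤ) : Pf (K⟦k⟧) :=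
  let ⟨a, b, h⟩ := h
  ⟨a - k, b - k, h.shift good_fproj k (a - k) (b - k) (by lia) (by lia)⟩

lemma Pf.of_shift {k : ℤ} (h : Pf (K⟦k⟧)) : Pf K :=
  (h.shift (-k)).of_iso ((shiftFunctorCompIsoId (Dual.D A) k (-k) (by lia)).app K)

lemma pf₃ (T : Triangle (Dual.D A)) (hT : T ∈ distTriang _) (h₁ : Pf T.obj₁) (h₂ : Pf T.obj₂) :
    Pf T.obj₃ := by
  obtain ⟨a, b, h₁⟩ := h₁
  obtain ⟨c, d, h₂⟩ := h₂
  exact ⟨min (a - 1) c, max (b - 1) d, Bdd.cone good_fproj projective_of_fproj T hT h₁ h₂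
    (by lia) (by lia) (by lia) (by lia)⟩

lemma pf₂ (T : Triangle (Dual.D A)) (hT : T ∈ distTriang _) (h₁ : Pf T.obj₁) (h₃ : Pf T.obj₃) :
    Pf T.obj₂ :=
  pf₃ _ (inv_rot_of_distTriang _ hT) (h₃.shift (-1)) h₁

lemma pf₁ (T : Triangle (Dual.D A)) (hT : T ∈ distTriang _) (h₂ : Pf T.obj₂) (h₃ : Pf T.obj₃) :
    Pf T.obj₁ :=
  (pf₃ _ (rot_of_distTriang _ hT) h₂ h₃).of_shift

lemma Pf.pcn (h : Pf K) (m : ℤ) : PCn (ff A) m K :=
  let ⟨_, _, h⟩ := h
  (pcn_ff_iff_fproj _ _).2 (h.pcn m)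

lemma isGE_of_retract (r : Retract K L) {n : ℤ} (h : L.IsGE n) : K.IsGE n := by
  rw [DerivedCategory.isGE_iff]
  intro i hi
  rw [IsZero.iff_id_eq_zero]
  have h0 := (DerivedCategory.isZero_of_isGE L n i hi).eq_of_src
    ((r.map (DerivedCategory.homologyFunctor (ModuleCat.{u} A) i)).r) 0
  rw [← (r.map (DerivedCategory.homologyFunctor (ModuleCat.{u} A) i)).retract, h0, comp_zero]

lemma pf_of_retract (r : Retract K L) (h : Pf L) (hK : ∀ m, PCn (ff A) m K) : Pf K := by
  obtain ⟨a, b, h⟩ := h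
  have hle : K.IsLE b := isLE_of_retract r h.isLE
  refine ⟨a, b, bdd_proj_of_ba good_fproj projective_of_fproj fproj_retract
    ((ba_ff_of_forall hK hle).of_le fproj_of_ff) (isGE_of_retract r h.isGE) fun N => ?_⟩
  refine subsingleton_of_forall_eq 0 fun f => ?_
  have := subsingleton_hom_single_of_bdd projective_of_fproj h N (a - 1) (Or.inl (by lia))
  have h0 : r.r ≫ f = 0 := Subsingleton.elim _ _
  rw [← Category.id_comp f, ← r.retract, Category.assoc, h0, comp_zero]

lemma pf_biprod_summands [HasBinaryBiproduct K L] (h : Pf (K ⊞ L)) : Pf K ∧ Pf L := by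
  have hm : ∀ m, PCn (ff A) m K ∧ PCn (ff A) m L := fun m =>
    PCn.biprod_summands good_ff projective_of_ff (h.pcn m)
  exact ⟨pf_of_retract ⟨biprod.inl, biprod.fst, biprod.inl_fst⟩ h fun m => (hm m).1,
    pf_of_retract ⟨biprod.inr, biprod.snd, biprod.inr_snd⟩ h fun m => (hm m).2⟩

/-- Perfect modules. -/
def pmod (A : Type u) [CommRing A] : ObjectProperty (ModuleCat.{u} A) :=
  fun M => Pf ((DerivedCategory.singleFunctor (ModuleCat.{u} A) 0).obj M)

lemma good_pmod : Good (pmod A) where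
  zero h := pf_zero (Functor.map_isZero _ h)
  biprod {X Y} hX hY := by
    let F := DerivedCategory.singleFunctor (ModuleCat.{u} A) 0
    have : PreservesBinaryBiproduct X Y F := preservesBinaryBiproduct_of_preservesBiproduct F X Y
    have h : Pf (F.obj X ⊞ F.obj Y) :=
      pf₂ _ (binaryBiproductTriangle_distinguished (F.obj X) (F.obj Y)) hX hY
    exact h.of_iso (F.mapBiprod X Y).symm
  iso e h := h.of_iso (Functor.mapIso _ e)

lemma pf_single (M : ModuleCat.{u} A) (h : pmod A M) (n : ℤ) :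
    Pf ((DerivedCategory.singleFunctor (ModuleCat.{u} A) n).obj M) :=
  (h.shift (-n)).of_iso (singleShift M (-n) n 0 (by lia))

lemma pf_of_bounded (E : DRing.Cx A) (a b : ℤ) (hE : ∀ i, i < a ∨ b < i → IsZero (E.X i))
    (hp : ∀ i, pmod A (E.X i)) : Pf (DerivedCategory.Q.obj E) :=
  bdd_induction good_pmod Pf pf_zero pf₂ E a b hE hp fun S i _ _ ⟨e⟩ =>
    pf_single S (good_pmod.iso e.symm (hp i)) i

/-- Dévissage along the cohomology objects. -/
lemma homology_induction (R : Dual.D A → Prop) (hiso : ∀ {X Y : Dual.D A}, (X ≅ Y) → R X → R Y)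
    (hzero : ∀ {X : Dual.D A}, IsZero X → R X)
    (hext : ∀ T : Triangle (Dual.D A), T ∈ distTriang _ → R T.obj₁ → R T.obj₃ → R T.obj₂)
    (K : Dual.D A) (a b : ℤ) (hge : K.IsGE a) (hle : K.IsLE b)
    (hs : ∀ i, a ≤ i → i ≤ b → R ((DerivedCategory.singleFunctor (ModuleCat.{u} A) i).obj
      ((DerivedCategory.homologyFunctor (ModuleCat.{u} A) i).obj K))) : R K := by
  obtain ⟨k, hk⟩ : ∃ k : ℕ, b + 1 ≤ a + k := ⟨(b + 1 - a).toNat, by lia⟩
  induction k generalizing K b with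
  | zero =>
    apply hzero
    rw [IsZero.iff_id_eq_zero]
    exact hom_eq_zero_of_isLE_of_isGE _ (show b < a by lia) hle hge
  | succ k ih =>
    by_cases hba : b < a
    · apply hzero
      rw [IsZero.iff_id_eq_zero]
      exact hom_eq_zero_of_isLE_of_isGE _ hba hle hge
    obtain ⟨P, M, f, g, p, hd, hP, ⟨e⟩, hiso'⟩ := exists_peel_top K b hle
    refine hext _ hd (ih P (b - 1) ?_ hP (fun i h1 h2 => ?_) (by lia))
      (hiso (Functor.mapIso _ e) (hs b (by lia) le_rfl))
    · rw [DerivedCategory.isGE_iff]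
      intro i hi
      have := hiso' i (by lia)
      exact (DerivedCategory.isZero_of_isGE K a i hi).of_iso
        (asIso ((DerivedCategory.homologyFunctor (ModuleCat.{u} A) i).map f))
    · have := hiso' i (by lia)
      exact hiso (Functor.mapIso _ (asIso
        ((DerivedCategory.homologyFunctor (ModuleCat.{u} A) i).map f)).symm) (hs i h1 (by lia))

lemma pf_of_homology (K : Dual.D A) (a b : ℤ) (hge : K.IsGE a) (hle : K.IsLE b)
    (hs : ∀ i, pmod A ((DerivedCategory.homologyFunctor (ModuleCat.{u} A) i).obj K)) : Pf K :=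
  homology_induction Pf (fun e h => h.of_iso e) pf_zero pf₂ K a b hge hle
    fun i _ _ => pf_single _ (hs i) i

end Groth.Agent.Lib.DR.Perfect
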