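import Groth.Agent.Lib.DR.CountSum
import Groth.Agent.Lib.DR.Perfect
import Groth.Agent.Lib.DerCat.CompactRetract
import Groth.Agent.Lib.DerCat.ModGen
import Mathlib.CategoryTheory.Triangulated.Pretriangulated
import Mathlib.Order.Interval.Finset.Basic
import Mathlib.Data.Int.Interval

/-!
# Perfect complexes are the compact objects of `D(R)`
-/

universe w u

open CategoryTheory CategoryTheory.Limits CategoryTheory.Pretriangulated Opposite

attribute [local instance] HasDerivedCategory.standard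

set_option backward.isDefEq.respectTransparency false

namespace Groth.Agent.Lib.DR.CompactPerf

open Groth.Agent.Lib.DR.Basic Groth.Agent.Lib.DR.PseudoCoherent Groth.Agent.Lib.DR.Perfect
open Groth.Agent.Lib.DerCat

variable {R : Type u} [CommRing R]

/-! ### Perfect complexes are compact -/

theorem mem_range_of_bdd {P : DRing.Cx R} (a b : ℤ) (hv : ∀ i, i < a ∨ b < i → IsZero (P.X i))
    (hp : ∀ i, fproj R (P.X i)) (I : Type u) (E : ULift.{u + 1} I → Dual.D R)
    [HasCoproduct E] (f : DerivedCategory.Q.obj P ⟶ ∐ E) :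
    f ∈ (CohDer.homSumToHomCoprod (DerivedCategory.Q.obj P) E).range := by
  classical
  have : P.IsKProjective := FiniteComplex.isKProjective_of_bounds projective_of_fproj
    (fun i hi => hv i (Or.inr hi)) hp
  let B : I → DRing.Cx R := fun i => DerivedCategory.Q.objPreimage (E ⟨i⟩)
  let e : ∀ i, DerivedCategory.Q.obj (B i) ≅ E ⟨i⟩ := fun i => DerivedCategory.Q.objObjPreimageIso _
  have := HocolimQ.preservesColimitsOfShape_Q (A := ModuleCat.{u} R) I
  let hc := isColimitCofanMkObjOfIsColimit DerivedCategory.Q B _ (coproductIsCoproduct B)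
  let a' : (∐ E) ⟶ DerivedCategory.Q.obj (∐ B) :=
    Sigma.desc fun i => (e i.down).inv ≫ DerivedCategory.Q.map (Sigma.ι B i.down)
  let b' : DerivedCategory.Q.obj (∐ B) ⟶ ∐ E :=
    Cofan.IsColimit.desc hc fun i => (e i).hom ≫ Sigma.ι E ⟨i⟩
  have hb : ∀ i, DerivedCategory.Q.map (Sigma.ι B i) ≫ b' = (e i).hom ≫ Sigma.ι E ⟨i⟩ :=
    fun i => Cofan.IsColimit.fac hc _ i
  have hab : a' ≫ b' = 𝟙 _ := Sigma.hom_ext _ _ fun i => by simp [a', hb]
  obtain ⟨φ, hφ⟩ := exists_Q_map_eq (E := P) (K := ∐ B) (f ≫ a')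
  -- finitely many summands
  have hdeg : ∀ i : ℤ, ∃ s : Finset I, ∀ p : (∐ B).X i ⟶ (∐ B).X i,
      (∀ j ∈ s, (Sigma.ι B j).f i ≫ p = (Sigma.ι B j).f i) → φ.f i ≫ p = φ.f i := by
    intro i
    let c : Cofan fun j => (B j).X i := Cofan.mk ((∐ B).X i) fun j => (Sigma.ι B j).f i
    have hcn : IsColimit c := isColimitCofanMkObjOfIsColimit
      (HomologicalComplex.eval (ModuleCat.{u} R) (ComplexShape.up ℤ) i) B (Sigma.ι B)
      (coproductIsCoproduct B)
    obtain ⟨t, ht⟩ := (hp i).1.fg_top
    choose s hs using fun x : P.X i => ModGen.exists_finite_support R hcn ((φ.f i).hom x)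
    refine ⟨t.biUnion s, fun p hpp => ModuleCat.hom_ext (LinearMap.ext_on ht fun x hx => ?_)⟩
    exact hs x p fun j hj => hpp j (Finset.mem_biUnion.2 ⟨x, hx, hj⟩)
  choose s hs using hdeg
  let S := (Finset.Icc a b).biUnion s
  have hcut : φ ≫ Compact.cut B S = φ := by
    refine HomologicalComplex.hom_ext _ _ fun i => ?_
    by_cases hi : i ∈ Finset.Icc a b
    · rw [HomologicalComplex.comp_f]
      refine hs i _ fun j hj => ?_
      rw [← HomologicalComplex.comp_f, Compact.ι_cut, if_pos (Finset.mem_biUnion.2 ⟨i, hi, hj⟩)]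
    · exact (hv i (by rw [Finset.mem_Icc] at hi; omega)).eq_of_src _ _
  have hf : f = DerivedCategory.Q.map φ ≫ b' := by rw [hφ, Category.assoc, hab, Category.comp_id]
  rw [hf, ← hcut, Compact.cut, Preadditive.comp_sum, Functor.map_sum, Preadditive.sum_comp]
  refine AddSubgroup.sum_mem _ fun i _ => ?_
  rw [← Category.assoc, Functor.map_comp, Category.assoc, hb, ← Category.assoc]
  exact Compact.ι_comp_mem_range E ⟨i⟩ _

theorem bijective_of_isPerfect {K : Dual.D R} (hK : DRing.IsPerfect R K) (I : Type u)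
    (E : ULift.{u + 1} I → Dual.D R) [HasCoproduct E] :
    Function.Bijective (CohDer.homSumToHomCoprod K E) := by
  refine ⟨Compact.homSum_injective E, fun f => ?_⟩
  obtain ⟨P, a, b, hv, hp, ⟨e⟩⟩ := hK
  change f ∈ (CohDer.homSumToHomCoprod K E).range
  have := Compact.comp_mem_range E (mem_range_of_bdd a b hv hp I E (e.hom ≫ f)) e.inv
  rwa [e.inv_hom_id_assoc] at this

/-! ### Compact complexes are perfect -/

/-- The functor `Hom(R, -)` preserves direct sums. -/
theorem preservesColimits_coyoneda (ι : Type u) :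
    PreservesColimitsOfShape (Discrete ι)
      (preadditiveCoyoneda.obj (op (ModuleCat.of R R))) := by
  let e : forget₂ (ModuleCat.{u} R) AddCommGrpCat.{u} ≅ preadditiveCoyoneda.obj (op (ModuleCat.of R R)) :=
    NatIso.ofComponents (fun M => AddEquiv.toAddCommGrpIso
      (((LinearMap.ringLmapEquivSelf R R M).symm.toAddEquiv).trans
        (ModuleCat.homAddEquiv (M := ModuleCat.of R R) (N := M)).symm)) fun {M N} f => by
      ext x
      refine ModuleCat.hom_ext (LinearMap.ext_ring ?_)
      let x' : M := x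
      change (1 : R) • (f.hom x' : N) = f.hom ((1 : R) • x')
      rw [one_smul, one_smul]
  exact preservesColimitsOfShape_of_natIso e

section Small

variable (R) [HasDerivedCategory.{u} (ModuleCat.{u} R)]

theorem isLeftAdjoint_Qh' : (DerivedCategory.Qh (C := ModuleCat.{u} R)).IsLeftAdjoint :=
  Groth.Agent.Lib.DerivedOX.RightDerived.isLeftAdjoint_Qh (A := ModuleCat.{u} R) KInjExists.hasKInjRes

theorem hasCoproducts' : HasCoproducts.{u} (DerivedCategory (ModuleCat.{u} R)) := fun J => by
  have := isLeftAdjoint_Qh' R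
  have := HocolimQ.preservesColimitsOfShape_Q (A := ModuleCat.{u} R) J
  refine ⟨fun G => ?_⟩
  let B : J → DRing.Cx R := fun j => DerivedCategory.Q.objPreimage (G.obj ⟨j⟩)
  let e : G ≅ Discrete.functor B ⋙ DerivedCategory.Q :=
    Discrete.natIso fun j => (DerivedCategory.Q.objObjPreimageIso (G.obj j)).symm
  exact hasColimit_of_iso e

variable {R}

theorem exists_retract' [HasCoproducts.{u} (DerivedCategory (ModuleCat.{u} R))]
    (K : DerivedCategory (ModuleCat.{u} R)) (hK : CohDer.IsCompactObject K) :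
    ∃ (L : DRing.Cx R) (a b : ℤ), (∀ i, i < a ∨ b < i → IsZero (L.X i)) ∧
      (∀ i, fproj R (L.X i)) ∧ Nonempty (Retract K (DerivedCategory.Q.obj L)) := by
  have := isLeftAdjoint_Qh' R
  let S : Set (ModuleCat.{u} R) := {ModuleCat.of R R}
  obtain ⟨L, a, b, hv, hfin, hr⟩ := CompactRetract.exists_retract (A := ModuleCat.{u} R) S
    (fun E hE ι => by rw [show E = ModuleCat.of R R from hE]; exact preservesColimits_coyoneda ι)
    (fun X => by
      refine ⟨X, fun _ => ModuleCat.of R R, Sigma.desc fun x => ModuleCat.ofHom (LinearMap.toSpanSingleton R X x),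
        fun _ => rfl, (ModuleCat.epi_iff_surjective _).2 fun x => ?_⟩
      refine ⟨(Sigma.ι (fun _ : X => ModuleCat.of R R) x).hom (1 : R), ?_⟩
      have := ConcreteCategory.congr_hom (Sigma.ι_desc (fun x : X => ModuleCat.ofHom (LinearMap.toSpanSingleton R X x)) x) (1 : R)
      exact this.trans (one_smul R x))
    K hK
  refine ⟨L, a, b, hv, fun i => ?_, hr⟩
  obtain ⟨n, E, hE, ⟨e⟩⟩ := CompactRetract.exists_fin S (hfin i)
  refine good_fproj.iso e.symm ?_
  have hR : ∀ j, E j = ModuleCat.of R R := hE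
  obtain rfl : E = fun _ => ModuleCat.of R R := funext hR
  have e' : (⨁ fun _ : Fin n => ModuleCat.of R R) ≅ ModuleCat.of R (Fin n → R) :=
    ModuleCat.biproductIsoPi _
  exact good_fproj.iso e'.symm (fproj_of_ff _ ⟨(inferInstance : Module.Finite R (Fin n → R)), (inferInstance : Module.Free R (Fin n → R))⟩)

end Small

theorem exists_retract_of_compact {K : Dual.D R}
    (hK : ∀ (I : Type u) (E : I → Dual.D R) [HasCoproduct fun i : ULift.{u + 1} I => E i.down],
      Function.Bijective (CohDer.homSumToHomCoprod K (fun i : ULift.{u + 1} I => E i.down))) :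
    ∃ (L : DRing.Cx R) (a b : ℤ), (∀ i, i < a ∨ b < i → IsZero (L.X i)) ∧
      (∀ i, fproj R (L.X i)) ∧ Nonempty (Retract K (DerivedCategory.Q.obj L)) := by
  classical
  letI i₁ : HasDerivedCategory.{u} (ModuleCat.{u} R) := ModGen.hasDerivedCategory
  let i₂ : HasDerivedCategory.{u + 1} (ModuleCat.{u} R) := HasDerivedCategory.standard _
  let Q₁ := @DerivedCategory.Q _ _ _ i₁
  let Q₂ := @DerivedCategory.Q _ _ _ i₂
  let Eq := Localization.uniq Q₁ Q₂ (HomologicalComplex.quasiIso (ModuleCat.{u} R) (ComplexShape.up ℤ))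
  let eQ : Q₁ ⋙ Eq.functor ≅ Q₂ := Localization.compUniqFunctor Q₁ Q₂ _
  have := @hasCoproducts' R _ i₁
  have hadd : Eq.inverse.Additive := Functor.additive_of_preserves_binary_products _
  have hcpt : CohDer.IsCompactObject (Eq.inverse.obj K) := by
    refine (Compact.isCompactObject_iff _).2 fun ι X f => ?_
    let adj : Eq.inverse ⊣ Eq.functor := Eq.symm.toAdjunction
    have : HasColimitsOfShape (Discrete ι) (@DerivedCategory (ModuleCat.{u} R) _ _ i₂) :=
      CountSum.hasColimitsOfShape_D R ι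
    let X' : ULift.{u + 1} ι → Dual.D R := fun k => Eq.functor.obj (X k.down)
    let θ' : (∐ X') ⟶ Eq.functor.obj (∐ X) := Sigma.desc fun k => Eq.functor.map (Sigma.ι X k.down)
    let θ : Eq.functor.obj (∐ X) ⟶ ∐ X' :=
      (PreservesCoproduct.iso Eq.functor X).hom ≫ Sigma.desc fun i => Sigma.ι X' ⟨i⟩
    have hθ : θ ≫ θ' = 𝟙 _ := by
      rw [← cancel_epi (PreservesCoproduct.iso Eq.functor X).inv]
      dsimp only [θ]
      rw [Category.assoc, Iso.inv_hom_id_assoc, Category.comp_id]
      refine Sigma.hom_ext _ _ fun i => ?_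
      simp [θ, θ', PreservesCoproduct.inv_hom]
    let ψ : (K ⟶ ∐ X') →+ (Eq.inverse.obj K ⟶ ∐ X) :=
      (adj.homAddEquiv K (∐ X)).symm.toAddMonoidHom.comp (Preadditive.rightComp K θ')
    obtain ⟨z, hz⟩ := (hK ι fun i => Eq.functor.obj (X i)).2 (adj.homEquiv K (∐ X) f ≫ θ)
    have hf : ψ (CohDer.homSumToHomCoprod K X' z) = f := by
      change (adj.homEquiv K (∐ X)).symm (CohDer.homSumToHomCoprod K X' z ≫ θ') = f
      rw [hz, Category.assoc, hθ, Category.comp_id, Equiv.symm_apply_apply]
    have hle := Compact.range_le (P := AddSubgroup.comap ψ (CohDer.homSumToHomCoprod _ X).range) X'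
      (fun k g => by
        refine ⟨DirectSum.of _ k.down ((adj.homEquiv K (X k.down)).symm g), ?_⟩
        rw [Compact.homSum_of]
        change _ = (adj.homEquiv K (∐ X)).symm ((g ≫ Sigma.ι X' k) ≫ θ')
        rw [Category.assoc, Sigma.ι_desc]
        exact (adj.homEquiv_naturality_right_symm g (Sigma.ι X k.down)).symm)
      ⟨z, rfl⟩
    rw [← hf]
    exact hle
  obtain ⟨L, a, b, hv, hp, ⟨r⟩⟩ := @exists_retract' R _ i₁ _ _ hcpt
  exact ⟨L, a, b, hv, hp, ⟨(r.map Eq.functor).trans (Retract.ofIso (eQ.app L)) |> fun r' =>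
    (Retract.ofIso (Eq.counitIso.app K).symm).trans r'⟩⟩

theorem isPerfect_of_retract {K L : Dual.D R} (r : Retract K L) (h : Pf L) : DRing.IsPerfect R K := by
  obtain ⟨C, g, h', hT⟩ := Pretriangulated.distinguished_cocone_triangle r.i
  have hz : h' = 0 := by
    have h1 : h' ≫ r.i⟦(1 : ℤ)⟧' = 0 := comp_distTriang_mor_zero₃₁ _ hT
    have h2 := congrArg (· ≫ r.r⟦(1 : ℤ)⟧') h1
    simp only [Category.assoc, ← Functor.map_comp, r.retract, CategoryTheory.Functor.map_id,
      Category.comp_id, zero_comp] at h2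
    exact h2
  obtain ⟨e, -, -⟩ := Pretriangulated.exists_iso_binaryBiproduct_of_distTriang _ hT hz
  rw [isPerfect_iff]
  exact (pf_biprod_summands (h.of_iso e)).1

end Groth.Agent.Lib.DR.CompactPerf
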