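import Groth.Agent.Lib.DR.LeftDerived
import Groth.Agent.Lib.DerivedOX.LeftRes
import Groth.Agent.Lib.PCoh.Resolve
import Mathlib.Algebra.Category.ModuleCat.AB
import Mathlib.Algebra.Category.ModuleCat.Projective
import Mathlib.Algebra.Homology.DerivedCategory.KProjective
import Mathlib.Algebra.Homology.HomotopyCategory.MappingCocone

/-!
# Functorial K-projective resolutions of unbounded complexes of modules, and left derived functors
-/

universe w v u v' u'

open CategoryTheory CategoryTheory.Limits CategoryTheory.MorphismProperty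
open Groth.Agent.Lib.DerivedOX Groth.Agent.Lib.DerivedOX.TrivCof Groth.Agent.Lib.DerivedOX.LeftRes
open scoped ZeroObject

namespace Groth.Agent.Lib.DR.KProjRes

section

variable {C : Type u} [Category.{v} C] [Abelian C] {ι : Type v} {G : ι → C}

/-- Degreewise epimorphic quasi-isomorphisms lift against the generating cofibrations of
projectives. -/
theorem rlp_of_epi_quasiIso (hG : ∀ i, Projective (G i)) {E L : CochainComplex C ℤ} (p : E ⟶ L)
    (hp : ∀ n, Epi (p.f n)) [QuasiIso p] : (genCof G).rlp p := by
  have hlift : ∀ (i : ι) (n : ℤ) (g : disk (G i) n ⟶ L), ∃ l : disk (G i) n ⟶ E, l ≫ p = g := by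
    intro i n g
    have := hp n
    have := hG i
    refine ⟨(fromDiskEquiv (G i) n E).symm
      (Projective.factorThru (fromDiskEquiv (G i) n L g) (p.f n)), ?_⟩
    apply (fromDiskEquiv (G i) n L).injective
    rw [fromDiskEquiv_naturality, Equiv.apply_symm_apply, Projective.factorThru_comp]
  rintro _ _ _ ⟨a⟩
  rcases a with ⟨i, n⟩ | ⟨i, n⟩
  · refine ⟨fun {f g} sq => ?_⟩
    obtain ⟨l, hl⟩ := hlift i n g
    exact ⟨⟨{ l := l, fac_left := (isZero_zero _).eq_of_src _ _, fac_right := hl }⟩⟩
  · refine ⟨fun {f g} sq => ?_⟩
    obtain ⟨l, hl⟩ := hlift i n g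
    have := hG i
    have : Epi p := HomologicalComplex.epi_of_epi_f p hp
    have hS : (ShortComplex.mk _ _ (kernel.condition p)).ShortExact :=
      { exact := ShortComplex.exact_kernel p }
    have hker : (kernel p).Acyclic := by
      intro m
      rw [HomologicalComplex.exactAt_iff_isZero_homology]
      refine (hS.homology_exact₁ (m - 1) m (sub_add_cancel m 1)).isZero_X₂ ?_ ?_
      · change hS.δ (m - 1) m (sub_add_cancel m 1) = 0
        rw [← cancel_epi (HomologicalComplex.homologyMap p (m - 1))]
        exact (hS.comp_δ (m - 1) m (sub_add_cancel m 1)).trans comp_zero.symm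
      · change HomologicalComplex.homologyMap (kernel.ι p) m = 0
        rw [← cancel_mono (HomologicalComplex.homologyMap p m), ← HomologicalComplex.homologyMap_comp,
          kernel.condition, zero_comp, HomologicalComplex.homologyMap_zero]
    -- the defect of the lift on the upper end
    let f' : (HomologicalComplex.single C (.up ℤ) (n + 1)).obj (G i) ⟶ E := f
    have h0 : (f' - singleToDisk (G i) n ≫ l) ≫ p = 0 := by
      rw [Preadditive.sub_comp, Category.assoc, hl]
      exact sub_eq_zero.2 sq.w
    let w : (HomologicalComplex.single C (.up ℤ) (n + 1)).obj (G i) ⟶ kernel p :=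
      kernel.lift p (f' - singleToDisk (G i) n ≫ l) h0
    let u := (HomologicalComplex.singleObjXSelf (.up ℤ) (n + 1) (G i)).inv ≫ w.f (n + 1)
    have hu : u ≫ (kernel p).d (n + 1) (n + 1 + 1) = 0 := by
      rw [Category.assoc, w.comm]
      simp
    have hex : ((kernel p).sc' n (n + 1) (n + 1 + 1)).Exact := by
      have := hker (n + 1)
      rwa [HomologicalComplex.exactAt_iff' _ n (n + 1) (n + 1 + 1) (by simp) (by simp)] at this
    let S := (kernel p).sc' n (n + 1) (n + 1 + 1)
    have hepi : Epi S.toCycles := ShortComplex.Exact.epi_toCycles hex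
    let e : G i ⟶ (kernel p).X n :=
      @Projective.factorThru C _ (G i) S.cycles S.X₁ (hG i) (S.liftCycles u hu) S.toCycles hepi
    have he : e ≫ (kernel p).d n (n + 1) = u := by
      have := congrArg (· ≫ S.iCycles)
        (@Projective.factorThru_comp C _ (G i) S.cycles S.X₁ (hG i) (S.liftCycles u hu) S.toCycles hepi)
      simp only [Category.assoc, ShortComplex.toCycles_i] at this
      exact this.trans (S.liftCycles_i u hu)
    let m : disk (G i) n ⟶ kernel p := (fromDiskEquiv (G i) n (kernel p)).symm e
    have hm : (diskIso₀ (G i) n).inv ≫ m.f n = e :=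
      (fromDiskEquiv_apply (G i) n (kernel p) m).symm.trans
        ((fromDiskEquiv (G i) n (kernel p)).apply_symm_apply e)
    have hw : singleToDisk (G i) n ≫ m = w := by
      apply HomologicalComplex.from_single_hom_ext
      rw [← cancel_epi (HomologicalComplex.singleObjXSelf (.up ℤ) (n + 1) (G i)).inv]
      have h2 := m.comm n (n + 1)
      rw [disk_d] at h2
      change _ = u
      rw [← he, ← hm, Category.assoc, h2]
      simp [singleToDisk]
    refine ⟨⟨{ l := l + m ≫ kernel.ι p, fac_left := ?_, fac_right := ?_ }⟩⟩
    · change singleToDisk (G i) n ≫ (l + m ≫ kernel.ι p) = f'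
      rw [Preadditive.comp_add, ← Category.assoc, hw]
      simp [w]
    · change (l + m ≫ kernel.ι p) ≫ p = g
      rw [Preadditive.add_comp, Category.assoc, kernel.condition, comp_zero]
      exact (add_zero _).trans hl

/-- Cofibrant complexes built from projective generators are K-projective. -/
theorem isKProjective_of_cof (hG : ∀ i, Projective (G i)) {P : CochainComplex C ℤ}
    (hP : cof G (0 : 0 ⟶ P)) : P.IsKProjective where
  nonempty_homotopy_zero {L} f hL := by
    let p := CochainComplex.mappingCocone.fst (𝟙 L)
    have hepi : ∀ n, Epi (p.f n) := fun n =>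
      epi_of_epi_fac (CochainComplex.mappingCocone.inl_v_fst_f (𝟙 L) n)
    have : QuasiIso p := ⟨fun n => by
      rw [quasiIsoAt_iff_exactAt]
      · exact hL n
      · exact Groth.Agent.Lib.PCoh.Resolve.exactAt_cocone_id L n⟩
    have := hP p (rlp_of_epi_quasiIso hG p hepi)
    have sq : CommSq (0 : (0 : CochainComplex C ℤ) ⟶ _) (0 : 0 ⟶ P) p f := ⟨by simp⟩
    have hz : IsZero ((HomotopyCategory.quotient C (.up ℤ)).obj
        (CochainComplex.mappingCocone (𝟙 L))) :=
      IsZero.of_iso ((shiftFunctor (HomotopyCategory C (.up ℤ)) (-1 : ℤ)).map_isZero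
        ((HomotopyCategory.isZero_quotient_obj_iff _).2
          ⟨CochainComplex.mappingCone.homotopyToZeroOfId L⟩))
        (((HomotopyCategory.quotient C (.up ℤ)).commShiftIso (-1 : ℤ)).app _)
    refine ⟨HomotopyCategory.homotopyOfEq _ _ ?_⟩
    rw [← sq.fac_right, Functor.map_comp, Functor.map_zero]
    exact (congrArg (· ≫ _) (hz.eq_of_tgt _ 0)).trans zero_comp

end

section Module

variable (A : Type u) [CommRing A]

/-- The free module of rank one, as a family. -/
def gen : PUnit.{u + 1} → ModuleCat.{u} A := fun _ => ModuleCat.of A A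

lemma isSeparating_gen : ObjectProperty.IsSeparating (ObjectProperty.ofObj (gen A)) := by
  intro X Y f g h
  ext x
  have h' := LinearMap.congr_fun (congrArg ModuleCat.Hom.hom
    (h (gen A ⟨⟩) ⟨⟨⟩⟩ (ModuleCat.ofHom (LinearMap.toSpanSingleton A X x)))) (1 : A)
  change f.hom ((1 : A) • x) = g.hom ((1 : A) • x) at h'
  simpa using h'

lemma projective_gen (i : PUnit.{u + 1}) : Projective (gen A i) :=
  inferInstanceAs (Projective (ModuleCat.of A A))

/-- The functorial K-projective resolution. -/
noncomputable abbrev res : CochainComplex (ModuleCat.{u} A) ℤ ⥤ CochainComplex (ModuleCat.{u} A) ℤ :=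
  resolution (gen A)

/-- Its augmentation. -/
noncomputable abbrev aug : res A ⟶ 𝟭 _ := augmentation (gen A)

lemma quasiIso_aug (K : CochainComplex (ModuleCat.{u} A) ℤ) : QuasiIso ((aug A).app K) :=
  (epi_quasiIso_of_rlp (isSeparating_gen A) _ (augmentation_rlp K)).2

lemma epi_aug (K : CochainComplex (ModuleCat.{u} A) ℤ) (n : ℤ) : Epi (((aug A).app K).f n) :=
  (epi_quasiIso_of_rlp (isSeparating_gen A) _ (augmentation_rlp K)).1 n

instance isKProjective_res (K : CochainComplex (ModuleCat.{u} A) ℤ) :
    CochainComplex.IsKProjective ((res A).obj K) :=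
  isKProjective_of_cof (projective_gen A) (cof_resolution K)

lemma exists_retract_res (K : CochainComplex (ModuleCat.{u} A) ℤ) (n : ℤ) :
    Nonempty (Retract (((res A).obj K).X n)
      (∐ fun a : (Σ i, gen A i ⟶ ((res A).obj K).X n) => gen A a.1)) :=
  exists_retract_of_cof (isSeparating_gen A) _ (cof_resolution K) n

/-- Resolved quasi-isomorphisms are homotopy equivalences. -/
lemma res_map_homotopyEquivalences {K L : CochainComplex (ModuleCat.{u} A) ℤ} (f : K ⟶ L)
    [QuasiIso f] : HomologicalComplex.homotopyEquivalences _ _ ((res A).map f) := by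
  have := quasiIso_aug A K
  have := quasiIso_aug A L
  rw [← CochainComplex.IsKProjective.quasiIso_iff]
  have : QuasiIso ((res A).map f ≫ (aug A).app L) := by
    rw [NatTrans.naturality]
    exact inferInstanceAs (QuasiIso ((aug A).app K ≫ f))
  exact quasiIso_of_comp_right ((res A).map f) ((aug A).app L)

/-- The augmentation at a K-projective complex is a homotopy equivalence. -/
lemma aug_homotopyEquivalences (K : CochainComplex (ModuleCat.{u} A) ℤ) [K.IsKProjective] :
    HomologicalComplex.homotopyEquivalences _ _ ((aug A).app K) :=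
  (@CochainComplex.IsKProjective.quasiIso_iff _ _ _ ((res A).obj K) K _ _ ((aug A).app K)).1
    (quasiIso_aug A K)

variable {A}
variable {H : Type u'} [Category.{v'} H]

lemma resData (G : CochainComplex (ModuleCat.{u} A) ℤ ⥤ H)
    (hG : (HomologicalComplex.homotopyEquivalences _ _).IsInvertedBy G) :
    LeftDerived.ResData (HomologicalComplex.quasiIso (ModuleCat.{u} A) (.up ℤ)) G (res A) (aug A) where
  mem X := quasiIso_aug A X
  inverts _ _ f hf := by
    have : QuasiIso f := hf
    exact hG _ (res_map_homotopyEquivalences A f)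
  idem X := hG _ (aug_homotopyEquivalences A ((res A).obj X))

/-- A total left derived functor of a homotopy invariant functor on complexes is computed by
K-projective complexes. -/
theorem isIso_counit_of_isKProjective (G : CochainComplex (ModuleCat.{u} A) ℤ ⥤ H)
    (hG : (HomologicalComplex.homotopyEquivalences _ _).IsInvertedBy G)
    [HasDerivedCategory.{w} (ModuleCat.{u} A)]
    [G.HasLeftDerivedFunctor (HomologicalComplex.quasiIso (ModuleCat.{u} A) (.up ℤ))]
    (K : CochainComplex (ModuleCat.{u} A) ℤ) [K.IsKProjective] :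
    IsIso ((G.totalLeftDerivedCounit DerivedCategory.Q
      (HomologicalComplex.quasiIso (ModuleCat.{u} A) (.up ℤ))).app K) := by
  exact LeftDerived.isIso_totalLeftDerivedCounit_app (resData G hG) K
    (hG _ (aug_homotopyEquivalences A K))

variable (A)

/-- The resolution on the homotopy category. -/
noncomputable def resK : HomotopyCategory (ModuleCat.{u} A) (.up ℤ) ⥤
    HomotopyCategory (ModuleCat.{u} A) (.up ℤ) :=
  Localization.lift (res A ⋙ HomotopyCategory.quotient _ _)
    (fun _ _ f hf => by
      have : QuasiIso f := homotopyEquivalences_le_quasiIso _ _ f hf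
      exact HomotopyCategory.quotient_inverts_homotopyEquivalences _ _ _
        (res_map_homotopyEquivalences A f))
    (HomotopyCategory.quotient (ModuleCat.{u} A) (.up ℤ))

/-- `resK` on quotient objects. -/
noncomputable def resKIso :
    HomotopyCategory.quotient (ModuleCat.{u} A) (.up ℤ) ⋙ resK A ≅
      res A ⋙ HomotopyCategory.quotient _ _ :=
  Localization.fac _ _ _

noncomputable instance liftingResK :
    Localization.Lifting (HomotopyCategory.quotient (ModuleCat.{u} A) (.up ℤ))
      (HomologicalComplex.homotopyEquivalences _ _)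
      (res A ⋙ HomotopyCategory.quotient _ _) (resK A) :=
  ⟨resKIso A⟩

/-- The augmentation on the homotopy category. -/
noncomputable def augK : resK A ⟶ 𝟭 _ :=
  Localization.liftNatTrans (HomotopyCategory.quotient (ModuleCat.{u} A) (.up ℤ))
    (HomologicalComplex.homotopyEquivalences _ _)
    (res A ⋙ HomotopyCategory.quotient _ _) (HomotopyCategory.quotient _ _)
    (resK A) (𝟭 _) (Functor.whiskerRight (aug A) _ ≫ (Functor.leftUnitor _).hom)

lemma augK_app_quotient (K : CochainComplex (ModuleCat.{u} A) ℤ) :
    (augK A).app ((HomotopyCategory.quotient _ _).obj K) =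
      (resKIso A).hom.app K ≫ (HomotopyCategory.quotient _ _).map ((aug A).app K) := by
  simp [augK, Localization.Lifting.iso, liftingResK]

lemma quasiIso_augK (X : HomotopyCategory (ModuleCat.{u} A) (.up ℤ)) :
    HomotopyCategory.quasiIso _ _ ((augK A).app X) := by
  obtain ⟨K, rfl⟩ := HomotopyCategory.quotient_obj_surjective X
  rw [augK_app_quotient]
  refine (MorphismProperty.cancel_left_of_respectsIso
    (HomotopyCategory.quasiIso (ModuleCat.{u} A) (.up ℤ)) _ _).2 ?_
  rw [HomotopyCategory.quotient_map_mem_quasiIso_iff]
  exact quasiIso_aug A K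

lemma isIso_quotient_map_aug (K : CochainComplex (ModuleCat.{u} A) ℤ) [K.IsKProjective] :
    IsIso ((augK A).app ((HomotopyCategory.quotient _ _).obj K)) := by
  have : IsIso ((HomotopyCategory.quotient _ _).map ((aug A).app K)) :=
    HomotopyCategory.quotient_inverts_homotopyEquivalences _ _ _
      (aug_homotopyEquivalences A K)
  rw [augK_app_quotient]
  infer_instance

variable {A}

lemma resDataK (F : HomotopyCategory (ModuleCat.{u} A) (.up ℤ) ⥤ H) :
    LeftDerived.ResData (HomotopyCategory.quasiIso (ModuleCat.{u} A) (.up ℤ)) F (resK A) (augK A) where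
  mem X := quasiIso_augK A X
  inverts X Y f hf := by
    obtain ⟨K, rfl⟩ := HomotopyCategory.quotient_obj_surjective X
    obtain ⟨L, rfl⟩ := HomotopyCategory.quotient_obj_surjective Y
    obtain ⟨f, rfl⟩ := (HomotopyCategory.quotient _ _).map_surjective f
    rw [HomotopyCategory.quotient_map_mem_quasiIso_iff] at hf
    have : QuasiIso f := hf
    have : IsIso ((res A ⋙ HomotopyCategory.quotient _ _).map f) :=
      HomotopyCategory.quotient_inverts_homotopyEquivalences _ _ _ (res_map_homotopyEquivalences A f)
    have : IsIso ((resK A).map ((HomotopyCategory.quotient _ _).map f)) :=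
      ((MorphismProperty.isomorphisms _).arrow_mk_iso_iff
        (((Functor.mapArrowFunctor _ _).mapIso (resKIso A)).app (Arrow.mk f))).2 this
    exact inferInstanceAs (IsIso (F.map _))
  idem X := by
    obtain ⟨K, rfl⟩ := HomotopyCategory.quotient_obj_surjective X
    have h1 := isIso_quotient_map_aug A ((res A).obj K)
    have : IsIso ((augK A).app ((resK A).obj ((HomotopyCategory.quotient _ _).obj K))) :=
      (NatTrans.isIso_app_iff_of_iso (augK A) ((resKIso A).app K)).2 h1
    infer_instance

/-- The unbounded total left derived functor on `D(A)` is computed by K-projective complexes. -/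
theorem isIso_counit_of_isKProjective' (F : HomotopyCategory (ModuleCat.{u} A) (.up ℤ) ⥤ H)
    [HasDerivedCategory.{w} (ModuleCat.{u} A)]
    [F.HasLeftDerivedFunctor (HomotopyCategory.quasiIso (ModuleCat.{u} A) (.up ℤ))]
    (K : CochainComplex (ModuleCat.{u} A) ℤ) [K.IsKProjective] :
    IsIso ((F.totalLeftDerivedCounit DerivedCategory.Qh
      (HomotopyCategory.quasiIso (ModuleCat.{u} A) (.up ℤ))).app
        ((HomotopyCategory.quotient _ _).obj K)) := by
  refine LeftDerived.isIso_totalLeftDerivedCounit_app (resDataK F) _ ?_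
  have := isIso_quotient_map_aug A K
  infer_instance

end Module

end Groth.Agent.Lib.DR.KProjRes
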