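import Groth.Agent.Lib.DR.BaseChange
import Groth.Agent.Lib.DR.KProjRes
import Groth.Agent.Lib.DerivedOX.StalkCx
import Groth.Agent.Lib.SiteKFlat.Cx
import Groth.Agent.Lib.TensorCx.Vanish
import Mathlib.RingTheory.Flat.CategoryTheory
import Mathlib.RingTheory.Flat.Equalizer

/-!
# K-flat complexes of modules
-/

universe u

open CategoryTheory CategoryTheory.Limits HomologicalComplex MonoidalCategory
open Groth.Agent.Lib.DerivedOX Groth.Agent.Lib.DerivedOX.TrivCof Groth.Agent.Lib.DerivedOX.LeftRes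
open Groth.Agent.Lib.DR.KProjRes
open scoped ZeroObject

namespace Groth.Agent.Lib.DR.KFlat

variable (R : Type u) [CommRing R]

/-- The tensor product bifunctor. -/
noncomputable abbrev tbi : ModuleCat.{u} R ⥤ ModuleCat.{u} R ⥤ ModuleCat.{u} R := curriedTensor (ModuleCat.{u} R)

/-- The tensor product of complexes as a bifunctor. -/
noncomputable abbrev tcx : CochainComplex (ModuleCat.{u} R) ℤ ⥤ CochainComplex (ModuleCat.{u} R) ℤ ⥤
    CochainComplex (ModuleCat.{u} R) ℤ :=
  (tbi R).map₂CochainComplex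

variable {R}

lemma flat_gen (U : PUnit.{u + 1}) : Module.Flat R (gen R U) := inferInstanceAs (Module.Flat R R)

theorem preservesFiniteLimits_left {G : ModuleCat.{u} R} (hG : Module.Flat R G) :
    PreservesFiniteLimits ((tbi R).obj G) :=
  inferInstanceAs (PreservesFiniteLimits (MonoidalCategory.tensorLeft G))

theorem preservesFiniteLimits_right {G : ModuleCat.{u} R} (hG : Module.Flat R G) :
    PreservesFiniteLimits ((tbi R).flip.obj G) :=
  inferInstanceAs (PreservesFiniteLimits (MonoidalCategory.tensorRight G))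

instance preservesColimits_tbi_obj (G : ModuleCat.{u} R) :
    PreservesColimitsOfSize.{u, u} ((tbi R).obj G) :=
  inferInstanceAs (PreservesColimitsOfSize.{u, u} (MonoidalCategory.tensorLeft G))

instance preservesColimits_tbi_flip_obj (G : ModuleCat.{u} R) :
    PreservesColimitsOfSize.{u, u} ((tbi R).flip.obj G) :=
  haveI : PreservesColimitsOfSize.{u, u} (MonoidalCategory.tensorLeft G) := inferInstance
  preservesColimits_of_natIso (BraidedCategory.tensorLeftIsoTensorRight G)

theorem preservesFiniteColimits_left (G : ModuleCat.{u} R) :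
    PreservesFiniteColimits ((tbi R).obj G) :=
  PreservesColimitsOfSize.preservesFiniteColimits _

instance hasCountableSums (n : ℤ) : HasColimitsOfShape (Discrete (Bifunctor.Fib n)) (ModuleCat.{u} R) :=
  inferInstance

instance preservesMono_colim (n : ℤ) :
    (colim : (Discrete (Bifunctor.Fib n) ⥤ (ModuleCat.{u} R)) ⥤ (ModuleCat.{u} R)).PreservesMonomorphisms := by
  haveI : HasExactColimitsOfShape (Discrete (Bifunctor.Fib n)) (ModuleCat.{u} R) := by
    haveI : HasFiniteBiproducts (ModuleCat.{u} R) := HasFiniteBiproducts.of_hasFiniteProducts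
    haveI := AB4.of_AB5 (ModuleCat.{u} R)
    exact AB4OfSize.ofShape _
  infer_instance

instance preservesColimits_tensorCx_obj (L : CochainComplex (ModuleCat.{u} R) ℤ) :
    PreservesColimitsOfSize.{u, u} ((tcx R).obj L) :=
  ⟨fun {_} _ => Bifunctor.preservesColimitsOfShape_obj (tbi R) L⟩

instance preservesColimits_tensorCx_flip_obj (L : CochainComplex (ModuleCat.{u} R) ℤ) :
    PreservesColimitsOfSize.{u, u} ((tcx R).flip.obj L) :=
  ⟨fun {_} _ => Bifunctor.preservesColimitsOfShape_flip_obj (tbi R) L⟩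

instance preservesZeroMorphisms_tensorCx_obj (L : CochainComplex (ModuleCat.{u} R) ℤ) :
    ((tcx R).obj L).PreservesZeroMorphisms :=
  ⟨fun A B => Bifunctor.obj_map_zero (tbi R) L A B⟩

instance preservesZeroMorphisms_tensorCx_flip_obj (L : CochainComplex (ModuleCat.{u} R) ℤ) :
    ((tcx R).flip.obj L).PreservesZeroMorphisms :=
  ⟨fun A B => Bifunctor.map_zero_app (tbi R) A B L⟩

lemma acyclic_map {C D : Type*} [Category C] [Category D] [Abelian C] [Abelian D] (F : C ⥤ D)
    [F.Additive] [PreservesFiniteLimits F] [PreservesFiniteColimits F] {K : CochainComplex C ℤ}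
    (hK : K.Acyclic) : ((F.mapHomologicalComplex (.up ℤ)).obj K).Acyclic :=
  fun n => (hK n).map F

theorem acyclic_tensor_single {L : CochainComplex (ModuleCat.{u} R) ℤ} (hL : L.Acyclic) {G : (ModuleCat.{u} R)}
    (hG : Module.Flat R G) (n : ℤ) :
    (((tcx R).obj L).obj ((single (ModuleCat.{u} R) (.up ℤ) n).obj G)).Acyclic := by
  haveI := preservesFiniteLimits_right hG
  haveI : PreservesFiniteColimits ((tbi R).flip.obj G) :=
    PreservesColimitsOfSize.preservesFiniteColimits _
  exact Bifunctor.acyclic_obj_single _ L n G (acyclic_map _ hL)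

theorem acyclic_single_tensor {L : CochainComplex (ModuleCat.{u} R) ℤ} (hL : L.Acyclic) {G : (ModuleCat.{u} R)}
    (hG : Module.Flat R G) (n : ℤ) :
    (((tcx R).obj ((single (ModuleCat.{u} R) (.up ℤ) n).obj G)).obj L).Acyclic := by
  haveI := preservesFiniteLimits_left hG
  haveI := preservesFiniteColimits_left G
  exact Bifunctor.acyclic_single_obj _ G n L (acyclic_map _ hL)

/-- A disk is contractible. -/
noncomputable def diskHomotopy {C : Type*} [Category C] [Abelian C] (A : C) (n : ℤ) :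
    Homotopy (𝟙 (disk A n)) 0 where
  hom i j := if h : i = n + 1 ∧ j = n then
      eqToHom (by rw [h.1]) ≫ (diskIso₁ A n).hom ≫ (diskIso₀ A n).inv ≫ eqToHom (by rw [h.2]) else 0
  zero i j hij := dif_neg fun h => hij (by simp [h.1, h.2])
  comm i := by
    rw [dNext_eq _ (show (ComplexShape.up ℤ).Rel i (i + 1) from rfl),
      prevD_eq _ (show (ComplexShape.up ℤ).Rel (i - 1) i by simp), zero_f, add_zero, id_f]
    by_cases h₀ : i = n
    · subst h₀
      rw [dif_pos ⟨rfl, rfl⟩, dif_neg (by omega), zero_comp, add_zero, disk_d]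
      simp
    · by_cases h₁ : i = n + 1
      · subst h₁
        obtain hn : n + 1 - 1 = n := by omega
        rw [dif_neg (by omega), comp_zero, zero_add]
        rw [dif_pos ⟨rfl, hn⟩]
        simp only [Category.assoc]
        rw [show eqToHom _ ≫ (disk A n).d (n + 1 - 1) (n + 1) = (disk A n).d n (n + 1) from
          (XIsoOfEq_inv_comp_d (disk A n) hn (n + 1)), disk_d]
        simp
      · exact (disk_isZero A n i h₀ h₁).eq_of_src _ _

theorem quasiIso_of_acyclic {C : Type*} [Category C] [Abelian C] {A B : CochainComplex C ℤ}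
    (f : A ⟶ B) (hA : A.Acyclic) (hB : B.Acyclic) : QuasiIso f := by
  refine ⟨fun n => ?_⟩
  rw [quasiIsoAt_iff_isIso_homologyMap]
  exact ⟨0, (hA n).isZero_homology.eq_of_src _ _, (hB n).isZero_homology.eq_of_src _ _⟩

theorem acyclic_cokernel {C : Type*} [Category C] [Abelian C] {A B : CochainComplex C ℤ}
    (f : A ⟶ B) [Mono f] (hA : A.Acyclic) (hB : B.Acyclic) : (cokernel f).Acyclic := by
  have hS : (ShortComplex.mk f _ (cokernel.condition f)).ShortExact :=
    { exact := ShortComplex.exact_cokernel f }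
  intro n
  rw [exactAt_iff_isZero_homology]
  exact (hS.homology_exact₃ n (n + 1) rfl).isZero_X₂ ((hB n).isZero_homology.eq_of_src _ _)
    ((hA (n + 1)).isZero_homology.eq_of_tgt _ _)


theorem isZero_f_or_isIso_singleToDisk {C : Type*} [Category C] [Abelian C] (A : C) (n q : ℤ) :
    IsZero (((single C (.up ℤ) (n + 1)).obj A).X q) ∨ IsIso ((singleToDisk A n).f q) := by
  by_cases h : q = n + 1
  · subst h
    right
    simp [singleToDisk]
    exact (diskIso₁ A n).isIso_inv
  · exact Or.inl (isZero_single_obj_X _ _ _ _ h)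

/-- `L ⊗ -` sends the generating cofibrations to monomorphisms with acyclic cokernel. -/
theorem acycMono_tensor_genMap {L : CochainComplex (ModuleCat.{u} R) ℤ} (hL : L.Acyclic)
    (a : (PUnit.{u + 1} × ℤ) ⊕ (PUnit.{u + 1} × ℤ)) :
    acycMono (ModuleCat.{u} R) (((tcx R).obj L).map (genMap (gen R) a)) := by
  have hd : ∀ (U : PUnit.{u + 1}) (n : ℤ), (((tcx R).obj L).obj (disk (gen R U) n)).Acyclic :=
    fun U n => Bifunctor.acyclic_obj_of_homotopy_zero _ L (diskHomotopy (gen R U) n)
  rcases a with ⟨U, n⟩ | ⟨U, n⟩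
  · have hz : IsZero (((tcx R).obj L).obj (0 : CochainComplex (ModuleCat.{u} R) ℤ)) :=
      Functor.map_isZero _ (isZero_zero _)
    haveI : Mono (((tcx R).obj L).map (genMap (gen R) (Sum.inl (U, n)))) :=
      ⟨fun _ _ _ => hz.eq_of_tgt _ _⟩
    exact ⟨inferInstance, acyclic_cokernel _ (fun m => ExactAt.of_isZero
      ((HomologicalComplex.eval _ _ m).map_isZero hz)) (hd U n)⟩
  · haveI : Mono (((tcx R).obj L).map (genMap (gen R) (Sum.inr (U, n)))) := by
      refine Bifunctor.mono_obj_map _ L (singleToDisk (gen R U) n) fun p q => ?_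
      rcases isZero_f_or_isIso_singleToDisk (gen R U) n q with h | h
      · exact ⟨fun _ _ _ => (((tbi R).obj (L.X p)).map_isZero h).eq_of_tgt _ _⟩
      · have := h
        exact @IsIso.mono_of_iso _ _ _ _ _ (Functor.map_isIso _ _)
    exact ⟨inferInstance, acyclic_cokernel _ (acyclic_tensor_single hL (flat_gen U) _) (hd U n)⟩

/-- `- ⊗ L` sends the generating cofibrations to monomorphisms with acyclic cokernel. -/
theorem acycMono_genMap_tensor {L : CochainComplex (ModuleCat.{u} R) ℤ} (hL : L.Acyclic)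
    (a : (PUnit.{u + 1} × ℤ) ⊕ (PUnit.{u + 1} × ℤ)) :
    acycMono (ModuleCat.{u} R) (((tcx R).flip.obj L).map (genMap (gen R) a)) := by
  have hd : ∀ (U : PUnit.{u + 1}) (n : ℤ), (((tcx R).obj (disk (gen R U) n)).obj L).Acyclic :=
    fun U n => Bifunctor.acyclic_flip_obj_of_homotopy_zero _ (diskHomotopy (gen R U) n) L
  rcases a with ⟨U, n⟩ | ⟨U, n⟩
  · have hz : IsZero (((tcx R).flip.obj L).obj (0 : CochainComplex (ModuleCat.{u} R) ℤ)) :=
      Functor.map_isZero _ (isZero_zero _)
    haveI : Mono (((tcx R).flip.obj L).map (genMap (gen R) (Sum.inl (U, n)))) :=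
      ⟨fun _ _ _ => hz.eq_of_tgt _ _⟩
    exact ⟨inferInstance, acyclic_cokernel _ (fun m => ExactAt.of_isZero
      ((HomologicalComplex.eval _ _ m).map_isZero hz)) (hd U n)⟩
  · have hm : Mono (((tcx R).map (singleToDisk (gen R U) n)).app L) := by
      refine Bifunctor.mono_map_app (tbi R) (singleToDisk (gen R U) n) L fun p q => ?_
      rcases isZero_f_or_isIso_singleToDisk (gen R U) n p with h | h
      · exact ⟨fun _ _ _ => (((tbi R).map_isZero h).obj _).eq_of_tgt _ _⟩
      · infer_instance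
    haveI := hm
    exact ⟨hm, acyclic_cokernel (((tcx R).map (singleToDisk (gen R U) n)).app L)
      (acyclic_single_tensor hL (flat_gen U) (n + 1)) (hd U n)⟩

/-- Tensoring a cofibrant complex with an acyclic one gives an acyclic complex. -/
theorem acyclic_tensor_of_cof {P : CochainComplex (ModuleCat.{u} R) ℤ} (hP : cof (gen R) (0 : 0 ⟶ P))
    {L : CochainComplex (ModuleCat.{u} R) ℤ} (hL : L.Acyclic) :
    (((tcx R).obj L).obj P).Acyclic ∧ (((tcx R).obj P).obj L).Acyclic := by
  have key : ∀ (F : CochainComplex (ModuleCat.{u} R) ℤ ⥤ CochainComplex (ModuleCat.{u} R) ℤ)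
      [PreservesColimitsOfSize.{u, u} F],
      (∀ a, acycMono (ModuleCat.{u} R) (F.map (genMap (gen R) a))) → (F.obj P).Acyclic := by
    intro F _ hF
    haveI := isLeftAdjoint_of_preservesColimits F
    have h := cof_le_inverseImage F F.rightAdjoint (Adjunction.ofIsLeftAdjoint F) (testMaps _)
      (fun a => (acycMono_eq_llp (C := (ModuleCat.{u} R))) ▸ hF a) _ hP
    rw [MorphismProperty.inverseImage_iff, ← acycMono_eq_llp] at h
    have hq : QuasiIso (F.map (0 : 0 ⟶ P)) := quasiIso_of_acycMono h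
    intro n
    haveI : QuasiIsoAt (F.map (0 : 0 ⟶ P)) n := hq.quasiIsoAt n
    rw [← exactAt_iff_of_quasiIsoAt (F.map (0 : 0 ⟶ P)) n]
    exact ExactAt.of_isZero ((HomologicalComplex.eval _ _ n).map_isZero
      (F.map_isZero (isZero_zero _)))
  exact ⟨key ((tcx R).obj L) (acycMono_tensor_genMap hL),
    key ((tcx R).flip.obj L) (acycMono_genMap_tensor hL)⟩

theorem acyclic_iff (L : CochainComplex (ModuleCat.{u} R) ℤ) :
    (∀ i, IsZero (L.homology i)) ↔ L.Acyclic :=
  forall_congr' fun i => (exactAt_iff_isZero_homology L i).symm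

theorem isKFlat_iff (E : CochainComplex (ModuleCat.{u} R) ℤ) :
    DRing.IsKFlat R E ↔ ∀ L : CochainComplex (ModuleCat.{u} R) ℤ, L.Acyclic →
      (((tcx R).obj L).obj E).Acyclic :=
  ⟨fun h L hL => (acyclic_iff _).1 (h L ((acyclic_iff L).2 hL)),
    fun h L hL => (acyclic_iff _).2 (h L ((acyclic_iff L).1 hL))⟩

/-- Bounded above complexes of flat modules are K-flat. -/
theorem isKFlat_of_flat (P : CochainComplex (ModuleCat.{u} R) ℤ) (b : ℤ)
    (hb : ∀ i, b < i → IsZero (P.X i)) (hP : ∀ i, Module.Flat R (P.X i)) : DRing.IsKFlat R P :=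
  (StalkCx.isKFlat_iff_left P).2 fun _ hM => (acyclic_iff _).1
    fun q => TensorCx.Vanish.isZero_homology_of_acyclic hP b hb hM q

/-- Cofibrant complexes are K-flat. -/
theorem isKFlat_of_cof {P : CochainComplex (ModuleCat.{u} R) ℤ} (hP : cof (gen R) (0 : 0 ⟶ P)) :
    DRing.IsKFlat R P :=
  (isKFlat_iff P).2 fun _ hL => (acyclic_tensor_of_cof hP hL).1

theorem isKFlat_res (K : CochainComplex (ModuleCat.{u} R) ℤ) : DRing.IsKFlat R ((res R).obj K) :=
  isKFlat_of_cof (cof_resolution K)

theorem flat_of_cof {P : CochainComplex (ModuleCat.{u} R) ℤ} (hP : cof (gen R) (0 : 0 ⟶ P)) (n : ℤ) :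
    Module.Flat R (P.X n) := by
  obtain ⟨r⟩ := exists_retract_of_cof (isSeparating_gen R) P hP n
  have : ∀ a : (Σ i, gen R i ⟶ P.X n), Projective (gen R a.1) := fun a => projective_gen R a.1
  have h := (IsProjective.iff_projective (R := R) (P.X n)).2 r.projective
  exact Module.Flat.of_projective

instance preservesFiniteColimits_tcx_obj (L : CochainComplex (ModuleCat.{u} R) ℤ) :
    PreservesFiniteColimits ((tcx R).obj L) :=
  PreservesColimitsOfSize.preservesFiniteColimits _

instance preservesFiniteColimits_tcx_flip_obj (L : CochainComplex (ModuleCat.{u} R) ℤ) :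
    PreservesFiniteColimits ((tcx R).flip.obj L) :=
  PreservesColimitsOfSize.preservesFiniteColimits _

instance additive_tcx_obj (L : CochainComplex (ModuleCat.{u} R) ℤ) : ((tcx R).obj L).Additive :=
  haveI : HasBinaryBiproducts (CochainComplex (ModuleCat.{u} R) ℤ) := HasBinaryBiproducts.of_hasBinaryProducts
  haveI := preservesBinaryBiproducts_of_preservesBinaryCoproducts ((tcx R).obj L)
  Functor.additive_of_preservesBinaryBiproducts _

instance additive_tcx_flip_obj (L : CochainComplex (ModuleCat.{u} R) ℤ) :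
    ((tcx R).flip.obj L).Additive :=
  haveI : HasBinaryBiproducts (CochainComplex (ModuleCat.{u} R) ℤ) := HasBinaryBiproducts.of_hasBinaryProducts
  haveI := preservesBinaryBiproducts_of_preservesBinaryCoproducts ((tcx R).flip.obj L)
  Functor.additive_of_preservesBinaryBiproducts _

open SiteKFlat.Cx

/-- `L ⊗ -` of a degreewise split mono is mono. -/
theorem mono_obj_map_of_split {S : ShortComplex (CochainComplex (ModuleCat.{u} R) ℤ)}
    (σ : ∀ n, (S.map (HomologicalComplex.eval _ _ n)).Splitting)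
    (L : CochainComplex (ModuleCat.{u} R) ℤ) : Mono (((tcx R).obj L).map S.f) :=
  Bifunctor.mono_obj_map _ L S.f fun p q => by
    haveI : IsSplitMono (S.f.f q) := IsSplitMono.mk' ⟨(σ q).r, (σ q).f_r⟩
    exact @IsSplitMono.mono _ _ _ _ _ (IsSplitMono.mk'
      ⟨((tbi R).obj (L.X p)).map (σ q).r, (((tbi R).obj (L.X p)).map_comp _ _).symm.trans
        ((congrArg ((tbi R).obj (L.X p)).map (σ q).f_r).trans (CategoryTheory.Functor.map_id _ _))⟩)

/-- `- ⊗ G` of a degreewise split mono is mono. -/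
theorem mono_map_app_of_split {S : ShortComplex (CochainComplex (ModuleCat.{u} R) ℤ)}
    (σ : ∀ n, (S.map (HomologicalComplex.eval _ _ n)).Splitting)
    (G : CochainComplex (ModuleCat.{u} R) ℤ) : Mono (((tcx R).flip.obj G).map S.f) :=
  Bifunctor.mono_map_app _ S.f G fun p q => by
    haveI : IsSplitMono (S.f.f p) := IsSplitMono.mk' ⟨(σ p).r, (σ p).f_r⟩
    exact @IsSplitMono.mono _ _ _ _ _ (IsSplitMono.mk'
      ⟨((tbi R).flip.obj (G.X q)).map (σ p).r, (((tbi R).flip.obj (G.X q)).map_comp _ _).symm.trans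
        ((congrArg ((tbi R).flip.obj (G.X q)).map (σ p).f_r).trans (CategoryTheory.Functor.map_id _ _))⟩)

/-- `L ⊗ -` of a mono with flat cokernel terms is mono. -/
theorem mono_obj_map_of_flat₃ {S : ShortComplex (CochainComplex (ModuleCat.{u} R) ℤ)}
    (hS : S.ShortExact) (h : ∀ n, Module.Flat R (S.X₃.X n))
    (L : CochainComplex (ModuleCat.{u} R) ℤ) : Mono (((tcx R).obj L).map S.f) :=
  Bifunctor.mono_obj_map _ L S.f fun p q => by
    have hq := hS.map_of_exact (HomologicalComplex.eval (ModuleCat.{u} R) (.up ℤ) q)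
    have := h q
    rw [ModuleCat.mono_iff_injective]
    exact LinearMap.lTensor_injective_of_exact_of_flat (S.g.f q).hom
      ((ModuleCat.epi_iff_surjective _).1 hq.epi_g) (S.f.f q).hom
      ((ModuleCat.mono_iff_injective _).1 hq.mono_f)
      ((ShortComplex.ShortExact.moduleCat_exact_iff_function_exact _).1 hq.exact) (L.X p)

/-- Two out of three in a short exact sequence staying exact after tensoring. -/
theorem two_of_three {S : ShortComplex (CochainComplex (ModuleCat.{u} R) ℤ)} (hS : S.ShortExact)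
    (hm : ∀ L, Mono (((tcx R).obj L).map S.f)) :
    (DRing.IsKFlat R S.X₁ → DRing.IsKFlat R S.X₂ → DRing.IsKFlat R S.X₃) ∧
    (DRing.IsKFlat R S.X₁ → DRing.IsKFlat R S.X₃ → DRing.IsKFlat R S.X₂) ∧
    (DRing.IsKFlat R S.X₂ → DRing.IsKFlat R S.X₃ → DRing.IsKFlat R S.X₁) := by
  simp only [isKFlat_iff]
  exact ⟨fun h₁ h₂ L hL => acyclic_X₃ (shortExact_of_mono _ hS (hm L)) (h₁ L hL) (h₂ L hL),
    fun h₁ h₃ L hL => acyclic_X₂ (shortExact_of_mono _ hS (hm L)) (h₁ L hL) (h₃ L hL),
    fun h₂ h₃ L hL => acyclic_X₁ (shortExact_of_mono _ hS (hm L)) (h₂ L hL) (h₃ L hL)⟩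

theorem two_of_three_split {S : ShortComplex (CochainComplex (ModuleCat.{u} R) ℤ)}
    (σ : ∀ n, (S.map (HomologicalComplex.eval _ _ n)).Splitting) :
    (DRing.IsKFlat R S.X₁ → DRing.IsKFlat R S.X₂ → DRing.IsKFlat R S.X₃) ∧
    (DRing.IsKFlat R S.X₁ → DRing.IsKFlat R S.X₃ → DRing.IsKFlat R S.X₂) ∧
    (DRing.IsKFlat R S.X₂ → DRing.IsKFlat R S.X₃ → DRing.IsKFlat R S.X₁) :=
  two_of_three (shortExact_of_degreewise_shortExact S fun n => (σ n).shortExact)
    (mono_obj_map_of_split σ)

theorem acyclic_of_quasiIso {K L : CochainComplex (ModuleCat.{u} R) ℤ}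
    (f : K ⟶ L) [QuasiIso f] (hL : L.Acyclic) : K.Acyclic := fun n => by
  rw [exactAt_iff_of_quasiIsoAt f n]
  exact hL n

theorem acyclic_of_quasiIso' {K L : CochainComplex (ModuleCat.{u} R) ℤ}
    (f : K ⟶ L) [QuasiIso f] (hK : K.Acyclic) : L.Acyclic := fun n => by
  rw [← exactAt_iff_of_quasiIsoAt f n]
  exact hK n

/-- Homotopy equivalences are preserved by `L ⊗ -`. -/
noncomputable def mapHomotopyEquiv (L : CochainComplex (ModuleCat.{u} R) ℤ)
    {P Q : CochainComplex (ModuleCat.{u} R) ℤ} (e : HomotopyEquiv P Q) :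
    HomotopyEquiv (((tcx R).obj L).obj P) (((tcx R).obj L).obj Q) where
  hom := ((tcx R).obj L).map e.hom
  inv := ((tcx R).obj L).map e.inv
  homotopyHomInvId := (Homotopy.ofEq (((tcx R).obj L).map_comp _ _).symm).trans
    ((Bifunctor.homotopy₂ (tbi R) L e.homotopyHomInvId).trans
      (Homotopy.ofEq (((tcx R).obj L).map_id _)))
  homotopyInvHomId := (Homotopy.ofEq (((tcx R).obj L).map_comp _ _).symm).trans
    ((Bifunctor.homotopy₂ (tbi R) L e.homotopyInvHomId).trans
      (Homotopy.ofEq (((tcx R).obj L).map_id _)))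

/-- K-flatness is invariant under homotopy equivalence. -/
theorem isKFlat_of_homotopyEquiv {P Q : CochainComplex (ModuleCat.{u} R) ℤ} (e : HomotopyEquiv P Q)
    (h : DRing.IsKFlat R P) : DRing.IsKFlat R Q := by
  rw [isKFlat_iff] at h ⊢
  intro L hL
  have : QuasiIso (mapHomotopyEquiv L e).hom := (mapHomotopyEquiv L e).quasiIso_hom
  exact acyclic_of_quasiIso' (mapHomotopyEquiv L e).hom (h L hL)

theorem isKFlat_of_iso {P Q : CochainComplex (ModuleCat.{u} R) ℤ} (e : P ≅ Q)
    (h : DRing.IsKFlat R P) : DRing.IsKFlat R Q :=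
  isKFlat_of_homotopyEquiv (HomotopyEquiv.ofIso e) h

theorem isKFlat_of_homotopy_zero {E : CochainComplex (ModuleCat.{u} R) ℤ} (h : Homotopy (𝟙 E) 0) :
    DRing.IsKFlat R E :=
  (isKFlat_iff E).2 fun L _ => Bifunctor.acyclic_obj_of_homotopy_zero _ L h

/-- K-projective complexes are K-flat. -/
theorem isKFlat_of_isKProjective (P : CochainComplex (ModuleCat.{u} R) ℤ) [P.IsKProjective] :
    DRing.IsKFlat R P := by
  obtain ⟨e, -⟩ := aug_homotopyEquivalences R P
  exact isKFlat_of_homotopyEquiv e (isKFlat_res P)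

theorem isKFlat_biprod_cyl0 {Q : CochainComplex (ModuleCat.{u} R) ℤ} (hQ : DRing.IsKFlat R Q)
    (P : CochainComplex (ModuleCat.{u} R) ℤ) : DRing.IsKFlat R (Q ⊞ cyl0 P) := by
  rw [isKFlat_iff] at hQ ⊢
  intro L hL
  haveI := quasiIso_map_fst ((tcx R).obj L) (cyl0 P) Q
    (Bifunctor.acyclic_obj_of_homotopy_zero _ L (CochainComplex.mappingCone.homotopyToZeroOfId P))
  exact acyclic_of_quasiIso (((tcx R).obj L).map (biprod.fst : Q ⊞ cyl0 P ⟶ Q)) (hQ L hL)

set_option maxHeartbeats 1600000 in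
/-- Tensoring with a K-flat complex preserves quasi-isomorphisms. -/
theorem quasiIso_tensor_of_isKFlat {K : CochainComplex (ModuleCat.{u} R) ℤ} (hK : DRing.IsKFlat R K)
    {F F' : CochainComplex (ModuleCat.{u} R) ℤ} (φ : F ⟶ F') [QuasiIso φ] :
    QuasiIso (((tcx R).flip.obj K).map φ) :=
  quasiIso_map ((tcx R).flip.obj K) φ
    (Bifunctor.acyclic_flip_obj_of_homotopy_zero _ (CochainComplex.mappingCone.homotopyToZeroOfId F) K)
    (mono_map_app_of_split (graphSplitting φ) K)
    ((isKFlat_iff K).1 hK _ (acyclic_graph_cokernel φ))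

/-- Tensoring anything with an acyclic K-flat complex gives an acyclic complex. -/
theorem acyclic_tensor_of_acyclic_isKFlat {C' : CochainComplex (ModuleCat.{u} R) ℤ} (hC : C'.Acyclic)
    (hK : DRing.IsKFlat R C') (F : CochainComplex (ModuleCat.{u} R) ℤ) :
    (((tcx R).obj F).obj C').Acyclic := by
  haveI := quasiIso_aug R F
  haveI := quasiIso_tensor_of_isKFlat hK ((aug R).app F)
  exact acyclic_of_quasiIso' (((tcx R).flip.obj C').map ((aug R).app F))
    (acyclic_tensor_of_cof (LeftRes.cof_resolution (G := gen R) F) hC).2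

/-- A quasi-isomorphism of K-flat complexes stays one after tensoring with anything. -/
theorem quasiIso_tensor_of_isKFlat_isKFlat {P Q : CochainComplex (ModuleCat.{u} R) ℤ}
    (hP : DRing.IsKFlat R P) (hQ : DRing.IsKFlat R Q) (α : P ⟶ Q) [QuasiIso α]
    (F : CochainComplex (ModuleCat.{u} R) ℤ) :
    QuasiIso (((tcx R).obj F).map α) :=
  quasiIso_map _ α
    (Bifunctor.acyclic_obj_of_homotopy_zero _ F (CochainComplex.mappingCone.homotopyToZeroOfId P))
    (mono_obj_map_of_split (graphSplitting α) F)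
    (acyclic_tensor_of_acyclic_isKFlat (acyclic_graph_cokernel α)
      ((two_of_three_split (graphSplitting α)).1 hP (isKFlat_biprod_cyl0 hQ P)) F)

end Groth.Agent.Lib.DR.KFlat
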