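import Groth.Agent.Lib.DR.Perfect
import Groth.Agent.Lib.FlatCx.Elem
import Mathlib.CategoryTheory.Abelian.Projective.Extend

/-!
# Projective resolutions of modules from bounded above representatives
-/

universe u

open CategoryTheory CategoryTheory.Limits
open Groth.Agent.Lib.DR.Basic Groth.Agent.Lib.DR.FiniteComplex Groth.Agent.Lib.DR.PseudoCoherent
open Groth.Agent.Lib.DR.Representative Groth.Agent.Lib.FlatCx.Elem

attribute [local instance] HasDerivedCategory.standard

namespace Groth.Agent.Lib.DR.Resolution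

variable {A : Type u} [CommRing A]

/-- A complex of projectives in degrees `≤ 0` representing `M[0]` is a projective resolution. -/
theorem exists_projectiveResolution (M : ModuleCat.{u} A) (E : DRing.Cx A)
    (hE : ∀ i : ℤ, 0 < i → IsZero (E.X i)) (hp : ∀ i, proj A (E.X i))
    (e : DerivedCategory.Q.obj E ≅ (DerivedCategory.singleFunctor (ModuleCat.{u} A) 0).obj M) :
    ∃ P : ProjectiveResolution M, P.complex = E.restriction ComplexShape.embeddingDownNat := by
  have := isKProjective_of_bounds projective_of_proj hE hp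
  let S := (HomologicalComplex.single (ModuleCat.{u} A) (ComplexShape.up ℤ) 0).obj (M)
  obtain ⟨φ, hφ⟩ : ∃ φ : E ⟶ S, DerivedCategory.Q.map φ =
      e.hom ≫ ((DerivedCategory.singleFunctorIsoCompQ (ModuleCat.{u} A) 0).app (M)).hom :=
    exists_Q_map_eq _
  have hq : QuasiIso φ := by
    rw [← DerivedCategory.isIso_Q_map_iff_quasiIso, hφ]
    exact (e ≪≫ (DerivedCategory.singleFunctorIsoCompQ (ModuleCat.{u} A) 0).app (M)).isIso_hom
  let C : ChainComplex (ModuleCat.{u} A) ℕ := E.restriction ComplexShape.embeddingDownNat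
  let f₀ : C.X 0 ⟶ M := φ.f 0 ≫ (HomologicalComplex.singleObjXSelf _ _ _).hom
  have hf₀ : C.d 1 0 ≫ f₀ = 0 := by
    show E.d (-1) 0 ≫ φ.f 0 ≫ _ = 0
    rw [← Category.assoc, ← φ.comm, HomologicalComplex.single_obj_d, comp_zero, zero_comp]
  let π : C ⟶ (ChainComplex.single₀ (ModuleCat.{u} A)).obj (M) :=
    (ChainComplex.toSingle₀Equiv C _).symm ⟨f₀, hf₀⟩
  let sx := HomologicalComplex.singleObjXSelf (ComplexShape.down ℕ) 0 (M)
  let sy := HomologicalComplex.singleObjXSelf (ComplexShape.up ℤ) 0 (M)
  have hπ0 : π.f 0 = φ.f 0 ≫ sy.hom ≫ sx.inv :=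
    (HomologicalComplex.mkHomToSingle_f f₀ (fun i hi => by obtain rfl : i = 1 := (by simpa using hi.symm); exact hf₀)).trans (Category.assoc _ _ _)
  have hb : ∀ i : ℤ, Function.Bijective (HomologicalComplex.homologyMap φ i) := fun i =>
    (ConcreteCategory.isIso_iff_bijective _).1 inferInstance
  have hπ : QuasiIso π := by
    rw [quasiIso_iff]
    intro n
    rw [quasiIsoAt_iff_isIso_homologyMap, ConcreteCategory.isIso_iff_bijective]
    rcases n with _ | n
    · refine ⟨(injective_homologyMap_iff π (i := 1) (k := 0) (by simp) (by simp)).2 fun z _ y hy => ?_,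
        (surjective_homologyMap_iff π (i := 1) (k := 0) (by simp) (by simp)).2 fun z' _ => ?_⟩
      · have hz : E.d 0 1 z = 0 := by
          rw [(hE 1 (by lia)).eq_of_tgt (E.d 0 1) 0]; rfl
        have h0 : π.f 0 z = 0 := hy.symm.trans (by rw [HomologicalComplex.single_obj_d]; rfl)
        rw [hπ0] at h0
        exact (injective_homologyMap_iff φ (i := -1) (k := 1) (by simp) (by simp)).1 (hb 0).1 z hz 0 (by
          rw [map_zero]
          apply (sy ≪≫ sx.symm).toLinearEquiv.injective
          rw [map_zero]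
          exact h0.symm)
      · obtain ⟨z, y, -, hzy⟩ := (surjective_homologyMap_iff φ (i := -1) (k := 1) (by simp) (by simp)).1
          (hb 0).2 ((sx.hom ≫ sy.inv) z') (by rw [HomologicalComplex.single_obj_d]; rfl)
        refine ⟨z, 0, by simp <;> rfl, ?_⟩
        rw [map_zero, add_zero, hπ0]
        have hy0 : S.d (-1) 0 y = 0 := by
          rw [show S.d (-1) 0 = 0 from HomologicalComplex.single_obj_d _ _ _ _ _]; rfl
        rw [hy0, add_zero] at hzy
        refine (congrArg (sy.hom ≫ sx.inv).hom hzy).trans ?_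
        exact congrArg (fun f => f.hom z') (sy ≪≫ sx.symm).inv_hom_id
    · have hz2 : IsZero (((ChainComplex.single₀ (ModuleCat.{u} A)).obj (M)).X (n + 1)) :=
        HomologicalComplex.isZero_single_obj_X _ _ _ _ (by lia)
      have := ModuleCat.subsingleton_of_isZero hz2
      refine ⟨(injective_homologyMap_iff π (i := n + 2) (k := n) (by simp) (by simp)).2 fun z hz y _ => ?_,
        (surjective_homologyMap_iff π (i := n + 2) (k := n) (by simp) (by simp)).2
          fun z' _ => ⟨0, 0, map_zero _, Subsingleton.elim _ _⟩⟩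
      have he : E.ExactAt (-((n + 1 : ℕ) : ℤ)) := by
        rw [← quasiIsoAt_iff_exactAt' φ _ (HomologicalComplex.exactAt_single_obj _ _ _ _ (by lia))]
        infer_instance
      exact (isZero_homology_iff (i := (-((n + 2 : ℕ) : ℤ))) (k := (-((n : ℕ) : ℤ))) (by simp; lia) (by simp)).1
        ((HomologicalComplex.exactAt_iff_isZero_homology _ _).1 he) z hz

  exact ⟨{ complex := C, projective := fun n => projective_of_proj _ (hp _), π := π, quasiIso := hπ }, rfl⟩

end Groth.Agent.Lib.DR.Resolution
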