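import Groth.Agent.Lib.DR.TorAmp
import Groth.Agent.Lib.DR.Resolution
import Groth.Agent.Lib.Tor.Module

/-!
# Tor dimension of modules versus tor amplitude
-/

universe u

open CategoryTheory CategoryTheory.Limits
open Groth.Agent.Lib.DR
open Groth.Agent.Lib.DR.Basic Groth.Agent.Lib.DR.FiniteComplex Groth.Agent.Lib.DR.PseudoCoherent
open Groth.Agent.Lib.DR.Representative Groth.Agent.Lib.DR.BaseChange Groth.Agent.Lib.DR.TorAmp
open Groth.Agent.Lib.Tor

attribute [local instance] HasDerivedCategory.standard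

namespace Groth.Agent.Lib.DR.TorDim

variable {A : Type u} [CommRing A]

/-- Restriction to nonnegative homological degrees commutes with exactness. -/
lemma exactAt_restriction_iff (E : DRing.Cx A) (n : ℕ) :
    (E.restriction ComplexShape.embeddingDownNat).ExactAt (n + 1) ↔ E.ExactAt (-((n + 1 : ℕ) : ℤ)) := by
  rw [HomologicalComplex.exactAt_iff' _ (n + 2) (n + 1) n (by simp) (by simp),
    HomologicalComplex.exactAt_iff' E (-((n + 2 : ℕ) : ℤ)) (-((n + 1 : ℕ) : ℤ)) (-((n : ℕ) : ℤ))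
      (by simp; lia) (by simp)]
  rfl

lemma subsingleton_tor_iff (M : ModuleCat.{u} A) (E : DRing.Cx A) (P : ProjectiveResolution M)
    (hP : P.complex = E.restriction ComplexShape.embeddingDownNat) (N : ModuleCat.{u} A) (n : ℕ) :
    IsZero (((CategoryTheory.Tor (ModuleCat.{u} A) (n + 1)).obj M).obj N) ↔
      ((tens N).obj E).ExactAt (-((n + 1 : ℕ) : ℤ)) := by
  rw [← exactAt_restriction_iff, HomologicalComplex.exactAt_iff_isZero_homology]
  let e := Balance.torObjIso P N (n + 1)
  let C := ((MonoidalCategory.tensorRight N).mapHomologicalComplex (ComplexShape.down ℕ))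
  have h : C.obj P.complex = ((tens N).obj E).restriction ComplexShape.embeddingDownNat := by
    rw [hP]; rfl
  exact ⟨fun h0 => h ▸ h0.of_iso e.symm, fun h0 => (h ▸ h0).of_iso e⟩

/-- Tor dimension and tor amplitude of a module. -/
theorem hasTorDimLE_iff (M : Type u) [AddCommGroup M] [Module A M] (d : ℕ) :
    DRing.HasTorDimLE A d M ↔ Bdd (flat A) (-(d : ℤ)) 0 (Dual.inD A M) := by
  let X := (DerivedCategory.singleFunctor (ModuleCat.{u} A) 0).obj (ModuleCat.of A M)
  obtain ⟨E, hE, hp, ⟨e⟩⟩ := ba_proj (X := X) (b := 0) inferInstance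
  obtain ⟨P, hP⟩ := Resolution.exists_projectiveResolution (ModuleCat.of A M) E hE hp e
  constructor
  · intro h
    refine (bdd_flat_of_isGE_tens E hE (fun i => flat_of_proj _ (hp i))
      (isGE_of_iso' e.symm (isGE_mono (show X.IsGE 0 from inferInstance) (by lia))) fun N => ?_).of_iso e
    rw [DerivedCategory.isGE_iff]
    intro i hi
    obtain ⟨n, rfl⟩ : ∃ n : ℕ, i = -((n + 1 : ℕ) : ℤ) := ⟨(-i - 1).toNat, by lia⟩
    have := h N (n + 1) (by lia)
    exact ((HomologicalComplex.exactAt_iff_isZero_homology _ _).1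
      ((subsingleton_tor_iff _ E P hP N n).1 (ModuleCat.isZero_of_subsingleton _))).of_iso (homologyQIso _ _)
  · intro h N _ _ p hp'
    obtain ⟨n, rfl⟩ : ∃ n, p = n + 1 := ⟨p - 1, by lia⟩
    exact ModuleCat.subsingleton_of_isZero ((subsingleton_tor_iff _ E P hP (ModuleCat.of A N) n).2
      (exactAt_tens_of_bdd _ E hE (fun i => flat_of_proj _ (hp i)) (h.of_iso e.symm) _ (by lia)))

/-- Amplitude `[0, 0]` means flat. -/
theorem flat_of_bdd_zero (M : Type u) [AddCommGroup M] [Module A M]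
    (h : Bdd (flat A) 0 0 (Dual.inD A M)) : Module.Flat A M := by
  obtain ⟨E, hE, hp, ⟨e⟩⟩ := h
  have hd1 : E.d (-1) 0 = 0 := (hE (-1) (Or.inl (by lia))).eq_of_src _ _
  have hd2 : E.d 0 1 = 0 := (hE 1 (Or.inr (by lia))).eq_of_tgt _ _
  let e' : E.X 0 ≅ ModuleCat.of A M :=
    (E.iCyclesIso 0 1 (by simp) hd2).symm ≪≫ E.isoHomologyπ (-1) 0 (by simp) hd1 ≪≫
      (homologyQIso E 0).symm ≪≫ (DerivedCategory.homologyFunctor _ 0).mapIso e ≪≫
      homologySingle (ModuleCat.of A M) 0
  have : Module.Flat A (E.X 0) := hp 0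
  exact Module.Flat.of_linearEquiv e'.toLinearEquiv.symm

end Groth.Agent.Lib.DR.TorDim
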