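import Mathlib.RingTheory.Flat.Equalizer
import Mathlib.LinearAlgebra.TensorProduct.RightExactness
import Mathlib.Algebra.Category.ModuleCat.Abelian
import Mathlib.Algebra.Category.ModuleCat.Monoidal.Basic
import Mathlib.Algebra.Homology.ShortComplex.ModuleCat
import Mathlib.Algebra.Homology.ShortComplex.HomologicalComplex
import Mathlib.Algebra.Category.ModuleCat.ChangeOfRings

/-!
# A bounded above acyclic complex of flat modules stays exact after tensoring
-/

universe u

open CategoryTheory CategoryTheory.Limits TensorProduct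

namespace Groth.Agent.Lib.DR.FlatAcyclic

variable {A : Type u} [CommRing A]

/-- The kernel of a surjection of flat modules is flat. -/
theorem flat_ker {N P : Type u} [AddCommGroup N] [Module A N] [AddCommGroup P] [Module A P]
    [Module.Flat A N] [Module.Flat A P] (f : N →ₗ[A] P) (hf : Function.Surjective f) :
    Module.Flat A (LinearMap.ker f) := by
  rw [Module.Flat.iff_lTensor_preserves_injective_linearMap]
  intro X Y _ _ _ _ φ hφ
  have hg : Function.Injective ((LinearMap.ker f).subtype.rTensor X) := by
    rw [← LinearMap.lTensor_inj_iff_rTensor_inj]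
    exact LinearMap.lTensor_injective_of_exact_of_flat f hf _ (Submodule.subtype_injective _)
      (LinearMap.exact_subtype_ker_map f) X
  have h : Function.Injective (φ.lTensor N ∘ₗ (LinearMap.ker f).subtype.rTensor X) :=
    (Module.Flat.lTensor_preserves_injective_linearMap _ hφ).comp hg
  rw [LinearMap.lTensor_comp_rTensor, ← LinearMap.rTensor_comp_lTensor] at h
  exact Function.Injective.of_comp h

section Exact

variable (E : ℤ → Type u) [∀ i, AddCommGroup (E i)] [∀ i, Module A (E i)]
  (d : ∀ i j : ℤ, E i →ₗ[A] E j)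
  (hflat : ∀ i, Module.Flat A (E i)) (b : ℤ) (hb : ∀ i, b < i → Subsingleton (E i))
  (hex : ∀ i j k : ℤ, i + 1 = j → j + 1 = k → Function.Exact (d i j) (d j k))

include hflat hb hex in
theorem flat_ker_d (i j : ℤ) (h : i + 1 = j) : Module.Flat A (LinearMap.ker (d i j)) := by
  suffices H : ∀ n : ℕ, ∀ i j : ℤ, i + 1 = j → b < i + n → Module.Flat A (LinearMap.ker (d i j)) from
    H (b - i + 1).toNat i j h (by lia)
  intro n
  induction n with
  | zero =>
    intro i j _ hi
    have := hb i (by lia)
    infer_instance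
  | succ n ih =>
    intro i j hij hi
    have := ih j (j + 1) rfl (by lia)
    have := hflat i
    let p : E i →ₗ[A] LinearMap.ker (d j (j + 1)) :=
      (d i j).codRestrict _ fun x => (hex i j (j + 1) hij rfl).apply_apply_eq_zero x
    have hp : Function.Surjective p := fun y => by
      obtain ⟨x, hx⟩ := (hex i j (j + 1) hij rfl y.1).1 y.2
      exact ⟨x, Subtype.ext hx⟩
    have := flat_ker p hp
    exact Module.Flat.of_linearEquiv (LinearEquiv.ofEq (LinearMap.ker (d i j)) (LinearMap.ker p)
      (LinearMap.ker_codRestrict _ _ _).symm)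

include hflat hb hex in
theorem exact_lTensor (M : Type*) [AddCommGroup M] [Module A M] (i j k : ℤ) (hij : i + 1 = j)
    (hjk : j + 1 = k) : Function.Exact ((d i j).lTensor M) ((d j k).lTensor M) := by
  have hc : ∀ i j k : ℤ, i + 1 = j → j + 1 = k → ∀ x, d j k (d i j x) = 0 :=
    fun i j k h1 h2 x => (hex i j k h1 h2).apply_apply_eq_zero x
  obtain ⟨l, hl⟩ : ∃ l : ℤ, k + 1 = l := ⟨k + 1, rfl⟩
  let incl : LinearMap.ker (d k l) →ₗ[A] E k := (LinearMap.ker (d k l)).subtype
  let p : E j →ₗ[A] LinearMap.ker (d k l) := (d j k).codRestrict _ (hc j k l hjk hl)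
  have hpq : incl ∘ₗ p = d j k := rfl
  have hinj : Function.Injective (incl.lTensor M) := by
    let q : E k →ₗ[A] LinearMap.ker (d l (l + 1)) := (d k l).codRestrict _ (hc k l _ hl rfl)
    have hq : Function.Surjective q := fun y => by
      obtain ⟨x, hx⟩ := (hex k l _ hl rfl y.1).1 y.2
      exact ⟨x, Subtype.ext hx⟩
    have := flat_ker_d E d hflat b hb hex l (l + 1) rfl
    refine LinearMap.lTensor_injective_of_exact_of_flat q hq incl (Submodule.subtype_injective _) ?_ M
    intro x
    rw [Set.mem_range]
    constructor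
    · exact fun hx => ⟨⟨x, congrArg Subtype.val hx⟩, rfl⟩
    · rintro ⟨y, rfl⟩; exact Subtype.ext y.2
  have hp : Function.Surjective p := fun y => by
    obtain ⟨x, hx⟩ := (hex j k l hjk hl y.1).1 y.2
    exact ⟨x, Subtype.ext hx⟩
  have hexp : Function.Exact (d i j) p := fun x => by
    rw [← hex i j k hij hjk x]
    exact ⟨fun hx => congrArg Subtype.val hx, fun hx => Subtype.ext hx⟩
  rw [← hpq, LinearMap.lTensor_comp]
  intro x
  rw [← lTensor_exact M hexp hp x, LinearMap.comp_apply, map_eq_zero_iff _ hinj]

end Exact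

/-- Termwise `M ⊗ -` of a bounded above acyclic complex of flat modules is exact. -/
theorem exact_lTensor_cx (D : CochainComplex (ModuleCat.{u} A) ℤ) (hflat : ∀ i, Module.Flat A (D.X i))
    (b : ℤ) (hb : ∀ i, b < i → IsZero (D.X i)) (hD : D.Acyclic)
    (M : Type u) [AddCommGroup M] [Module A M] (i j k : ℤ) (hij : i + 1 = j) (hjk : j + 1 = k) :
    Function.Exact ((D.d i j).hom.lTensor M) ((D.d j k).hom.lTensor M) := by
  refine exact_lTensor (fun i => D.X i) (fun i j => (D.d i j).hom) hflat b
    (fun i hi => ModuleCat.subsingleton_of_isZero (hb i hi)) (fun i j k hij hjk => ?_) M i j k hij hjk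
  have h := hD j
  rw [D.exactAt_iff' i j k (by simp; lia) (by simp; lia)] at h
  exact (ShortComplex.ShortExact.moduleCat_exact_iff_function_exact _).1 h

/-- Extension of scalars keeps a bounded above acyclic complex of flat modules acyclic. -/
theorem acyclic_extendScalars {B : Type u} [CommRing B] (φ : A →+* B)
    (D : CochainComplex (ModuleCat.{u} A) ℤ) (hflat : ∀ i, Module.Flat A (D.X i))
    (b : ℤ) (hb : ∀ i, b < i → IsZero (D.X i)) (hD : D.Acyclic) :
    (((ModuleCat.extendScalars.{u, u, u} φ).mapHomologicalComplex (ComplexShape.up ℤ)).obj D).Acyclic := by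
  intro j
  rw [HomologicalComplex.exactAt_iff' _ (j - 1) j (j + 1) (by simp) (by simp),
    ShortComplex.ShortExact.moduleCat_exact_iff_function_exact]
  exact exact_lTensor_cx D hflat b hb hD ((ModuleCat.restrictScalars.{u} φ).obj (ModuleCat.of B B))
    (j - 1) j (j + 1) (by lia) rfl

/-- `- ⊗ M` keeps a bounded above acyclic complex of flat modules acyclic. -/
theorem acyclic_tensorRight (M : ModuleCat.{u} A)
    (D : CochainComplex (ModuleCat.{u} A) ℤ) (hflat : ∀ i, Module.Flat A (D.X i))
    (b : ℤ) (hb : ∀ i, b < i → IsZero (D.X i)) (hD : D.Acyclic) :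
    (((MonoidalCategory.tensorRight M).mapHomologicalComplex (ComplexShape.up ℤ)).obj D).Acyclic := by
  intro j
  rw [HomologicalComplex.exactAt_iff' _ (j - 1) j (j + 1) (by simp) (by simp),
    ShortComplex.ShortExact.moduleCat_exact_iff_function_exact]
  have h := exact_lTensor_cx D hflat b hb hD M (j - 1) j (j + 1) (by lia) rfl
  refine (Function.Exact.iff_of_ladder_linearEquiv (e₁ := TensorProduct.comm A M (D.X (j - 1)))
    (e₂ := TensorProduct.comm A M (D.X j)) (e₃ := TensorProduct.comm A M (D.X (j + 1)))
    (TensorProduct.ext' fun _ _ => rfl) (TensorProduct.ext' fun _ _ => rfl)).2 h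

end Groth.Agent.Lib.DR.FlatAcyclic
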