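import Groth.Agent.Lib.DR.TopCohomology
import Groth.Agent.Lib.DR.Resolve
import Mathlib.Algebra.Category.ModuleCat.Colimits

/-!
# Bounded above representatives in `D(A)`
-/

universe u

open CategoryTheory CategoryTheory.Limits CategoryTheory.Pretriangulated
open Groth.Agent.Lib.DR.Basic Groth.Agent.Lib.DR.FiniteComplex Groth.Agent.Lib.DR.PseudoCoherent
open Groth.Agent.Lib.DR.TopCohomology Groth.Agent.Lib.DR.Resolve Groth.Agent.Lib.PCoh.Cone

attribute [local instance] HasDerivedCategory.standard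

namespace Groth.Agent.Lib.DR.Representative

variable {A : Type u} [CommRing A]

/-- Free modules. -/
def free (A : Type u) [CommRing A] : ObjectProperty (ModuleCat.{u} A) := fun M => Module.Free A M

lemma good_free : Good (free A) where
  zero {X} h := by
    have := ModuleCat.subsingleton_of_isZero h
    exact Module.Free.of_subsingleton A X
  biprod {X Y} hX hY := by
    have : Module.Free A X := hX
    have : Module.Free A Y := hY
    let e : (X × Y) ≃ₗ[A] ↑(X ⊞ Y) := (ModuleCat.biprodIsoProd X Y).toLinearEquiv.symm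
    exact Module.Free.of_equiv e
  iso {X Y} e h :=
    have : Module.Free A X := h
    Module.Free.of_equiv e.toLinearEquiv

lemma proj_of_free (X : ModuleCat.{u} A) (h : free A X) : proj A X :=
  have : Module.Free A X := h
  (inferInstance : Module.Projective A X)

lemma free_of_ff (X : ModuleCat.{u} A) (h : ff A X) : free A X := h.2

lemma projective_of_free' (X : ModuleCat.{u} A) (h : free A X) : Projective X :=
  projective_of_proj X (proj_of_free X h)

/-- `X` is represented by a complex with terms in `P` vanishing above `b`. -/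
def BA (P : ObjectProperty (ModuleCat.{u} A)) (b : ℤ) (X : Dual.D A) : Prop :=
  ∃ E : DRing.Cx A, (∀ i, b < i → IsZero (E.X i)) ∧ (∀ i, P (E.X i)) ∧
    Nonempty (DerivedCategory.Q.obj E ≅ X)

lemma isPseudoCoherent'_iff (K : Dual.D A) :
    DRing.IsPseudoCoherent' A K ↔ ∃ b, BA (ff A) b K := by
  constructor
  · rintro ⟨E, b, h⟩
    exact ⟨b, E, h⟩
  · rintro ⟨b, E, h⟩
    exact ⟨E, b, h⟩

variable {P : ObjectProperty (ModuleCat.{u} A)} {b : ℤ} {X : Dual.D A}

lemma BA.isLE (h : BA P b X) : X.IsLE b :=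
  let ⟨E, hE, _, ⟨e⟩⟩ := h
  isLE_of_iso' e (isLE_Q_of_isZero E b hE)

lemma BA.of_iso {Y : Dual.D A} (h : BA P b X) (e : X ≅ Y) : BA P b Y :=
  let ⟨E, hE, hp, ⟨e'⟩⟩ := h
  ⟨E, hE, hp, ⟨e' ≪≫ e⟩⟩

lemma BA.mono {b' : ℤ} (h : BA P b X) (hb : b ≤ b') : BA P b' X :=
  let ⟨E, hE, hp, e⟩ := h
  ⟨E, fun i hi => hE i (by lia), hp, e⟩

lemma BA.of_le {P' : ObjectProperty (ModuleCat.{u} A)} (hP : ∀ M, P M → P' M) (h : BA P b X) :
    BA P' b X :=
  let ⟨E, hE, hp, e⟩ := h
  ⟨E, hE, fun i => hP _ (hp i), e⟩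

lemma bdd_ba {a : ℤ} (h : Bdd P a b X) : BA P b X :=
  let ⟨E, hE, hp, e⟩ := h
  ⟨E, fun i hi => hE i (Or.inr hi), hp, e⟩

lemma BA.pcn (hP : Good P) (h : BA P b X) (m : ℤ) : PCn P m X := by
  obtain ⟨E, hE, hp, ⟨e⟩⟩ := h
  obtain ⟨S, φ, hz, hSp, hSz, -, hφ⟩ := exists_stupidTrunc hP E m hp
  exact ⟨S, m, max b m, DerivedCategory.Q.map φ ≫ e.hom, fun i hi => hi.elim (hz i)
    (fun hi => hSz i (hE i (by lia))), hSp, hφ.comp_iso e⟩

lemma isLE_mappingCone_of_exactGE {E K : DRing.Cx A} (φ : E ⟶ K) (n : ℤ) (h : ExactGE φ (n + 1)) :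
    (DerivedCategory.Q.obj (CochainComplex.mappingCone φ)).IsLE n := by
  rw [DerivedCategory.isLE_Q_obj_iff, CochainComplex.isLE_iff]
  exact fun i hi => h i hi

lemma ba_of_isLE_of_cover (hP : Good P) (hproj : ∀ M, P M → Projective M)
    (hcov : ∀ M : ModuleCat.{u} A, ∃ (F : ModuleCat.{u} A) (π : F ⟶ M), P F ∧ Epi π)
    (hX : X.IsLE b) : BA P b X := by
  obtain ⟨K, hK, ⟨e⟩⟩ := X.exists_iso_Q_obj_of_isLE b
  obtain ⟨G, s, hG, hp, hs⟩ := exists_resolution hP hproj (K := K) (b := b)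
    (fun i hi => HomologicalComplex.ExactAt.of_isZero (K.isZero_of_isStrictlyLE b i hi))
    (fun n E φ _ _ _ _ => hcov _)
  exact ⟨G, hG, hp, ⟨asIso (DerivedCategory.Q.map s) ≪≫ e.symm⟩⟩

lemma exists_free_cover' (M : ModuleCat.{u} A) :
    ∃ (F : ModuleCat.{u} A) (π : F ⟶ M), free A F ∧ Epi π := by
  refine ⟨ModuleCat.of A (M →₀ A), ModuleCat.ofHom (Finsupp.linearCombination A id),
    inferInstanceAs (Module.Free A (M →₀ A)), (ModuleCat.epi_iff_surjective _).2 ?_⟩
  exact fun m => ⟨Finsupp.single m 1, by simp⟩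

lemma ba_free (hX : X.IsLE b) : BA (free A) b X :=
  ba_of_isLE_of_cover good_free projective_of_free' exists_free_cover' hX

lemma ba_proj (hX : X.IsLE b) : BA (proj A) b X :=
  (ba_free hX).of_le proj_of_free

/-- An object `≤ b` which is `m`-pseudo-coherent for all `m` is represented by finite free modules
in degrees `≤ b`. -/
lemma ba_ff_of_forall (h : ∀ m, PCn (ff A) m X) (hX : X.IsLE b) : BA (ff A) b X := by
  obtain ⟨K, hK, ⟨e⟩⟩ := X.exists_iso_Q_obj_of_isLE b
  have hKpc : ∀ m, PCn (ff A) m (DerivedCategory.Q.obj K) := fun m => (h m).of_iso e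
  obtain ⟨G, s, hG, hp, hs⟩ := exists_resolution good_ff projective_of_ff (K := K) (b := b)
    (fun i hi => HomologicalComplex.ExactAt.of_isZero (K.isZero_of_isStrictlyLE b i hi))
    (fun n E φ _ hE hEp hex => by
      have hle := isLE_mappingCone_of_exactGE φ n hex
      have hpc : PCn (ff A) n (DerivedCategory.Q.obj (CochainComplex.mappingCone φ)) :=
        PCn.cone good_ff projective_of_ff _ (DerivedCategory.mappingCone_triangle_distinguished φ)
          (Bdd.pcn ⟨E, hE, hEp, ⟨Iso.refl _⟩⟩ _) (hKpc n)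
      have := (finite_top ((pcn_ff_iff_fproj _ _).1 hpc) le_rfl hle).1
      have := Module.Finite.equiv (homologyQIso (CochainComplex.mappingCone φ) n).toLinearEquiv
      obtain ⟨F, π, hF, hπ⟩ := exists_free_cover (A := A) ((CochainComplex.mappingCone φ).homology n)
      exact ⟨F, π, hF, (ModuleCat.epi_iff_surjective π).2 hπ⟩)
  exact ⟨G, hG, hp, ⟨asIso (DerivedCategory.Q.map s) ≪≫ e.symm⟩⟩

lemma isPseudoCoherent'_iff_forall (K : Dual.D A) :
    DRing.IsPseudoCoherent' A K ↔ ∀ m, PCn (ff A) m K := by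
  rw [isPseudoCoherent'_iff]
  refine ⟨fun ⟨b, h⟩ m => h.pcn good_ff m, fun h => ?_⟩
  obtain ⟨b, hb⟩ := (h 0).exists_isLE
  exact ⟨b, ba_ff_of_forall h hb⟩

end Groth.Agent.Lib.DR.Representative
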