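import Groth.Agent.Lib.DR.Derived
import Groth.Agent.Lib.DR.FlatAcyclic
import Groth.Agent.Lib.DR.Representative
import Groth.Prelude.Def_DDual2
import Mathlib.RingTheory.Flat.Stability
import Mathlib.LinearAlgebra.TensorProduct.Tower

/-!
# Derived base change `D(A) ⥤ D(B)` computed on bounded above flat complexes
-/

universe u

open CategoryTheory CategoryTheory.Limits CategoryTheory.Pretriangulated
open Groth.Agent.Lib.DR
open Groth.Agent.Lib.DR.Basic Groth.Agent.Lib.DR.FiniteComplex Groth.Agent.Lib.DR.PseudoCoherent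
open Groth.Agent.Lib.DR.Representative

attribute [local instance] HasDerivedCategory.standard

namespace Groth.Agent.Lib.DR.BaseChange

variable {A : Type u} [CommRing A]

lemma flat_prod (M N : Type u) [AddCommGroup M] [Module A M] [AddCommGroup N] [Module A N]
    [Module.Flat A M] [Module.Flat A N] : Module.Flat A (M × N) := by
  rw [Module.Flat.iff_lTensor_preserves_injective_linearMap]
  intro X Y _ _ _ _ φ hφ
  have h : (φ.lTensor (M × N)) =
      (TensorProduct.prodLeft A A M N Y).symm.toLinearMap ∘ₗ ((φ.lTensor M).prodMap (φ.lTensor N)) ∘ₗ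
        (TensorProduct.prodLeft A A M N X).toLinearMap := by
    ext <;> simp [LinearEquiv.eq_symm_apply]
  rw [h, LinearMap.coe_comp, LinearMap.coe_comp]
  exact (TensorProduct.prodLeft A A M N Y).symm.injective.comp
    ((Function.Injective.prodMap (Module.Flat.lTensor_preserves_injective_linearMap _ hφ)
      (Module.Flat.lTensor_preserves_injective_linearMap _ hφ)).comp
      (TensorProduct.prodLeft A A M N X).injective)

lemma good_flat : Good (flat A) where
  zero {X} h := by
    have := ModuleCat.subsingleton_of_isZero h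
    exact (inferInstance : Module.Flat A X)
  biprod {X Y} hX hY := by
    have : Module.Flat A X := hX
    have : Module.Flat A Y := hY
    have := flat_prod (A := A) X Y
    exact Module.Flat.of_linearEquiv (M := (X × Y)) (ModuleCat.biprodIsoProd X Y).toLinearEquiv
  iso {X Y} e h :=
    have : Module.Flat A X := h
    Module.Flat.of_linearEquiv e.toLinearEquiv.symm

lemma flat_of_proj (X : ModuleCat.{u} A) (h : proj A X) : flat A X :=
  have : Module.Projective A X := h
  (inferInstance : Module.Flat A X)

lemma flat_of_fproj (X : ModuleCat.{u} A) (h : fproj A X) : flat A X := flat_of_proj X h.2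

lemma flat_of_free (X : ModuleCat.{u} A) (h : free A X) : flat A X := flat_of_proj X (proj_of_free X h)

lemma acyclic_iff_isZero_Q (K : CochainComplex (ModuleCat.{u} A) ℤ) :
    K.Acyclic ↔ IsZero (DerivedCategory.Q.obj K) := by
  have key : ∀ i, K.ExactAt i ↔
      IsZero ((DerivedCategory.homologyFunctor (ModuleCat.{u} A) i).obj (DerivedCategory.Q.obj K)) :=
    fun i => by
      rw [HomologicalComplex.exactAt_iff_isZero_homology]
      exact ⟨fun h => h.of_iso (homologyQIso K i), fun h => h.of_iso (homologyQIso K i).symm⟩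
  constructor
  · intro h
    have : (DerivedCategory.Q.obj K).IsLE 0 :=
      (DerivedCategory.isLE_iff _ _).2 fun i _ => (key i).1 (h i)
    have : (DerivedCategory.Q.obj K).IsGE 1 :=
      (DerivedCategory.isGE_iff _ _).2 fun i _ => (key i).1 (h i)
    rw [IsZero.iff_id_eq_zero]
    exact hom_eq_zero_of_isLE_of_isGE _ (show (0 : ℤ) < 1 by lia) inferInstance inferInstance
  · exact fun h i => (key i).2 (Functor.map_isZero _ h)

lemma quasiIso_iff_acyclic {K L : CochainComplex (ModuleCat.{u} A) ℤ} (f : K ⟶ L) :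
    QuasiIso f ↔ (CochainComplex.mappingCone f).Acyclic := by
  rw [acyclic_iff_isZero_Q, ← DerivedCategory.isIso_Q_map_iff_quasiIso]
  exact (Triangle.isZero₃_iff_isIso₁ _ (DerivedCategory.mappingCone_triangle_distinguished f)).symm

variable {B : Type u} [CommRing B] (φ : A →+* B)

/-- Termwise extension of scalars. -/
noncomputable abbrev ext : CochainComplex (ModuleCat.{u} A) ℤ ⥤ CochainComplex (ModuleCat.{u} B) ℤ :=
  (ModuleCat.extendScalars.{u, u, u} φ).mapHomologicalComplex (ComplexShape.up ℤ)

lemma ext_flat (M : ModuleCat.{u} A) (h : flat A M) :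
    flat B ((ModuleCat.extendScalars.{u, u, u} φ).obj M) :=
  letI := φ.toAlgebra
  have : Module.Flat A M := h
  inferInstanceAs (Module.Flat B (TensorProduct A B M))

lemma ext_proj (M : ModuleCat.{u} A) (h : proj A M) :
    proj B ((ModuleCat.extendScalars.{u, u, u} φ).obj M) :=
  letI := φ.toAlgebra
  have : Module.Projective A M := h
  inferInstanceAs (Module.Projective B (TensorProduct A B M))

lemma ext_free (M : ModuleCat.{u} A) (h : free A M) :
    free B ((ModuleCat.extendScalars.{u, u, u} φ).obj M) :=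
  letI := φ.toAlgebra
  have : Module.Free A M := h
  inferInstanceAs (Module.Free B (TensorProduct A B M))

lemma ext_finite (M : ModuleCat.{u} A) [Module.Finite A M] :
    Module.Finite B ((ModuleCat.extendScalars.{u, u, u} φ).obj M) :=
  letI := φ.toAlgebra
  inferInstanceAs (Module.Finite B (TensorProduct A B M))

lemma ext_fproj (M : ModuleCat.{u} A) (h : fproj A M) :
    fproj B ((ModuleCat.extendScalars.{u, u, u} φ).obj M) :=
  have := h.1
  ⟨ext_finite φ M, ext_proj φ M h.2⟩

lemma ext_ff (M : ModuleCat.{u} A) (h : ff A M) :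
    ff B ((ModuleCat.extendScalars.{u, u, u} φ).obj M) :=
  have := h.1
  ⟨ext_finite φ M, ext_free φ M h.2⟩

variable [DRing.HasLBaseChange φ]

/-- Derived base change of a K-projective complex is termwise. -/
noncomputable def bc (K : CochainComplex (ModuleCat.{u} A) ℤ) [K.IsKProjective] :
    (DRing.LBaseChange φ).obj (DerivedCategory.Q.obj K) ≅ DerivedCategory.Q.obj ((ext φ).obj K) :=
  Derived.LFIso (ModuleCat.extendScalars.{u, u, u} φ) K

omit [DRing.HasLBaseChange φ] in
lemma isIso_ext_map {G K : CochainComplex (ModuleCat.{u} A) ℤ} (s : G ⟶ K) (b : ℤ)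
    (hG : ∀ i, b < i → IsZero (G.X i)) (hK : ∀ i, b < i → IsZero (K.X i))
    (hGf : ∀ i, flat A (G.X i)) (hKf : ∀ i, flat A (K.X i)) [QuasiIso s] :
    IsIso (DerivedCategory.Q.map ((ext φ).map s)) := by
  have hacy : (CochainComplex.mappingCone s).Acyclic :=
    (quasiIso_iff_acyclic s).1 inferInstance
  have hflat : ∀ i, Module.Flat A ((CochainComplex.mappingCone s).X i) := fun i =>
    good_flat.iso (HomologicalComplex.homotopyCofiber.XIsoBiprod s i (i + 1) rfl).symm
      (good_flat.biprod (hGf (i + 1)) (hKf i))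
  have hz : ∀ i, b < i → IsZero ((CochainComplex.mappingCone s).X i) := fun i hi => by
    refine IsZero.of_iso ?_ (HomologicalComplex.homotopyCofiber.XIsoBiprod s i (i + 1) rfl)
    rw [biprod_isZero_iff]
    exact ⟨hG _ (by lia), hK _ hi⟩
  have h := FlatAcyclic.acyclic_extendScalars φ _ hflat b hz hacy
  have : QuasiIso ((ext φ).map s) := by
    rw [quasiIso_iff_acyclic]
    intro i
    exact (h i).of_iso (CochainComplex.mappingCone.mapHomologicalComplexIso s _)
  exact Localization.inverts DerivedCategory.Q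
    (HomologicalComplex.quasiIso (ModuleCat.{u} B) (ComplexShape.up ℤ)) _ this

theorem isIso_α_of_flat (K : CochainComplex (ModuleCat.{u} A) ℤ) (b : ℤ)
    (hK : ∀ i, b < i → IsZero (K.X i)) (hKf : ∀ i, flat A (K.X i)) :
    IsIso ((Derived.α (ModuleCat.extendScalars.{u, u, u} φ)).app K) := by
  obtain ⟨G, s, hG, hGp, hs⟩ := Resolve.exists_resolution good_free projective_of_free' (K := K) (b := b)
    (fun i hi => HomologicalComplex.ExactAt.of_isZero (hK i hi))
    (fun n E φ _ _ _ _ => exists_free_cover' _)
  have := isKProjective_of_bounds projective_of_free' hG hGp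
  have h1 := Derived.isIso_α (ModuleCat.extendScalars.{u, u, u} φ) G
  have h2 : IsIso (DerivedCategory.Q.map s) := Localization.inverts DerivedCategory.Q
    (HomologicalComplex.quasiIso (ModuleCat.{u} A) (ComplexShape.up ℤ)) _ hs
  have h3 := isIso_ext_map φ s b hG hK (fun i => flat_of_free _ (hGp i)) hKf
  have hnat := (Derived.α (ModuleCat.extendScalars.{u, u, u} φ)).naturality s
  have h4 : IsIso ((DerivedCategory.Q ⋙ Derived.LF (ModuleCat.extendScalars.{u, u, u} φ)).map s) :=
    inferInstanceAs (IsIso ((Derived.LF (ModuleCat.extendScalars.{u, u, u} φ)).map (DerivedCategory.Q.map s)))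
  have h5 : IsIso ((Derived.cxQ (ModuleCat.extendScalars.{u, u, u} φ)).map s) := h3
  exact IsIso.of_isIso_fac_left hnat

/-- Derived base change of a bounded above complex of flat modules is termwise. -/
noncomputable def bcFlat (K : CochainComplex (ModuleCat.{u} A) ℤ) (b : ℤ)
    (hK : ∀ i, b < i → IsZero (K.X i)) (hKf : ∀ i, flat A (K.X i)) :
    (DRing.LBaseChange φ).obj (DerivedCategory.Q.obj K) ≅ DerivedCategory.Q.obj ((ext φ).obj K) :=
  haveI := isIso_α_of_flat φ K b hK hKf
  asIso ((Derived.α (ModuleCat.extendScalars.{u, u, u} φ)).app K)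

variable {P : ObjectProperty (ModuleCat.{u} A)} {P' : ObjectProperty (ModuleCat.{u} B)}
  (hP : ∀ M, P M → flat A M)
  (hPP' : ∀ M, P M → P' ((ModuleCat.extendScalars.{u, u, u} φ).obj M))

include hP hPP' in
theorem bdd_LBaseChange {a b : ℤ} {X : Dual.D A} (h : Bdd P a b X) :
    Bdd P' a b ((DRing.LBaseChange φ).obj X) := by
  obtain ⟨E, hE, hp, ⟨e⟩⟩ := h
  exact ⟨(ext φ).obj E, fun i hi => (ModuleCat.extendScalars.{u, u, u} φ).map_isZero (hE i hi),
    fun i => hPP' _ (hp i), ⟨(bcFlat φ E b (fun i hi => hE i (Or.inr hi)) fun i => hP _ (hp i)).symm ≪≫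
      (DRing.LBaseChange φ).mapIso e⟩⟩

include hP hPP' in
theorem ba_LBaseChange {b : ℤ} {X : Dual.D A} (h : BA P b X) :
    BA P' b ((DRing.LBaseChange φ).obj X) := by
  obtain ⟨E, hE, hp, ⟨e⟩⟩ := h
  exact ⟨(ext φ).obj E, fun i hi => (ModuleCat.extendScalars.{u, u, u} φ).map_isZero (hE i hi),
    fun i => hPP' _ (hp i), ⟨(bcFlat φ E b hE fun i => hP _ (hp i)).symm ≪≫
      (DRing.LBaseChange φ).mapIso e⟩⟩

end Groth.Agent.Lib.DR.BaseChange
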