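import Groth.Agent.Lib.DR.ExactPush
import Groth.Agent.Lib.DR.BaseChange
import Mathlib.Algebra.Category.ModuleCat.Descent

/-!
# Flat base change of modules and pseudo-coherence, perfectness, tor amplitude
-/

universe u

open CategoryTheory CategoryTheory.Limits CategoryTheory.Pretriangulated TensorProduct
open Groth.Agent.Lib.DR
open Groth.Agent.Lib.DR.Basic Groth.Agent.Lib.DR.FiniteComplex Groth.Agent.Lib.DR.PseudoCoherent
open Groth.Agent.Lib.DR.Representative

attribute [local instance] HasDerivedCategory.standard

namespace Groth.Agent.Lib.DR.FlatBC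

variable (A B : Type u) [CommRing A] [CommRing B] [Algebra A B]

/-- `B` as the restriction of itself. -/
noncomputable def resEquiv :
    (ModuleCat.restrictScalars.{u} (algebraMap A B)).obj (ModuleCat.of B B) ≃ₗ[A] B :=
  { (AddEquiv.refl B) with
    map_smul' := fun r x => (Algebra.smul_def r (show B from x)).symm }

variable (M : Type u) [AddCommGroup M] [Module A M]

/-- Extension of scalars is `B ⊗ -`. -/
noncomputable def extEquiv :
    (ModuleCat.extendScalars.{u, u, u} (algebraMap A B)).obj (ModuleCat.of A M) ≃ₗ[B] B ⊗[A] M :=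
  let g : (ModuleCat.extendScalars.{u, u, u} (algebraMap A B)).obj (ModuleCat.of A M) ≃+ B ⊗[A] M :=
    (TensorProduct.congr (resEquiv A B) (LinearEquiv.refl A M)).toAddEquiv
  AddEquiv.toLinearEquiv g fun b x => by
    refine TensorProduct.induction_on x ?_ (fun y m => rfl) ?_
    · exact (congrArg g (smul_zero (A := (ModuleCat.extendScalars.{u, u, u} (algebraMap A B)).obj
        (ModuleCat.of A M)) b)).trans ((map_zero g).trans
          ((smul_zero (A := B ⊗[A] M) b).symm.trans (congrArg (b • ·) (map_zero g).symm)))
    · intro x y hx hy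
      exact (congrArg g (smul_add (A := (ModuleCat.extendScalars.{u, u, u} (algebraMap A B)).obj
        (ModuleCat.of A M)) b x y)).trans ((map_add g _ _).trans ((congrArg₂ (· + ·) hx hy).trans
          ((smul_add (A := B ⊗[A] M) b (g x) (g y)).symm.trans (congrArg (b • ·) (map_add g _ _).symm))))

variable {A B M}

instance preservesFiniteLimits [Module.Flat A B] :
    PreservesFiniteLimits (ModuleCat.extendScalars.{u, u, u} (algebraMap A B)) :=
  ModuleCat.preservesFiniteLimits_extendScalars_of_flat (RingHom.flat_algebraMap_iff.2 inferInstance)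

instance preservesFiniteColimits :
    PreservesFiniteColimits (ModuleCat.extendScalars.{u, u, u} (algebraMap A B)) :=
  have : PreservesColimitsOfSize.{0, 0} (ModuleCat.extendScalars.{u, u, u} (algebraMap A B)) :=
    (ModuleCat.extendRestrictScalarsAdj.{u} (algebraMap A B)).leftAdjoint_preservesColimits
  PreservesColimitsOfSize.preservesFiniteColimits _

variable [Module.Flat A B]

/-- Derived flat base change of `M[0]`. -/
noncomputable def mapInD :
    (ModuleCat.extendScalars.{u, u, u} (algebraMap A B)).mapDerivedCategory.obj (Dual.inD A M) ≅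
      Dual.inD B (B ⊗[A] M) :=
  ExactPush.mapSingle _ (ModuleCat.of A M) 0 ≪≫
    (DerivedCategory.singleFunctor (ModuleCat.{u} B) 0).mapIso (extEquiv A B M).toModuleIso

variable {P : ObjectProperty (ModuleCat.{u} A)} {P' : ObjectProperty (ModuleCat.{u} B)}
  (hPP' : ∀ N, P N → P' ((ModuleCat.extendScalars.{u, u, u} (algebraMap A B)).obj N))

include hPP' in
theorem bdd_inD {a b : ℤ} (h : Bdd P a b (Dual.inD A M)) : Bdd P' a b (Dual.inD B (B ⊗[A] M)) :=
  (ExactPush.bdd_map _ hPP' h).of_iso mapInD

include hPP' in
theorem pcn_inD {m : ℤ} (h : PCn P m (Dual.inD A M)) : PCn P' m (Dual.inD B (B ⊗[A] M)) :=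
  (ExactPush.pcn_map _ hPP' h).of_iso mapInD

end Groth.Agent.Lib.DR.FlatBC
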