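import Groth.Agent.Lib.DR.Basic
import Mathlib.Algebra.Homology.Embedding.StupidTrunc
import Mathlib.Algebra.Homology.HomotopyCategory.KProjective
import Mathlib.CategoryTheory.Triangulated.TriangleShift

/-!
# Objects represented by bounded complexes with terms in a class `P`, and `P`-pseudo-coherence
-/

universe w v u

open CategoryTheory CategoryTheory.Limits CategoryTheory.Pretriangulated
open Groth.Agent.Lib.DR.Basic
open scoped ZeroObject

namespace Groth.Agent.Lib.DR.FiniteComplex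

variable {C : Type u} [Category.{v} C] [Abelian C]

/-- Closure conditions on a class of objects. -/
structure Good (P : ObjectProperty C) : Prop where
  zero : ∀ {X : C}, IsZero X → P X
  biprod : ∀ {X Y : C}, P X → P Y → P (X ⊞ Y)
  iso : ∀ {X Y : C}, (X ≅ Y) → P X → P Y

variable [HasDerivedCategory.{w} C]

/-- `X` is represented by a complex with terms in `P` vanishing outside `[a, b]`. -/
def Bdd (P : ObjectProperty C) (a b : ℤ) (X : DerivedCategory C) : Prop :=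
  ∃ E : CochainComplex C ℤ, (∀ i, i < a ∨ b < i → IsZero (E.X i)) ∧ (∀ i, P (E.X i)) ∧
    Nonempty (DerivedCategory.Q.obj E ≅ X)

variable {P : ObjectProperty C}

lemma Bdd.mono {a b a' b' : ℤ} {X : DerivedCategory C} (h : Bdd P a b X) (ha : a' ≤ a)
    (hb : b ≤ b') : Bdd P a' b' X :=
  let ⟨E, hE, hP, e⟩ := h
  ⟨E, fun i hi => hE i (by lia), hP, e⟩

lemma Bdd.of_iso {a b : ℤ} {X Y : DerivedCategory C} (h : Bdd P a b X) (e : X ≅ Y) : Bdd P a b Y :=
  let ⟨E, hE, hP, ⟨e'⟩⟩ := h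
  ⟨E, hE, hP, ⟨e' ≪≫ e⟩⟩

lemma Bdd.of_le {P' : ObjectProperty C} (hPP' : ∀ X, P X → P' X) {a b : ℤ} {X : DerivedCategory C}
    (h : Bdd P a b X) : Bdd P' a b X :=
  let ⟨E, hE, hP, e⟩ := h
  ⟨E, hE, fun i => hPP' _ (hP i), e⟩

lemma Bdd.isLE {a b : ℤ} {X : DerivedCategory C} (h : Bdd P a b X) : X.IsLE b :=
  let ⟨E, hE, _, ⟨e⟩⟩ := h
  isLE_of_iso' e (isLE_Q_of_isZero E b fun i hi => hE i (Or.inr hi))

lemma Bdd.isGE {a b : ℤ} {X : DerivedCategory C} (h : Bdd P a b X) : X.IsGE a :=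
  let ⟨E, hE, _, ⟨e⟩⟩ := h
  isGE_of_iso' e (isGE_Q_of_isZero E a fun i hi => hE i (Or.inl hi))

lemma bdd_zero (hP : Good P) {X : DerivedCategory C} (hX : IsZero X) (a b : ℤ) : Bdd P a b X := by
  have hz : IsZero (0 : CochainComplex C ℤ) := isZero_zero _
  have h : ∀ i, IsZero ((0 : CochainComplex C ℤ).X i) := fun i =>
    Functor.map_isZero (HomologicalComplex.eval C (.up ℤ) i) hz
  exact ⟨0, fun i _ => h i, fun i => hP.zero (h i), ⟨(Functor.map_isZero _ hz).iso hX⟩⟩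

lemma bdd_single (hP : Good P) {M : C} (hM : P M) (n : ℤ) :
    Bdd P n n ((DerivedCategory.singleFunctor C n).obj M) := by
  have hz : ∀ i, i ≠ n → IsZero ((((CochainComplex.singleFunctor C n).obj M)).X i) :=
    fun i hi => HomologicalComplex.isZero_single_obj_X _ _ _ i hi
  refine ⟨(CochainComplex.singleFunctor C n).obj M, fun i hi => hz i (by lia), fun i => ?_,
    ⟨((DerivedCategory.singleFunctorIsoCompQ C n).app M).symm⟩⟩
  by_cases h : i = n
  · subst h
    exact hP.iso (HomologicalComplex.singleObjXSelf (ComplexShape.up ℤ) i M).symm hM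
  · exact hP.zero (hz i h)

lemma Bdd.shift (hP : Good P) {a b : ℤ} {X : DerivedCategory C} (h : Bdd P a b X) (k a' b' : ℤ)
    (ha : a' + k = a) (hb : b' + k = b) : Bdd P a' b' (X⟦k⟧) := by
  obtain ⟨E, hE, hp, ⟨e⟩⟩ := h
  refine ⟨E⟦k⟧, fun i hi => ?_, fun i => ?_,
    ⟨(DerivedCategory.Q.commShiftIso k).app E ≪≫ (shiftFunctor _ k).mapIso e⟩⟩
  · exact (hE (i + k) (by lia)).of_iso (E.shiftFunctorObjXIso k i _ rfl)
  · exact hP.iso (E.shiftFunctorObjXIso k i _ rfl).symm (hp _)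

omit [HasDerivedCategory C] in
/-- Bounded complexes with projective terms are K-projective. -/
lemma isKProjective_of_bounds (hproj : ∀ X, P X → Projective X) {E : CochainComplex C ℤ} {b : ℤ}
    (hE : ∀ i, b < i → IsZero (E.X i)) (hp : ∀ i, P (E.X i)) : E.IsKProjective :=
  have : E.IsStrictlyLE b := (E.isStrictlyLE_iff b).2 hE
  have : ∀ n, Projective (E.X n) := fun n => hproj _ (hp n)
  CochainComplex.isKProjective_of_projective E b

lemma bdd_mappingCone (hP : Good P) {E F : CochainComplex C ℤ} (φ : E ⟶ F) {a b c d A B : ℤ}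
    (hE : ∀ i, i < a ∨ b < i → IsZero (E.X i)) (hEp : ∀ i, P (E.X i))
    (hF : ∀ i, i < c ∨ d < i → IsZero (F.X i)) (hFp : ∀ i, P (F.X i))
    (hA : A + 1 ≤ a) (hA' : A ≤ c) (hB : b ≤ B + 1) (hB' : d ≤ B) :
    Bdd P A B (DerivedCategory.Q.obj (CochainComplex.mappingCone φ)) := by
  refine ⟨CochainComplex.mappingCone φ, fun i hi => ?_, fun i => ?_, ⟨Iso.refl _⟩⟩
  · refine IsZero.of_iso ?_ (HomologicalComplex.homotopyCofiber.XIsoBiprod φ i (i + 1) rfl)
    rw [biprod_isZero_iff]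
    exact ⟨hE _ (by lia), hF _ (by lia)⟩
  · exact hP.iso (HomologicalComplex.homotopyCofiber.XIsoBiprod φ i (i + 1) rfl).symm
      (hP.biprod (hEp _) (hFp _))

/-- The cone of a morphism between bounded complexes of projectives in `P` is again one. -/
lemma Bdd.cone (hP : Good P) (hproj : ∀ X, P X → Projective X) (T : Triangle (DerivedCategory C))
    (hT : T ∈ distTriang _) {a b c d A B : ℤ} (h₁ : Bdd P a b T.obj₁) (h₂ : Bdd P c d T.obj₂)
    (hA : A + 1 ≤ a) (hA' : A ≤ c) (hB : b ≤ B + 1) (hB' : d ≤ B) : Bdd P A B T.obj₃ := by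
  obtain ⟨E, hE, hEp, ⟨e⟩⟩ := h₁
  obtain ⟨F, hF, hFp, ⟨e'⟩⟩ := h₂
  have := isKProjective_of_bounds hproj (fun i hi => hE i (Or.inr hi)) hEp
  obtain ⟨φ, hφ⟩ := exists_Q_map_eq (e.hom ≫ T.mor₁ ≫ e'.inv)
  obtain ⟨iso, -⟩ := exists_iso_of_arrow_iso _ _
    (DerivedCategory.mappingCone_triangle_distinguished φ) hT
    (Arrow.isoMk e e' (by
      change e.hom ≫ T.mor₁ = DerivedCategory.Q.map φ ≫ e'.hom
      rw [hφ]
      simp))
  exact (bdd_mappingCone hP φ hE hEp hF hFp hA hA' hB hB').of_iso (Triangle.π₃.mapIso iso)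

lemma Bdd.ext (hP : Good P) (hproj : ∀ X, P X → Projective X) (T : Triangle (DerivedCategory C))
    (hT : T ∈ distTriang _) {a b : ℤ} (h₁ : Bdd P a b T.obj₁) (h₃ : Bdd P a b T.obj₃) :
    Bdd P a b T.obj₂ :=
  Bdd.cone hP hproj _ (inv_rot_of_distTriang _ hT)
    (h₃.shift hP (-1) (a + 1) (b + 1) (by lia) (by lia)) h₁
    (show a + 1 ≤ a + 1 by lia) le_rfl (show b + 1 ≤ b + 1 by lia) le_rfl

omit [HasDerivedCategory C] in
lemma eqToHom_d (E : CochainComplex C ℤ) {a b i j : ℤ} (ha : a = i) (hb : b = j) :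
    eqToHom (congrArg E.X ha) ≫ E.d i j = E.d a b ≫ eqToHom (congrArg E.X hb) := by
  subst ha hb
  simp

/-- Stupid truncation. -/
lemma exists_stupidTrunc (hP : Good P) (E : CochainComplex C ℤ) (n : ℤ) (hp : ∀ i, P (E.X i)) :
    ∃ (S : CochainComplex C ℤ) (φ : S ⟶ E), (∀ i, i < n → IsZero (S.X i)) ∧ (∀ i, P (S.X i)) ∧
      (∀ i, IsZero (E.X i) → IsZero (S.X i)) ∧ (∀ i, n ≤ i → IsIso (φ.f i)) ∧
      ConeLE (DerivedCategory.Q.map φ) (n - 1) := by
  let e := ComplexShape.embeddingUpIntGE n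
  let S := E.stupidTrunc e
  have hz : ∀ i, i < n → IsZero (S.X i) := fun i hi =>
    E.isZero_stupidTrunc_X e i fun k (hk : n + (k : ℤ) = i) => by lia
  have hi : ∀ i, n ≤ i → e.f (i - n).toNat = i := fun i hi => show n + ((i - n).toNat : ℤ) = i by lia
  let f : ∀ i, S.X i ⟶ E.X i := fun i =>
    if h : n ≤ i then (E.stupidTruncXIso e (hi i h)).hom else 0
  let φ : S ⟶ E :=
    { f := f
      comm' := by
        intro i j (hij : i + 1 = j)
        by_cases h : n ≤ i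
        · have h' : n ≤ j := by lia
          simp only [f, dif_pos h, dif_pos h']
          dsimp [S, HomologicalComplex.stupidTrunc, HomologicalComplex.stupidTruncXIso]
          rw [(E.restriction e).extend_d_eq e (hi i h) (hi j h')]
          simp only [Iso.trans_hom, eqToIso.hom, Category.assoc, Iso.inv_hom_id_assoc]
          congr 1
          exact eqToHom_d E (hi i h) (hi j h')
        · exact (hz i (not_le.1 h)).eq_of_src _ _ }
  have hφ : ∀ i, n ≤ i → IsIso (φ.f i) := fun i h => by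
    simp only [φ, f, dif_pos h]
    infer_instance
  have hmono : ∀ i, Mono (φ.f i) := fun i => by
    by_cases h : n ≤ i
    · have := hφ i h
      infer_instance
    · exact ⟨fun _ _ _ => (hz i (not_le.1 h)).eq_of_tgt _ _⟩
  have : Mono φ := HomologicalComplex.mono_of_mono_f φ hmono
  let T := ShortComplex.mk φ (cokernel.π φ) (cokernel.condition φ)
  have hT : T.ShortExact := { exact := ShortComplex.exact_of_g_is_cokernel _ (cokernelIsCokernel φ) }
  have hC : ∀ i, n ≤ i → IsZero ((cokernel φ).X i) := fun i h => by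
    have := hφ i h
    have h0 : (cokernel.π φ).f i = 0 := by
      rw [← cancel_epi (φ.f i), ← HomologicalComplex.comp_f, cokernel.condition]
      simp
    have : Epi ((cokernel.π φ).f i) :=
      inferInstanceAs (Epi ((HomologicalComplex.eval C (.up ℤ) i).map (cokernel.π φ)))
    exact IsZero.of_epi_eq_zero _ h0
  refine ⟨S, φ, hz, fun i => ?_, fun i hE => ?_, hφ, ?_⟩
  · by_cases h : n ≤ i
    · exact hP.iso (E.stupidTruncXIso e (hi i h)).symm (hp i)
    · exact hP.zero (hz i (not_le.1 h))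
  · by_cases h : n ≤ i
    · exact hE.of_iso (E.stupidTruncXIso e (hi i h))
    · exact hz i (not_le.1 h)
  · exact coneLE_of_triangle _ (DerivedCategory.triangleOfSES_distinguished hT)
      (isLE_Q_of_isZero _ _ fun i hi => hC i (by lia))

/-- `X` is `m`-pseudo-coherent relative to the class `P`. -/
def PCn (P : ObjectProperty C) (m : ℤ) (X : DerivedCategory C) : Prop :=
  ∃ (E : CochainComplex C ℤ) (a b : ℤ) (f : DerivedCategory.Q.obj E ⟶ X),
    (∀ i, i < a ∨ b < i → IsZero (E.X i)) ∧ (∀ i, P (E.X i)) ∧ ConeLE f (m - 1)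

lemma Bdd.pcn {a b : ℤ} {X : DerivedCategory C} (h : Bdd P a b X) (m : ℤ) : PCn P m X :=
  let ⟨E, hE, hp, ⟨e⟩⟩ := h
  ⟨E, a, b, e.hom, hE, hp, coneLE_of_isIso _ _⟩

lemma PCn.mono {m m' : ℤ} {X : DerivedCategory C} (h : PCn P m X) (hm : m ≤ m') : PCn P m' X :=
  let ⟨E, a, b, f, hE, hp, hf⟩ := h
  ⟨E, a, b, f, hE, hp, hf.mono (by lia)⟩

lemma PCn.trans {m : ℤ} {X Y : DerivedCategory C} (hX : PCn P m X) {f : X ⟶ Y}
    (hf : ConeLE f (m - 1)) : PCn P m Y :=
  let ⟨E, a, b, g, hE, hp, hg⟩ := hX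
  ⟨E, a, b, g ≫ f, hE, hp, hg.comp hf⟩

lemma PCn.of_iso {m : ℤ} {X Y : DerivedCategory C} (hX : PCn P m X) (e : X ≅ Y) : PCn P m Y :=
  hX.trans (coneLE_of_isIso e.hom _)

lemma pcn_of_isLE (hP : Good P) {m : ℤ} {X : DerivedCategory C} (hX : X.IsLE (m - 1)) :
    PCn P m X := by
  obtain ⟨E, hE, hp, ⟨e⟩⟩ := bdd_zero hP (isZero_zero (DerivedCategory C)) 0 0
  exact ⟨E, 0, 0, 0, hE, hp,
    coneLE_of_isLE _ (isLE_of_iso' e.symm (isLE_of_isZero (isZero_zero _) _)) hX⟩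

lemma PCn.exists_isLE {m : ℤ} {X : DerivedCategory C} (h : PCn P m X) : ∃ b, X.IsLE b := by
  obtain ⟨E, a, b, f, hE, _, hf⟩ := h
  refine ⟨max b (m - 1), (hf.mono (le_max_right b (m - 1))).isLE_target ?_⟩
  exact isLE_Q_of_isZero E _ fun i hi => hE i (Or.inr (by lia))

lemma PCn.exists_truncated (hP : Good P) {m : ℤ} {X : DerivedCategory C} (h : PCn P m X) :
    ∃ (E : CochainComplex C ℤ) (b : ℤ) (f : DerivedCategory.Q.obj E ⟶ X), m ≤ b ∧
      (∀ i, i < m ∨ b < i → IsZero (E.X i)) ∧ (∀ i, P (E.X i)) ∧ ConeLE f (m - 1) := by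
  obtain ⟨E, a, b, f, hE, hp, hf⟩ := h
  obtain ⟨S, φ, hz, hSp, hSz, -, hφ⟩ := exists_stupidTrunc hP E m hp
  refine ⟨S, max b m, DerivedCategory.Q.map φ ≫ f, le_max_right _ _, fun i hi => ?_, hSp, hφ.comp hf⟩
  rcases hi with hi | hi
  · exact hz i hi
  · exact hSz i (hE i (Or.inr (by lia)))

lemma PCn.shift (hP : Good P) {m : ℤ} {X : DerivedCategory C} (h : PCn P m X) (k m' : ℤ)
    (hm : m' + k = m) : PCn P m' (X⟦k⟧) := by
  obtain ⟨E, a, b, f, hE, hp, Z, g, δ, hd, hZ⟩ := h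
  obtain ⟨E', hE', hp', ⟨e⟩⟩ := Bdd.shift hP (X := DerivedCategory.Q.obj E)
    ⟨E, hE, hp, ⟨Iso.refl _⟩⟩ k (a - k) (b - k) (by lia) (by lia)
  have hT := Triangle.shift_distinguished _ hd k
  have hc := coneLE_of_triangle _ hT (n := m' - 1)
    ((isLE_shift_iff' Z k (m - 1) (m' - 1) (by lia)).2 hZ)
  exact ⟨E', a - k, b - k, _, hE', hp', hc.iso_comp e⟩

lemma pcn_shift_iff (hP : Good P) {X : DerivedCategory C} (m k m' : ℤ) (hm : m' + k = m) :
    PCn P m' (X⟦k⟧) ↔ PCn P m X :=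
  ⟨fun h => (h.shift hP (-k) m (by lia)).of_iso ((shiftEquiv _ k).unitIso.symm.app X),
    fun h => h.shift hP k m' hm⟩

/-- If `X` is `(m+1)`- and `Y` is `m`-pseudo-coherent, the cone of `X ⟶ Y` is `m`-pseudo-coherent. -/
lemma PCn.cone (hP : Good P) (hproj : ∀ X, P X → Projective X) (T : Triangle (DerivedCategory C))
    (hT : T ∈ distTriang _) {m : ℤ} (h₁ : PCn P (m + 1) T.obj₁) (h₂ : PCn P m T.obj₂) :
    PCn P m T.obj₃ := by
  obtain ⟨E, b, fE, hb, hE, hEp, CE, gE, δE, hdE, hCE⟩ := h₁.exists_truncated hP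
  obtain ⟨F, c, d, fF, hF, hFp, CF, gF, δF, hdF, hCF⟩ := h₂
  have := isKProjective_of_bounds hproj (fun i hi => hE i (Or.inr hi)) hEp
  have hzero : (fE ≫ T.mor₁) ≫ gF = 0 :=
    hom_eq_zero_of_isKProjective (fun i hi => hE i (Or.inl hi)) (isLE_mono hCF (by lia)) _
  obtain ⟨g, hg⟩ := Triangle.coyoneda_exact₂ _ hdF (fE ≫ T.mor₁) hzero
  obtain ⟨G, p, δG, hdG⟩ := distinguished_cocone_triangle g
  have hG : Bdd P (min m c) (max b d) G := Bdd.cone hP hproj _ hdG
    ⟨E, hE, hEp, ⟨Iso.refl _⟩⟩ ⟨F, hF, hFp, ⟨Iso.refl _⟩⟩ (by lia) (by lia) (by lia) (by lia)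
  obtain ⟨D, q, δD, hdD⟩ := distinguished_cocone_triangle (fE ≫ T.mor₁)
  let O₁ := Triangulated.someOctahedron rfl hdE hT hdD
  let O₂ := Triangulated.someOctahedron hg.symm hdG hdF hdD
  have c₁ : ConeLE O₁.m₃ (m - 1) := coneLE_of_triangle _ (rot_of_distTriang _ O₁.mem)
    ((isLE_shift_iff' CE 1 m (m - 1) (by lia)).2 (by simpa using hCE))
  have c₂ : ConeLE O₂.m₁ (m - 1) := coneLE_of_triangle _ O₂.mem hCF
  exact (hG.pcn m).trans (c₂.comp c₁)

lemma PCn.ext (hP : Good P) (hproj : ∀ X, P X → Projective X) (T : Triangle (DerivedCategory C))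
    (hT : T ∈ distTriang _) {m : ℤ} (h₁ : PCn P m T.obj₁) (h₃ : PCn P m T.obj₃) :
    PCn P m T.obj₂ :=
  PCn.cone hP hproj _ (inv_rot_of_distTriang _ hT) (h₃.shift hP (-1) (m + 1) (by lia)) h₁

lemma PCn.fiber (hP : Good P) (hproj : ∀ X, P X → Projective X) (T : Triangle (DerivedCategory C))
    (hT : T ∈ distTriang _) {m : ℤ} (h₂ : PCn P m T.obj₂) (h₃ : PCn P (m - 1) T.obj₃) :
    PCn P m T.obj₁ :=
  PCn.ext hP hproj _ (inv_rot_of_distTriang _ hT) (h₃.shift hP (-1) m (by lia)) h₂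

lemma isLE_of_retract {X Y : DerivedCategory C} (r : Retract X Y) {n : ℤ} (h : Y.IsLE n) :
    X.IsLE n := by
  rw [DerivedCategory.isLE_iff] at h ⊢
  intro i hi
  exact IsZero.of_mono ((r.map (DerivedCategory.homologyFunctor C i)).i) (h i hi)

lemma PCn.biprod_summands (hP : Good P) (hproj : ∀ X, P X → Projective X) {m : ℤ}
    {X Y : DerivedCategory C} (h : PCn P m (X ⊞ Y)) : PCn P m X ∧ PCn P m Y := by
  obtain ⟨b, hb⟩ := h.exists_isLE
  suffices ∀ k : ℕ, ∀ j, m ≤ j → b + 1 ≤ j + k → PCn P j X ∧ PCn P j Y from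
    this (b + 1 - m).toNat m le_rfl (by lia)
  intro k
  induction k with
  | zero =>
    intro j hj hj'
    have hXY : (X ⊞ Y).IsLE (j - 1) := isLE_mono hb (by lia)
    exact ⟨pcn_of_isLE hP (isLE_of_retract ⟨biprod.inl, biprod.fst, biprod.inl_fst⟩ hXY),
      pcn_of_isLE hP (isLE_of_retract ⟨biprod.inr, biprod.snd, biprod.inr_snd⟩ hXY)⟩
  | succ k ih =>
    intro j hj hj'
    obtain ⟨hX, hY⟩ := ih (j + 1) (by lia) (by lia)
    have hXY : PCn P j (X ⊞ Y) := h.mono hj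
    exact ⟨PCn.cone hP hproj _ (binaryBiproductTriangle_distinguished Y X) hY
        (hXY.of_iso (biprod.braiding X Y)),
      PCn.cone hP hproj _ (binaryBiproductTriangle_distinguished X Y) hX hXY⟩

lemma PCn.biprod (hP : Good P) (hproj : ∀ X, P X → Projective X) {m : ℤ}
    {X Y : DerivedCategory C} (hX : PCn P m X) (hY : PCn P m Y) : PCn P m (X ⊞ Y) :=
  PCn.ext hP hproj _ (binaryBiproductTriangle_distinguished X Y) hX hY

/-- Truncation criterion: peel cohomology from the top. -/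
lemma pcn_of_homology (hP : Good P) (hproj : ∀ X, P X → Projective X) {m : ℤ}
    {X : DerivedCategory C} {b : ℤ} (hb : X.IsLE b)
    (h : ∀ i, m ≤ i → i ≤ b →
      PCn P m ((DerivedCategory.singleFunctor C i).obj ((DerivedCategory.homologyFunctor C i).obj X))) :
    PCn P m X := by
  suffices ∀ (k : ℕ) (b : ℤ) (X : DerivedCategory C), b + 1 ≤ m + k → X.IsLE b →
      (∀ i, m ≤ i → i ≤ b → PCn P m ((DerivedCategory.singleFunctor C i).obj
        ((DerivedCategory.homologyFunctor C i).obj X))) → PCn P m X from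
    this (b + 1 - m).toNat b X (by lia) hb h
  intro k
  induction k with
  | zero => intro b X hk hX _; exact pcn_of_isLE hP (isLE_mono hX (by lia))
  | succ k ih =>
    intro b X hk hX h
    by_cases hbm : b < m
    · exact pcn_of_isLE hP (isLE_mono hX (by lia))
    obtain ⟨Q, M, f, g, δ, hd, hQ, ⟨e⟩, hiso⟩ := exists_peel_top X b hX
    refine PCn.ext hP hproj _ hd (ih (b - 1) Q (by lia) hQ fun i hi hi' => ?_)
      ((h b (by lia) le_rfl).of_iso ((DerivedCategory.singleFunctor C b).mapIso e))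
    have := hiso i (by lia)
    exact (h i hi (by lia)).of_iso ((DerivedCategory.singleFunctor C i).mapIso
      (asIso ((DerivedCategory.homologyFunctor C i).map f)).symm)

end Groth.Agent.Lib.DR.FiniteComplex
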