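import Groth.Prelude.Def_DRing2
import Groth.Agent.Lib.DR.FiniteComplex
import Mathlib.Algebra.Category.ModuleCat.Biproducts
import Mathlib.Algebra.Module.FinitePresentation
import Mathlib.RingTheory.Noetherian.Basic
import Mathlib.RingTheory.Finiteness.Prod
import Mathlib.LinearAlgebra.FreeModule.Finite.Basic
import Mathlib.Algebra.Homology.DerivedCategory.SingleTriangle

/-!
# Pseudo-coherence in `D(A)` for the frozen predicates of `Def_DRing2`
-/

universe u

open CategoryTheory CategoryTheory.Limits CategoryTheory.Pretriangulated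
open Groth.Agent.Lib.DR.Basic Groth.Agent.Lib.DR.FiniteComplex

attribute [local instance] HasDerivedCategory.standard

namespace Groth.Agent.Lib.DR.PseudoCoherent

variable (A : Type u) [CommRing A]

/-- Finite free modules. -/
def ff : ObjectProperty (ModuleCat.{u} A) := fun M => Module.Finite A M ∧ Module.Free A M

/-- Finite projective modules. -/
def fproj : ObjectProperty (ModuleCat.{u} A) := fun M => Module.Finite A M ∧ Module.Projective A M

/-- Projective modules. -/
def proj : ObjectProperty (ModuleCat.{u} A) := fun M => Module.Projective A M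

/-- Flat modules. -/
def flat : ObjectProperty (ModuleCat.{u} A) := fun M => Module.Flat A M

variable {A}

lemma finite_of_subsingleton' (M : Type u) [AddCommGroup M] [Module A M] [Subsingleton M] :
    Module.Finite A M :=
  Module.Finite.of_surjective (0 : A →ₗ[A] M) fun _ => ⟨0, Subsingleton.elim _ _⟩

lemma good_ff : Good (ff A) where
  zero {X} h := by
    have := ModuleCat.subsingleton_of_isZero h
    exact ⟨finite_of_subsingleton' X, Module.Free.of_subsingleton A X⟩
  biprod {X Y} hX hY := by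
    obtain ⟨_, _⟩ := hX
    obtain ⟨_, _⟩ := hY
    let e : (X × Y) ≃ₗ[A] ↑(X ⊞ Y) := (ModuleCat.biprodIsoProd X Y).toLinearEquiv.symm
    exact ⟨Module.Finite.equiv e, Module.Free.of_equiv e⟩
  iso {X Y} e h := by
    obtain ⟨_, _⟩ := h
    exact ⟨Module.Finite.equiv e.toLinearEquiv, Module.Free.of_equiv e.toLinearEquiv⟩

lemma good_fproj : Good (fproj A) where
  zero {X} h := by
    have := ModuleCat.subsingleton_of_isZero h
    have := Module.Free.of_subsingleton A X
    exact ⟨finite_of_subsingleton' X, inferInstance⟩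
  biprod {X Y} hX hY := by
    obtain ⟨_, _⟩ := hX
    obtain ⟨_, _⟩ := hY
    let e : (X × Y) ≃ₗ[A] ↑(X ⊞ Y) := (ModuleCat.biprodIsoProd X Y).toLinearEquiv.symm
    exact ⟨Module.Finite.equiv e, Module.Projective.of_equiv e⟩
  iso {X Y} e h := by
    obtain ⟨_, _⟩ := h
    exact ⟨Module.Finite.equiv e.toLinearEquiv, Module.Projective.of_equiv e.toLinearEquiv⟩

lemma good_proj : Good (proj A) where
  zero {X} h := by
    have := ModuleCat.subsingleton_of_isZero h
    have := Module.Free.of_subsingleton A X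
    exact (inferInstance : Module.Projective A X)
  biprod {X Y} hX hY := by
    have : Module.Projective A X := hX
    have : Module.Projective A Y := hY
    exact Module.Projective.of_equiv (ModuleCat.biprodIsoProd X Y).toLinearEquiv.symm
  iso {X Y} e h :=
    have : Module.Projective A X := h
    Module.Projective.of_equiv e.toLinearEquiv

lemma proj_of_fproj (X : ModuleCat.{u} A) (h : fproj A X) : proj A X := h.2

lemma fproj_of_ff (X : ModuleCat.{u} A) (h : ff A X) : fproj A X :=
  have := h.2
  ⟨h.1, inferInstance⟩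

lemma projective_of_proj (X : ModuleCat.{u} A) (h : proj A X) : Projective X :=
  have : Module.Projective A X := h
  X.projective_of_categoryTheory_projective

lemma projective_of_fproj (X : ModuleCat.{u} A) (h : fproj A X) : Projective X :=
  projective_of_proj X h.2

lemma projective_of_ff (X : ModuleCat.{u} A) (h : ff A X) : Projective X :=
  projective_of_fproj X (fproj_of_ff X h)

lemma isLE_iff_subsingleton (K : Dual.D A) (n : ℤ) :
    DerivedCategory.IsLE K n ↔ ∀ i, n < i → Subsingleton (Dual.HD A K i) := by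
  rw [DerivedCategory.isLE_iff]
  exact ⟨fun h i hi => ModuleCat.subsingleton_of_isZero (h i hi),
    fun h i hi => @ModuleCat.isZero_of_subsingleton _ _ _ (h i hi)⟩

lemma isGE_iff_subsingleton (K : Dual.D A) (n : ℤ) :
    DerivedCategory.IsGE K n ↔ ∀ i, i < n → Subsingleton (Dual.HD A K i) := by
  rw [DerivedCategory.isGE_iff]
  exact ⟨fun h i hi => ModuleCat.subsingleton_of_isZero (h i hi),
    fun h i hi => @ModuleCat.isZero_of_subsingleton _ _ _ (h i hi)⟩

lemma isPseudoCoherent_iff (m : ℤ) (K : Dual.D A) :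
    DRing.IsPseudoCoherent A m K ↔ PCn (ff A) m K := by
  have key : ∀ {X : Dual.D A} (f : X ⟶ K), ConeLE f (m - 1) ↔
      (∀ i : ℤ, m < i → IsIso ((DerivedCategory.homologyFunctor (ModuleCat.{u} A) i).map f)) ∧
      Epi ((DerivedCategory.homologyFunctor (ModuleCat.{u} A) m).map f) := fun f => by
    obtain ⟨m, rfl⟩ : ∃ m', m = m' + 1 := ⟨m - 1, by lia⟩
    rw [add_sub_cancel_right, coneLE_iff]
  constructor
  · rintro ⟨E, a, b, α, h1, h2, h3⟩
    exact ⟨E, a, b, α, h1, h2, (key α).2 h3⟩
  · rintro ⟨E, a, b, α, h1, h2, h3⟩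
    exact ⟨E, a, b, α, h1, h2, (key α).1 h3⟩

lemma isPerfect_iff (K : Dual.D A) : DRing.IsPerfect A K ↔ ∃ a b, Bdd (fproj A) a b K := by
  constructor
  · rintro ⟨E, a, b, h⟩
    exact ⟨a, b, E, h⟩
  · rintro ⟨a, b, E, h⟩
    exact ⟨E, a, b, h⟩

lemma hasTorAmplitudeIn_iff (a b : ℤ) (K : Dual.D A) :
    DRing.HasTorAmplitudeIn A a b K ↔ Bdd (flat A) a b K := Iff.rfl

/-! ### Single modules -/

/-- `H^n (M[-n]) ≅ M`. -/
noncomputable def homologySingle (M : ModuleCat.{u} A) (n : ℤ) :
    (DerivedCategory.homologyFunctor (ModuleCat.{u} A) n).obj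
      ((DerivedCategory.singleFunctor (ModuleCat.{u} A) n).obj M) ≅ M :=
  (DerivedCategory.singleFunctorCompHomologyFunctorIso (ModuleCat.{u} A) n).app M

/-- Shifting a module placed in some degree. -/
noncomputable def singleShift (M : ModuleCat.{u} A) (k n' n : ℤ) (h : k + n' = n) :
    ((DerivedCategory.singleFunctor (ModuleCat.{u} A) n).obj M)⟦k⟧ ≅
      (DerivedCategory.singleFunctor (ModuleCat.{u} A) n').obj M :=
  ((DerivedCategory.singleFunctors (ModuleCat.{u} A)).shiftIso k n' n h).app M

lemma pcn_single_shift_iff {P : ObjectProperty (ModuleCat.{u} A)} (hP : Good P)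
    (M : ModuleCat.{u} A) (m n : ℤ) :
    PCn P m ((DerivedCategory.singleFunctor (ModuleCat.{u} A) n).obj M) ↔
      PCn P (m - n) ((DerivedCategory.singleFunctor (ModuleCat.{u} A) 0).obj M) :=
  ⟨fun h => (h.shift hP n (m - n) (by lia)).of_iso (singleShift M n 0 n (by lia)),
    fun h => (h.shift hP (-n) m (by lia)).of_iso (singleShift M (-n) n 0 (by lia))⟩

lemma bdd_single_fproj (M : ModuleCat.{u} A) [Module.Finite A M] [Module.Projective A M] (n : ℤ) :
    Bdd (fproj A) n n ((DerivedCategory.singleFunctor (ModuleCat.{u} A) n).obj M) :=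
  bdd_single good_fproj (P := fproj A) ⟨inferInstance, inferInstance⟩ n

lemma exists_free_cover (M : Type u) [AddCommGroup M] [Module A M] [Module.Finite A M] :
    ∃ (F : ModuleCat.{u} A) (π : F ⟶ ModuleCat.of A M), ff A F ∧ Function.Surjective π := by
  obtain ⟨n, f, hf⟩ := Module.Finite.exists_fin' A M
  exact ⟨ModuleCat.of A (Fin n → A), ModuleCat.ofHom f, ⟨inferInstanceAs (Module.Finite A (Fin n → A)),
    inferInstanceAs (Module.Free A (Fin n → A))⟩, hf⟩

lemma coneLE_single_map {M N : ModuleCat.{u} A} (π : M ⟶ N) [Epi π] (n : ℤ) :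
    ConeLE ((DerivedCategory.singleFunctor (ModuleCat.{u} A) n).map π) (n - 1) := by
  rw [coneLE_iff, sub_add_cancel]
  refine ⟨fun i hi => ?_, ?_⟩
  · exact ⟨0, (DerivedCategory.isZero_of_isLE _ n i (by lia)).eq_of_src _ _,
      (DerivedCategory.isZero_of_isLE _ n i (by lia)).eq_of_src _ _⟩
  · have h := (DerivedCategory.singleFunctorCompHomologyFunctorIso (ModuleCat.{u} A) n).hom.naturality π
    have : Epi (((DerivedCategory.singleFunctor (ModuleCat.{u} A) n ⋙
        DerivedCategory.homologyFunctor (ModuleCat.{u} A) n)).map π) :=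
      ((MorphismProperty.epimorphisms (ModuleCat.{u} A)).arrow_mk_iso_iff
        (Arrow.isoMk ((DerivedCategory.singleFunctorCompHomologyFunctorIso _ n).app M)
          ((DerivedCategory.singleFunctorCompHomologyFunctorIso _ n).app N) h.symm)).2
        (MorphismProperty.epimorphisms.infer_property π)
    exact this

lemma pcn_single_of_finite (M : ModuleCat.{u} A) [Module.Finite A M] (n : ℤ) :
    PCn (ff A) n ((DerivedCategory.singleFunctor (ModuleCat.{u} A) n).obj M) := by
  obtain ⟨F, π, hF, hπ⟩ := exists_free_cover (A := A) M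
  have : Epi π := (ModuleCat.epi_iff_surjective π).2 hπ
  exact ((bdd_single good_ff hF n).pcn n).trans (coneLE_single_map π n)

lemma pcn_single_of_finitePresentation (M : ModuleCat.{u} A) [Module.FinitePresentation A M]
    (n : ℤ) : PCn (ff A) (n - 1) ((DerivedCategory.singleFunctor (ModuleCat.{u} A) n).obj M) := by
  rw [pcn_single_shift_iff good_ff, show n - 1 - n = (-1 : ℤ) by lia]
  obtain ⟨F, π, hF, hπ⟩ := exists_free_cover (A := A) M
  have := hF.1
  let S := ShortComplex.moduleCatMk (LinearMap.ker π.hom).subtype π.hom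
    (LinearMap.comp_ker_subtype _)
  have hS : S.ShortExact :=
    { exact := by
        rw [ShortComplex.moduleCat_exact_iff_range_eq_ker]
        exact Submodule.range_subtype _
      mono_f := (ModuleCat.mono_iff_injective _).2 Subtype.val_injective
      epi_g := (ModuleCat.epi_iff_surjective _).2 hπ }
  have : Module.Finite A (LinearMap.ker π.hom) :=
    Module.Finite.iff_fg.2 (Module.FinitePresentation.fg_ker π.hom hπ)
  exact PCn.cone good_ff projective_of_ff _ hS.singleTriangle_distinguished (m := -1)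
    (pcn_single_of_finite (ModuleCat.of A (LinearMap.ker π.hom)) 0)
    ((bdd_single good_ff hF 0).pcn _)

/-! ### The bottom of a bounded complex -/

lemma exists_bottom {P : ObjectProperty (ModuleCat.{u} A)} (hP : Good P) (E : DRing.Cx A)
    (hp : ∀ i, P (E.X i)) (a : ℤ) (ha : ∀ i, i < a → IsZero (E.X i)) :
    ∃ (S : DRing.Cx A) (f : DerivedCategory.Q.obj S ⟶ DerivedCategory.Q.obj E)
      (g : DerivedCategory.Q.obj E ⟶ (DerivedCategory.singleFunctor (ModuleCat.{u} A) a).obj (E.X a))
      (k : (DerivedCategory.singleFunctor (ModuleCat.{u} A) a).obj (E.X a) ⟶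
        (DerivedCategory.Q.obj S)⟦(1 : ℤ)⟧),
      (∀ i, i < a + 1 → IsZero (S.X i)) ∧ (∀ i, P (S.X i)) ∧
      (∀ i, IsZero (E.X i) → IsZero (S.X i)) ∧
      (∀ i, a + 1 ≤ i → Nonempty (S.X i ≅ E.X i)) ∧ Triangle.mk f g k ∈ distTriang _ := by
  obtain ⟨S, φ, hz, hSp, hSz, hiso, -⟩ := exists_stupidTrunc hP E (a + 1) hp
  have hmono : ∀ i, Mono (φ.f i) := fun i => by
    by_cases h : a + 1 ≤ i
    · have := hiso i h
      infer_instance
    · exact ⟨fun _ _ _ => (hz i (not_le.1 h)).eq_of_tgt _ _⟩
  have : Mono φ := HomologicalComplex.mono_of_mono_f φ hmono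
  let T := ShortComplex.mk φ (cokernel.π φ) (cokernel.condition φ)
  have hT : T.ShortExact :=
    { exact := ShortComplex.exact_of_g_is_cokernel _ (cokernelIsCokernel φ) }
  have hTi : ∀ i, (T.map (HomologicalComplex.eval (ModuleCat.{u} A) (.up ℤ) i)).ShortExact :=
    fun i => hT.map_of_exact _
  have hC : ∀ i, i ≠ a → IsZero ((cokernel φ).X i) := fun i hi => by
    have := (hTi i).epi_g
    by_cases h : a + 1 ≤ i
    · have := hiso i h
      refine IsZero.of_epi_eq_zero ((cokernel.π φ).f i) ?_
      rw [← cancel_epi (φ.f i), ← HomologicalComplex.comp_f, cokernel.condition]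
      simp
    · exact IsZero.of_epi ((cokernel.π φ).f i) (ha i (by lia))
  have : (cokernel φ).IsStrictlyGE a :=
    ((cokernel φ).isStrictlyGE_iff a).2 fun i hi => hC i (by lia)
  have : (cokernel φ).IsStrictlyLE a :=
    ((cokernel φ).isStrictlyLE_iff a).2 fun i hi => hC i (by lia)
  obtain ⟨M, ⟨e⟩⟩ := CochainComplex.exists_iso_single (cokernel φ) a
  have : IsIso ((cokernel.π φ).f a) := (hTi a).isIso_g_iff.2 (hz a (by lia))
  let e' : E.X a ≅ M := asIso ((cokernel.π φ).f a) ≪≫
    (HomologicalComplex.eval _ _ a).mapIso e ≪≫ HomologicalComplex.singleObjXSelf (.up ℤ) a M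
  let i₃ : DerivedCategory.Q.obj (cokernel φ) ≅
      (DerivedCategory.singleFunctor (ModuleCat.{u} A) a).obj (E.X a) :=
    DerivedCategory.Q.mapIso e ≪≫ ((DerivedCategory.singleFunctorIsoCompQ _ a).app M).symm ≪≫
      (DerivedCategory.singleFunctor _ a).mapIso e'.symm
  refine ⟨S, DerivedCategory.Q.map φ, DerivedCategory.Q.map (cokernel.π φ) ≫ i₃.hom,
    i₃.inv ≫ DerivedCategory.triangleOfSESδ hT, hz, hSp, hSz,
    fun i hi => have := hiso i hi; ⟨asIso (φ.f i)⟩, ?_⟩
  exact isomorphic_distinguished _ (DerivedCategory.triangleOfSES_distinguished hT) _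
    (Triangle.isoMk _ _ (Iso.refl _) (Iso.refl _) i₃.symm
      ((Category.comp_id _).trans (Category.id_comp _).symm)
      ((Category.assoc _ _ _).trans ((congrArg (DerivedCategory.Q.map (cokernel.π φ) ≫ ·)
        i₃.hom_inv_id).trans ((Category.comp_id _).trans (Category.id_comp _).symm)))
      ((congrArg (_ ≫ ·) ((shiftFunctor (Dual.D A) (1 : ℤ)).map_id _)).trans (Category.comp_id _)))

/-- Induction over bounded complexes. -/
lemma bdd_induction {P : ObjectProperty (ModuleCat.{u} A)} (hP : Good P) (R : Dual.D A → Prop)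
    (hzero : ∀ {X : Dual.D A}, IsZero X → R X)
    (hext : ∀ T : Triangle (Dual.D A), T ∈ distTriang _ → R T.obj₁ → R T.obj₃ → R T.obj₂)
    (E : DRing.Cx A) (a b : ℤ) (hE : ∀ i, i < a ∨ b < i → IsZero (E.X i)) (hp : ∀ i, P (E.X i))
    (hs : ∀ (S : ModuleCat.{u} A) (i : ℤ), a ≤ i → i ≤ b → Nonempty (S ≅ E.X i) →
      R ((DerivedCategory.singleFunctor (ModuleCat.{u} A) i).obj S)) :
    R (DerivedCategory.Q.obj E) := by
  obtain ⟨k, hk⟩ : ∃ k : ℕ, b + 1 ≤ a + k := ⟨(b + 1 - a).toNat, by lia⟩
  induction k generalizing E a with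
  | zero =>
    apply hzero
    exact isZero_of_isLE_of_isGE (a := a - 1) (b := a) (by lia)
      (isLE_Q_of_isZero E (a - 1) fun i hi => hE i (Or.inr (by lia)))
      (isGE_Q_of_isZero E a fun i hi => hE i (Or.inl hi))
  | succ k ih =>
    by_cases hab : a ≤ b
    · obtain ⟨S, f, g, δ, hz, hSp, hSz, hSX, hd⟩ := exists_bottom hP E hp a fun i hi => hE i (Or.inl hi)
      refine hext _ hd (ih S (a + 1) (fun i hi => ?_) hSp (fun M i hi hi' ⟨e⟩ => ?_) (by lia))
        (hs _ a le_rfl hab ⟨Iso.refl _⟩)
      · rcases hi with hi | hi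
        · exact hz i hi
        · exact hSz i (hE i (Or.inr hi))
      · obtain ⟨e'⟩ := hSX i hi
        exact hs M i (by lia) hi' ⟨e ≪≫ e'⟩
    · apply hzero
      exact isZero_of_isLE_of_isGE (a := b) (b := a) (by lia)
        (isLE_Q_of_isZero E b fun i hi => hE i (Or.inr hi))
        (isGE_Q_of_isZero E a fun i hi => hE i (Or.inl hi))

end Groth.Agent.Lib.DR.PseudoCoherent
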