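import Groth.Agent.Lib.DR.BaseChange
import Groth.Agent.Lib.DR.Perfect
import Mathlib.RingTheory.Flat.EquationalCriterion

/-!
# Tor amplitude: flatness of cokernels, truncation, finite projective representatives
-/

universe u

open CategoryTheory CategoryTheory.Limits CategoryTheory.Pretriangulated TensorProduct
open Groth.Agent.Lib.DR
open Groth.Agent.Lib.DR.Basic Groth.Agent.Lib.DR.FiniteComplex Groth.Agent.Lib.DR.PseudoCoherent
open Groth.Agent.Lib.DR.Representative Groth.Agent.Lib.DR.TopCohomology Groth.Agent.Lib.DR.BaseChange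

attribute [local instance] HasDerivedCategory.standard

namespace Groth.Agent.Lib.DR.TorAmp

variable {A : Type u} [CommRing A]

/-- Termwise `- ⊗ M`. -/
noncomputable abbrev tens (M : ModuleCat.{u} A) : DRing.Cx A ⥤ DRing.Cx A :=
  (MonoidalCategory.tensorRight M).mapHomologicalComplex (ComplexShape.up ℤ)

lemma isIso_tens_map (M : ModuleCat.{u} A) {G K : DRing.Cx A} (s : G ⟶ K) (b : ℤ)
    (hG : ∀ i, b < i → IsZero (G.X i)) (hK : ∀ i, b < i → IsZero (K.X i))
    (hGf : ∀ i, flat A (G.X i)) (hKf : ∀ i, flat A (K.X i)) [QuasiIso s] :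
    IsIso (DerivedCategory.Q.map ((tens M).map s)) := by
  have hacy : (CochainComplex.mappingCone s).Acyclic := (quasiIso_iff_acyclic s).1 inferInstance
  have hflat : ∀ i, Module.Flat A ((CochainComplex.mappingCone s).X i) := fun i =>
    good_flat.iso (HomologicalComplex.homotopyCofiber.XIsoBiprod s i (i + 1) rfl).symm
      (good_flat.biprod (hGf (i + 1)) (hKf i))
  have hz : ∀ i, b < i → IsZero ((CochainComplex.mappingCone s).X i) := fun i hi => by
    refine IsZero.of_iso ?_ (HomologicalComplex.homotopyCofiber.XIsoBiprod s i (i + 1) rfl)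
    rw [biprod_isZero_iff]
    exact ⟨hG _ (by lia), hK _ hi⟩
  have h := FlatAcyclic.acyclic_tensorRight M _ hflat b hz hacy
  have : QuasiIso ((tens M).map s) := by
    rw [quasiIso_iff_acyclic]
    intro i
    exact (h i).of_iso (CochainComplex.mappingCone.mapHomologicalComplexIso s _)
  exact Localization.inverts DerivedCategory.Q
    (HomologicalComplex.quasiIso (ModuleCat.{u} A) (ComplexShape.up ℤ)) _ this

/-- Isomorphic bounded above complexes of flat modules stay so after `- ⊗ M`. -/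
lemma nonempty_tens_iso (M : ModuleCat.{u} A) {E P : DRing.Cx A} (b : ℤ)
    (hE : ∀ i, b < i → IsZero (E.X i)) (hP : ∀ i, b < i → IsZero (P.X i))
    (hEf : ∀ i, flat A (E.X i)) (hPf : ∀ i, flat A (P.X i))
    (e : DerivedCategory.Q.obj E ≅ DerivedCategory.Q.obj P) :
    Nonempty (DerivedCategory.Q.obj ((tens M).obj E) ≅ DerivedCategory.Q.obj ((tens M).obj P)) := by
  obtain ⟨G, s, hG, hGp, hs⟩ := Resolve.exists_resolution good_free projective_of_free' (K := E) (b := b)
    (fun i hi => HomologicalComplex.ExactAt.of_isZero (hE i hi))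
    (fun n E φ _ _ _ _ => exists_free_cover' _)
  have := isKProjective_of_bounds projective_of_free' hG hGp
  obtain ⟨g, hg⟩ := exists_Q_map_eq (DerivedCategory.Q.map s ≫ e.hom)
  have : IsIso (DerivedCategory.Q.map s) := Localization.inverts DerivedCategory.Q
    (HomologicalComplex.quasiIso (ModuleCat.{u} A) (ComplexShape.up ℤ)) _ hs
  have : QuasiIso g := by
    rw [← DerivedCategory.isIso_Q_map_iff_quasiIso, hg]
    infer_instance
  have hGf : ∀ i, flat A (G.X i) := fun i => flat_of_free _ (hGp i)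
  have := isIso_tens_map M s b hG hE hGf hEf
  have := isIso_tens_map M g b hG hP hGf hPf
  exact ⟨(asIso (DerivedCategory.Q.map ((tens M).map s))).symm ≪≫
    asIso (DerivedCategory.Q.map ((tens M).map g))⟩

/-- Below the tor amplitude, termwise tensor products are exact. -/
lemma exactAt_tens_of_bdd (M : ModuleCat.{u} A) (P : DRing.Cx A) {a b c : ℤ}
    (hP : ∀ i, b < i → IsZero (P.X i)) (hPf : ∀ i, flat A (P.X i))
    (h : Bdd (flat A) a c (DerivedCategory.Q.obj P)) (i : ℤ) (hi : i < a) :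
    ((tens M).obj P).ExactAt i := by
  obtain ⟨E, hE, hEf, ⟨e⟩⟩ := h
  obtain ⟨f⟩ := nonempty_tens_iso M (max b c) (fun i hi => hE i (Or.inr (by lia)))
    (fun i hi => hP i (by lia)) hEf hPf e
  have h0 : ((tens M).obj E).ExactAt i :=
    HomologicalComplex.ExactAt.of_isZero ((MonoidalCategory.tensorRight M).map_isZero (hE i (Or.inl hi)))
  rw [HomologicalComplex.exactAt_iff_isZero_homology] at h0 ⊢
  exact h0.of_iso ((homologyQIso _ i).symm ≪≫
    ((DerivedCategory.homologyFunctor (ModuleCat.{u} A) i).mapIso f).symm ≪≫ homologyQIso _ i)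

/-- If `P ⊗ M` is exact at `a - 1` for all `M` and `P^a` is flat, the cokernel of `d^{a-1}` is flat. -/
lemma flat_coker_of_exactAt (P : DRing.Cx A) (a : ℤ) (hflat : Module.Flat A (P.X a))
    (hex : ∀ M : ModuleCat.{u} A, ((tens M).obj P).ExactAt (a - 1)) :
    Module.Flat A ((P.X a) ⧸ LinearMap.range (P.d (a - 1) a).hom) := by
  let d₀ := (P.d (a - 1 - 1) (a - 1)).hom
  let d := (P.d (a - 1) a).hom
  let q := (LinearMap.range d).mkQ
  have hdd : d ∘ₗ d₀ = 0 := congrArg ModuleCat.Hom.hom (P.d_comp_d (a - 1 - 1) (a - 1) a)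
  rw [Module.Flat.iff_lTensor_preserves_injective_linearMap]
  intro X Y _ _ _ _ φ hφ
  rw [injective_iff_map_eq_zero]
  intro x hx
  obtain ⟨z, rfl⟩ := LinearMap.rTensor_surjective X (Submodule.mkQ_surjective _) x
  have h1 : q.rTensor Y (φ.lTensor _ z) = 0 := by
    rw [← LinearMap.comp_apply, LinearMap.rTensor_comp_lTensor, ← LinearMap.lTensor_comp_rTensor,
      LinearMap.comp_apply]
    exact hx
  obtain ⟨w, hw⟩ := (rTensor_exact Y (LinearMap.exact_map_mkQ_range d) (Submodule.mkQ_surjective _) _).1 h1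
  let Z := Y ⧸ LinearMap.range φ
  let π := (LinearMap.range φ).mkQ
  have hexZ : Function.Exact (d₀.rTensor Z) (d.rTensor Z) := by
    have h := hex (ModuleCat.of A Z)
    rw [HomologicalComplex.exactAt_iff' _ (a - 1 - 1) (a - 1) a (by simp) (by simp),
      ShortComplex.ShortExact.moduleCat_exact_iff_function_exact] at h
    exact h
  have h2 : d.rTensor Z (π.lTensor _ w) = 0 := by
    rw [← LinearMap.comp_apply, LinearMap.rTensor_comp_lTensor, ← LinearMap.lTensor_comp_rTensor,
      LinearMap.comp_apply, hw, ← LinearMap.comp_apply, ← LinearMap.lTensor_comp,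
      show π ∘ₗ φ = 0 from (LinearMap.exact_map_mkQ_range φ).linearMap_comp_eq_zero,
      LinearMap.lTensor_zero, LinearMap.zero_apply]
  obtain ⟨v', hv⟩ := (hexZ _).1 h2
  obtain ⟨v, rfl⟩ := LinearMap.lTensor_surjective (P.X (a - 1 - 1)) (Submodule.mkQ_surjective _) v'
  have h3 : π.lTensor _ (w - d₀.rTensor Y v) = 0 := by
    rw [map_sub, sub_eq_zero, ← hv, ← LinearMap.comp_apply, ← LinearMap.comp_apply,
      LinearMap.rTensor_comp_lTensor, LinearMap.lTensor_comp_rTensor]
  obtain ⟨t, ht⟩ := (lTensor_exact (P.X (a - 1)) (LinearMap.exact_map_mkQ_range φ)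
    (Submodule.mkQ_surjective _) _).1 h3
  have h4 : φ.lTensor _ (d.rTensor X t) = φ.lTensor _ z := by
    rw [← LinearMap.comp_apply, LinearMap.lTensor_comp_rTensor, ← LinearMap.rTensor_comp_lTensor,
      LinearMap.comp_apply, ht, map_sub, hw, ← LinearMap.comp_apply, ← LinearMap.rTensor_comp, hdd,
      LinearMap.rTensor_zero, LinearMap.zero_apply, sub_zero]
  rw [← Module.Flat.lTensor_preserves_injective_linearMap φ hφ h4, ← LinearMap.comp_apply,
    ← LinearMap.rTensor_comp,
    show q ∘ₗ d = 0 from (LinearMap.exact_map_mkQ_range d).linearMap_comp_eq_zero,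
    LinearMap.rTensor_zero, LinearMap.zero_apply]

theorem flat_coker (P : DRing.Cx A) {a b c : ℤ}
    (hP : ∀ i, b < i → IsZero (P.X i)) (hPf : ∀ i, flat A (P.X i))
    (h : Bdd (flat A) a c (DerivedCategory.Q.obj P)) :
    Module.Flat A ((P.X a) ⧸ LinearMap.range (P.d (a - 1) a).hom) :=
  flat_coker_of_exactAt P a (hPf a) fun M => exactAt_tens_of_bdd M P hP hPf h (a - 1) (by lia)

/-- `opcycles` as a cokernel. -/
noncomputable def opcyclesIso (E : DRing.Cx A) (a : ℤ) :
    ModuleCat.of A ((E.X a) ⧸ LinearMap.range (E.d (a - 1) a).hom) ≅ E.opcycles a :=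
  (ModuleCat.cokernelIsoRangeQuotient (E.d (a - 1) a)).symm ≪≫
    IsColimit.coconePointUniqueUpToIso (cokernelIsCokernel _)
      (E.opcyclesIsCokernel (a - 1) a (by simp))

/-- Truncation of a bounded above complex which is `≥ a` and has a good cokernel at `a`. -/
lemma bdd_of_opcycles {P : ObjectProperty (ModuleCat.{u} A)} (hP : Good P) {E : DRing.Cx A} {a b : ℤ}
    (hb : ∀ i, b < i → IsZero (E.X i)) (hp : ∀ i, a < i → P (E.X i))
    (hge : (DerivedCategory.Q.obj E).IsGE a)
    (hop : P (ModuleCat.of A ((E.X a) ⧸ LinearMap.range (E.d (a - 1) a).hom))) :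
    Bdd P a b (DerivedCategory.Q.obj E) := by
  have : E.IsGE a := (DerivedCategory.isGE_Q_obj_iff E a).1 hge
  have : QuasiIso (E.πTruncGE a) := (E.quasiIso_πTruncGE_iff a).2 inferInstance
  refine ⟨E.truncGE a, fun i hi => ?_, fun i => ?_,
    ⟨(asIso (DerivedCategory.Q.map (E.πTruncGE a))).symm⟩⟩
  · rcases hi with hi | hi
    · exact (E.truncGE a).isZero_of_isStrictlyGE a i hi
    · rcases lt_trichotomy i a with h | h | h
      · exact (E.truncGE a).isZero_of_isStrictlyGE a i h
      · subst h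
        exact IsZero.of_iso (IsZero.of_epi (E.pOpcycles i) (hb i hi)) (E.truncGEXIsoOpcycles i)
      · exact (hb i hi).of_iso (E.truncGEXIso a i h)
  · rcases lt_trichotomy i a with h | h | h
    · exact hP.zero ((E.truncGE a).isZero_of_isStrictlyGE a i h)
    · subst h
      exact hP.iso (opcyclesIso E i ≪≫ (E.truncGEXIsoOpcycles i).symm) hop
    · exact hP.iso (E.truncGEXIso a i h).symm (hp i h)

/-- A finite free bounded above representative and a flat one in `[a, c]` give a finite projective one. -/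
theorem bdd_fproj_of_flat {K : Dual.D A} {a b c : ℤ} (hK : BA (ff A) b K)
    (h : Bdd (flat A) a c K) : Bdd (fproj A) a b K := by
  obtain ⟨E, hb, hp, ⟨e⟩⟩ := hK
  have hflat := flat_coker E hb (fun i => flat_of_fproj _ (fproj_of_ff _ (hp i))) (h.of_iso e.symm)
  refine (bdd_of_opcycles good_fproj hb (fun i _ => fproj_of_ff _ (hp i))
    (isGE_of_iso' e.symm h.isGE) ⟨?_, ?_⟩).of_iso e
  · have := (hp a).1
    infer_instance
  · obtain ⟨_, _⟩ := hp a
    have := (hp (a - 1)).1
    have : Module.FinitePresentation A (E.X a) := Module.finitePresentation_of_projective A (E.X a)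
    have : Module.FinitePresentation A ((E.X a) ⧸ LinearMap.range (E.d (a - 1) a).hom) :=
      Module.finitePresentation_of_surjective _ (Submodule.mkQ_surjective _) (by
        rw [Submodule.ker_mkQ, LinearMap.range_eq_map]
        exact Module.Finite.fg_top.map _)
    exact Module.Flat.projective_of_finitePresentation

/-- Criterion for tor amplitude in terms of one bounded above flat representative. -/
theorem bdd_flat_of_isGE_tens (E : DRing.Cx A) {a b : ℤ}
    (hb : ∀ i, b < i → IsZero (E.X i)) (hp : ∀ i, flat A (E.X i))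
    (hge : (DerivedCategory.Q.obj E).IsGE a)
    (ht : ∀ M : ModuleCat.{u} A, (DerivedCategory.Q.obj ((tens M).obj E)).IsGE a) :
    Bdd (flat A) a b (DerivedCategory.Q.obj E) := by
  refine bdd_of_opcycles good_flat hb (fun i _ => hp i) hge (flat_coker_of_exactAt E a (hp a) fun M => ?_)
  have := ht M
  rw [HomologicalComplex.exactAt_iff_isZero_homology]
  exact (DerivedCategory.isZero_of_isGE (DerivedCategory.Q.obj ((tens M).obj E)) a (a - 1) (by lia)).of_iso
    (homologyQIso _ _).symm

lemma isGE_tens_of_bdd (M : ModuleCat.{u} A) (P : DRing.Cx A) {a b c : ℤ}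
    (hP : ∀ i, b < i → IsZero (P.X i)) (hPf : ∀ i, flat A (P.X i))
    (h : Bdd (flat A) a c (DerivedCategory.Q.obj P)) :
    (DerivedCategory.Q.obj ((tens M).obj P)).IsGE a := by
  rw [DerivedCategory.isGE_iff]
  intro i hi
  exact ((HomologicalComplex.exactAt_iff_isZero_homology _ _).1
    (exactAt_tens_of_bdd M P hP hPf h i hi)).of_iso (homologyQIso _ _)

/-- Cones. -/
theorem bdd_flat_cone (T : Triangle (Dual.D A)) (hT : T ∈ distTriang _) {a b : ℤ}
    (h₁ : Bdd (flat A) (a + 1) (b + 1) T.obj₁) (h₂ : Bdd (flat A) a b T.obj₂) :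
    Bdd (flat A) a b T.obj₃ := by
  obtain ⟨G, hG, hGp, ⟨e⟩⟩ := ba_free h₁.isLE
  obtain ⟨H, hH, hHp, ⟨e'⟩⟩ := ba_free h₂.isLE
  have := isKProjective_of_bounds projective_of_free' hG hGp
  obtain ⟨φ, hφ⟩ := exists_Q_map_eq (e.hom ≫ T.mor₁ ≫ e'.inv)
  obtain ⟨iso, -⟩ := exists_iso_of_arrow_iso _ _
    (DerivedCategory.mappingCone_triangle_distinguished φ) hT
    (Arrow.isoMk e e' (by
      change e.hom ≫ T.mor₁ = DerivedCategory.Q.map φ ≫ e'.hom
      rw [hφ]
      simp))
  let C := CochainComplex.mappingCone φ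
  have hCp : ∀ i, flat A (C.X i) := fun i =>
    good_flat.iso (HomologicalComplex.homotopyCofiber.XIsoBiprod φ i (i + 1) rfl).symm
      (good_flat.biprod (flat_of_free _ (hGp (i + 1))) (flat_of_free _ (hHp i)))
  have hC : ∀ i, b < i → IsZero (C.X i) := fun i hi => by
    refine IsZero.of_iso ?_ (HomologicalComplex.homotopyCofiber.XIsoBiprod φ i (i + 1) rfl)
    rw [biprod_isZero_iff]
    exact ⟨hG _ (by lia), hH _ hi⟩
  refine (bdd_flat_of_isGE_tens C hC hCp
    (isGE_of_iso' (Triangle.π₃.mapIso iso).symm (isGE_obj₃ _ hT a h₁.isGE h₂.isGE)) fun M => ?_).of_iso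
      (Triangle.π₃.mapIso iso)
  refine isGE_of_iso' (DerivedCategory.Q.mapIso
    (CochainComplex.mappingCone.mapHomologicalComplexIso φ (MonoidalCategory.tensorRight M))).symm ?_
  exact isGE_obj₃ _ (DerivedCategory.mappingCone_triangle_distinguished ((tens M).map φ)) a
    (isGE_tens_of_bdd M G hG (fun i => flat_of_free _ (hGp i)) (h₁.of_iso e.symm))
    (isGE_tens_of_bdd M H hH (fun i => flat_of_free _ (hHp i)) (h₂.of_iso e'.symm))

/-- Extensions. -/
theorem bdd_flat_ext (T : Triangle (Dual.D A)) (hT : T ∈ distTriang _) {a b : ℤ}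
    (h₁ : Bdd (flat A) a b T.obj₁) (h₃ : Bdd (flat A) a b T.obj₃) : Bdd (flat A) a b T.obj₂ :=
  bdd_flat_cone _ (inv_rot_of_distTriang _ hT)
    (h₃.shift good_flat (-1) (a + 1) (b + 1) (by lia) (by lia)) h₁

/-- Fibres. -/
theorem bdd_flat_fiber (T : Triangle (Dual.D A)) (hT : T ∈ distTriang _) {a b : ℤ}
    (h₂ : Bdd (flat A) (a + 1) (b + 1) T.obj₂) (h₃ : Bdd (flat A) a b T.obj₃) :
    Bdd (flat A) (a + 1) (b + 1) T.obj₁ :=
  ((bdd_flat_cone _ (rot_of_distTriang _ hT) h₂ h₃).shift good_flat (-1) (a + 1) (b + 1) (by lia)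
    (by lia)).of_iso ((shiftFunctorCompIsoId (Dual.D A) 1 (-1) (by lia)).app T.obj₁)

/-- Retracts. -/
theorem bdd_flat_retract {K L : Dual.D A} (r : Retract K L) {a b : ℤ} (h : Bdd (flat A) a b L) :
    Bdd (flat A) a b K := by
  obtain ⟨G, hG, hGp, ⟨e⟩⟩ := ba_free (isLE_of_retract r h.isLE)
  obtain ⟨H, hH, hHp, ⟨e'⟩⟩ := ba_free h.isLE
  have := isKProjective_of_bounds projective_of_free' hG hGp
  have := isKProjective_of_bounds projective_of_free' hH hHp
  obtain ⟨i, hi⟩ := exists_Q_map_eq (e.hom ≫ r.i ≫ e'.inv)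
  obtain ⟨q, hq⟩ := exists_Q_map_eq (e'.hom ≫ r.r ≫ e.inv)
  obtain ⟨hom⟩ := nonempty_homotopy_of_Q_map_eq (φ := i ≫ q) (ψ := 𝟙 G) (by
    rw [Functor.map_comp, hi, hq]
    simp)
  refine (bdd_flat_of_isGE_tens G hG (fun i => flat_of_free _ (hGp i))
    (isGE_of_iso' e.symm (Perfect.isGE_of_retract r h.isGE)) fun M => ?_).of_iso e
  refine Perfect.isGE_of_retract
    ⟨DerivedCategory.Q.map ((tens M).map i), DerivedCategory.Q.map ((tens M).map q), ?_⟩
    (isGE_tens_of_bdd M H hH (fun i => flat_of_free _ (hHp i)) (h.of_iso e'.symm))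
  have hh := HomotopyCategory.eq_of_homotopy _ _
    ((MonoidalCategory.tensorRight M).mapHomotopy hom)
  rw [← Functor.map_comp, ← Functor.map_comp,
    ← cancel_epi ((DerivedCategory.quotientCompQhIso (ModuleCat.{u} A)).hom.app ((tens M).obj G)),
    ← DerivedCategory.quotientCompQhIso_hom_naturality, hh, CategoryTheory.Functor.map_id]
  simp

/-- `(a - 1)`-pseudo-coherent of tor amplitude in `[a, c]` is perfect. -/
theorem pf_of_pcn_of_flat {K : Dual.D A} {a c : ℤ} (hK : PCn (ff A) (a - 1) K)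
    (h : Bdd (flat A) a c K) : Perfect.Pf K := by
  obtain ⟨E, l, u, f, hE, hEp, Z, g, k, hd, hZ⟩ := hK
  let T := (Triangle.mk f g k).invRotate
  have hT : T ∈ distTriang _ := inv_rot_of_distTriang _ hd
  have hT1 : T.obj₁.IsLE (a - 1) :=
    DerivedCategory.TStructure.t.isLE_shift Z (a - 1 - 1) (-1) (a - 1) (by lia)
  obtain ⟨G, hG, hGp, ⟨e⟩⟩ := ba_free hT1
  have := isKProjective_of_bounds projective_of_free' hG hGp
  obtain ⟨φ, hφ⟩ := exists_Q_map_eq (e.hom ≫ T.mor₁)
  obtain ⟨iso, -⟩ := exists_iso_of_arrow_iso _ _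
    (DerivedCategory.mappingCone_triangle_distinguished φ) hT
    (Arrow.isoMk e (Iso.refl _) (hφ.symm.trans (Category.comp_id _).symm))
  let C := CochainComplex.mappingCone φ
  let eC : DerivedCategory.Q.obj C ≅ K := Triangle.π₃.mapIso iso
  have hfl : ∀ i, flat A (C.X i) := fun i =>
    good_flat.iso (HomologicalComplex.homotopyCofiber.XIsoBiprod φ i (i + 1) rfl).symm
      (good_flat.biprod (flat_of_free _ (hGp (i + 1))) (flat_of_fproj _ (fproj_of_ff _ (hEp i))))
  have hfp : ∀ i, a - 1 ≤ i → fproj A (C.X i) := fun i hi =>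
    good_fproj.iso (HomologicalComplex.homotopyCofiber.XIsoBiprod φ i (i + 1) rfl).symm
      (good_fproj.biprod (good_fproj.zero (hG (i + 1) (by lia))) (fproj_of_ff _ (hEp i)))
  have hz : ∀ i, max u (a - 1) < i → IsZero (C.X i) := fun i hi => by
    refine IsZero.of_iso ?_ (HomologicalComplex.homotopyCofiber.XIsoBiprod φ i (i + 1) rfl)
    rw [biprod_isZero_iff]
    exact ⟨hG _ (by lia), hE _ (Or.inr (by lia))⟩
  have hflat := flat_coker C hz hfl (h.of_iso eC.symm)
  refine ⟨a, _, (bdd_of_opcycles good_fproj hz (fun i hi => hfp i (by lia))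
    (isGE_of_iso' eC.symm h.isGE) ⟨?_, ?_⟩).of_iso eC⟩
  · have := (hfp a (by lia)).1
    infer_instance
  · obtain ⟨_, _⟩ := hfp a (by lia)
    have := (hfp (a - 1) le_rfl).1
    have : Module.FinitePresentation A (C.X a) := Module.finitePresentation_of_projective A (C.X a)
    have : Module.FinitePresentation A ((C.X a) ⧸ LinearMap.range (C.d (a - 1) a).hom) :=
      Module.finitePresentation_of_surjective _ (Submodule.mkQ_surjective _) (by
        rw [Submodule.ker_mkQ, LinearMap.range_eq_map]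
        exact Module.Finite.fg_top.map _)
    exact Module.Flat.projective_of_finitePresentation

/-- Perfect of tor amplitude in `[a, b]` has a finite projective representative in `[a, b]`. -/
theorem bdd_fproj_of_pf {K : Dual.D A} {a b : ℤ} (hK : Perfect.Pf K) (h : Bdd (flat A) a b K) :
    Bdd (fproj A) a b K :=
  bdd_fproj_of_flat (ba_ff_of_forall hK.pcn h.isLE) h

end Groth.Agent.Lib.DR.TorAmp
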