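import Groth.Agent.Lib.DR.Representative

/-!
# Pseudo-coherence over coherent and Noetherian rings
-/

universe u

open CategoryTheory CategoryTheory.Limits CategoryTheory.Pretriangulated
open Groth.Agent.Lib.DR.Basic Groth.Agent.Lib.DR.FiniteComplex Groth.Agent.Lib.DR.PseudoCoherent
open Groth.Agent.Lib.DR.TopCohomology Groth.Agent.Lib.DR.Representative

attribute [local instance] HasDerivedCategory.standard

namespace Groth.Agent.Lib.DR.Coherent

variable {A : Type u} [CommRing A]

/-- Every finitely generated ideal is finitely presented. -/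
def IsCoh (A : Type u) [CommRing A] : Prop := ∀ I : Ideal A, I.FG → Module.FinitePresentation A I

lemma isCoh_of_isNoetherianRing [IsNoetherianRing A] : IsCoh A := fun I _ => Module.finitePresentation_of_finite _ _

lemma fp_of_fg_pi (hA : IsCoh A) : ∀ (n : ℕ) (N : Submodule A (Fin n → A)), N.FG →
    Module.FinitePresentation A N := by
  intro n
  induction n with
  | zero =>
    intro N _
    have : Subsingleton N := ⟨fun x y => Subtype.ext (funext fun i => i.elim0)⟩
    exact Module.FinitePresentation.of_equiv (M := (Fin 0 → A)) (LinearEquiv.ofSubsingleton _ _)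
  | succ n ih =>
    intro N hN
    let p : N →ₗ[A] A := LinearMap.proj 0 ∘ₗ N.subtype
    have : Module.Finite A N := Module.Finite.iff_fg.2 hN
    have h1 : Module.FinitePresentation A (LinearMap.range p) :=
      hA _ (Module.Finite.iff_fg.1 (Module.Finite.range p))
    have h2 : (LinearMap.ker p.rangeRestrict).FG :=
      Module.FinitePresentation.fg_ker p.rangeRestrict p.surjective_rangeRestrict
    rw [LinearMap.ker_rangeRestrict] at h2
    let q : LinearMap.ker p →ₗ[A] (Fin n → A) :=
      LinearMap.funLeft A A Fin.succ ∘ₗ N.subtype ∘ₗ (LinearMap.ker p).subtype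
    have hq : Function.Injective q := by
      intro x y h
      refine Subtype.ext (Subtype.ext (funext fun i => ?_))
      refine Fin.cases ?_ (fun j => congrFun h j) i
      exact (LinearMap.mem_ker.1 x.2).trans (LinearMap.mem_ker.1 y.2).symm
    have : Module.Finite A (LinearMap.ker p) := Module.Finite.iff_fg.2 h2
    have := ih (LinearMap.range q) (Module.Finite.iff_fg.1 (Module.Finite.range q))
    have : Module.FinitePresentation A (LinearMap.ker p) :=
      Module.FinitePresentation.of_equiv (R := A) (M := ↥(LinearMap.range q)) (N := ↥(LinearMap.ker p))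
        (LinearEquiv.ofInjective q hq).symm
    have : Module.FinitePresentation A (LinearMap.ker p.rangeRestrict) := by
      rw [LinearMap.ker_rangeRestrict]
      infer_instance
    exact Module.finitePresentation_of_ker p.rangeRestrict p.surjective_rangeRestrict

lemma fp_of_fg_submodule (hA : IsCoh A) {F : ModuleCat.{u} A} (hF : ff A F) (N : Submodule A F)
    (hN : N.FG) : Module.FinitePresentation A N := by
  obtain ⟨_, _⟩ := hF
  obtain ⟨n, f, hf⟩ := Module.Finite.exists_fin' A F
  obtain ⟨s, hs⟩ := Module.projective_lifting_property f LinearMap.id hf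
  have hinj : Function.Injective s :=
    Function.LeftInverse.injective (g := f) fun x => LinearMap.congr_fun hs x
  have := fp_of_fg_pi hA n (N.map s) (hN.map s)
  exact Module.FinitePresentation.of_equiv (Submodule.equivMapOfInjective s hinj N).symm

lemma pcn_single_of_fp (hA : IsCoh A) (k : ℕ) (M : ModuleCat.{u} A) [Module.FinitePresentation A M]
    (n : ℤ) : PCn (ff A) (n - k) ((DerivedCategory.singleFunctor (ModuleCat.{u} A) n).obj M) := by
  rw [pcn_single_shift_iff good_ff, show n - k - n = -(k : ℤ) by lia]
  clear n
  induction k generalizing M with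
  | zero => simpa using pcn_single_of_finite M 0
  | succ k ih =>
    obtain ⟨F, π, hF, hπ⟩ := exists_free_cover (A := A) M
    have := hF.1
    let S := ShortComplex.moduleCatMk (LinearMap.ker π.hom).subtype π.hom
      (LinearMap.comp_ker_subtype _)
    have hS : S.ShortExact :=
      { exact := by
          rw [ShortComplex.moduleCat_exact_iff_range_eq_ker]
          exact Submodule.range_subtype _
        mono_f := (ModuleCat.mono_iff_injective _).2 Subtype.val_injective
        epi_g := (ModuleCat.epi_iff_surjective _).2 hπ }
    have := fp_of_fg_submodule hA hF _ (Module.FinitePresentation.fg_ker π.hom hπ)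
    exact PCn.cone good_ff projective_of_ff _ hS.singleTriangle_distinguished
      (m := -((k + 1 : ℕ) : ℤ)) ((ih (ModuleCat.of A (LinearMap.ker π.hom))).mono (by lia))
      ((bdd_single good_ff hF 0).pcn _)

lemma pcn_single_of_fp' (hA : IsCoh A) (M : ModuleCat.{u} A) [Module.FinitePresentation A M]
    (n m : ℤ) : PCn (ff A) m ((DerivedCategory.singleFunctor (ModuleCat.{u} A) n).obj M) :=
  (pcn_single_of_fp hA (n - m).toNat M n).mono (by lia)

lemma pcn_of_finitePresentation_homology (hA : IsCoh A) {X : Dual.D A} {m b : ℤ} (hb : X.IsLE b)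
    (hm : Module.Finite A (Dual.HD A X m))
    (h : ∀ i, m < i → Module.FinitePresentation A (Dual.HD A X i)) : PCn (ff A) m X := by
  refine pcn_of_homology good_ff projective_of_ff hb fun i hi _ => ?_
  rcases eq_or_lt_of_le hi with rfl | hi
  · exact pcn_single_of_finite _ _
  · have := h i hi
    exact pcn_single_of_fp' hA _ _ _

lemma fp_homology (hA : IsCoh A) (E : DRing.Cx A) (hp : ∀ i, ff A (E.X i)) (n : ℤ) :
    Module.FinitePresentation A (E.homology n) := by
  let S := E.sc' (n - 1) n (n + 1)
  obtain ⟨_, _⟩ := hp (n - 1)
  obtain ⟨_, _⟩ := hp n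
  have : Module.Finite A S.X₁ := ‹Module.Finite A (E.X (n - 1))›
  have : Module.Finite A S.X₂ := ‹Module.Finite A (E.X n)›
  have : Module.Free A S.X₂ := ‹Module.Free A (E.X n)›
  have : Module.Finite A (LinearMap.range S.g.hom) := Module.Finite.range _
  have : Module.FinitePresentation A (LinearMap.range S.g.hom) :=
    fp_of_fg_submodule hA (F := S.X₃) (hp (n + 1)) (LinearMap.range S.g.hom) (Module.Finite.iff_fg.1 (Module.Finite.range _))
  have : Module.FinitePresentation A S.X₂ := Module.finitePresentation_of_projective _ _
  have h2 : (LinearMap.ker S.g.hom).FG := by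
    have := Module.FinitePresentation.fg_ker S.g.hom.rangeRestrict S.g.hom.surjective_rangeRestrict
    rwa [LinearMap.ker_rangeRestrict] at this
  have : Module.FinitePresentation A (LinearMap.ker S.g.hom) :=
    fp_of_fg_submodule hA (F := S.X₂) (hp n) _ h2
  have hq : Module.FinitePresentation A (LinearMap.ker S.g.hom ⧸ LinearMap.range S.moduleCatToCycles) :=
    Module.finitePresentation_of_surjective (LinearMap.range S.moduleCatToCycles).mkQ
      (Submodule.mkQ_surjective _) (by
        rw [Submodule.ker_mkQ, ← Module.Finite.iff_fg]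
        exact Module.Finite.range _)
  have : Module.FinitePresentation A (S.moduleCatLeftHomologyData.H) := hq
  exact Module.FinitePresentation.of_equiv
    ((S.moduleCatHomologyIso).symm ≪≫ (ShortComplex.homologyMapIso
      (E.isoSc' (n - 1) n (n + 1) (by simp) (by simp))).symm).toLinearEquiv

lemma fp_homology_of_pcn (hA : IsCoh A) {X : Dual.D A} {m : ℤ} (h : PCn (ff A) m X) (i : ℤ) :
    (m < i → Module.FinitePresentation A (Dual.HD A X i)) ∧
      (i = m → Module.Finite A (Dual.HD A X i)) := by
  obtain ⟨E, a, b, f, hE, hp, hf⟩ := h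
  have := fp_homology hA E hp i
  refine ⟨fun hi => ?_, fun hi => ?_⟩
  · have := hf.isIso_map i (by lia)
    exact Module.FinitePresentation.of_equiv ((homologyQIso E i).symm ≪≫
      asIso ((DerivedCategory.homologyFunctor (ModuleCat.{u} A) i).map f)).toLinearEquiv
  · have := hf.epi_map i (by lia)
    exact Module.Finite.of_surjective ((homologyQIso E i).inv ≫
      (DerivedCategory.homologyFunctor (ModuleCat.{u} A) i).map f).hom
      ((ModuleCat.epi_iff_surjective _).1 inferInstance)

lemma pcn_iff (hA : IsCoh A) {X : Dual.D A} {b : ℤ} (hb : X.IsLE b) (m : ℤ) :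
    PCn (ff A) m X ↔
      Module.Finite A (Dual.HD A X m) ∧ ∀ i, m < i → Module.FinitePresentation A (Dual.HD A X i) :=
  ⟨fun h => ⟨(fp_homology_of_pcn hA h m).2 rfl, fun i hi => (fp_homology_of_pcn hA h i).1 hi⟩,
    fun h => pcn_of_finitePresentation_homology hA hb h.1 h.2⟩

end Groth.Agent.Lib.DR.Coherent
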