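import Groth.Agent.Lib.DR.FiniteComplex
import Mathlib.Algebra.Homology.DerivedCategory.ExactFunctor

/-!
# Exact functors and the predicates `Bdd`, `ConeLE`, `PCn`
-/

universe w w' v v' u u'

open CategoryTheory CategoryTheory.Limits CategoryTheory.Pretriangulated
open Groth.Agent.Lib.DR.Basic Groth.Agent.Lib.DR.FiniteComplex

namespace Groth.Agent.Lib.DR.ExactPush

variable {C : Type u} [Category.{v} C] [Abelian C] [HasDerivedCategory.{w} C]
  {D : Type u'} [Category.{v'} D] [Abelian D] [HasDerivedCategory.{w'} D]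
  (G : C ⥤ D) [G.Additive] [PreservesFiniteLimits G] [PreservesFiniteColimits G]

/-- The derived functor on a complex. -/
noncomputable def mapQ (K : CochainComplex C ℤ) :
    G.mapDerivedCategory.obj (DerivedCategory.Q.obj K) ≅
      DerivedCategory.Q.obj ((G.mapHomologicalComplex (ComplexShape.up ℤ)).obj K) :=
  G.mapDerivedCategoryFactors.app K

lemma isLE_map {X : DerivedCategory C} {n : ℤ} (h : X.IsLE n) : (G.mapDerivedCategory.obj X).IsLE n := by
  obtain ⟨K, hK, ⟨e⟩⟩ := X.exists_iso_Q_obj_of_isLE n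
  exact isLE_of_iso' (G.mapDerivedCategory.mapIso e ≪≫ mapQ G K).symm
    (isLE_Q_of_isZero _ n fun i hi => G.map_isZero (K.isZero_of_isStrictlyLE n i hi))

lemma isGE_map {X : DerivedCategory C} {n : ℤ} (h : X.IsGE n) : (G.mapDerivedCategory.obj X).IsGE n := by
  obtain ⟨K, hK, ⟨e⟩⟩ := X.exists_iso_Q_obj_of_isGE n
  exact isGE_of_iso' (G.mapDerivedCategory.mapIso e ≪≫ mapQ G K).symm
    (isGE_Q_of_isZero _ n fun i hi => G.map_isZero (K.isZero_of_isStrictlyGE n i hi))

lemma coneLE_map {X Y : DerivedCategory C} {f : X ⟶ Y} {n : ℤ} (h : ConeLE f n) :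
    ConeLE (G.mapDerivedCategory.map f) n := by
  obtain ⟨Z, g, k, hd, hZ⟩ := h
  exact coneLE_of_triangle _ (G.mapDerivedCategory.map_distinguished _ hd) (isLE_map G hZ)

variable {P : ObjectProperty C} {P' : ObjectProperty D} (hPP' : ∀ M, P M → P' (G.obj M))

include hPP' in
lemma bdd_map {a b : ℤ} {X : DerivedCategory C} (h : Bdd P a b X) :
    Bdd P' a b (G.mapDerivedCategory.obj X) := by
  obtain ⟨E, hE, hp, ⟨e⟩⟩ := h
  exact ⟨(G.mapHomologicalComplex _).obj E, fun i hi => G.map_isZero (hE i hi),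
    fun i => hPP' _ (hp i), ⟨(mapQ G E).symm ≪≫ G.mapDerivedCategory.mapIso e⟩⟩

include hPP' in
lemma pcn_map {m : ℤ} {X : DerivedCategory C} (h : PCn P m X) :
    PCn P' m (G.mapDerivedCategory.obj X) := by
  obtain ⟨E, a, b, f, hE, hp, hf⟩ := h
  exact ⟨(G.mapHomologicalComplex _).obj E, a, b, (mapQ G E).inv ≫ G.mapDerivedCategory.map f,
    fun i hi => G.map_isZero (hE i hi), fun i => hPP' _ (hp i),
    (coneLE_map G hf).iso_comp (mapQ G E).symm⟩

/-- The derived functor on a single object. -/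
noncomputable def mapSingle (M : C) (n : ℤ) :
    G.mapDerivedCategory.obj ((DerivedCategory.singleFunctor C n).obj M) ≅
      (DerivedCategory.singleFunctor D n).obj (G.obj M) :=
  (G.mapDerivedCategorySingleFunctor n).app M

end Groth.Agent.Lib.DR.ExactPush
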