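import Groth.Agent.Lib.DR.TorAmp
import Groth.Agent.Lib.DR.FlatBC
import Mathlib.RingTheory.Finiteness.Basic
import Mathlib.RingTheory.Localization.BaseChange

/-!
# Descent of pseudo-coherence, tor amplitude and perfectness along a jointly faithful flat family
-/

universe u

open CategoryTheory CategoryTheory.Limits CategoryTheory.Pretriangulated TensorProduct
open Groth.Agent.Lib.DR
open Groth.Agent.Lib.DR.Basic Groth.Agent.Lib.DR.FiniteComplex Groth.Agent.Lib.DR.PseudoCoherent
open Groth.Agent.Lib.DR.Representative Groth.Agent.Lib.DR.TopCohomology Groth.Agent.Lib.DR.BaseChange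
open Groth.Agent.Lib.DR.TorAmp Groth.Agent.Lib.DR.Amplitude

attribute [local instance] HasDerivedCategory.standard

namespace Groth.Agent.Lib.DR.Descent

variable {A : Type u} [CommRing A] {ι : Type} (B : ι → Type u) [∀ i, CommRing (B i)]
  [∀ i, Algebra A (B i)]

/-- The family detects zero modules. -/
def Detects : Prop :=
  ∀ (M : Type u) [AddCommGroup M] [Module A M], (∀ i, Subsingleton (B i ⊗[A] M)) → Subsingleton M

/-- A faithfully flat algebra detects zero. -/
theorem detects_faithfullyFlat (R' : Type u) [CommRing R'] [Algebra A R'] [Module.FaithfullyFlat A R'] :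
    Detects (A := A) (fun _ : Fin 1 => R') :=
  fun M _ _ h => (Module.FaithfullyFlat.subsingleton_tensorProduct_iff_right A R').1 (h 0)

/-- Localizations at elements generating the unit ideal detect zero. -/
theorem detects_away {r : ℕ} (f : Fin r → A) (hf : Ideal.span (Set.range f) = ⊤) :
    Detects (A := A) (fun i => Localization.Away (f i)) := by
  intro M _ _ h
  refine subsingleton_of_forall_eq 0 fun m => ?_
  have key : ∀ i, ∃ n : ℕ, f i ^ n • m = 0 := fun i => by
    have := h i
    have h0 : TensorProduct.mk A (Localization.Away (f i)) M 1 m = 0 := Subsingleton.elim _ _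
    obtain ⟨⟨s, n, rfl⟩, hs⟩ := (IsLocalizedModule.eq_zero_iff (Submonoid.powers (f i))
      (TensorProduct.mk A (Localization.Away (f i)) M 1)).1 h0
    exact ⟨n, hs⟩
  choose n hn using key
  have hsp : Ideal.span (Set.range fun i => f i ^ n i) = ⊤ := by
    rw [← Ideal.radical_eq_top, eq_top_iff, ← hf, Ideal.span_le]
    rintro - ⟨i, rfl⟩
    exact ⟨n i, Ideal.subset_span ⟨i, rfl⟩⟩
  let J : Ideal A := LinearMap.ker (LinearMap.toSpanSingleton A M m)
  have hJ : J = ⊤ := top_le_iff.1 (hsp ▸ Ideal.span_le.2 (by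
    rintro - ⟨i, rfl⟩
    exact hn i))
  simpa [J] using (show (1 : A) ∈ J from hJ ▸ Submodule.mem_top)

variable {B}
variable [∀ i, Module.Flat A (B i)]

theorem flat_of_detects (hB : Detects (A := A) B) (M : Type u) [AddCommGroup M] [Module A M]
    (h : ∀ i, Module.Flat (B i) (B i ⊗[A] M)) : Module.Flat A M := by
  rw [Module.Flat.iff_lTensor_preserves_injective_linearMap]
  intro X Y _ _ _ _ φ hφ
  rw [← LinearMap.ker_eq_bot, ← Submodule.subsingleton_iff_eq_bot]
  refine hB _ fun i => ?_
  have := h i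
  have : Module.Flat A (B i ⊗[A] M) := Module.Flat.trans A (B i) (B i ⊗[A] M)
  have hinj : Function.Injective ((φ.lTensor M).lTensor (B i)) := by
    have h1 := Module.Flat.lTensor_preserves_injective_linearMap (M := B i ⊗[A] M) φ hφ
    have h2 : (φ.lTensor M).lTensor (B i) =
        (TensorProduct.assoc A (B i) M Y).toLinearMap ∘ₗ φ.lTensor (B i ⊗[A] M) ∘ₗ
          (TensorProduct.assoc A (B i) M X).symm.toLinearMap := by
      ext; simp
    rw [h2]
    exact (TensorProduct.assoc A (B i) M Y).injective.comp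
      (h1.comp (TensorProduct.assoc A (B i) M X).symm.injective)
  refine subsingleton_of_forall_eq 0 fun z => ?_
  apply Module.Flat.lTensor_preserves_injective_linearMap (M := B i)
    (LinearMap.ker (φ.lTensor M)).subtype (Submodule.subtype_injective _)
  apply hinj
  rw [← LinearMap.comp_apply, ← LinearMap.lTensor_comp, LinearMap.comp_ker_subtype,
    LinearMap.lTensor_zero]
  simp

omit [∀ i, Module.Flat A (B i)] in
theorem finite_of_detects [Finite ι] (hB : Detects (A := A) B) (M : Type u) [AddCommGroup M] [Module A M]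
    (h : ∀ i, Module.Finite (B i) (B i ⊗[A] M)) : Module.Finite A M := by
  have key : ∀ i, ∃ N : Submodule A M, N.FG ∧ Function.Surjective (N.subtype.baseChange (B i)) := by
    intro i
    obtain ⟨s, hs⟩ := (h i).fg_top
    classical
    have hx : ∀ x : B i ⊗[A] M, ∃ N : Submodule A M, N.FG ∧ x ∈ LinearMap.range (N.subtype.baseChange (B i)) := by
      intro x
      induction x using TensorProduct.induction_on with
      | zero => exact ⟨⊥, Submodule.fg_bot, zero_mem _⟩
      | tmul b m =>
        exact ⟨Submodule.span A {m}, Submodule.fg_span_singleton m,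
          b ⊗ₜ ⟨m, Submodule.mem_span_singleton_self m⟩, rfl⟩
      | add x y hx hy =>
        obtain ⟨N, hN, hxN⟩ := hx
        obtain ⟨N', hN', hyN'⟩ := hy
        refine ⟨N ⊔ N', hN.sup hN', add_mem ?_ ?_⟩
        · obtain ⟨u, rfl⟩ := hxN
          refine ⟨(Submodule.inclusion le_sup_left).baseChange (B i) u, ?_⟩
          rw [← LinearMap.comp_apply, ← LinearMap.baseChange_comp, Submodule.subtype_comp_inclusion]
        · obtain ⟨u, rfl⟩ := hyN'
          refine ⟨(Submodule.inclusion le_sup_right).baseChange (B i) u, ?_⟩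
          rw [← LinearMap.comp_apply, ← LinearMap.baseChange_comp, Submodule.subtype_comp_inclusion]
    choose N hN hmem using hx
    refine ⟨s.sup N, Submodule.fg_finset_sup s N fun x _ => hN x, ?_⟩
    rw [← LinearMap.range_eq_top, eq_top_iff, ← hs, Submodule.span_le]
    intro x hx'
    obtain ⟨u, hu⟩ := hmem x
    refine ⟨(Submodule.inclusion (Finset.le_sup hx')).baseChange (B i) u, ?_⟩
    rw [← LinearMap.comp_apply, ← LinearMap.baseChange_comp, Submodule.subtype_comp_inclusion, hu]
  choose N hN hsurj using key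
  have hNfg : (⨆ i, N i).FG := Submodule.fg_iSup N hN
  have : Subsingleton (M ⧸ ⨆ i, N i) := hB _ fun i => by
    refine subsingleton_of_forall_eq 0 fun x => ?_
    obtain ⟨y, rfl⟩ := LinearMap.lTensor_surjective (B i) (Submodule.mkQ_surjective (⨆ i, N i)) x
    obtain ⟨z, rfl⟩ := hsurj i y
    rw [LinearMap.baseChange_eq_ltensor, ← LinearMap.comp_apply, ← LinearMap.lTensor_comp,
      show (⨆ i, N i).mkQ ∘ₗ (N i).subtype = 0 from LinearMap.ext fun n =>
        (Submodule.Quotient.mk_eq_zero _).2 (le_iSup N i n.2), LinearMap.lTensor_zero]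
    rfl
  exact ⟨by rwa [Submodule.Quotient.subsingleton_iff.1 this] at hNfg⟩

/-- Extension of scalars to `B i`. -/
noncomputable abbrev G (B : ι → Type u) [∀ i, CommRing (B i)] [∀ i, Algebra A (B i)] (i : ι) :=
  ModuleCat.extendScalars.{u, u, u} (algebraMap A (B i))

variable (B)

/-- Cohomology commutes with flat base change. -/
theorem nonempty_homology_iso (i : ι) (X : Dual.D A) (n : ℤ) :
    Nonempty ((DerivedCategory.homologyFunctor (ModuleCat.{u} (B i)) n).obj
        ((G B i).mapDerivedCategory.obj X) ≅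
      (G B i).obj ((DerivedCategory.homologyFunctor (ModuleCat.{u} A) n).obj X)) := by
  let K := DerivedCategory.Q.objPreimage X
  let e : DerivedCategory.Q.obj K ≅ X := DerivedCategory.Q.objObjPreimageIso X
  exact ⟨(DerivedCategory.homologyFunctor _ n).mapIso ((G B i).mapDerivedCategory.mapIso e.symm ≪≫
      ExactPush.mapQ (G B i) K) ≪≫ homologyQIso _ n ≪≫ (K.sc n).mapHomologyIso (G B i) ≪≫
    (G B i).mapIso ((homologyQIso K n).symm ≪≫ (DerivedCategory.homologyFunctor _ n).mapIso e)⟩

variable {B}
variable (hB : Detects (A := A) B)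

include hB in
theorem subsingleton_HD (X : Dual.D A) (n : ℤ)
    (h : ∀ i, Subsingleton (Dual.HD (B i) ((G B i).mapDerivedCategory.obj X) n)) :
    Subsingleton (Dual.HD A X n) := by
  refine hB _ fun i => ?_
  obtain ⟨e⟩ := nonempty_homology_iso B i X n
  have := h i
  exact (e ≪≫ (FlatBC.extEquiv A (B i) _).toModuleIso).toLinearEquiv.symm.toEquiv.subsingleton

include hB in
theorem isLE_desc (X : Dual.D A) (b : ℤ) (h : ∀ i, ((G B i).mapDerivedCategory.obj X).IsLE b) :
    X.IsLE b :=
  (isLE_iff_subsingleton X b).2 fun j hj => subsingleton_HD hB X j fun i =>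
    (isLE_iff_subsingleton _ b).1 (h i) j hj

include hB in
theorem isGE_desc (X : Dual.D A) (b : ℤ) (h : ∀ i, ((G B i).mapDerivedCategory.obj X).IsGE b) :
    X.IsGE b :=
  (isGE_iff_subsingleton X b).2 fun j hj => subsingleton_HD hB X j fun i =>
    (isGE_iff_subsingleton _ b).1 (h i) j hj

include hB in
theorem exists_isLE [Finite ι] (X : Dual.D A) (h : ∀ i, ∃ b, ((G B i).mapDerivedCategory.obj X).IsLE b) :
    ∃ b, X.IsLE b := by
  choose b hb using h
  obtain ⟨c, hc⟩ := (Set.finite_range b).bddAbove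
  exact ⟨c, isLE_desc hB X c fun i => isLE_mono (hb i) (hc ⟨i, rfl⟩)⟩

omit [∀ i, CommRing (B i)] in
/-- Lift a free cover of the top cohomology. -/
theorem exists_lift_top (X : Dual.D A) (b : ℤ) (hb : X.IsLE b) {F : ModuleCat.{u} A} (hF : ff A F)
    (π : F ⟶ ModuleCat.of A (Dual.HD A X b)) (hπ : Function.Surjective π) :
    ∃ f : (DerivedCategory.singleFunctor (ModuleCat.{u} A) b).obj F ⟶ X, ConeLE f (b - 1) := by
  obtain ⟨P, M, p, g, c, hd, hP, ⟨eM⟩, -⟩ := exists_peel_top X b hb
  let S := DerivedCategory.singleFunctor (ModuleCat.{u} A) b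
  have : Projective F := projective_of_ff _ hF
  obtain ⟨E, hE, hEp, ⟨eE⟩⟩ := bdd_single good_ff hF b
  have := isKProjective_of_bounds projective_of_ff (fun i hi => hE i (Or.inr hi)) hEp
  let u : S.obj F ⟶ S.obj M := S.map (π ≫ eM.hom)
  have hz : u ≫ c = 0 := by
    rw [← cancel_epi eE.hom, comp_zero]
    exact hom_eq_zero_of_isKProjective (n := b) (fun i hi => hE i (Or.inl hi))
      (DerivedCategory.TStructure.t.isLE_shift P (b - 1) 1 (b - 1 - 1) (by lia) |> fun h' =>
        isLE_mono h' (by lia)) _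
  obtain ⟨f, hf⟩ : ∃ f : S.obj F ⟶ X, u = f ≫ g := Triangle.coyoneda_exact₃ _ hd u hz
  have hcone : ConeLE f (b - 1) := by
    rw [coneLE_iff]
    refine ⟨fun j hj => ⟨0, (DerivedCategory.isZero_of_isLE (S.obj F) b j (by lia)).eq_of_src _ _,
      (DerivedCategory.isZero_of_isLE X b j (by lia)).eq_of_src _ _⟩, ?_⟩
    rw [sub_add_cancel]
    let H := DerivedCategory.homologyFunctor (ModuleCat.{u} A) b
    have : Mono (H.map g) :=
      (DerivedCategory.HomologySequence.mono_homologyMap_mor₂_iff _ hd b).2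
        ((DerivedCategory.isZero_of_isLE P (b - 1) b (by lia)).eq_of_src _ _)
    have : Epi (π ≫ eM.hom) := by
      have : Epi π := (ModuleCat.epi_iff_surjective π).2 hπ
      infer_instance
    have hu : Epi (H.map u) := by
      let iso := DerivedCategory.singleFunctorCompHomologyFunctorIso (ModuleCat.{u} A) b
      have : H.map u = (iso.app F).hom ≫ (π ≫ eM.hom) ≫ (iso.app M).inv := by
        rw [← Category.assoc, Iso.eq_comp_inv]
        exact iso.hom.naturality (π ≫ eM.hom)
      rw [this]
      infer_instance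
    constructor
    intro W a a' haa
    have hs : Function.Surjective (H.map u) := (ModuleCat.epi_iff_surjective _).1 hu
    have hm : Function.Injective (H.map g) := (ModuleCat.mono_iff_injective _).1 inferInstance
    ext x
    obtain ⟨y, hy⟩ := hs (H.map g x)
    have hx : H.map f y = x := hm (by
      rw [← CategoryTheory.comp_apply, ← H.map_comp, ← hf, hy])
    rw [← hx, ← CategoryTheory.comp_apply, haa, CategoryTheory.comp_apply]
  exact ⟨f, hcone⟩

include hB in
/-- Pseudo-coherence descends. -/
theorem pcn_desc [Finite ι] (m : ℤ) (X : Dual.D A)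
    (h : ∀ i, PCn (ff (B i)) m ((G B i).mapDerivedCategory.obj X)) : PCn (ff A) m X := by
  obtain ⟨b, hb⟩ := exists_isLE hB X fun i => (h i).exists_isLE
  obtain ⟨k, hk⟩ : ∃ k : ℕ, b + 1 ≤ m + k := ⟨(b + 1 - m).toNat, by lia⟩
  induction k generalizing X b with
  | zero => exact pcn_of_isLE good_ff (isLE_mono hb (by lia))
  | succ k ih =>
    by_cases hbm : b < m
    · exact pcn_of_isLE good_ff (isLE_mono hb (by lia))
    have hfin : Module.Finite A (Dual.HD A X b) := finite_of_detects hB _ fun i => by
      obtain ⟨e⟩ := nonempty_homology_iso B i X b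
      have := (finite_top ((pcn_ff_iff_fproj _ _).1 (h i)) (by lia) (ExactPush.isLE_map _ hb)).1
      exact Module.Finite.equiv (e ≪≫ (FlatBC.extEquiv A (B i) _).toModuleIso).toLinearEquiv
    obtain ⟨F, π, hF, hπ⟩ := exists_free_cover (A := A) (Dual.HD A X b)
    obtain ⟨f, hcone⟩ := exists_lift_top X b hb hF π hπ
    obtain ⟨Z, q, r, hdZ, hZ⟩ := hcone
    have hTZ : PCn (ff A) m Z := by
      refine ih Z (fun i => ?_) (b - 1) hZ (by lia)
      exact PCn.cone good_ff projective_of_ff _
        ((G B i).mapDerivedCategory.map_distinguished _ hdZ)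
        (((bdd_single good_ff (ext_ff (algebraMap A (B i)) F hF) b).pcn _).of_iso
          (ExactPush.mapSingle (G B i) F b).symm) (h i)
    exact PCn.ext good_ff projective_of_ff _ hdZ ((bdd_single good_ff hF b).pcn m) hTZ

include hB in
/-- Tor amplitude descends. -/
theorem bdd_flat_desc (X : Dual.D A) (a b : ℤ)
    (h : ∀ i, Bdd (flat (B i)) a b ((G B i).mapDerivedCategory.obj X)) : Bdd (flat A) a b X := by
  obtain ⟨E, hb, hp, ⟨e⟩⟩ := ba_free (isLE_desc hB X b fun i => (h i).isLE)
  have hf : ∀ j, flat A (E.X j) := fun j => flat_of_free _ (hp j)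
  have hc : Module.Flat A ((E.X a) ⧸ LinearMap.range (E.d (a - 1) a).hom) := by
    refine flat_of_detects hB _ fun i => ?_
    let E' := ((G B i).mapHomologicalComplex (ComplexShape.up ℤ)).obj E
    have := flat_coker E' (fun j hj => (G B i).map_isZero (hb j hj))
      (fun j => ext_flat (algebraMap A (B i)) _ (hf j))
      ((h i).of_iso ((ExactPush.mapQ (G B i) E).symm ≪≫ (G B i).mapDerivedCategory.mapIso e).symm)
    let iso : ModuleCat.of (B i) ((E'.X a) ⧸ LinearMap.range (E'.d (a - 1) a).hom) ≅
        ModuleCat.of (B i) (B i ⊗[A] ((E.X a) ⧸ LinearMap.range (E.d (a - 1) a).hom)) :=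
      (ModuleCat.cokernelIsoRangeQuotient (E'.d (a - 1) a)).symm ≪≫
        (PreservesCokernel.iso (G B i) (E.d (a - 1) a)).symm ≪≫
        (G B i).mapIso (ModuleCat.cokernelIsoRangeQuotient (E.d (a - 1) a)) ≪≫
        (FlatBC.extEquiv A (B i) _).toModuleIso
    exact Module.Flat.of_linearEquiv iso.toLinearEquiv.symm
  exact (bdd_of_opcycles good_flat hb (fun j _ => hf j)
    (isGE_of_iso' e.symm (isGE_desc hB X a fun i => (h i).isGE)) hc).of_iso e

include hB in
/-- Perfectness descends. -/
theorem pf_desc [Finite ι] (X : Dual.D A)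
    (h : ∀ i, Perfect.Pf ((G B i).mapDerivedCategory.obj X)) : Perfect.Pf X := by
  choose a b hab using h
  obtain ⟨a', ha'⟩ := (Set.finite_range a).bddBelow
  obtain ⟨b', hb'⟩ := (Set.finite_range b).bddAbove
  exact pf_of_pcn_of_flat (a := a') (c := b')
    (pcn_desc hB _ X fun i => Perfect.Pf.pcn ⟨a i, b i, hab i⟩ _)
    (bdd_flat_desc hB X a' b' fun i =>
      ((hab i).mono (ha' ⟨i, rfl⟩) (hb' ⟨i, rfl⟩)).of_le flat_of_fproj)

end Groth.Agent.Lib.DR.Descent
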