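import Groth.Agent.Lib.DR.PseudoCoherent

/-!
# Finiteness of the top cohomology of pseudo-coherent objects
-/

universe u

open CategoryTheory CategoryTheory.Limits CategoryTheory.Pretriangulated
open Groth.Agent.Lib.DR.Basic Groth.Agent.Lib.DR.FiniteComplex Groth.Agent.Lib.DR.PseudoCoherent

attribute [local instance] HasDerivedCategory.standard

namespace Groth.Agent.Lib.DR.TopCohomology

variable {A : Type u} [CommRing A]

lemma range_eq_ker (E : DRing.Cx A) (i j k : ℤ) (hij : i + 1 = j) (hjk : j + 1 = k)
    (h : IsZero (E.homology j)) :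
    LinearMap.range (E.d i j).hom = LinearMap.ker (E.d j k).hom := by
  have he : E.ExactAt j := (E.exactAt_iff_isZero_homology j).2 h
  rw [E.exactAt_iff' i j k ((ComplexShape.up ℤ).prev_eq' hij) ((ComplexShape.up ℤ).next_eq' hjk),
    ShortComplex.moduleCat_exact_iff_range_eq_ker] at he
  exact he

/-- In a bounded above exact tail of projectives the cycles are finite projective. -/
lemma cycles_fproj (E : DRing.Cx A) (hp : ∀ i, fproj A (E.X i)) (b n : ℤ)
    (hb : ∀ i, b < i → IsZero (E.X i)) (hH : ∀ i, n < i → IsZero (E.homology i)) :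
    Module.Finite A (LinearMap.ker (E.d n (n + 1)).hom) ∧
      Module.Projective A (LinearMap.ker (E.d n (n + 1)).hom) := by
  obtain ⟨k, hk⟩ : ∃ k : ℕ, b + 1 ≤ n + k := ⟨(b + 1 - n).toNat, by lia⟩
  induction k generalizing n with
  | zero =>
    have hX := ModuleCat.subsingleton_of_isZero (hb n (by lia))
    have := Module.Free.of_subsingleton A (LinearMap.ker (E.d n (n + 1)).hom)
    exact ⟨finite_of_subsingleton' _, inferInstance⟩
  | succ k ih =>
    obtain ⟨_, _⟩ := ih (n + 1) (fun i hi => hH i (by lia)) (by lia)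
    obtain ⟨_, _⟩ := hp n
    let p : E.X n →ₗ[A] LinearMap.ker (E.d (n + 1) (n + 1 + 1)).hom :=
      (E.d n (n + 1)).hom.codRestrict _ fun x => by
        simp only [LinearMap.mem_ker, ← LinearMap.comp_apply, ← ModuleCat.hom_comp, E.d_comp_d,
          ModuleCat.hom_zero, LinearMap.zero_apply]
    have hsurj : Function.Surjective p := fun ⟨y, hy⟩ => by
      rw [← range_eq_ker E n (n + 1) (n + 1 + 1) rfl rfl (hH _ (by lia))] at hy
      obtain ⟨x, hx⟩ := hy
      exact ⟨x, Subtype.ext hx⟩
    obtain ⟨s, hs⟩ := Module.projective_lifting_property p LinearMap.id hsurj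
    have hs' : ∀ y, p (s y) = y := fun y => LinearMap.congr_fun hs y
    let r : E.X n →ₗ[A] LinearMap.ker (E.d n (n + 1)).hom :=
      (LinearMap.id - s ∘ₗ p).codRestrict _ fun x => by
        have : p (x - s (p x)) = 0 := by simp [hs']
        exact congrArg Subtype.val this
    have hr : r ∘ₗ (LinearMap.ker (E.d n (n + 1)).hom).subtype = LinearMap.id := by
      apply LinearMap.ext
      rintro ⟨x, hx⟩
      have : p x = 0 := Subtype.ext hx
      refine Subtype.ext ?_
      change x - s (p x) = x
      rw [this, map_zero, sub_zero]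
    exact ⟨Module.Finite.of_surjective r fun y => ⟨y.1, LinearMap.congr_fun hr y⟩,
      Module.Projective.of_split _ _ hr⟩

lemma finitePresentation_homology (E : DRing.Cx A) (hp : ∀ i, fproj A (E.X i)) (b n : ℤ)
    (hb : ∀ i, b < i → IsZero (E.X i)) (hH : ∀ i, n < i → IsZero (E.homology i)) :
    Module.FinitePresentation A (E.homology n) := by
  obtain ⟨_, _⟩ := cycles_fproj E hp b n hb hH
  obtain ⟨_, _⟩ := hp (n - 1)
  let S := E.sc' (n - 1) n (n + 1)
  have : Module.Finite A S.X₁ := ‹Module.Finite A (E.X (n - 1))›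
  have : Module.Finite A (LinearMap.ker S.g.hom) := ‹Module.Finite A (LinearMap.ker (E.d n (n + 1)).hom)›
  have : Module.Projective A (LinearMap.ker S.g.hom) :=
    ‹Module.Projective A (LinearMap.ker (E.d n (n + 1)).hom)›
  have : Module.FinitePresentation A (LinearMap.ker S.g.hom) :=
    Module.finitePresentation_of_projective _ _
  have hq : Module.FinitePresentation A (LinearMap.ker S.g.hom ⧸ LinearMap.range S.moduleCatToCycles) :=
    Module.finitePresentation_of_surjective (LinearMap.range S.moduleCatToCycles).mkQ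
      (Submodule.mkQ_surjective _) (by
        rw [Submodule.ker_mkQ, ← Module.Finite.iff_fg]
        exact Module.Finite.range _)
  have : Module.FinitePresentation A (S.moduleCatLeftHomologyData.H) := hq
  exact Module.FinitePresentation.of_equiv
    ((S.moduleCatHomologyIso).symm ≪≫ (ShortComplex.homologyMapIso
      (E.isoSc' (n - 1) n (n + 1) (by simp) (by simp))).symm).toLinearEquiv

/-- If `X` is `m`-pseudo-coherent and `X ≤ n` with `m ≤ n`, then `H^n(X)` is finite. -/
lemma finite_top {m n : ℤ} {X : Dual.D A} (h : PCn (fproj A) m X) (hmn : m ≤ n) (hX : X.IsLE n) :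
    Module.Finite A (Dual.HD A X n) ∧ (m < n → Module.FinitePresentation A (Dual.HD A X n)) := by
  obtain ⟨E, a, b, f, hE, hp, hf⟩ := h
  have hH : ∀ i, n < i → IsZero (E.homology i) := fun i hi => by
    have := hf.isIso_map i (by lia)
    exact ((DerivedCategory.isZero_of_isLE X n i hi).of_iso
      (asIso ((DerivedCategory.homologyFunctor (ModuleCat.{u} A) i).map f))).of_iso
      (homologyQIso E i).symm
  have hfp := finitePresentation_homology E hp b n (fun i hi => hE i (Or.inr hi)) hH
  have := hf.epi_map n (by lia)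
  refine ⟨Module.Finite.of_surjective ((homologyQIso E n).inv ≫
    (DerivedCategory.homologyFunctor (ModuleCat.{u} A) n).map f).hom
    ((ModuleCat.epi_iff_surjective _).1 inferInstance), fun hmn' => ?_⟩
  have := hf.isIso_map n (by lia)
  exact Module.FinitePresentation.of_equiv ((homologyQIso E n).symm ≪≫
    asIso ((DerivedCategory.homologyFunctor (ModuleCat.{u} A) n).map f)).toLinearEquiv

/-- A bounded complex of finite projectives is pseudo-coherent with finite free approximations. -/
lemma pcn_ff_single_fproj (M : ModuleCat.{u} A) (hM : fproj A M) (n m : ℤ) :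
    PCn (ff A) m ((DerivedCategory.singleFunctor (ModuleCat.{u} A) n).obj M) := by
  obtain ⟨_, _⟩ := hM
  obtain ⟨F, π, hF, hπ⟩ := exists_free_cover (A := A) M
  obtain ⟨s, hs⟩ := Module.projective_lifting_property π.hom LinearMap.id hπ
  let S := ShortComplex.moduleCatMk (LinearMap.ker π.hom).subtype π.hom (LinearMap.comp_ker_subtype _)
  have hS : S.ShortExact :=
    { exact := by
        rw [ShortComplex.moduleCat_exact_iff_range_eq_ker]
        exact Submodule.range_subtype _
      mono_f := (ModuleCat.mono_iff_injective _).2 Subtype.val_injective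
      epi_g := (ModuleCat.epi_iff_surjective _).2 hπ }
  have he : SplitEpi S.g := ⟨ModuleCat.ofHom s, ModuleCat.hom_ext hs⟩
  let sp : S.Splitting := ShortComplex.Splitting.ofExactOfSection S hS.exact he.section_ he.id hS.mono_f
  let e : S.X₁ ⊞ S.X₃ ≅ F := (sp.isoBinaryBiproduct).symm
  let G := DerivedCategory.singleFunctor (ModuleCat.{u} A) n
  have := preservesBinaryBiproduct_of_preservesBiproduct G S.X₁ S.X₃
  have : PCn (ff A) m (G.obj S.X₁ ⊞ G.obj S.X₃) :=
    ((bdd_single good_ff hF n).pcn m).of_iso
      (G.mapIso e.symm ≪≫ G.mapBiprod S.X₁ S.X₃)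
  exact (PCn.biprod_summands good_ff projective_of_ff this).2

lemma pcn_ff_iff_fproj (m : ℤ) (X : Dual.D A) : PCn (ff A) m X ↔ PCn (fproj A) m X := by
  constructor
  · rintro ⟨E, a, b, f, hE, hp, hf⟩
    exact ⟨E, a, b, f, hE, fun i => fproj_of_ff _ (hp i), hf⟩
  · rintro ⟨E, a, b, f, hE, hp, hf⟩
    refine PCn.trans (bdd_induction good_fproj (PCn (ff A) m) (fun h => ?_) (fun T hT h₁ h₃ => ?_)
      E a b hE hp (fun S i _ _ ⟨e⟩ => pcn_ff_single_fproj S (good_fproj.iso e.symm (hp i)) i m)) hf
    · exact (bdd_zero good_ff h 0 0).pcn m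
    · exact PCn.ext good_ff projective_of_ff T hT h₁ h₃

end Groth.Agent.Lib.DR.TopCohomology
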