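import Groth.Agent.Lib.DR.Descent
import Groth.Agent.Lib.DR.Coherent
import Groth.Agent.Lib.Regular.Serre
import Mathlib.RingTheory.Spectrum.Prime.FreeLocus
import Mathlib.RingTheory.LocalRing.Module

/-!
# Finite modules over regular Noetherian rings are perfect
-/

universe u

open CategoryTheory CategoryTheory.Limits CategoryTheory.Pretriangulated TensorProduct
open Groth.Agent.Lib.DR
open Groth.Agent.Lib.DR.Basic Groth.Agent.Lib.DR.FiniteComplex Groth.Agent.Lib.DR.PseudoCoherent
open Groth.Agent.Lib.DR.Perfect Groth.Agent.Lib.Regular

attribute [local instance] HasDerivedCategory.standard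

namespace Groth.Agent.Lib.DR.RegularPerfect

variable {A : Type u} [CommRing A] [IsNoetherianRing A]

lemma pdle_ker_localized {F M : Type u} [AddCommGroup M] [Module A M] [AddCommGroup F] [Module A F]
    [Module.Free A F] (f : F →ₗ[A] M) (hf : Function.Surjective f) (S : Submonoid A) (n : ℕ)
    (h : PD.PDle (Localization S) (LocalizedModule S M) (n + 1)) :
    PD.PDle (Localization S) (LocalizedModule S (LinearMap.ker f)) n := by
  have : Module.Projective (Localization S) (LocalizedModule S F) :=
    Module.Projective.of_equiv (LocalizedModule.equivTensorProduct S F).symm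
  let g := LocalizedModule.map S f
  let i := LocalizedModule.map S (LinearMap.ker f).subtype
  have hg : Function.Surjective g := LocalizedModule.map_surjective S f hf
  have hi : Function.Injective i :=
    LocalizedModule.map_injective S _ (Submodule.subtype_injective _)
  have hex : Function.Exact i g := LocalizedModule.map_exact S _ _ (LinearMap.exact_subtype_ker_map f)
  exact PD.pdle_of_equiv
    ((LinearEquiv.ofInjective i hi).trans (LinearEquiv.ofEq _ _ (LinearMap.exact_iff.1 hex).symm)).symm
    ((PD.pdle_succ_iff hg n).1 h)

/-- A finite module of finite projective dimension at `p` is perfect near `p`. -/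
theorem exists_pmod_away (n : ℕ) : ∀ (M : Type u) [AddCommGroup M] [Module A M] [Module.Finite A M]
    (p : PrimeSpectrum A), PD.PDle (Localization.AtPrime p.asIdeal) (LocalizedModule p.asIdeal.primeCompl M) n →
    ∃ f : A, f ∉ p.asIdeal ∧ pmod (Localization.Away f) (ModuleCat.of _ (Localization.Away f ⊗[A] M)) := by
  induction n with
  | zero =>
    intro M _ _ _ p h
    have : Module.FinitePresentation A M := Module.finitePresentation_of_finite A M
    have := PD.pdle_zero_iff.1 h
    have hp : p ∈ Module.freeLocus A M := by
      rw [Module.mem_freeLocus]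
      exact Module.free_of_flat_of_isLocalRing
    obtain ⟨U, ⟨f, rfl⟩, hpU, hU⟩ :=
      (PrimeSpectrum.isTopologicalBasis_basic_opens.mem_nhds_iff).1
        (Module.isOpen_freeLocus.mem_nhds hp)
    refine ⟨f, hpU, ?_⟩
    have hproj := Module.basicOpen_subset_freeLocus_iff.1 hU
    have : Module.Projective (Localization.Away f) (Localization.Away f ⊗[A] M) :=
      Module.Projective.of_equiv (LocalizedModule.equivTensorProduct (Submonoid.powers f) M)
    exact ⟨0, 0, bdd_single good_fproj (P := fproj (Localization.Away f))
      (M := ModuleCat.of _ (Localization.Away f ⊗[A] M)) ⟨inferInstance, this⟩ 0⟩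
  | succ n ih =>
    intro M _ _ _ p h
    obtain ⟨k, π, hπ⟩ := Module.Finite.exists_fin' A M
    obtain ⟨f, hf, hK⟩ := ih (LinearMap.ker π) p (pdle_ker_localized π hπ _ n h)
    refine ⟨f, hf, ?_⟩
    let Af := Localization.Away f
    have : Module.Flat A Af := IsLocalization.flat _ (Submonoid.powers f)
    let i := (LinearMap.ker π).subtype.baseChange Af
    let g := π.baseChange Af
    have hex : Function.Exact i g := by
      rw [LinearMap.baseChange_eq_ltensor, LinearMap.baseChange_eq_ltensor]
      exact lTensor_exact Af (LinearMap.exact_subtype_ker_map π) hπ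
    have hinj : Function.Injective i := by
      rw [LinearMap.baseChange_eq_ltensor]
      exact Module.Flat.lTensor_preserves_injective_linearMap _ (Submodule.subtype_injective _)
    have hsurj : Function.Surjective g := by
      rw [LinearMap.baseChange_eq_ltensor]
      exact LinearMap.lTensor_surjective _ hπ
    let S : ShortComplex (ModuleCat.{u} Af) :=
      ShortComplex.mk (ModuleCat.ofHom i) (ModuleCat.ofHom g)
        (ModuleCat.hom_ext hex.linearMap_comp_eq_zero)
    have hS : S.ShortExact :=
      { exact := (ShortComplex.ShortExact.moduleCat_exact_iff_function_exact S).2 hex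
        mono_f := (ModuleCat.mono_iff_injective _).2 hinj
        epi_g := (ModuleCat.epi_iff_surjective _).2 hsurj }
    have h2 : pmod Af S.X₂ := ⟨0, 0, bdd_single good_fproj (P := fproj Af) (M := S.X₂)
      ⟨inferInstanceAs (Module.Finite Af (Af ⊗[A] (Fin k → A))),
        inferInstanceAs (Module.Projective Af (Af ⊗[A] (Fin k → A)))⟩ 0⟩
    exact pf₃ _ hS.singleTriangle_distinguished hK h2

theorem pmod_of_regular (hreg : ∀ p : PrimeSpectrum A, IsRegularLocalRing (Localization.AtPrime p.asIdeal))
    (M : Type u) [AddCommGroup M] [Module A M] [Module.Finite A M] :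
    Pf (Dual.inD A M) := by
  have hloc : ∀ p : PrimeSpectrum A, ∃ f : A, f ∉ p.asIdeal ∧
      pmod (Localization.Away f) (ModuleCat.of _ (Localization.Away f ⊗[A] M)) := fun p => by
    have := hreg p
    exact exists_pmod_away _ M p (Serre.pdle_all _)
  choose f hf hpm using hloc
  have htop : Ideal.span (Set.range f) = ⊤ := by
    by_contra hne
    obtain ⟨m, hm, hle⟩ := Ideal.exists_le_maximal _ hne
    exact hf ⟨m, hm.isPrime⟩ (hle (Ideal.subset_span ⟨_, rfl⟩))
  obtain ⟨s, hs, hs1⟩ := Submodule.mem_span_finite_of_mem_span (show (1 : A) ∈ Ideal.span (Set.range f) by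
    rw [htop]; trivial)
  have hsp : Ideal.span (Set.range fun j : Fin s.card => (s.equivFin.symm j : A)) = ⊤ := by
    rw [Ideal.eq_top_iff_one]
    convert hs1 using 3
    ext x
    exact ⟨by rintro ⟨j, rfl⟩; exact (s.equivFin.symm j).2, fun hx => ⟨s.equivFin ⟨x, hx⟩, by simp⟩⟩
  have : ∀ j : Fin s.card, Module.Flat A (Localization.Away (s.equivFin.symm j : A)) :=
    fun j => IsLocalization.flat _ (Submonoid.powers (s.equivFin.symm j : A))
  refine Descent.pf_desc (Descent.detects_away _ hsp) _ fun j => ?_
  obtain ⟨p, hp⟩ := hs (s.equivFin.symm j).2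
  have := hpm p
  rw [hp] at this
  exact Pf.of_iso this (FlatBC.mapInD (A := A) (B := Localization.Away (s.equivFin.symm j : A)) (M := M)).symm

end Groth.Agent.Lib.DR.RegularPerfect
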