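import Mathlib.Algebra.Homology.DerivedCategory.FullyFaithful
import Mathlib.Algebra.Homology.DerivedCategory.TStructure
import Mathlib.Algebra.Homology.DerivedCategory.ShortExact
import Mathlib.Algebra.Homology.DerivedCategory.KProjective

/-!
# t-structure calculus in a derived category

`ConeLE f n` says that some cone of `f` is `≤ n`, i.e. `H^i f` is an isomorphism for `i > n + 1`
and an epimorphism for `i = n + 1`.
-/

universe w v u

open CategoryTheory CategoryTheory.Limits CategoryTheory.Pretriangulated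

namespace Groth.Agent.Lib.DR.Basic

variable {C : Type u} [Category.{v} C] [Abelian C] [HasDerivedCategory.{w} C]

local notation "H^" => DerivedCategory.homologyFunctor C

lemma isLE_obj₂ (T : Triangle (DerivedCategory C)) (hT : T ∈ distTriang _) (n : ℤ)
    (h₁ : T.obj₁.IsLE n) (h₃ : T.obj₃.IsLE n) : T.obj₂.IsLE n := by
  rw [DerivedCategory.isLE_iff]
  intro i hi
  exact (DerivedCategory.HomologySequence.exact₂ T hT i).isZero_X₂
    ((DerivedCategory.isZero_of_isLE T.obj₁ n i hi).eq_of_src _ _)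
    ((DerivedCategory.isZero_of_isLE T.obj₃ n i hi).eq_of_tgt _ _)

lemma isGE_obj₂ (T : Triangle (DerivedCategory C)) (hT : T ∈ distTriang _) (n : ℤ)
    (h₁ : T.obj₁.IsGE n) (h₃ : T.obj₃.IsGE n) : T.obj₂.IsGE n := by
  rw [DerivedCategory.isGE_iff]
  intro i hi
  exact (DerivedCategory.HomologySequence.exact₂ T hT i).isZero_X₂
    ((DerivedCategory.isZero_of_isGE T.obj₁ n i hi).eq_of_src _ _)
    ((DerivedCategory.isZero_of_isGE T.obj₃ n i hi).eq_of_tgt _ _)

lemma isLE_obj₃ (T : Triangle (DerivedCategory C)) (hT : T ∈ distTriang _) (n : ℤ)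
    (h₁ : T.obj₁.IsLE (n + 1)) (h₂ : T.obj₂.IsLE n) : T.obj₃.IsLE n :=
  isLE_obj₂ _ (rot_of_distTriang _ hT) n h₂
    (DerivedCategory.TStructure.t.isLE_shift T.obj₁ (n + 1) 1 n)

lemma isLE_obj₁ (T : Triangle (DerivedCategory C)) (hT : T ∈ distTriang _) (n : ℤ)
    (h₂ : T.obj₂.IsLE n) (h₃ : T.obj₃.IsLE (n - 1)) : T.obj₁.IsLE n :=
  isLE_obj₂ _ (inv_rot_of_distTriang _ hT) n
    (DerivedCategory.TStructure.t.isLE_shift T.obj₃ (n - 1) (-1) n) h₂

lemma isGE_obj₁ (T : Triangle (DerivedCategory C)) (hT : T ∈ distTriang _) (n : ℤ)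
    (h₂ : T.obj₂.IsGE n) (h₃ : T.obj₃.IsGE (n - 1)) : T.obj₁.IsGE n :=
  isGE_obj₂ _ (inv_rot_of_distTriang _ hT) n
    (DerivedCategory.TStructure.t.isGE_shift T.obj₃ (n - 1) (-1) n) h₂

lemma isGE_obj₃ (T : Triangle (DerivedCategory C)) (hT : T ∈ distTriang _) (n : ℤ)
    (h₁ : T.obj₁.IsGE (n + 1)) (h₂ : T.obj₂.IsGE n) : T.obj₃.IsGE n :=
  isGE_obj₂ _ (rot_of_distTriang _ hT) n h₂
    (DerivedCategory.TStructure.t.isGE_shift T.obj₁ (n + 1) 1 n)

lemma isLE_of_isZero {X : DerivedCategory C} (h : IsZero X) (n : ℤ) : X.IsLE n := by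
  rw [DerivedCategory.isLE_iff]
  exact fun i _ => Functor.map_isZero _ h

lemma isGE_of_isZero {X : DerivedCategory C} (h : IsZero X) (n : ℤ) : X.IsGE n := by
  rw [DerivedCategory.isGE_iff]
  exact fun i _ => Functor.map_isZero _ h

lemma isLE_mono {X : DerivedCategory C} {n n' : ℤ} (h : X.IsLE n) (hn : n ≤ n') : X.IsLE n' :=
  DerivedCategory.TStructure.t.isLE_of_le X n n' hn

lemma isGE_mono {X : DerivedCategory C} {n n' : ℤ} (h : X.IsGE n') (hn : n ≤ n') : X.IsGE n :=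
  DerivedCategory.TStructure.t.isGE_of_ge X n n' hn

lemma isLE_of_iso' {X Y : DerivedCategory C} (e : X ≅ Y) {n : ℤ} (h : X.IsLE n) : Y.IsLE n :=
  DerivedCategory.TStructure.t.isLE_of_iso e n

lemma isGE_of_iso' {X Y : DerivedCategory C} (e : X ≅ Y) {n : ℤ} (h : X.IsGE n) : Y.IsGE n :=
  DerivedCategory.TStructure.t.isGE_of_iso e n

lemma isLE_shift_iff' (X : DerivedCategory C) (a n n' : ℤ) (h : a + n' = n) :
    (X⟦a⟧).IsLE n' ↔ X.IsLE n :=
  DerivedCategory.TStructure.t.isLE_shift_iff X n a n' h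

lemma isGE_shift_iff' (X : DerivedCategory C) (a n n' : ℤ) (h : a + n' = n) :
    (X⟦a⟧).IsGE n' ↔ X.IsGE n :=
  DerivedCategory.TStructure.t.isGE_shift_iff X n a n' h

/-- Some cone of `f` is `≤ n`. -/
def ConeLE {X Y : DerivedCategory C} (f : X ⟶ Y) (n : ℤ) : Prop :=
  ∃ (Z : DerivedCategory C) (g : Y ⟶ Z) (h : Z ⟶ X⟦(1 : ℤ)⟧),
    Triangle.mk f g h ∈ distTriang _ ∧ Z.IsLE n

lemma coneLE_of_triangle (T : Triangle (DerivedCategory C)) (hT : T ∈ distTriang _) {n : ℤ}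
    (h : T.obj₃.IsLE n) : ConeLE T.mor₁ n :=
  ⟨T.obj₃, T.mor₂, T.mor₃, hT, h⟩

/-- A triangle on a given `f` which is `ConeLE` has third object `≤ n`. -/
lemma isLE_obj₃_of_coneLE (T : Triangle (DerivedCategory C)) (hT : T ∈ distTriang _) {n : ℤ}
    (h : ConeLE T.mor₁ n) : T.obj₃.IsLE n := by
  obtain ⟨Z, g, k, hd, hZ⟩ := h
  obtain ⟨e, -⟩ := exists_iso_of_arrow_iso _ _ hd hT (Arrow.isoMk (Iso.refl _) (Iso.refl _) ((Category.id_comp _).trans (Category.comp_id _).symm))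
  exact isLE_of_iso' (Triangle.π₃.mapIso e) hZ

lemma ConeLE.mono {X Y : DerivedCategory C} {f : X ⟶ Y} {n n' : ℤ} (h : ConeLE f n) (hn : n ≤ n') :
    ConeLE f n' :=
  let ⟨Z, g, k, hd, hZ⟩ := h
  ⟨Z, g, k, hd, isLE_mono hZ hn⟩

lemma coneLE_of_isIso {X Y : DerivedCategory C} (f : X ⟶ Y) [IsIso f] (n : ℤ) : ConeLE f n := by
  obtain ⟨Z, g, h, hd⟩ := distinguished_cocone_triangle f
  exact ⟨Z, g, h, hd, isLE_of_isZero
    ((Triangle.isZero₃_iff_isIso₁ _ hd).2 (show IsIso f from inferInstance)) n⟩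

lemma ConeLE.comp {X Y Z : DerivedCategory C} {f : X ⟶ Y} {g : Y ⟶ Z} {n : ℤ}
    (hf : ConeLE f n) (hg : ConeLE g n) : ConeLE (f ≫ g) n := by
  obtain ⟨A, a, a', ha, hA⟩ := hf
  obtain ⟨B, b, b', hb, hB⟩ := hg
  obtain ⟨D, d, d', hd⟩ := distinguished_cocone_triangle (f ≫ g)
  exact ⟨D, d, d', hd,
    isLE_obj₂ _ (Triangulated.someOctahedron rfl ha hb hd).mem n hA hB⟩

lemma ConeLE.comp_iso {X Y Z : DerivedCategory C} {f : X ⟶ Y} {n : ℤ} (hf : ConeLE f n)
    (e : Y ≅ Z) : ConeLE (f ≫ e.hom) n :=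
  hf.comp (coneLE_of_isIso e.hom n)

lemma ConeLE.iso_comp {X Y Z : DerivedCategory C} {g : Y ⟶ Z} {n : ℤ} (hg : ConeLE g n)
    (e : X ≅ Y) : ConeLE (e.hom ≫ g) n :=
  (coneLE_of_isIso e.hom n).comp hg

lemma coneLE_of_isLE {X Y : DerivedCategory C} (f : X ⟶ Y) {n : ℤ} (hX : X.IsLE (n + 1))
    (hY : Y.IsLE n) : ConeLE f n := by
  obtain ⟨Z, g, h, hd⟩ := distinguished_cocone_triangle f
  exact ⟨Z, g, h, hd, isLE_obj₃ _ hd n hX hY⟩

lemma ConeLE.isLE_target {X Y : DerivedCategory C} {f : X ⟶ Y} {n : ℤ} (hf : ConeLE f n)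
    (hX : X.IsLE n) : Y.IsLE n :=
  let ⟨_, _, _, hd, hZ⟩ := hf
  isLE_obj₂ _ hd n hX hZ

lemma ConeLE.isLE_source {X Y : DerivedCategory C} {f : X ⟶ Y} {n : ℤ} (hf : ConeLE f n)
    (hY : Y.IsLE (n + 1)) : X.IsLE (n + 1) :=
  let ⟨_, _, _, hd, hZ⟩ := hf
  isLE_obj₁ _ hd (n + 1) hY (by simpa using hZ)

lemma isIso_map_of_isZero (T : Triangle (DerivedCategory C)) (hT : T ∈ distTriang _) (i j : ℤ)
    (hij : i + 1 = j) (hi : IsZero ((H^ i).obj T.obj₃)) (hj : IsZero ((H^ j).obj T.obj₃)) :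
    IsIso ((H^ j).map T.mor₁) := by
  have : Mono ((H^ j).map T.mor₁) :=
    (DerivedCategory.HomologySequence.mono_homologyMap_mor₁_iff T hT i j hij).2
      (hi.eq_of_src _ _)
  have : Epi ((H^ j).map T.mor₁) :=
    (DerivedCategory.HomologySequence.epi_homologyMap_mor₁_iff T hT j).2 (hj.eq_of_tgt _ _)
  exact isIso_of_mono_of_epi _

lemma ConeLE.isIso_map {X Y : DerivedCategory C} {f : X ⟶ Y} {n : ℤ} (hf : ConeLE f n) (i : ℤ)
    (hi : n + 1 < i) : IsIso ((H^ i).map f) := by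
  obtain ⟨Z, g, h, hd, hZ⟩ := hf
  exact isIso_map_of_isZero _ hd (i - 1) i (by lia)
    (DerivedCategory.isZero_of_isLE Z n (i - 1) (by lia))
    (DerivedCategory.isZero_of_isLE Z n i (by lia))

lemma ConeLE.epi_map {X Y : DerivedCategory C} {f : X ⟶ Y} {n : ℤ} (hf : ConeLE f n) (i : ℤ)
    (hi : n < i) : Epi ((H^ i).map f) := by
  obtain ⟨Z, g, h, hd, hZ⟩ := hf
  exact (DerivedCategory.HomologySequence.epi_homologyMap_mor₁_iff _ hd i).2
    ((DerivedCategory.isZero_of_isLE Z n i hi).eq_of_tgt _ _)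

lemma coneLE_iff {X Y : DerivedCategory C} (f : X ⟶ Y) (n : ℤ) :
    ConeLE f n ↔ (∀ i : ℤ, n + 1 < i → IsIso ((H^ i).map f)) ∧ Epi ((H^ (n + 1)).map f) := by
  refine ⟨fun h => ⟨h.isIso_map, h.epi_map _ (by lia)⟩, fun h => ?_⟩
  obtain ⟨Z, g, k, hd⟩ := distinguished_cocone_triangle f
  refine ⟨Z, g, k, hd, ?_⟩
  rw [DerivedCategory.isLE_iff]
  intro i hi
  let T := Triangle.mk f g k
  have hm : Mono ((H^ (i + 1)).map f) := by
    have := h.1 (i + 1) (by lia)
    infer_instance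
  have he : Epi ((H^ i).map f) := by
    by_cases h' : i = n + 1
    · subst h'
      exact h.2
    · have := h.1 i (by lia)
      infer_instance
  exact (DerivedCategory.HomologySequence.exact₃ T hd i (i + 1)).isZero_X₂
    ((DerivedCategory.HomologySequence.epi_homologyMap_mor₁_iff T hd i).1 he)
    ((DerivedCategory.HomologySequence.mono_homologyMap_mor₁_iff T hd i (i + 1)).1 hm)

lemma hom_eq_zero_of_isLE_of_isGE {X Y : DerivedCategory C} (f : X ⟶ Y) {a b : ℤ} (h : a < b)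
    (hX : X.IsLE a) (hY : Y.IsGE b) : f = 0 :=
  DerivedCategory.TStructure.t.zero_of_isLE_of_isGE f a b h hX hY

lemma isZero_of_isLE_of_isGE {X : DerivedCategory C} {a b : ℤ} (h : a < b)
    (hX : X.IsLE a) (hX' : X.IsGE b) : IsZero X := by
  rw [IsZero.iff_id_eq_zero]
  exact hom_eq_zero_of_isLE_of_isGE _ h hX hX'

/-- Truncation triangle. -/
lemma exists_trunc (X : DerivedCategory C) (a b : ℤ) (h : a + 1 = b) :
    ∃ (P R : DerivedCategory C) (f : P ⟶ X) (g : X ⟶ R) (k : R ⟶ P⟦(1 : ℤ)⟧),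
      Triangle.mk f g k ∈ distTriang _ ∧ P.IsLE a ∧ R.IsGE b := by
  obtain ⟨P, R, hP, hR, f, g, k, hd⟩ := DerivedCategory.TStructure.t.exists_triangle X a b h
  exact ⟨P, R, f, g, k, hd, ⟨hP⟩, ⟨hR⟩⟩

/-- Peel off the top cohomology: if `X ≤ n` then `X` is an extension of `H^n(X)[-n]` by something
`≤ n - 1`. -/
lemma exists_peel_top (X : DerivedCategory C) (n : ℤ) (hX : X.IsLE n) :
    ∃ (P : DerivedCategory C) (M : C) (f : P ⟶ X)
      (g : X ⟶ (DerivedCategory.singleFunctor C n).obj M)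
      (k : (DerivedCategory.singleFunctor C n).obj M ⟶ P⟦(1 : ℤ)⟧),
      Triangle.mk f g k ∈ distTriang _ ∧ P.IsLE (n - 1) ∧
        Nonempty ((H^ n).obj X ≅ M) ∧ ∀ i : ℤ, i < n → IsIso ((H^ i).map f) := by
  obtain ⟨P, R, f, g, k, hd, hP, hR⟩ := exists_trunc X (n - 1) n (by lia)
  have hR' : R.IsLE n := isLE_obj₃ _ hd n (isLE_mono hP (by lia)) hX
  obtain ⟨M, ⟨e⟩⟩ := DerivedCategory.exists_iso_singleFunctor_obj_of_isGE_of_isLE R n
  refine ⟨P, M, f, g ≫ e.hom, e.inv ≫ k, ?_, hP, ?_, ?_⟩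
  · exact isomorphic_distinguished _ hd _
      (Triangle.isoMk _ _ (Iso.refl _) (Iso.refl _) e.symm
        ((Category.comp_id _).trans (Category.id_comp _).symm)
        ((Category.assoc _ _ _).trans ((congrArg (g ≫ ·) e.hom_inv_id).trans
          ((Category.comp_id g).trans (Category.id_comp g).symm)))
        ((congrArg ((e.inv ≫ k) ≫ ·) ((shiftFunctor (DerivedCategory C) (1 : ℤ)).map_id _)).trans
          (Category.comp_id _)))
  · have h0 : IsZero ((H^ n).obj P) := DerivedCategory.isZero_of_isLE P (n - 1) n (by lia)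
    have h1 : IsZero ((H^ (n + 1)).obj P) := DerivedCategory.isZero_of_isLE P (n - 1) _ (by lia)
    let T := Triangle.mk f g k
    have : Mono ((H^ n).map g) :=
      (DerivedCategory.HomologySequence.mono_homologyMap_mor₂_iff T hd n).2 (h0.eq_of_src _ _)
    have : Epi ((H^ n).map g) :=
      (DerivedCategory.HomologySequence.epi_homologyMap_mor₂_iff T hd n (n + 1)).2
        (h1.eq_of_tgt _ _)
    have : IsIso ((H^ n).map g) := isIso_of_mono_of_epi _
    exact ⟨asIso ((H^ n).map g) ≪≫ (H^ n).mapIso e ≪≫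
      (DerivedCategory.singleFunctorCompHomologyFunctorIso C n).app M⟩
  · intro i hi
    exact isIso_map_of_isZero _ hd (i - 1) i (by lia)
      (DerivedCategory.isZero_of_isGE R n (i - 1) (by lia))
      (DerivedCategory.isZero_of_isGE R n i hi)

/-- Homology of a complex viewed in the derived category. -/
noncomputable def homologyQIso (K : CochainComplex C ℤ) (i : ℤ) :
    (H^ i).obj (DerivedCategory.Q.obj K) ≅ K.homology i :=
  (DerivedCategory.homologyFunctorFactors C i).app K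

lemma isLE_Q_of_isZero (K : CochainComplex C ℤ) (n : ℤ) (h : ∀ i, n < i → IsZero (K.X i)) :
    (DerivedCategory.Q.obj K).IsLE n := by
  have : K.IsStrictlyLE n := (K.isStrictlyLE_iff n).2 h
  infer_instance

lemma isGE_Q_of_isZero (K : CochainComplex C ℤ) (n : ℤ) (h : ∀ i, i < n → IsZero (K.X i)) :
    (DerivedCategory.Q.obj K).IsGE n := by
  have : K.IsStrictlyGE n := (K.isStrictlyGE_iff n).2 fun i hi => h i hi
  infer_instance

lemma exists_Q_map_eq {E K : CochainComplex C ℤ} [E.IsKProjective]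
    (f : DerivedCategory.Q.obj E ⟶ DerivedCategory.Q.obj K) :
    ∃ φ : E ⟶ K, DerivedCategory.Q.map φ = f := by
  obtain ⟨g, hg⟩ := (CochainComplex.IsKProjective.Qh_map_bijective E
    ((HomotopyCategory.quotient C (.up ℤ)).obj K)).surjective
      ((DerivedCategory.quotientCompQhIso C).hom.app E ≫ f ≫
        (DerivedCategory.quotientCompQhIso C).inv.app K)
  obtain ⟨φ, rfl⟩ := (HomotopyCategory.quotient C (.up ℤ)).map_surjective g
  refine ⟨φ, ?_⟩
  rw [← cancel_epi ((DerivedCategory.quotientCompQhIso C).hom.app E),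
    ← DerivedCategory.quotientCompQhIso_hom_naturality]
  rw [hg]
  simp

lemma nonempty_homotopy_of_Q_map_eq {E K : CochainComplex C ℤ} [E.IsKProjective]
    {φ ψ : E ⟶ K} (h : DerivedCategory.Q.map φ = DerivedCategory.Q.map ψ) :
    Nonempty (Homotopy φ ψ) := by
  refine ⟨HomotopyCategory.homotopyOfEq _ _ ((CochainComplex.IsKProjective.Qh_map_bijective E
    ((HomotopyCategory.quotient C (.up ℤ)).obj K)).injective ?_)⟩
  rw [← cancel_mono ((DerivedCategory.quotientCompQhIso C).hom.app K),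
    DerivedCategory.quotientCompQhIso_hom_naturality,
    DerivedCategory.quotientCompQhIso_hom_naturality, h]

/-- Morphisms out of a K-projective complex concentrated in degrees `≥ n` into an object `< n`
vanish. -/
lemma hom_eq_zero_of_isKProjective {E : CochainComplex C ℤ} [E.IsKProjective] {n : ℤ}
    (hE : ∀ i, i < n → IsZero (E.X i)) {X : DerivedCategory C} (hX : X.IsLE (n - 1))
    (f : DerivedCategory.Q.obj E ⟶ X) : f = 0 := by
  obtain ⟨K, hK, ⟨e⟩⟩ := X.exists_iso_Q_obj_of_isLE (n - 1)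
  obtain ⟨φ, hφ⟩ := exists_Q_map_eq (f ≫ e.hom)
  have : φ = 0 := by
    ext i
    by_cases hi : i < n
    · exact (hE i hi).eq_of_src _ _
    · exact (K.isZero_of_isStrictlyLE (n - 1) i (by lia)).eq_of_tgt _ _
  rw [← cancel_mono e.hom, ← hφ, this]
  simp

end Groth.Agent.Lib.DR.Basic
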