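import Groth.Agent.Lib.DR.TorAmp
import Groth.Prelude.Def_DDual2

/-!
# `- ⊗^L M` on bounded above flat complexes and at `M = A`
-/

universe u

open CategoryTheory CategoryTheory.Limits CategoryTheory.Pretriangulated
open Groth.Agent.Lib.DR
open Groth.Agent.Lib.DR.Basic Groth.Agent.Lib.DR.FiniteComplex Groth.Agent.Lib.DR.PseudoCoherent
open Groth.Agent.Lib.DR.Representative Groth.Agent.Lib.DR.BaseChange Groth.Agent.Lib.DR.TorAmp

attribute [local instance] HasDerivedCategory.standard

namespace Groth.Agent.Lib.DR.LTensorModule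

variable {A : Type u} [CommRing A] (M : ModuleCat.{u} A) [DRing.HasLTensor A M]

/-- `- ⊗^L M` on a K-projective complex. -/
noncomputable def lt (K : DRing.Cx A) [K.IsKProjective] :
    (DRing.LTensor A M).obj (DerivedCategory.Q.obj K) ≅ DerivedCategory.Q.obj ((tens M).obj K) :=
  Derived.LFIso (MonoidalCategory.tensorRight M) K

theorem isIso_α_of_flat (K : DRing.Cx A) (b : ℤ)
    (hK : ∀ i, b < i → IsZero (K.X i)) (hKf : ∀ i, flat A (K.X i)) :
    IsIso ((Derived.α (MonoidalCategory.tensorRight M)).app K) := by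
  obtain ⟨G, s, hG, hGp, hs⟩ := Resolve.exists_resolution good_free projective_of_free' (K := K) (b := b)
    (fun i hi => HomologicalComplex.ExactAt.of_isZero (hK i hi))
    (fun n E φ _ _ _ _ => exists_free_cover' _)
  have := isKProjective_of_bounds projective_of_free' hG hGp
  have h1 := Derived.isIso_α (MonoidalCategory.tensorRight M) G
  have h2 : IsIso (DerivedCategory.Q.map s) := Localization.inverts DerivedCategory.Q
    (HomologicalComplex.quasiIso (ModuleCat.{u} A) (ComplexShape.up ℤ)) _ hs
  have h3 := isIso_tens_map M s b hG hK (fun i => flat_of_free _ (hGp i)) hKf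
  have hnat := (Derived.α (MonoidalCategory.tensorRight M)).naturality s
  have h4 : IsIso ((DerivedCategory.Q ⋙ Derived.LF (MonoidalCategory.tensorRight M)).map s) :=
    inferInstanceAs (IsIso ((Derived.LF (MonoidalCategory.tensorRight M)).map (DerivedCategory.Q.map s)))
  have h5 : IsIso ((Derived.cxQ (MonoidalCategory.tensorRight M)).map s) := h3
  exact IsIso.of_isIso_fac_left hnat

/-- `- ⊗^L M` on a bounded above complex of flat modules. -/
noncomputable def ltFlat (K : DRing.Cx A) (b : ℤ)
    (hK : ∀ i, b < i → IsZero (K.X i)) (hKf : ∀ i, flat A (K.X i)) :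
    (DRing.LTensor A M).obj (DerivedCategory.Q.obj K) ≅ DerivedCategory.Q.obj ((tens M).obj K) :=
  haveI := isIso_α_of_flat M K b hK hKf
  asIso ((Derived.α (MonoidalCategory.tensorRight M)).app K)

omit M in
/-- `K ⊗^L A ≅ K`. -/
theorem nonempty_lt_unit [DRing.HasLTensor A (ModuleCat.of A A)] (K : Dual.D A) :
    Nonempty ((DRing.LTensor A (ModuleCat.of A A)).obj K ≅ K) := by
  let K₀ := DerivedCategory.Q.objPreimage K
  let e₀ := DerivedCategory.Q.objObjPreimageIso K
  let G := (KProjRes.res A).obj K₀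
  have : CochainComplex.IsKProjective G := KProjRes.isKProjective_res A K₀
  have : IsIso (DerivedCategory.Q.map ((KProjRes.aug A).app K₀)) := Localization.inverts DerivedCategory.Q
    (HomologicalComplex.quasiIso (ModuleCat.{u} A) (ComplexShape.up ℤ)) _
    (KProjRes.quasiIso_aug A K₀)
  let e : DerivedCategory.Q.obj G ≅ K := asIso (DerivedCategory.Q.map ((KProjRes.aug A).app K₀)) ≪≫ e₀
  let u : MonoidalCategory.tensorRight (ModuleCat.of A A) ≅ 𝟭 (ModuleCat.{u} A) :=
    MonoidalCategory.rightUnitorNatIso (ModuleCat.{u} A)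
  exact ⟨(DRing.LTensor A (ModuleCat.of A A)).mapIso e.symm ≪≫ lt _ G ≪≫
    DerivedCategory.Q.mapIso ((NatIso.mapHomologicalComplex u (ComplexShape.up ℤ)).app G ≪≫
      (Functor.mapHomologicalComplexIdIso (ModuleCat.{u} A) (ComplexShape.up ℤ)).app G) ≪≫ e⟩

end Groth.Agent.Lib.DR.LTensorModule
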