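import Groth.Agent.Lib.DR.BaseChangeU
import Groth.Agent.Lib.DR.TorAmp
import Groth.Agent.Lib.DR.Descent
import Mathlib.RingTheory.Ideal.Quotient.Operations

/-!
# Dévissage along surjections with jointly nilpotent kernels
-/

universe u

open CategoryTheory CategoryTheory.Limits CategoryTheory.Pretriangulated TensorProduct
open Groth.Agent.Lib.DR
open Groth.Agent.Lib.DR.Basic Groth.Agent.Lib.DR.FiniteComplex Groth.Agent.Lib.DR.PseudoCoherent
open Groth.Agent.Lib.DR.Representative Groth.Agent.Lib.DR.BaseChange Groth.Agent.Lib.DR.TorAmp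
open Groth.Agent.Lib.DR.TopCohomology

attribute [local instance] HasDerivedCategory.standard

namespace Groth.Agent.Lib.DR.Nilp

variable {A : Type u} [CommRing A]

/-- Every module is an iterated extension of modules killed by one of the ideals. -/
def Devisses {ι : Type} (I : ι → Ideal A) : Prop :=
  ∀ (P : ∀ (M : Type u) [AddCommGroup M] [Module A M], Prop),
    (∀ (M : Type u) [AddCommGroup M] [Module A M] (i : ι), I i • (⊤ : Submodule A M) = ⊥ → P M) →
    (∀ (M : Type u) [AddCommGroup M] [Module A M] (N : Submodule A M), P N → P (M ⧸ N) → P M) →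
    ∀ (M : Type u) [AddCommGroup M] [Module A M], P M

theorem devisses_nilpotent (I : Ideal A) (hI : IsNilpotent I) : Devisses (fun _ : Fin 1 => I) := by
  intro P hk he M _ _
  obtain ⟨n, hn⟩ := hI
  suffices H : ∀ (k : ℕ) (M : Type u) [AddCommGroup M] [Module A M], I ^ k • (⊤ : Submodule A M) = ⊥ → P M by
    exact H n M (by rw [hn, Submodule.zero_eq_bot, Submodule.bot_smul])
  intro k
  induction k with
  | zero =>
    intro M _ _ h
    refine hk M 0 (le_bot_iff.1 (le_trans ?_ h.le))
    rw [pow_zero, Ideal.one_eq_top, Submodule.top_smul]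
    exact le_top
  | succ k ih =>
    intro M _ _ h
    let N := I ^ k • (⊤ : Submodule A M)
    refine he M N (hk N 0 ?_) (ih (M ⧸ N) ?_)
    · apply Submodule.map_injective_of_injective N.subtype_injective
      rw [Submodule.map_smul'', Submodule.map_subtype_top, Submodule.map_bot, ← h, pow_succ',
        Submodule.mul_smul]
    · rw [← Submodule.range_mkQ N, ← Submodule.map_top, ← Submodule.map_smul'']
      exact LinearMap.le_ker_iff_map.1 (by rw [Submodule.ker_mkQ])

theorem devisses_mul (I J : Ideal A) (h : I * J = ⊥) : Devisses ![I, J] := by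
  intro P hk he M _ _
  let N := J • (⊤ : Submodule A M)
  refine he M N (hk N 0 ?_) (hk (M ⧸ N) 1 ?_)
  · apply Submodule.map_injective_of_injective N.subtype_injective
    rw [Submodule.map_smul'', Submodule.map_subtype_top, Submodule.map_bot]
    show I • (J • (⊤ : Submodule A M)) = ⊥
    rw [← Submodule.mul_smul, h, Submodule.bot_smul]
  · rw [← Submodule.range_mkQ N, ← Submodule.map_top, ← Submodule.map_smul'']
    exact LinearMap.le_ker_iff_map.1 (by rw [Submodule.ker_mkQ]; exact le_rfl)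

variable {ι : Type} {B : ι → Type u} [∀ s, CommRing (B s)] (φ : ∀ s, A →+* B s)
  (hφ : ∀ s, Function.Surjective (φ s))

include hφ in
/-- Modules killed by the kernel are modules over the target. -/
theorem exact_killed (G : DRing.Cx A) (i j k : ℤ) (hij : i + 1 = j) (hjk : j + 1 = k) (s : ι)
    (hN : ∀ N : ModuleCat.{u} (B s), ((tens N).obj ((ext (φ s)).obj G)).ExactAt j)
    (M : Type u) [AddCommGroup M] [Module A M]
    (hM : RingHom.ker (φ s) • (⊤ : Submodule A M) = ⊥) :
    Function.Exact ((G.d i j).hom.lTensor M) ((G.d j k).hom.lTensor M) := by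
  letI := (φ s).toAlgebra
  have htors : Module.IsTorsionBySet A M (RingHom.ker (φ s) : Set A) := fun x a => by
    have : (a : A) • x ∈ RingHom.ker (φ s) • (⊤ : Submodule A M) := Submodule.smul_mem_smul a.2 trivial
    rwa [hM, Submodule.mem_bot] at this
  letI : Module (A ⧸ RingHom.ker (φ s)) M := htors.module
  let e : B s →+* A ⧸ RingHom.ker (φ s) := (RingHom.quotientKerEquivOfSurjective (hφ s)).symm.toRingHom
  letI : Module (B s) M := Module.compHom M e
  have : IsScalarTower A (B s) M := IsScalarTower.of_algebraMap_smul fun a x => by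
    show e (φ s a) • x = a • x
    have he : e (φ s a) = Ideal.Quotient.mk _ a := by
      show (RingHom.quotientKerEquivOfSurjective (hφ s)).symm (φ s a) = _
      rw [RingEquiv.symm_apply_eq]
      rfl
    rw [he]
    rfl
  have h := hN (ModuleCat.of (B s) M)
  rw [HomologicalComplex.exactAt_iff' _ i j k (by simp; lia) (by simp; lia),
    ShortComplex.ShortExact.moduleCat_exact_iff_function_exact] at h
  let c : ∀ X : ModuleCat.{u} A, (B s ⊗[A] X) ⊗[B s] M ≃+ M ⊗[A] X := fun X =>
    (TensorProduct.comm (B s) (B s ⊗[A] X) M).toAddEquiv.trans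
      (TensorProduct.AlgebraTensorModule.cancelBaseChange A (B s) (B s) M X).toAddEquiv
  have hc : ∀ (X Y : ModuleCat.{u} A) (g : X ⟶ Y) (z : (B s ⊗[A] X) ⊗[B s] M),
      (g.hom.lTensor M) (c X z) = c Y ((g.hom.baseChange (B s)).rTensor M z) := by
    intro X Y g z
    induction z using TensorProduct.induction_on with
    | zero => simp
    | add x y hx hy => simp only [map_add, hx, hy]
    | tmul w m =>
      induction w using TensorProduct.induction_on with
      | zero => simp
      | add x y hx hy => simp only [map_add, TensorProduct.add_tmul, hx, hy]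
      | tmul b x => simp [c]
  intro z
  obtain ⟨z, rfl⟩ := (c (G.X j)).surjective z
  rw [hc, map_eq_zero_iff _ (c (G.X k)).injective]
  refine Iff.trans (h z) ⟨?_, ?_⟩
  · rintro ⟨w, hw⟩
    exact ⟨c (G.X i) w, (hc _ _ _ w).trans (congrArg (c (G.X j)) hw)⟩
  · rintro ⟨w, hw⟩
    obtain ⟨w, rfl⟩ := (c (G.X i)).surjective w
    exact ⟨w, (c (G.X j)).injective ((hc _ _ _ w).symm.trans hw)⟩

/-- Exactness after tensoring is stable under extensions. -/
theorem exact_ext (G : DRing.Cx A) (hG : ∀ t, flat A (G.X t)) (i j k : ℤ)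
    (M : Type u) [AddCommGroup M] [Module A M] (N : Submodule A M)
    (h₁ : Function.Exact ((G.d i j).hom.lTensor N) ((G.d j k).hom.lTensor N))
    (h₃ : Function.Exact ((G.d i j).hom.lTensor (M ⧸ N)) ((G.d j k).hom.lTensor (M ⧸ N))) :
    Function.Exact ((G.d i j).hom.lTensor M) ((G.d j k).hom.lTensor M) := by
  have hflat : ∀ t, Module.Flat A (G.X t) := hG
  let d₀ := (G.d i j).hom
  let d₁ := (G.d j k).hom
  have hd : d₁ ∘ₗ d₀ = 0 := congrArg ModuleCat.Hom.hom (G.d_comp_d i j k)
  intro z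
  constructor
  · intro hz
    have h0 : d₁.lTensor (M ⧸ N) (N.mkQ.rTensor _ z) = 0 := by
      rw [← LinearMap.comp_apply, LinearMap.lTensor_comp_rTensor, ← LinearMap.rTensor_comp_lTensor,
        LinearMap.comp_apply, hz, map_zero]
    obtain ⟨w', hw⟩ := (h₃ _).1 h0
    obtain ⟨w, rfl⟩ := LinearMap.rTensor_surjective (G.X i) N.mkQ_surjective w'
    have h1 : N.mkQ.rTensor _ (z - d₀.lTensor M w) = 0 := by
      rw [map_sub, sub_eq_zero, ← hw, ← LinearMap.comp_apply, ← LinearMap.comp_apply,
        LinearMap.lTensor_comp_rTensor, LinearMap.rTensor_comp_lTensor]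
    obtain ⟨y, hy⟩ := (rTensor_exact (G.X j) (LinearMap.exact_subtype_mkQ N) N.mkQ_surjective _).1 h1
    have h2 : d₁.lTensor N y = 0 := by
      apply Module.Flat.rTensor_preserves_injective_linearMap (M := G.X k) N.subtype N.subtype_injective
      rw [← LinearMap.comp_apply, LinearMap.rTensor_comp_lTensor, ← LinearMap.lTensor_comp_rTensor,
        LinearMap.comp_apply, hy, map_sub, hz, ← LinearMap.comp_apply, ← LinearMap.lTensor_comp, hd,
        LinearMap.lTensor_zero, LinearMap.zero_apply, sub_zero, map_zero]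
    obtain ⟨x, hx⟩ := (h₁ _).1 h2
    refine ⟨w + N.subtype.rTensor _ x, ?_⟩
    rw [map_add, ← LinearMap.comp_apply, LinearMap.lTensor_comp_rTensor,
      ← LinearMap.rTensor_comp_lTensor, LinearMap.comp_apply, hx, hy]
    simp [d₀]
  · rintro ⟨w, rfl⟩
    rw [← LinearMap.comp_apply, ← LinearMap.lTensor_comp, hd, LinearMap.lTensor_zero]
    rfl

include hφ in
theorem exact_all (hdev : Devisses fun s => RingHom.ker (φ s)) (G : DRing.Cx A)
    (hG : ∀ t, flat A (G.X t)) (j : ℤ)
    (hN : ∀ s (N : ModuleCat.{u} (B s)), ((tens N).obj ((ext (φ s)).obj G)).ExactAt j)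
    (M : ModuleCat.{u} A) : ((tens M).obj G).ExactAt j := by
  have h : Function.Exact ((G.d (j - 1) j).hom.lTensor M) ((G.d j (j + 1)).hom.lTensor M) :=
    hdev (fun M _ _ => Function.Exact ((G.d (j - 1) j).hom.lTensor M) ((G.d j (j + 1)).hom.lTensor M))
      (fun M _ _ s hM => exact_killed φ hφ G _ j _ (by lia) rfl s (hN s) M hM)
      (fun M _ _ N h₁ h₃ => exact_ext G hG _ j _ M N h₁ h₃) M
  rw [HomologicalComplex.exactAt_iff' _ (j - 1) j (j + 1) (by simp) (by simp),
    ShortComplex.ShortExact.moduleCat_exact_iff_function_exact]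
  exact (Function.Exact.iff_of_ladder_linearEquiv (e₁ := TensorProduct.comm A M (G.X (j - 1)))
    (e₂ := TensorProduct.comm A M (G.X j)) (e₃ := TensorProduct.comm A M (G.X (j + 1)))
    (TensorProduct.ext' fun _ _ => rfl) (TensorProduct.ext' fun _ _ => rfl)).2 h

/-- Isomorphic K-projective complexes agree after tensoring. -/
theorem nonempty_tens_iso_of_kproj (N : ModuleCat.{u} A) {G H : DRing.Cx A} [CochainComplex.IsKProjective G]
    [CochainComplex.IsKProjective H] (e : DerivedCategory.Q.obj G ≅ DerivedCategory.Q.obj H) :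
    Nonempty (DerivedCategory.Q.obj ((tens N).obj G) ≅ DerivedCategory.Q.obj ((tens N).obj H)) := by
  obtain ⟨u, hu⟩ := exists_Q_map_eq e.hom
  obtain ⟨v, hv⟩ := exists_Q_map_eq e.inv
  have key : ∀ {X : DRing.Cx A} [CochainComplex.IsKProjective X] (w : X ⟶ X),
      DerivedCategory.Q.map w = 𝟙 _ → DerivedCategory.Q.map ((tens N).map w) = 𝟙 _ := fun {X} _ w hw => by
    obtain ⟨h⟩ := nonempty_homotopy_of_Q_map_eq (φ := w) (ψ := 𝟙 X)
      (hw.trans (CategoryTheory.Functor.map_id _ _).symm)
    rw [← cancel_epi ((DerivedCategory.quotientCompQhIso (ModuleCat.{u} A)).hom.app ((tens N).obj X)),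
      ← DerivedCategory.quotientCompQhIso_hom_naturality,
      HomotopyCategory.eq_of_homotopy _ _ ((MonoidalCategory.tensorRight N).mapHomotopy h),
      CategoryTheory.Functor.map_id]
    simp
  exact ⟨⟨DerivedCategory.Q.map ((tens N).map u), DerivedCategory.Q.map ((tens N).map v),
    by rw [← Functor.map_comp, ← Functor.map_comp]; exact key _ (by rw [Functor.map_comp, hu, hv, e.hom_inv_id]),
    by rw [← Functor.map_comp, ← Functor.map_comp]; exact key _ (by rw [Functor.map_comp, hu, hv, e.inv_hom_id])⟩⟩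

variable [∀ s, DRing.HasLBaseChange (φ s)]

include hφ in
/-- Bounded above descends. -/
theorem isLE_of_LBC (hdev : Devisses fun s => RingHom.ker (φ s)) (K : Dual.D A) (b : ℤ)
    (h : ∀ s, ((DRing.LBaseChange (φ s)).obj K).IsLE b) : K.IsLE b := by
  obtain ⟨G, hG, hGp, ⟨e⟩⟩ := BaseChangeU.exists_rep K
  have hN : ∀ j, b < j → ∀ s (N : ModuleCat.{u} (B s)), ((tens N).obj ((ext (φ s)).obj G)).ExactAt j := by
    intro j hj s N
    have := BaseChangeU.isKProjective_ext (φ s) G
    obtain ⟨H, hH, hHp, ⟨eH⟩⟩ := ba_free (h s)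
    have := isKProjective_of_bounds projective_of_free' hH hHp
    obtain ⟨f⟩ := nonempty_tens_iso_of_kproj N
      (eH ≪≫ (DRing.LBaseChange (φ s)).mapIso e.symm ≪≫ bc (φ s) G)
    have h0 : ((tens N).obj H).ExactAt j :=
      HomologicalComplex.ExactAt.of_isZero ((MonoidalCategory.tensorRight N).map_isZero (hH j hj))
    rw [HomologicalComplex.exactAt_iff_isZero_homology] at h0 ⊢
    exact h0.of_iso ((homologyQIso _ j).symm ≪≫
      ((DerivedCategory.homologyFunctor _ j).mapIso f).symm ≪≫ homologyQIso _ j)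
  refine isLE_of_iso' e ((DerivedCategory.isLE_iff _ _).2 fun j hj => ?_)
  have h1 := exact_all φ hφ hdev G (fun t => flat_of_proj _ (hGp t)) j (hN j hj) (ModuleCat.of A A)
  have h2 : G.ExactAt j := h1.of_iso
    ((NatIso.mapHomologicalComplex (MonoidalCategory.rightUnitorNatIso (ModuleCat.{u} A)) _).app G ≪≫
      (Functor.mapHomologicalComplexIdIso (ModuleCat.{u} A) _).app G)
  exact ((HomologicalComplex.exactAt_iff_isZero_homology _ _).1 h2).of_iso (homologyQIso G j)

include hφ in
/-- Tor amplitude descends. -/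
theorem bdd_flat_of_LBC (hdev : Devisses fun s => RingHom.ker (φ s)) (K : Dual.D A) (a b : ℤ)
    (h : ∀ s, Bdd (flat (B s)) a b ((DRing.LBaseChange (φ s)).obj K)) : Bdd (flat A) a b K := by
  obtain ⟨E, hE, hEp, ⟨e⟩⟩ := ba_free (isLE_of_LBC φ hφ hdev K b fun s => (h s).isLE)
  have hf : ∀ i, flat A (E.X i) := fun i => flat_of_free _ (hEp i)
  have hex : ∀ j, j < a → ∀ M : ModuleCat.{u} A, ((tens M).obj E).ExactAt j := fun j hj =>
    exact_all φ hφ hdev E hf j fun s N =>
      exactAt_tens_of_bdd N ((ext (φ s)).obj E) (fun i hi => (ModuleCat.extendScalars (φ s)).map_isZero (hE i hi))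
        (fun i => ext_flat (φ s) _ (hf i))
        ((h s).of_iso ((DRing.LBaseChange (φ s)).mapIso e.symm ≪≫ bcFlat (φ s) E b hE hf)) j hj
  have hge : ∀ M : ModuleCat.{u} A, (DerivedCategory.Q.obj ((tens M).obj E)).IsGE a := fun M =>
    (DerivedCategory.isGE_iff _ _).2 fun j hj =>
      ((HomologicalComplex.exactAt_iff_isZero_homology _ _).1 (hex j hj M)).of_iso (homologyQIso _ j)
  refine (bdd_flat_of_isGE_tens E hE hf ?_ hge).of_iso e
  exact isGE_of_iso' (DerivedCategory.Q.mapIso
    ((NatIso.mapHomologicalComplex (MonoidalCategory.rightUnitorNatIso (ModuleCat.{u} A)) _).app E ≪≫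
      (Functor.mapHomologicalComplexIdIso (ModuleCat.{u} A) _).app E)) (hge (ModuleCat.of A A))

/-- Top cohomology commutes with base change. -/
theorem nonempty_top_iso (s : ι) (X : Dual.D A) (b : ℤ) (hb : X.IsLE b) :
    Nonempty ((DerivedCategory.homologyFunctor _ b).obj ((DRing.LBaseChange (φ s)).obj X) ≅
      (ModuleCat.extendScalars.{u, u, u} (φ s)).obj ((DerivedCategory.homologyFunctor _ b).obj X)) := by
  obtain ⟨E, hE, hp, ⟨e⟩⟩ := ba_free hb
  let E' := (ext (φ s)).obj E
  have h1 : E.d b (b + 1) = 0 := (hE (b + 1) (by lia)).eq_of_tgt _ _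
  have h2 : E'.d b (b + 1) = 0 := by
    show (ModuleCat.extendScalars.{u, u, u} (φ s)).map (E.d b (b + 1)) = 0
    rw [h1, Functor.map_zero]
  have : PreservesColimitsOfSize.{0, 0} (ModuleCat.extendScalars.{u, u, u} (φ s)) :=
    (ModuleCat.extendRestrictScalarsAdj.{u} (φ s)).leftAdjoint_preservesColimits
  exact ⟨(DerivedCategory.homologyFunctor _ b).mapIso ((DRing.LBaseChange (φ s)).mapIso e.symm ≪≫
      bcFlat (φ s) E b hE fun i => flat_of_free _ (hp i)) ≪≫ homologyQIso E' b ≪≫
    E'.isoHomologyι b (b + 1) (by simp) h2 ≪≫ (opcyclesIso E' b).symm ≪≫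
    (ModuleCat.cokernelIsoRangeQuotient (E'.d (b - 1) b)).symm ≪≫
    (PreservesCokernel.iso (ModuleCat.extendScalars.{u, u, u} (φ s)) (E.d (b - 1) b)).symm ≪≫
    (ModuleCat.extendScalars.{u, u, u} (φ s)).mapIso (ModuleCat.cokernelIsoRangeQuotient (E.d (b - 1) b) ≪≫
      opcyclesIso E b ≪≫ (E.isoHomologyι b (b + 1) (by simp) h1).symm ≪≫ (homologyQIso E b).symm ≪≫
      (DerivedCategory.homologyFunctor _ b).mapIso e)⟩

/-- Base change of a triangle between bounded above objects. -/
theorem pcn_cone_LBC (s : ι) (T : Triangle (Dual.D A)) (hT : T ∈ distTriang _) {m b₁ b₂ : ℤ}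
    (hb₁ : T.obj₁.IsLE b₁) (hb₂ : T.obj₂.IsLE b₂)
    (h₁ : PCn (ff (B s)) (m + 1) ((DRing.LBaseChange (φ s)).obj T.obj₁))
    (h₂ : PCn (ff (B s)) m ((DRing.LBaseChange (φ s)).obj T.obj₂)) :
    PCn (ff (B s)) m ((DRing.LBaseChange (φ s)).obj T.obj₃) := by
  obtain ⟨G, hG, hGp, ⟨e⟩⟩ := ba_free hb₁
  obtain ⟨H, hH, hHp, ⟨e'⟩⟩ := ba_free hb₂
  have := isKProjective_of_bounds projective_of_free' hG hGp
  obtain ⟨f, hf⟩ := exists_Q_map_eq (e.hom ≫ T.mor₁ ≫ e'.inv)
  obtain ⟨iso, -⟩ := exists_iso_of_arrow_iso _ _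
    (DerivedCategory.mappingCone_triangle_distinguished f) hT
    (Arrow.isoMk e e' (by
      change e.hom ≫ T.mor₁ = DerivedCategory.Q.map f ≫ e'.hom
      rw [hf]
      simp))
  let C := CochainComplex.mappingCone f
  let c := max b₁ b₂
  have hCp : ∀ i, flat A (C.X i) := fun i =>
    good_flat.iso (HomologicalComplex.homotopyCofiber.XIsoBiprod f i (i + 1) rfl).symm
      (good_flat.biprod (flat_of_free _ (hGp (i + 1))) (flat_of_free _ (hHp i)))
  have hC : ∀ i, c < i → IsZero (C.X i) := fun i hi => by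
    refine IsZero.of_iso ?_ (HomologicalComplex.homotopyCofiber.XIsoBiprod f i (i + 1) rfl)
    rw [biprod_isZero_iff]
    exact ⟨hG _ (by lia), hH _ (by lia)⟩
  refine PCn.of_iso ?_ ((bcFlat (φ s) C c hC hCp).symm ≪≫
    (DRing.LBaseChange (φ s)).mapIso (Triangle.π₃.mapIso iso))
  refine PCn.of_iso ?_ (DerivedCategory.Q.mapIso
    (CochainComplex.mappingCone.mapHomologicalComplexIso f (ModuleCat.extendScalars.{u, u, u} (φ s)))).symm
  exact PCn.cone good_ff projective_of_ff _
    (DerivedCategory.mappingCone_triangle_distinguished ((ext (φ s)).map f))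
    (h₁.of_iso ((DRing.LBaseChange (φ s)).mapIso e.symm ≪≫ bcFlat (φ s) G b₁ hG fun i => flat_of_free _ (hGp i)))
    (h₂.of_iso ((DRing.LBaseChange (φ s)).mapIso e'.symm ≪≫ bcFlat (φ s) H b₂ hH fun i => flat_of_free _ (hHp i)))

include hφ in
/-- Pseudo-coherence descends. -/
theorem pcn_of_LBC [Finite ι] (hdev : Devisses fun s => RingHom.ker (φ s))
    (hdet : ∀ (M : Type u) [AddCommGroup M] [Module A M],
      (∀ s, RingHom.ker (φ s) • (⊤ : Submodule A M) = ⊤) → Subsingleton M)
    (m : ℤ) (K : Dual.D A)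
    (h : ∀ s, PCn (ff (B s)) m ((DRing.LBaseChange (φ s)).obj K)) : PCn (ff A) m K := by
  choose bs hbs using fun s => (h s).exists_isLE
  obtain ⟨b, hb'⟩ := (Set.finite_range bs).bddAbove
  have hb : K.IsLE b := isLE_of_LBC φ hφ hdev K b fun s => isLE_mono (hbs s) (hb' ⟨s, rfl⟩)
  clear hbs hb'
  letI : ∀ s, Algebra A (B s) := fun s => (φ s).toAlgebra
  have hdet' : Descent.Detects (A := A) B := fun M _ _ hM => hdet M fun s => by
    have hsurj : Function.Surjective (algebraMap A (B s)) := hφ s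
    rw [eq_top_iff]
    intro x _
    have h0 : TensorProduct.mk A (B s) M 1 x = 0 := (hM s).elim _ _
    let e : (A ⧸ RingHom.ker (φ s)) ≃ₐ[A] B s :=
      Ideal.quotientKerAlgEquivOfSurjective (f := Algebra.ofId A (B s)) hsurj
    have h1 : TensorProduct.mk A (A ⧸ RingHom.ker (φ s)) M 1 x = 0 := by
      apply (TensorProduct.congr e.toLinearEquiv (LinearEquiv.refl A M)).injective
      simpa using h0
    rwa [← LinearMap.mem_ker, LinearMap.ker_tensorProductMk] at h1
  obtain ⟨k, hk⟩ : ∃ k : ℕ, b + 1 ≤ m + k := ⟨(b + 1 - m).toNat, by lia⟩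
  induction k generalizing K b with
  | zero => exact pcn_of_isLE good_ff (isLE_mono hb (by lia))
  | succ k ih =>
    by_cases hbm : b < m
    · exact pcn_of_isLE good_ff (isLE_mono hb (by lia))
    have hfin : Module.Finite A (Dual.HD A K b) := Descent.finite_of_detects hdet' _ fun s => by
      obtain ⟨e⟩ := nonempty_top_iso φ s K b hb
      have hle : ((DRing.LBaseChange (φ s)).obj K).IsLE b :=
        (ba_LBaseChange (φ s) flat_of_free (ext_free (φ s)) (ba_free hb)).isLE
      have := (finite_top ((pcn_ff_iff_fproj _ _).1 (h s)) (by lia) hle).1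
      exact Module.Finite.equiv (e ≪≫ (FlatBC.extEquiv A (B s) _).toModuleIso).toLinearEquiv
    obtain ⟨F, π, hF, hπ⟩ := exists_free_cover (A := A) (Dual.HD A K b)
    obtain ⟨f, hf⟩ := Descent.exists_lift_top K b hb hF π hπ
    obtain ⟨Z, q, r, hdZ, hZ⟩ := hf
    have hS : Bdd (ff A) b b ((DerivedCategory.singleFunctor (ModuleCat.{u} A) b).obj F) :=
      bdd_single good_ff hF b
    have hTZ : PCn (ff A) m Z := by
      refine ih Z (fun s => ?_) (b - 1) hZ (by lia)
      exact pcn_cone_LBC φ s _ hdZ hS.isLE hb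
        ((bdd_LBaseChange (φ s) (fun M hM => flat_of_fproj M (fproj_of_ff M hM)) (ext_ff (φ s)) hS).pcn _)
        (h s)
    exact PCn.ext good_ff projective_of_ff _ hdZ ((bdd_single good_ff hF b).pcn m) hTZ

include hφ in
/-- Perfectness descends. -/
theorem pf_of_LBC [Finite ι] (hdev : Devisses fun s => RingHom.ker (φ s))
    (hdet : ∀ (M : Type u) [AddCommGroup M] [Module A M],
      (∀ s, RingHom.ker (φ s) • (⊤ : Submodule A M) = ⊤) → Subsingleton M)
    (K : Dual.D A) (h : ∀ s, Perfect.Pf ((DRing.LBaseChange (φ s)).obj K)) : Perfect.Pf K := by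
  choose a b hab using h
  obtain ⟨a', ha'⟩ := (Set.finite_range a).bddBelow
  obtain ⟨b', hb'⟩ := (Set.finite_range b).bddAbove
  exact pf_of_pcn_of_flat (a := a') (c := b')
    (pcn_of_LBC φ hφ hdev hdet _ K fun s => Perfect.Pf.pcn ⟨a s, b s, hab s⟩ _)
    (bdd_flat_of_LBC φ hφ hdev K a' b' fun s =>
      ((hab s).mono (ha' ⟨s, rfl⟩) (hb' ⟨s, rfl⟩)).of_le flat_of_fproj)

end Groth.Agent.Lib.DR.Nilp
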