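import Groth.Agent.Lib.DR.TorAmp
import Groth.Agent.Lib.DR.FlatBC
import Mathlib.RingTheory.LocalProperties.Exactness
import Mathlib.RingTheory.Flat.Localization
import Mathlib.Algebra.MvPolynomial.Basic
import Mathlib.RingTheory.Localization.BaseChange

/-!
# Tor amplitude of a restricted complex is local on the source
-/

universe u

open CategoryTheory CategoryTheory.Limits TensorProduct
open Groth.Agent.Lib.DR
open Groth.Agent.Lib.DR.Basic Groth.Agent.Lib.DR.FiniteComplex Groth.Agent.Lib.DR.PseudoCoherent
open Groth.Agent.Lib.DR.Representative Groth.Agent.Lib.DR.BaseChange Groth.Agent.Lib.DR.TorAmp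

attribute [local instance] HasDerivedCategory.standard

set_option backward.isDefEq.respectTransparency false

namespace Groth.Agent.Lib.DR.LocalAmp

section Loc

variable {R S : Type u} [CommRing R] [CommRing S] [Algebra R S]
  (hS : Function.Surjective (algebraMap R S)) (P : Ideal S) [P.IsPrime] (P' : Ideal R) [P'.IsPrime]
  (hP : P' = P.comap (algebraMap R S))
  (M : Type u) [AddCommGroup M] [Module R M] [Module S M] [IsScalarTower R S M]

/-- The map of local rings. -/
noncomputable def ψ : Localization.AtPrime P' →+* Localization.AtPrime P :=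
  Localization.localRingHom P' P (algebraMap R S) hP

/-- Comparison of localizations. -/
noncomputable def comp₀ : Localization.AtPrime P' ⊗[R] M →ₗ[R] Localization.AtPrime P ⊗[S] M :=
  TensorProduct.lift
    (LinearMap.mk₂ R (fun q x => ψ P P' hP q ⊗ₜ[S] x)
      (fun q q' x => by rw [map_add, TensorProduct.add_tmul])
      (fun r q x => by
        rw [Algebra.smul_def, map_mul, ψ, Localization.localRingHom_to_map]
        rw [← algebraMap_smul S r (Localization.localRingHom P' P (algebraMap R S) hP q ⊗ₜ[S] x),
          TensorProduct.smul_tmul', Algebra.smul_def])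
      (fun q x x' => TensorProduct.tmul_add _ _ _)
      (fun r q x => by
        rw [← algebraMap_smul S r x, TensorProduct.tmul_smul, algebraMap_smul]))

theorem comp₀_tmul (q : Localization.AtPrime P') (x : M) :
    comp₀ P P' hP M (q ⊗ₜ[R] x) = ψ P P' hP q ⊗ₜ[S] x := rfl

theorem comp₀_smul (q : Localization.AtPrime P') (z : Localization.AtPrime P' ⊗[R] M) :
    comp₀ P P' hP M (q • z) = ψ P P' hP q • comp₀ P P' hP M z := by
  induction z using TensorProduct.induction_on with
  | zero => rw [smul_zero, map_zero, smul_zero]
  | tmul q' x => rw [TensorProduct.smul_tmul', smul_eq_mul, comp₀_tmul, comp₀_tmul, map_mul,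
      TensorProduct.smul_tmul', smul_eq_mul]
  | add x y hx hy => rw [smul_add, map_add, map_add, hx, hy, smul_add]

include hS in
theorem bijective_comp₀ : Function.Bijective (comp₀ P P' hP M) := by
  let f₁ : M →ₗ[R] Localization.AtPrime P' ⊗[R] M := TensorProduct.mk R (Localization.AtPrime P') M 1
  let g : M →ₗ[S] Localization.AtPrime P ⊗[S] M := TensorProduct.mk S (Localization.AtPrime P) M 1
  let f₂ : M →ₗ[R] Localization.AtPrime P ⊗[S] M := g.restrictScalars R
  have h1 : IsLocalizedModule P'.primeCompl f₁ :=
    (isLocalizedModule_iff_isBaseChange P'.primeCompl (Localization.AtPrime P') f₁).2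
      (TensorProduct.isBaseChange R M (Localization.AtPrime P'))
  have hg : IsLocalizedModule P.primeCompl g :=
    (isLocalizedModule_iff_isBaseChange P.primeCompl (Localization.AtPrime P) g).2
      (TensorProduct.isBaseChange S M (Localization.AtPrime P))
  have hmem : ∀ r, r ∈ P'.primeCompl ↔ algebraMap R S r ∈ P.primeCompl := fun r => by
    subst hP
    rfl
  have h2 : IsLocalizedModule P'.primeCompl f₂ := by
    refine { map_units := fun r => ?_, surj := fun y => ?_, exists_of_eq := fun {x y} h => ?_ }
    · have := (Module.End.isUnit_iff _).1 (hg.map_units ⟨algebraMap R S r, (hmem r).1 r.2⟩)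
      rw [Module.End.isUnit_iff]
      convert this using 1
      funext z
      exact (algebraMap_smul S (r : R) z).symm
    · obtain ⟨⟨x, s, hs⟩, hx⟩ := hg.surj y
      obtain ⟨r, rfl⟩ := hS s
      exact ⟨⟨x, r, (hmem r).2 hs⟩, (algebraMap_smul S r y).symm.trans hx⟩
    · obtain ⟨⟨s, hs⟩, hx⟩ := hg.exists_of_eq h
      obtain ⟨r, rfl⟩ := hS s
      exact ⟨⟨r, (hmem r).2 hs⟩, (algebraMap_smul S r x).symm.trans (hx.trans (algebraMap_smul S r y))⟩
  have e : comp₀ P P' hP M = (IsLocalizedModule.linearEquiv P'.primeCompl f₁ f₂).toLinearMap := by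
    refine IsLocalizedModule.linearMap_ext P'.primeCompl f₁ f₂ (LinearMap.ext fun x => ?_)
    show comp₀ P P' hP M ((1 : Localization.AtPrime P') ⊗ₜ[R] x) =
      (IsLocalizedModule.linearEquiv P'.primeCompl f₁ f₂) (f₁ x)
    rw [IsLocalizedModule.linearEquiv_apply, comp₀_tmul, map_one]
    rfl
  rw [e]
  exact (IsLocalizedModule.linearEquiv P'.primeCompl f₁ f₂).bijective

end Loc

section Kill

variable {R L : Type u} [CommRing R] [CommRing L] [Algebra R L] {M : Type u} [AddCommGroup M] [Module R M]

/-- A module killed by an element which becomes invertible is killed by base change. -/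
theorem eq_zero_of_kill (t : R) (ht : IsUnit (algebraMap R L t)) (hM : ∀ x : M, t • x = 0) (z : L ⊗[R] M) :
    z = 0 := by
  obtain ⟨u, hu⟩ := ht
  induction z using TensorProduct.induction_on with
  | zero => rfl
  | tmul q x =>
    have hq : q = t • ((↑u⁻¹ : L) * q) := by
      rw [Algebra.smul_def, ← mul_assoc, ← hu, Units.mul_inv, one_mul]
    rw [hq, TensorProduct.smul_tmul, hM, TensorProduct.tmul_zero]
  | add x y hx hy => rw [hx, hy, add_zero]

end Kill

section Exact

variable {B : Type u} [CommRing B] (K : DRing.Cx B) (i : ℤ)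

/-- Exactness in one degree is local. -/
theorem exactAt_of_forall (h : ∀ (m : Ideal B) [m.IsMaximal],
    ((ext (algebraMap B (Localization.AtPrime m))).obj K).ExactAt i) : K.ExactAt i := by
  rw [HomologicalComplex.exactAt_iff' _ (i - 1) i (i + 1) (by simp) (by simp),
    ShortComplex.ShortExact.moduleCat_exact_iff_function_exact]
  have hl : ∀ (J : Ideal B) [J.IsMaximal] (j : ℤ),
      IsLocalizedModule J.primeCompl (TensorProduct.mk B (Localization.AtPrime J) (K.X j) 1) := fun J _ j =>
    (isLocalizedModule_iff_isBaseChange J.primeCompl (Localization.AtPrime J) _).2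
      (TensorProduct.isBaseChange B (K.X j) (Localization.AtPrime J))
  refine exact_of_isLocalized_maximal
    (fun J _ => Localization.AtPrime J ⊗[B] (K.X (i - 1))) (fun J _ => TensorProduct.mk B _ _ 1)
    (fun J _ => Localization.AtPrime J ⊗[B] (K.X i)) (fun J _ => TensorProduct.mk B _ _ 1)
    (fun J _ => Localization.AtPrime J ⊗[B] (K.X (i + 1))) (fun J _ => TensorProduct.mk B _ _ 1)
    (K.d (i - 1) i).hom (K.d i (i + 1)).hom fun J hJ => ?_
  have h0 := h J
  rw [HomologicalComplex.exactAt_iff' _ (i - 1) i (i + 1) (by simp) (by simp),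
    ShortComplex.ShortExact.moduleCat_exact_iff_function_exact] at h0
  have key : ∀ (a c : ℤ), IsLocalizedModule.map J.primeCompl
      (TensorProduct.mk B (Localization.AtPrime J) (K.X a) 1)
      (TensorProduct.mk B (Localization.AtPrime J) (K.X c) 1) (K.d a c).hom =
        (K.d a c).hom.lTensor (Localization.AtPrime J) := fun a c =>
    IsLocalizedModule.linearMap_ext J.primeCompl (TensorProduct.mk B (Localization.AtPrime J) (K.X a) 1)
      (TensorProduct.mk B (Localization.AtPrime J) (K.X c) 1) (LinearMap.ext fun x => by
      rw [LinearMap.comp_apply, LinearMap.comp_apply, IsLocalizedModule.map_apply]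
      rfl)
  rw [key, key]
  let e := FlatBC.resEquiv B (Localization.AtPrime J)
  exact (Function.Exact.iff_of_ladder_linearEquiv
    (e₁ := TensorProduct.congr e (LinearEquiv.refl B (K.X (i - 1))))
    (e₂ := TensorProduct.congr e (LinearEquiv.refl B (K.X i)))
    (e₃ := TensorProduct.congr e (LinearEquiv.refl B (K.X (i + 1))))
    (f₁₂ := (K.d (i - 1) i).hom.lTensor _) (f₂₃ := (K.d i (i + 1)).hom.lTensor _)
    (TensorProduct.ext' fun _ _ => rfl) (TensorProduct.ext' fun _ _ => rfl)).2 h0

/-- Restriction of scalars preserves and reflects exactness. -/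
theorem exactAt_restrict_iff {A : Type u} [CommRing A] (f : A →+* B) :
    (((ModuleCat.restrictScalars.{u} f).mapHomologicalComplex (.up ℤ)).obj K).ExactAt i ↔ K.ExactAt i := by
  rw [HomologicalComplex.exactAt_iff' _ (i - 1) i (i + 1) (by simp) (by simp),
    ShortComplex.ShortExact.moduleCat_exact_iff_function_exact,
    HomologicalComplex.exactAt_iff' _ (i - 1) i (i + 1) (by simp) (by simp),
    ShortComplex.ShortExact.moduleCat_exact_iff_function_exact]
  rfl

/-- Outside the amplitude a complex is exact. -/
theorem exactAt_of_bdd {P : ObjectProperty (ModuleCat.{u} B)} {a b : ℤ}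
    (h : Bdd P a b (DerivedCategory.Q.obj K)) (hi : i < a ∨ b < i) : K.ExactAt i := by
  obtain ⟨E, hE, -, ⟨e⟩⟩ := h
  have h0 : IsZero (E.homology i) :=
    (E.exactAt_iff_isZero_homology i).1 (HomologicalComplex.ExactAt.of_isZero (hE i hi))
  rw [HomologicalComplex.exactAt_iff_isZero_homology]
  exact h0.of_iso ((homologyQIso K i).symm ≪≫
    ((DerivedCategory.homologyFunctor (ModuleCat.{u} B) i).mapIso e).symm ≪≫ homologyQIso E i)

end Exact

/-- Restriction along a flat map preserves flatness. -/
theorem flat_restrict {A B : Type u} [CommRing A] [CommRing B] (f : A →+* B) (hf : f.Flat)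
    (M : ModuleCat.{u} B) (h : flat B M) : flat A ((ModuleCat.restrictScalars.{u} f).obj M) := by
  letI := f.toAlgebra
  have : Module.Flat A B := hf
  have : Module.Flat B M := h
  let := Module.compHom M f
  have : IsScalarTower A B M := ⟨fun r s x => mul_smul (f r) s x⟩
  exact Module.Flat.trans A B M

/-- Composite restrictions, on complexes. -/
noncomputable def resComp {A B C : Type u} [CommRing A] [CommRing B] [CommRing C] (f : A →+* B) (g : B →+* C)
    (h : A →+* C) (hh : h = g.comp f) (X : DRing.Cx C) :
    ((ModuleCat.restrictScalars.{u} h).mapHomologicalComplex (.up ℤ)).obj X ≅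
      ((ModuleCat.restrictScalars.{u} f).mapHomologicalComplex (.up ℤ)).obj
        (((ModuleCat.restrictScalars.{u} g).mapHomologicalComplex (.up ℤ)).obj X) :=
  HomologicalComplex.Hom.isoOfComponents
    (fun i => (ModuleCat.restrictScalarsComp' f g h hh).app (X.X i))
    fun i j _ => ((ModuleCat.restrictScalarsComp' f g h hh).hom.naturality (X.d i j)).symm

variable {A B : Type u} [CommRing A] [CommRing B] [Algebra A B]

/-- The tautological polynomial presentation. -/
noncomputable abbrev pres : MvPolynomial B A →+* B := (MvPolynomial.aeval (id : B → B)).toRingHom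

theorem pres_surjective : Function.Surjective (pres (A := A) (B := B)) :=
  fun b => ⟨MvPolynomial.X b, MvPolynomial.aeval_X id b⟩

section Comp

variable {R S : Type u} [CommRing R] [CommRing S] (π : R →+* S) (hπ : Function.Surjective π)
  (m : Ideal S) [m.IsPrime] (m' : Ideal R) [m'.IsPrime] (hm : m' = m.comap π)

include hπ in
/-- The comparison of the two localizations of a module. -/
theorem exists_compIso (M : ModuleCat.{u} S) :
    ∃ c : (ModuleCat.extendScalars.{u, u, u} (algebraMap R (Localization.AtPrime m'))).obj
          ((ModuleCat.restrictScalars.{u} π).obj M) ≅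
        (ModuleCat.restrictScalars.{u} (Localization.localRingHom m' m π hm)).obj
          ((ModuleCat.extendScalars.{u, u, u} (algebraMap S (Localization.AtPrime m))).obj M),
      ∀ (q : Localization.AtPrime m') (x : (ModuleCat.restrictScalars.{u} π).obj M),
        c.hom.hom ((FlatBC.extEquiv R (Localization.AtPrime m') ((ModuleCat.restrictScalars.{u} π).obj M)).symm
          (q ⊗ₜ[R] x)) =
          (FlatBC.extEquiv S (Localization.AtPrime m) M).symm
            (Localization.localRingHom m' m π hm q ⊗ₜ[S] (show M from x)) := by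
  letI : Algebra R S := π.toAlgebra
  let N := (ModuleCat.restrictScalars.{u} π).obj M
  letI : Module S N := inferInstanceAs (Module S M)
  have : IsScalarTower R S N := ⟨fun r s x => mul_smul (π r) s (show M from x)⟩
  let c₀ := LinearEquiv.ofBijective _ (bijective_comp₀ (R := R) (S := S) hπ m m' hm N)
  let e : _ ≃+ _ := (FlatBC.extEquiv R (Localization.AtPrime m') N).toAddEquiv.trans
    (c₀.toAddEquiv.trans (FlatBC.extEquiv S (Localization.AtPrime m) M).symm.toAddEquiv)
  refine ⟨(AddEquiv.toLinearEquiv (R := Localization.AtPrime m')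
    (M := (ModuleCat.extendScalars.{u, u, u} (algebraMap R (Localization.AtPrime m'))).obj N)
    (M₂ := (ModuleCat.restrictScalars.{u} (Localization.localRingHom m' m π hm)).obj
      ((ModuleCat.extendScalars.{u, u, u} (algebraMap S (Localization.AtPrime m))).obj M)) e
    fun q z => ?_).toModuleIso, fun q x => ?_⟩
  · exact (congrArg (fun w => (FlatBC.extEquiv S (Localization.AtPrime m) M).symm (c₀ w))
      (map_smul (FlatBC.extEquiv R (Localization.AtPrime m') N) q z)).trans
      ((congrArg (FlatBC.extEquiv S (Localization.AtPrime m) M).symm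
        (comp₀_smul (R := R) (S := S) m m' hm N q (FlatBC.extEquiv R (Localization.AtPrime m') N z))).trans
        (map_smul (FlatBC.extEquiv S (Localization.AtPrime m) M).symm
          (Localization.localRingHom m' m π hm q) _))
  · exact congrArg (fun w => (FlatBC.extEquiv S (Localization.AtPrime m) M).symm (c₀ w))
      ((FlatBC.extEquiv R (Localization.AtPrime m') N).apply_symm_apply (q ⊗ₜ[R] x))

include hπ in
/-- The comparison of the two localizations, on complexes. -/
theorem nonempty_compIso (K : DRing.Cx S) :
    Nonempty ((ext (algebraMap R (Localization.AtPrime m'))).obj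
        (((ModuleCat.restrictScalars.{u} π).mapHomologicalComplex (.up ℤ)).obj K) ≅
      ((ModuleCat.restrictScalars.{u} (Localization.localRingHom m' m π hm)).mapHomologicalComplex
        (.up ℤ)).obj ((ext (algebraMap S (Localization.AtPrime m))).obj K)) := by
  choose c hc using exists_compIso π hπ m m' hm
  refine ⟨HomologicalComplex.Hom.isoOfComponents (fun i => c (K.X i)) fun i j _ =>
    ModuleCat.hom_ext (LinearMap.ext fun z => ?_)⟩
  obtain ⟨z, rfl⟩ :=
    (FlatBC.extEquiv R (Localization.AtPrime m') ((ModuleCat.restrictScalars.{u} π).obj (K.X i))).symm.surjective z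
  induction z using TensorProduct.induction_on with
  | zero => simp
  | tmul q x =>
    exact (congrArg _ (hc (K.X i) q x)).trans (hc (K.X j) q ((K.d i j).hom x)).symm
  | add x y hx hy => simp only [map_add] at *; exact congrArg₂ (· + ·) hx hy

end Comp

/-- The cokernel of a localized differential. -/
theorem flat_tensor_coker {R L : Type u} [CommRing R] [CommRing L] [Algebra A R] [Algebra A L] [Algebra R L]
    [IsScalarTower A R L] (G : DRing.Cx R) (i j : ℤ)
    (h : Module.Flat A
      (((((ModuleCat.restrictScalars.{u} (algebraMap A L)).mapHomologicalComplex (.up ℤ)).obj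
          ((ext (algebraMap R L)).obj G)).X j) ⧸
        LinearMap.range ((((ModuleCat.restrictScalars.{u} (algebraMap A L)).mapHomologicalComplex (.up ℤ)).obj
          ((ext (algebraMap R L)).obj G)).d i j).hom)) :
    Module.Flat A (L ⊗[R] ((G.X j) ⧸ LinearMap.range (G.d i j).hom)) := by
  let Pc := ((ModuleCat.restrictScalars.{u} (algebraMap A L)).mapHomologicalComplex (.up ℤ)).obj
    ((ext (algebraMap R L)).obj G)
  let E : ∀ k, Pc.X k ≃ₗ[A] L ⊗[R] (G.X k) := fun k =>
    AddEquiv.toLinearEquiv (M := Pc.X k) (FlatBC.extEquiv R L (G.X k)).toAddEquiv fun r z =>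
      (map_smul (FlatBC.extEquiv R L (G.X k)) (algebraMap A L r)
        (show (ModuleCat.extendScalars.{u, u, u} (algebraMap R L)).obj (G.X k) from z)).trans (algebraMap_smul L r _)
  let n := (Pc.d i j).hom
  let d : L ⊗[R] (G.X i) →ₗ[A] L ⊗[R] (G.X j) := ((G.d i j).hom.lTensor L).restrictScalars A
  let q : L ⊗[R] (G.X j) →ₗ[A] L ⊗[R] ((G.X j) ⧸ LinearMap.range (G.d i j).hom) :=
    ((LinearMap.range (G.d i j).hom).mkQ.lTensor L).restrictScalars A
  have hE : ∀ z, E j (n z) = d (E i z) := fun z => by
    obtain ⟨w, rfl⟩ := (E i).symm.surjective z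
    rw [(E i).apply_symm_apply]
    induction w using TensorProduct.induction_on with
    | zero => simp
    | tmul c x => rfl
    | add x y hx hy => simp only [map_add, hx, hy]
  have hr : (LinearMap.range n).map (E j).toLinearMap = LinearMap.range d := by
    ext w
    constructor
    · rintro ⟨_, ⟨z, rfl⟩, rfl⟩
      exact ⟨E i z, (hE z).symm⟩
    · rintro ⟨w, rfl⟩
      exact ⟨n ((E i).symm w), ⟨_, rfl⟩, (hE _).trans (congrArg d ((E i).apply_symm_apply w))⟩
  have hex : Function.Exact d q :=
    lTensor_exact L (LinearMap.exact_map_mkQ_range _) (Submodule.mkQ_surjective _)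
  have hsurj : Function.Surjective q := LinearMap.lTensor_surjective L (Submodule.mkQ_surjective _)
  have : Module.Flat A ((Pc.X j) ⧸ LinearMap.range n) := h
  exact Module.Flat.of_linearEquiv (((Submodule.Quotient.equiv _ _ (E j) hr).trans
    ((Submodule.quotEquivOfEq _ _ (LinearMap.exact_iff.1 hex).symm).trans
      (q.quotKerEquivOfSurjective hsurj))).symm)

/-- Tor amplitude of the restriction is local on the source. -/
theorem bdd_flat_restrict {K : DRing.Cx B} {a b : ℤ}
    (h : ∀ (m : Ideal B) [m.IsMaximal], Bdd (flat (Localization.AtPrime (m.comap (algebraMap A B)))) a b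
      (DerivedCategory.Q.obj (((ModuleCat.restrictScalars.{u}
        (Localization.localRingHom (m.comap (algebraMap A B)) m (algebraMap A B) rfl)).mapHomologicalComplex
          (.up ℤ)).obj ((ext (algebraMap B (Localization.AtPrime m))).obj K)))) :
    Bdd (flat A) a b
      (DerivedCategory.Q.obj (((ModuleCat.restrictScalars.{u} (algebraMap A B)).mapHomologicalComplex (.up ℤ)).obj K)) := by
  let R := MvPolynomial B A
  let π : R →+* B := pres (A := A) (B := B)
  let K' := ((ModuleCat.restrictScalars.{u} π).mapHomologicalComplex (.up ℤ)).obj K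
  have hexK : ∀ i, i < a ∨ b < i → K.ExactAt i := fun i hi => exactAt_of_forall K i fun m _ =>
    (exactAt_restrict_iff _ i _).1 (exactAt_of_bdd _ i (h m) hi)
  have hle : (DerivedCategory.Q.obj K').IsLE b := by
    rw [DerivedCategory.isLE_Q_obj_iff, CochainComplex.isLE_iff]
    exact fun i hi => (exactAt_restrict_iff K i π).2 (hexK i (Or.inr hi))
  obtain ⟨G, hG, hGp, ⟨e⟩⟩ := ba_free hle
  have := isKProjective_of_bounds projective_of_free' hG hGp
  obtain ⟨s, hs⟩ := exists_Q_map_eq e.hom
  have : QuasiIso s := by
    rw [← DerivedCategory.isIso_Q_map_iff_quasiIso, hs]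
    infer_instance
  let resA := ModuleCat.restrictScalars.{u} (algebraMap A R)
  let E := (resA.mapHomologicalComplex (.up ℤ)).obj G
  have hRflat : (algebraMap A R).Flat := RingHom.flat_algebraMap_iff.2 inferInstance
  have hEf : ∀ i, flat A (E.X i) := fun i => flat_restrict _ hRflat _ (flat_of_free _ (hGp i))
  have hπ : algebraMap A B = π.comp (algebraMap A R) := by
    ext r
    simp [π, pres, R]
  let eE : DerivedCategory.Q.obj E ≅
      DerivedCategory.Q.obj (((ModuleCat.restrictScalars.{u} (algebraMap A B)).mapHomologicalComplex (.up ℤ)).obj K) :=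
    (haveI : QuasiIso ((resA.mapHomologicalComplex (.up ℤ)).map s) := inferInstance
     asIso (DerivedCategory.Q.map ((resA.mapHomologicalComplex (.up ℤ)).map s))) ≪≫
      DerivedCategory.Q.mapIso (resComp (algebraMap A R) π (algebraMap A B) hπ K).symm
  have hge : (DerivedCategory.Q.obj E).IsGE a := by
    refine isGE_of_iso' eE.symm ?_
    rw [DerivedCategory.isGE_Q_obj_iff, CochainComplex.isGE_iff]
    exact fun i hi => (exactAt_restrict_iff K i _).2 (hexK i (Or.inl hi))
  refine (bdd_of_opcycles good_flat (fun i hi => resA.map_isZero (hG i hi)) (fun i _ => hEf i) hge ?_).of_iso eE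
  -- flatness of the cokernel, locally on the polynomial ring
  let C := (G.X a) ⧸ LinearMap.range (G.d (a - 1) a).hom
  let : Module A C := Module.compHom C (algebraMap A R)
  have : IsScalarTower A R C := IsScalarTower.of_algebraMap_smul fun r x => rfl
  suffices hC : Module.Flat A C by
    refine good_flat.iso (LinearEquiv.toModuleIso ?_) (show flat A (ModuleCat.of A C) from hC)
    exact { toFun := fun x => x
            invFun := fun x => x
            map_add' := fun _ _ => rfl
            map_smul' := fun _ _ => rfl
            left_inv := fun _ => rfl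
            right_inv := fun _ => rfl }
  refine Module.flat_of_isLocalized_maximal R C
    (fun P _ => LocalizedModule P.primeCompl C) (fun P _ => LocalizedModule.mkLinearMap P.primeCompl C) ?_
  intro P hPmax
  let L := Localization.AtPrime P
  let e₁ := algebraMap R L
  let X := (ext e₁).obj G
  let resL := ModuleCat.restrictScalars.{u} (algebraMap A L)
  let Pc := (resL.mapHomologicalComplex (.up ℤ)).obj X
  have hLflat : (algebraMap A L).Flat := RingHom.flat_algebraMap_iff.2 (Module.Flat.trans A R L)
  have hPf : ∀ i, flat A (Pc.X i) := fun i => flat_restrict _ hLflat _ (ext_flat e₁ _ (flat_of_free _ (hGp i)))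
  have hPb : ∀ i, b < i → IsZero (Pc.X i) := fun i hi =>
    resL.map_isZero ((ModuleCat.extendScalars.{u, u, u} e₁).map_isZero (hG i hi))
  have : Module.Flat R L := IsLocalization.flat L P.primeCompl
  have : QuasiIso ((ext e₁).map s) := inferInstance
  have : QuasiIso ((resL.mapHomologicalComplex (.up ℤ)).map ((ext e₁).map s)) := inferInstance
  let eP : DerivedCategory.Q.obj Pc ≅ DerivedCategory.Q.obj ((resL.mapHomologicalComplex (.up ℤ)).obj ((ext e₁).obj K')) :=
    asIso (DerivedCategory.Q.map ((resL.mapHomologicalComplex (.up ℤ)).map ((ext e₁).map s)))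
  have hbdd : Bdd (flat A) a b (DerivedCategory.Q.obj Pc) := by
    by_cases hker : RingHom.ker π ≤ P
    · let m := P.map π
      have hm : m.IsMaximal :=
        (Ideal.map_eq_top_or_isMaximal_of_surjective π pres_surjective hPmax).resolve_left fun htop => by
          have := congrArg (Ideal.comap π) htop
          rw [Ideal.comap_map_of_surjective π pres_surjective, Ideal.comap_top] at this
          exact hPmax.ne_top (top_le_iff.1 (this ▸ sup_le le_rfl hker))
      have hcm : P = m.comap π := by
        rw [Ideal.comap_map_of_surjective π pres_surjective]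
        exact (sup_eq_left.2 hker).symm
      obtain ⟨ec⟩ := nonempty_compIso π pres_surjective m P hcm K
      let p := m.comap (algebraMap A B)
      let ψ' := Localization.localRingHom P m π hcm
      let loc := Localization.localRingHom p m (algebraMap A B) rfl
      let resp := ModuleCat.restrictScalars.{u} (algebraMap A (Localization.AtPrime p))
      have h1 : ψ'.comp (algebraMap A L) = loc.comp (algebraMap A (Localization.AtPrime p)) := by
        ext r
        simp only [RingHom.comp_apply, ψ', loc]
        rw [IsScalarTower.algebraMap_apply A R L, Localization.localRingHom_to_map,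
          Localization.localRingHom_to_map]
        exact congrArg _ (RingHom.congr_fun hπ r).symm
      have hb0 : Bdd (flat A) a b (resp.mapDerivedCategory.obj (DerivedCategory.Q.obj
          (((ModuleCat.restrictScalars.{u} loc).mapHomologicalComplex (.up ℤ)).obj
            ((ext (algebraMap B (Localization.AtPrime m))).obj K)))) :=
        ExactPush.bdd_map resp (P' := flat A) (fun M hM => flat_restrict _
          (RingHom.flat_algebraMap_iff.2 (IsLocalization.flat _ p.primeCompl)) M hM) (h m)
      exact hb0.of_iso (ExactPush.mapQ resp _ ≪≫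
        DerivedCategory.Q.mapIso ((resComp _ _ _ h1 _).symm ≪≫ resComp _ _ _ rfl _ ≪≫
          (resL.mapHomologicalComplex (.up ℤ)).mapIso ec.symm) ≪≫ eP.symm)
    · obtain ⟨t, ht, htP⟩ := SetLike.not_le_iff_exists.1 hker
      refine (bdd_zero good_flat (DerivedCategory.Q.map_isZero ?_) a b).of_iso eP.symm
      refine (resL.mapHomologicalComplex (.up ℤ)).map_isZero ?_
      rw [IsZero.iff_id_eq_zero]
      refine HomologicalComplex.hom_ext _ _ fun i => ModuleCat.hom_ext (LinearMap.ext fun z => ?_)
      show z = 0
      refine (FlatBC.extEquiv R L (K'.X i)).injective ((eq_zero_of_kill t ?_ (fun x => ?_) _).trans (map_zero _).symm)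
      · exact IsLocalization.map_units L (⟨t, htP⟩ : P.primeCompl)
      · show π t • (show K.X i from x) = 0
        rw [RingHom.mem_ker.1 ht, zero_smul]
  have hcok : Module.Flat A (L ⊗[R] C) :=
    flat_tensor_coker G (a - 1) a (flat_coker Pc hPb hPf hbdd)
  exact Module.Flat.of_linearEquiv ((LocalizedModule.equivTensorProduct P.primeCompl C).restrictScalars A)

end Groth.Agent.Lib.DR.LocalAmp
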