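import Groth.Agent.Lib.DR.KFlatTri
import Groth.Agent.Lib.DR.TorAmp
import Groth.Agent.Lib.DR.BaseChangeU
import Groth.Prelude.Def_DRing4

/-!
# The derived tensor product with a complex
-/

universe u

open CategoryTheory CategoryTheory.Limits HomologicalComplex MonoidalCategory
open Groth.Agent.Lib.DerivedOX
open Groth.Agent.Lib.SiteKFlat.Cx

attribute [local instance] HasDerivedCategory.standard

namespace Groth.Agent.Lib.DR.LTensorCx

variable {R : Type u} [CommRing R]

theorem inverts (E : DRing.Cx R) :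
    (homotopyEquivalences (ModuleCat.{u} R) (.up ℤ)).IsInvertedBy (DRing.tensorCxQ R E) := by
  rintro K K' _ ⟨e, rfl⟩
  let e' : HomotopyEquiv (((KFlat.tcx R).obj K).obj E) (((KFlat.tcx R).obj K').obj E) :=
    { hom := ((KFlat.tcx R).map e.hom).app E
      inv := ((KFlat.tcx R).map e.inv).app E
      homotopyHomInvId := (Homotopy.ofEq (((KFlat.tcx R).flip.obj E).map_comp _ _).symm).trans
        ((Bifunctor.homotopy₁ (KFlat.tbi R) e.homotopyHomInvId E).trans
          (Homotopy.ofEq (((KFlat.tcx R).flip.obj E).map_id _)))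
      homotopyInvHomId := (Homotopy.ofEq (((KFlat.tcx R).flip.obj E).map_comp _ _).symm).trans
        ((Bifunctor.homotopy₁ (KFlat.tbi R) e.homotopyInvHomId E).trans
          (Homotopy.ofEq (((KFlat.tcx R).flip.obj E).map_id _))) }
  have : QuasiIso e'.hom := e'.quasiIso_hom
  exact Localization.inverts DerivedCategory.Q (quasiIso (ModuleCat.{u} R) (.up ℤ)) e'.hom this

/-- The derived tensor product with a complex exists. -/
theorem hasLTensorCx (E : DRing.Cx R) : DRing.HasLTensorCx R E :=
  have := LeftDerived.isLeftDerivedFunctor (L := DerivedCategory.Q)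
    (KProjRes.resData (DRing.tensorCxQ R E) (inverts E))
  Functor.HasLeftDerivedFunctor.mk' _
    (LeftDerived.counit (L := DerivedCategory.Q) (KProjRes.resData (DRing.tensorCxQ R E) (inverts E)))

variable (E : DRing.Cx R) [DRing.HasLTensorCx R E]

/-- The comparison `K ⊗^L E ⟶ K ⊗ E`. -/
noncomputable abbrev α : DerivedCategory.Q ⋙ DRing.LTensorCx R E ⟶ DRing.tensorCxQ R E :=
  (DRing.tensorCxQ R E).totalLeftDerivedCounit DerivedCategory.Q (quasiIso (ModuleCat.{u} R) (.up ℤ))

/-- `K ⊗^L E` for K-projective `K`. -/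
noncomputable def ltc (P : DRing.Cx R) [P.IsKProjective] :
    (DRing.LTensorCx R E).obj (DerivedCategory.Q.obj P) ≅ DerivedCategory.Q.obj (P ⊗ E) :=
  haveI := KProjRes.isIso_counit_of_isKProjective (DRing.tensorCxQ R E) (inverts E) P
  asIso ((α E).app P)

theorem isIso_α_of_isKFlat (hE : DRing.IsKFlat R E) (K : DRing.Cx R) :
    IsIso ((α E).app K) := by
  have h1 : IsIso ((α E).app ((KProjRes.res R).obj K)) :=
    KProjRes.isIso_counit_of_isKProjective (DRing.tensorCxQ R E) (inverts E) _
  have := KProjRes.quasiIso_aug R K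
  have h2 : IsIso (DerivedCategory.Q.map ((KProjRes.aug R).app K)) :=
    Localization.inverts DerivedCategory.Q (quasiIso (ModuleCat.{u} R) (.up ℤ)) _ this
  have h3 : IsIso ((DRing.tensorCxQ R E).map ((KProjRes.aug R).app K)) :=
    Localization.inverts DerivedCategory.Q (quasiIso (ModuleCat.{u} R) (.up ℤ)) _
      (KFlat.quasiIso_tensor_of_isKFlat hE ((KProjRes.aug R).app K))
  have h4 : IsIso ((DerivedCategory.Q ⋙ DRing.LTensorCx R E).map ((KProjRes.aug R).app K)) :=
    inferInstanceAs (IsIso ((DRing.LTensorCx R E).map (DerivedCategory.Q.map _)))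
  exact IsIso.of_isIso_fac_left ((α E).naturality ((KProjRes.aug R).app K))

/-- `K ⊗^L E` for K-flat `E`. -/
noncomputable def ltcFlat (hE : DRing.IsKFlat R E) (K : DRing.Cx R) :
    (DRing.LTensorCx R E).obj (DerivedCategory.Q.obj K) ≅ DerivedCategory.Q.obj (K ⊗ E) :=
  haveI := isIso_α_of_isKFlat E hE K
  asIso ((α E).app K)

omit [DRing.HasLTensorCx R E] in
/-- Tensoring with a K-flat complex on the left preserves quasi-isomorphisms. -/
theorem quasiIso_tensor_left {K : DRing.Cx R} (hK : DRing.IsKFlat R K) {F F' : DRing.Cx R}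
    (φ : F ⟶ F') [QuasiIso φ] : QuasiIso (((KFlat.tcx R).obj K).map φ) :=
  quasiIso_map ((KFlat.tcx R).obj K) φ
    (Bifunctor.acyclic_obj_of_homotopy_zero _ K (CochainComplex.mappingCone.homotopyToZeroOfId F))
    (KFlat.mono_obj_map_of_split (graphSplitting φ) K)
    ((StalkCx.isKFlat_iff_left K).1 hK _ (acyclic_graph_cokernel φ))

omit [DRing.HasLTensorCx R E] in
/-- Isomorphic complexes in the derived category stay so after tensoring with a K-flat complex. -/
theorem nonempty_tensor_iso {K : DRing.Cx R} (hK : DRing.IsKFlat R K) {F F' : DRing.Cx R}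
    (e : DerivedCategory.Q.obj F ≅ DerivedCategory.Q.obj F') :
    Nonempty (DerivedCategory.Q.obj (K ⊗ F) ≅ DerivedCategory.Q.obj (K ⊗ F')) := by
  have hs := KProjRes.quasiIso_aug R F
  have : IsIso (DerivedCategory.Q.map ((KProjRes.aug R).app F)) :=
    Localization.inverts DerivedCategory.Q (quasiIso (ModuleCat.{u} R) (.up ℤ)) _ hs
  obtain ⟨g, hg⟩ := Basic.exists_Q_map_eq (DerivedCategory.Q.map ((KProjRes.aug R).app F) ≫ e.hom)
  have : QuasiIso g := by
    rw [← DerivedCategory.isIso_Q_map_iff_quasiIso, hg]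
    infer_instance
  have h1 : IsIso (DerivedCategory.Q.map (((KFlat.tcx R).obj K).map ((KProjRes.aug R).app F))) :=
    Localization.inverts DerivedCategory.Q (quasiIso (ModuleCat.{u} R) (.up ℤ)) _
      (quasiIso_tensor_left hK ((KProjRes.aug R).app F))
  have h2 : IsIso (DerivedCategory.Q.map (((KFlat.tcx R).obj K).map g)) :=
    Localization.inverts DerivedCategory.Q (quasiIso (ModuleCat.{u} R) (.up ℤ)) _
      (quasiIso_tensor_left hK g)
  exact ⟨(asIso (DerivedCategory.Q.map (((KFlat.tcx R).obj K).map ((KProjRes.aug R).app F)))).symm ≪≫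
    @asIso _ _ _ _ _ h2⟩

/-- `K ⊗^L E` only depends on the class of `E`. -/
theorem nonempty_iso_of_iso {E' : DRing.Cx R} [DRing.HasLTensorCx R E']
    (e : DerivedCategory.Q.obj E ≅ DerivedCategory.Q.obj E') (X : Dual.D R) :
    Nonempty ((DRing.LTensorCx R E).obj X ≅ (DRing.LTensorCx R E').obj X) := by
  obtain ⟨P, hP, -, ⟨f⟩⟩ := BaseChangeU.exists_rep X
  obtain ⟨h⟩ := nonempty_tensor_iso (KFlat.isKFlat_of_isKProjective P) e
  exact ⟨(DRing.LTensorCx R E).mapIso f.symm ≪≫ ltc E P ≪≫ h ≪≫ (ltc E' P).symm ≪≫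
    (DRing.LTensorCx R E').mapIso f⟩

/-- `K ⊗^L E` computed with K-flat representatives of both. -/
theorem nonempty_iso_tensor {K : Dual.D R} {P F : DRing.Cx R} (hF : DRing.IsKFlat R F)
    (eP : DerivedCategory.Q.obj P ≅ K) (eF : DerivedCategory.Q.obj F ≅ DerivedCategory.Q.obj E) :
    Nonempty ((DRing.LTensorCx R E).obj K ≅ DerivedCategory.Q.obj (P ⊗ F)) := by
  have := hasLTensorCx F
  obtain ⟨h⟩ := nonempty_iso_of_iso E eF.symm K
  exact ⟨h ≪≫ (DRing.LTensorCx R F).mapIso eP.symm ≪≫ ltcFlat F hF P⟩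

section Single

variable (M : ModuleCat.{u} R) (G : DRing.Cx R)

/-- A module in degree zero tensor a complex. -/
noncomputable def singleTensorIsoLeft :
    ((single (ModuleCat.{u} R) (.up ℤ) 0).obj M) ⊗ G ≅
      ((MonoidalCategory.tensorLeft M).mapHomologicalComplex (.up ℤ)).obj G :=
  (Hom.isoOfComponents
    (fun q => @asIso _ _ _ _ (Bifunctor.singleHom₁ (KFlat.tbi R) M 0 G q q (zero_add q))
      (Bifunctor.isIso_singleHom₁ (KFlat.tbi R) M 0 G q q (zero_add q)))
    (fun q q' hq => by
      have h := Bifunctor.singleHom₁_d (KFlat.tbi R) M 0 G q q' q q' (zero_add q) (zero_add q') hq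
      rw [Int.negOnePow_zero, one_smul] at h
      exact h)).symm

/-- A module in degree zero tensor a complex, as `- ⊗ M`. -/
noncomputable def singleTensorIso :
    ((single (ModuleCat.{u} R) (.up ℤ) 0).obj M) ⊗ G ≅ (TorAmp.tens M).obj G :=
  singleTensorIsoLeft M G ≪≫
    (NatIso.mapHomologicalComplex (BraidedCategory.tensorLeftIsoTensorRight M) (.up ℤ)).app G

end Single

end Groth.Agent.Lib.DR.LTensorCx
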