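import Groth.Agent.Lib.DR.LTensorCx
import Groth.Agent.Lib.TensorCx.Basic
import Mathlib.RingTheory.Flat.Basic
import Mathlib.RingTheory.Finiteness.Projective
import Mathlib.Data.Int.Interval

/-!
# Tensor products of bounded complexes
-/

universe u

open CategoryTheory CategoryTheory.Limits TensorProduct
open Groth.Agent.Lib.TensorCx.Basic

namespace Groth.Agent.Lib.DR.TensorBdd

variable {R : Type u} [CommRing R] (L M : DRing.Cx R)

/-- A degree of a tensor complex as a finite product. -/
noncomputable def piEquiv (n : ℤ) (S : Finset ℤ)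
    (hS : ∀ i, i ∉ S → IsZero (L.X i) ∨ IsZero (M.X (n - i))) :
    (tens L M).X n ≃ₗ[R] (∀ i : S, L.X i.1 ⊗[R] M.X (n - i.1)) := by
  classical
  refine LinearEquiv.ofLinearMap (LinearMap.pi fun i => proj L M i.1 (n - i.1) n)
    (∑ i : S, incl L M i.1 (n - i.1) n (add_sub_cancel i.1 n) ∘ₗ LinearMap.proj i) ?_ ?_
  · refine LinearMap.ext fun v => funext fun i => ?_
    simp only [LinearMap.pi_apply, LinearMap.comp_apply, LinearMap.sum_apply, map_sum, LinearMap.id_apply,
      LinearMap.proj_apply]
    refine (Finset.sum_eq_single i (fun j _ hj => ?_) (fun h => absurd (Finset.mem_univ i) h)).trans ?_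
    · exact proj_incl_ne L M _ _ _ _ _ _ (fun h => hj (Subtype.ext h.1)) _
    · exact proj_incl L M _ _ _ _ _
  · refine LinearMap.ext fun x => ext_proj fun i j hij => ?_
    obtain rfl : j = n - i := by omega
    simp only [LinearMap.pi_apply, LinearMap.comp_apply, LinearMap.sum_apply, map_sum, LinearMap.id_apply,
      LinearMap.proj_apply]
    by_cases hi : i ∈ S
    · refine (Finset.sum_eq_single ⟨i, hi⟩ (fun j _ hj => ?_) (fun h => absurd (Finset.mem_univ _) h)).trans ?_
      · exact proj_incl_ne L M _ _ _ _ _ _ (fun h => hj (Subtype.ext h.1)) _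
      · exact proj_incl L M _ _ _ _ _
    · have : Subsingleton (L.X i ⊗[R] M.X (n - i)) := by
        rcases hS i hi with h | h
        · have := ModuleCat.subsingleton_of_isZero h
          infer_instance
        · have := ModuleCat.subsingleton_of_isZero h
          infer_instance
      exact Subsingleton.elim _ _

variable {b b' : ℤ}

/-- A degree of a tensor product of complexes bounded above. -/
noncomputable def piEquivIcc (hL : ∀ i, b < i → IsZero (L.X i)) (hM : ∀ i, b' < i → IsZero (M.X i)) (n : ℤ) :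
    (tens L M).X n ≃ₗ[R] (∀ i : Finset.Icc (n - b') b, L.X i.1 ⊗[R] M.X (n - i.1)) :=
  piEquiv L M n _ fun i hi => by
    rw [Finset.mem_Icc, not_and_or] at hi
    rcases hi with hi | hi
    · exact Or.inr (hM _ (by omega))
    · exact Or.inl (hL _ (by omega))

theorem isZero_tens_above (hL : ∀ i, b < i → IsZero (L.X i)) (hM : ∀ i, b' < i → IsZero (M.X i))
    (n : ℤ) (hn : b + b' < n) : IsZero ((tens L M).X n) := by
  have : IsEmpty (Finset.Icc (n - b') b) := Finset.isEmpty_coe_sort.2 (Finset.Icc_eq_empty (by omega))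
  have := (piEquivIcc L M hL hM n).toEquiv.subsingleton
  exact ModuleCat.isZero_of_subsingleton _

theorem isZero_tens_below {a a' : ℤ} (hL : ∀ i, i < a → IsZero (L.X i)) (hM : ∀ i, i < a' → IsZero (M.X i))
    (n : ℤ) (hn : n < a + a') : IsZero ((tens L M).X n) := by
  have := (piEquiv L M n ∅ fun i _ => if h : i < a then Or.inl (hL i h) else Or.inr (hM _ (by omega))).toEquiv.subsingleton
  exact ModuleCat.isZero_of_subsingleton _

variable (hL : ∀ i, b < i → IsZero (L.X i)) (hM : ∀ i, b' < i → IsZero (M.X i))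
include hL hM

theorem ff_tens (hfL : ∀ i, PseudoCoherent.ff R (L.X i)) (hfM : ∀ i, PseudoCoherent.ff R (M.X i)) (n : ℤ) :
    PseudoCoherent.ff R ((tens L M).X n) := by
  have : ∀ i : ℤ, Module.Finite R (L.X i) := fun i => (hfL i).1
  have : ∀ i : ℤ, Module.Finite R (M.X i) := fun i => (hfM i).1
  have : ∀ i : ℤ, Module.Free R (L.X i) := fun i => (hfL i).2
  have : ∀ i : ℤ, Module.Free R (M.X i) := fun i => (hfM i).2
  exact ⟨Module.Finite.equiv (piEquivIcc L M hL hM n).symm, Module.Free.of_equiv (piEquivIcc L M hL hM n).symm⟩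

theorem fproj_tens (hfL : ∀ i, PseudoCoherent.fproj R (L.X i)) (hfM : ∀ i, PseudoCoherent.fproj R (M.X i))
    (n : ℤ) : PseudoCoherent.fproj R ((tens L M).X n) := by
  have : ∀ i : ℤ, Module.Finite R (L.X i) := fun i => (hfL i).1
  have : ∀ i : ℤ, Module.Finite R (M.X i) := fun i => (hfM i).1
  have : ∀ i : ℤ, Module.Projective R (L.X i) := fun i => (hfL i).2
  have : ∀ i : ℤ, Module.Projective R (M.X i) := fun i => (hfM i).2
  exact ⟨Module.Finite.equiv (piEquivIcc L M hL hM n).symm,
    Module.Projective.of_equiv ((DFinsupp.linearEquivFunOnFintype).trans (piEquivIcc L M hL hM n).symm :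
      (Π₀ i : Finset.Icc (n - b') b, L.X i.1 ⊗[R] M.X (n - i.1)) ≃ₗ[R] _)⟩

end Groth.Agent.Lib.DR.TensorBdd
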