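import Groth.Agent.Lib.DR.ProjCx
import Groth.Agent.Lib.DR.LTensorCx
import Groth.Agent.Lib.DR.TensorBdd
import Groth.Agent.Lib.DR.LocalAmp
import Groth.Prelude.Def_DTen

/-!
# Tor amplitude of a restricted tensor product
-/

universe u

open CategoryTheory CategoryTheory.Limits MonoidalCategory
open Groth.Agent.Lib.DR
open Groth.Agent.Lib.DR.Basic Groth.Agent.Lib.DR.FiniteComplex Groth.Agent.Lib.DR.PseudoCoherent
open Groth.Agent.Lib.DR.Representative Groth.Agent.Lib.DR.BaseChange Groth.Agent.Lib.DR.TorAmp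

attribute [local instance] HasDerivedCategory.standard

set_option backward.isDefEq.respectTransparency false

namespace Groth.Agent.Lib.DR.TensorAmp

variable {A : Type u} [CommRing A]

/-- A module placed in degree zero. -/
noncomputable abbrev sing (M : ModuleCat.{u} A) : DRing.Cx A :=
  (HomologicalComplex.single (ModuleCat.{u} A) (ComplexShape.up ℤ) 0).obj M

/-- A flat resolution of a module. -/
theorem exists_res (M : ModuleCat.{u} A) :
    ∃ (P : DRing.Cx A), (∀ i, 0 < i → IsZero (P.X i)) ∧ DRing.IsKFlat A P ∧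
      Nonempty (DerivedCategory.Q.obj P ≅ DerivedCategory.Q.obj (sing M)) := by
  obtain ⟨P, hP, hp, ⟨e⟩⟩ := ba_free (b := 0) (X := DerivedCategory.Q.obj (sing M))
    (isLE_Q_of_isZero _ 0 fun i hi => HomologicalComplex.isZero_single_obj_X _ 0 M i (by omega))
  exact ⟨P, hP, KFlat.isKFlat_of_flat P 0 hP fun i => flat_of_free _ (hp i), ⟨e⟩⟩

/-- Derived tensor product with a module, computed with either resolution. -/
theorem nonempty_tens_iso_res {P G X : DRing.Cx A} (M : ModuleCat.{u} A)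
    (hP : DRing.IsKFlat A P) (eP : DerivedCategory.Q.obj P ≅ DerivedCategory.Q.obj (sing M))
    (hG : DRing.IsKFlat A G) (eG : DerivedCategory.Q.obj G ≅ DerivedCategory.Q.obj X) :
    Nonempty (DerivedCategory.Q.obj ((tens M).obj G) ≅ DerivedCategory.Q.obj (P ⊗ X)) := by
  obtain ⟨e₁⟩ := LTensorCx.nonempty_tensor_iso hP eG
  obtain ⟨e₂⟩ := LTensorCx.nonempty_tensor_iso hG eP
  exact ⟨DerivedCategory.Q.mapIso ((LTensorCx.singleTensorIso M G).symm ≪≫ DTen.braidCx _ _) ≪≫ e₂.symm ≪≫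
    DerivedCategory.Q.mapIso (DTen.braidCx _ _) ≪≫ e₁⟩

/-- The flat amplitude through tensoring with resolutions of modules. -/
theorem bdd_flat_of_isGE {X : DRing.Cx A} {a b : ℤ} (hle : (DerivedCategory.Q.obj X).IsLE b)
    (hge : ∀ (M : ModuleCat.{u} A) (P : DRing.Cx A), (∀ i, 0 < i → IsZero (P.X i)) → DRing.IsKFlat A P →
      (DerivedCategory.Q.obj P ≅ DerivedCategory.Q.obj (sing M)) → (DerivedCategory.Q.obj (P ⊗ X)).IsGE a) :
    Bdd (flat A) a b (DerivedCategory.Q.obj X) := by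
  obtain ⟨G, hG, hp, ⟨e⟩⟩ := ba_free hle
  have hGf : ∀ i, flat A (G.X i) := fun i => flat_of_free _ (hp i)
  have hGK := KFlat.isKFlat_of_flat G b hG hGf
  have hex : ∀ M : ModuleCat.{u} A, ∀ i, i < a → ((tens M).obj G).ExactAt i := fun M i hi => by
    obtain ⟨P, hP, hPK, ⟨eP⟩⟩ := exists_res M
    obtain ⟨e'⟩ := nonempty_tens_iso_res M hPK eP hGK e
    have h := isGE_of_iso' e'.symm (hge M P hP hPK eP)
    rw [DerivedCategory.isGE_Q_obj_iff, CochainComplex.isGE_iff] at h
    exact h i hi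
  refine (bdd_of_opcycles good_flat hG (fun i _ => hGf i) ?_ ?_).of_iso e
  · rw [DerivedCategory.isGE_Q_obj_iff, CochainComplex.isGE_iff]
    intro i hi
    exact (hex (𝟙_ (ModuleCat.{u} A)) i hi).of_iso
      (HomologicalComplex.Hom.isoOfComponents (fun j => ρ_ (G.X j))
        (fun j k _ => (rightUnitor_naturality (G.d j k)).symm))
  · exact flat_coker_of_exactAt G a (hGf a) fun M => hex M (a - 1) (by omega)

/-- Tensoring a representative of a bounded flat object with a resolution of a module. -/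
theorem bounds_tensor_of_bdd {X : DRing.Cx A} {c d : ℤ} (h : Bdd (flat A) c d (DerivedCategory.Q.obj X))
    (M : ModuleCat.{u} A) {P : DRing.Cx A} (hP : DRing.IsKFlat A P)
    (eP : DerivedCategory.Q.obj P ≅ DerivedCategory.Q.obj (sing M)) :
    (DerivedCategory.Q.obj (P ⊗ X)).IsGE c := by
  obtain ⟨G, hG, hp, ⟨e⟩⟩ := h
  obtain ⟨e'⟩ := nonempty_tens_iso_res M hP eP
    (KFlat.isKFlat_of_flat G d (fun i hi => hG i (Or.inr hi)) hp) e
  exact isGE_of_iso' e' (isGE_Q_of_isZero _ c fun i hi =>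
    (MonoidalCategory.tensorRight M).map_isZero (hG i (Or.inl hi)))

variable {B : Type u} [CommRing B]

/-- Tensoring with a bounded complex of flat modules moves lower bounds. -/
theorem isGE_tensor {E Z : DRing.Cx B} (hE : DRing.IsKFlat B E) {a c : ℤ}
    (hEa : ∀ i, i < a → IsZero (E.X i)) (hZ : (DerivedCategory.Q.obj Z).IsGE c) :
    (DerivedCategory.Q.obj (E ⊗ Z)).IsGE (a + c) := by
  obtain ⟨Z', hZ', ⟨e⟩⟩ := (DerivedCategory.Q.obj Z).exists_iso_Q_obj_of_isGE c
  obtain ⟨e'⟩ := LTensorCx.nonempty_tensor_iso hE e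
  exact isGE_of_iso' e'.symm (isGE_Q_of_isZero _ _ fun n hn =>
    TensorBdd.isZero_tens_below E Z' hEa (fun i hi => Z'.isZero_of_isStrictlyGE c i hi) n hn)

/-- Tensoring with a bounded complex of flat modules moves upper bounds. -/
theorem isLE_tensor {E Z : DRing.Cx B} (hE : DRing.IsKFlat B E) {b d : ℤ}
    (hEb : ∀ i, b < i → IsZero (E.X i)) (hZ : (DerivedCategory.Q.obj Z).IsLE d) :
    (DerivedCategory.Q.obj (E ⊗ Z)).IsLE (b + d) := by
  obtain ⟨Z', hZ', ⟨e⟩⟩ := (DerivedCategory.Q.obj Z).exists_iso_Q_obj_of_isLE d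
  obtain ⟨e'⟩ := LTensorCx.nonempty_tensor_iso hE e
  exact isLE_of_iso' e'.symm (isLE_Q_of_isZero _ _ fun n hn =>
    TensorBdd.isZero_tens_above E Z' hEb (fun i hi => Z'.isZero_of_isStrictlyLE d i hi) n hn)

theorem isLE_restrict_iff (f : A →+* B) (X : DRing.Cx B) (n : ℤ) :
    (DerivedCategory.Q.obj ((DTen.resCx f).obj X)).IsLE n ↔ (DerivedCategory.Q.obj X).IsLE n := by
  rw [DerivedCategory.isLE_Q_obj_iff, DerivedCategory.isLE_Q_obj_iff, CochainComplex.isLE_iff,
    CochainComplex.isLE_iff]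
  exact ⟨fun h i hi => (LocalAmp.exactAt_restrict_iff X i f).1 (h i hi),
    fun h i hi => (LocalAmp.exactAt_restrict_iff X i f).2 (h i hi)⟩

theorem isGE_restrict_iff (f : A →+* B) (X : DRing.Cx B) (n : ℤ) :
    (DerivedCategory.Q.obj ((DTen.resCx f).obj X)).IsGE n ↔ (DerivedCategory.Q.obj X).IsGE n := by
  rw [DerivedCategory.isGE_Q_obj_iff, DerivedCategory.isGE_Q_obj_iff, CochainComplex.isGE_iff,
    CochainComplex.isGE_iff]
  exact ⟨fun h i hi => (LocalAmp.exactAt_restrict_iff X i f).1 (h i hi),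
    fun h i hi => (LocalAmp.exactAt_restrict_iff X i f).2 (h i hi)⟩

/-- Amplitude of the restriction of `E ⊗ L`. -/
theorem bdd_flat_restrict_tensor (f : A →+* B) {E L : DRing.Cx B} {a b c d : ℤ}
    (hE : ∀ i, i < a ∨ b < i → IsZero (E.X i)) (hEf : ∀ i, flat B (E.X i))
    (hL : Bdd (flat A) c d (DerivedCategory.Q.obj ((DTen.resCx f).obj L))) :
    Bdd (flat A) (a + c) (b + d) (DerivedCategory.Q.obj ((DTen.resCx f).obj (E ⊗ L))) := by
  have hEK := KFlat.isKFlat_of_flat E b (fun i hi => hE i (Or.inr hi)) hEf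
  refine bdd_flat_of_isGE ?_ fun M P _ hP eP => ?_
  · exact (isLE_restrict_iff f _ _).2
      (isLE_tensor hEK (fun i hi => hE i (Or.inr hi)) ((isLE_restrict_iff f _ _).1 hL.isLE))
  · have h1 : (DerivedCategory.Q.obj ((DTen.extCx f).obj P ⊗ L)).IsGE c := by
      rw [← isGE_restrict_iff f]
      have := ProjCx.isIso_ζ f P L
      exact isGE_of_iso' (DerivedCategory.Q.mapIso (asIso (ProjCx.ζ f P L))) (bounds_tensor_of_bdd hL M hP eP)
    have h2 := isGE_tensor hEK (fun i hi => hE i (Or.inl hi)) h1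
    have := ProjCx.isIso_ζ f P (E ⊗ L)
    refine isGE_of_iso' (DerivedCategory.Q.mapIso (asIso (ProjCx.ζ f P (E ⊗ L)))).symm ?_
    rw [isGE_restrict_iff f]
    exact isGE_of_iso' (DerivedCategory.Q.mapIso ((α_ _ _ _).symm ≪≫ whiskerRightIso (DTen.braidCx _ _) L ≪≫ α_ _ _ _)) h2

section FF

variable {R A B : Type u} [CommRing R] [CommRing A] [CommRing B] [Algebra R A] [Algebra A B]

/-- Exactness descends along a faithfully flat module. -/
theorem exactAt_of_tensorLeft (N : ModuleCat.{u} A) [Module.FaithfullyFlat A N] {Z : DRing.Cx A} {i : ℤ}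
    (h : (((MonoidalCategory.tensorLeft N).mapHomologicalComplex (.up ℤ)).obj Z).ExactAt i) : Z.ExactAt i := by
  rw [HomologicalComplex.exactAt_iff' _ (i - 1) i (i + 1) (by simp) (by simp),
    ShortComplex.ShortExact.moduleCat_exact_iff_function_exact] at h ⊢
  exact Module.FaithfullyFlat.lTensor_reflects_exact A N _ _ h

theorem isGE_of_single_tensor (N : ModuleCat.{u} A) [Module.FaithfullyFlat A N] {Z : DRing.Cx A} {a : ℤ}
    (h : (DerivedCategory.Q.obj (sing N ⊗ Z)).IsGE a) : (DerivedCategory.Q.obj Z).IsGE a := by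
  have h' := isGE_of_iso' (DerivedCategory.Q.mapIso (LTensorCx.singleTensorIsoLeft N Z)) h
  rw [DerivedCategory.isGE_Q_obj_iff, CochainComplex.isGE_iff] at h' ⊢
  exact fun i hi => exactAt_of_tensorLeft N (h' i hi)

theorem isLE_of_single_tensor (N : ModuleCat.{u} A) [Module.FaithfullyFlat A N] {Z : DRing.Cx A} {a : ℤ}
    (h : (DerivedCategory.Q.obj (sing N ⊗ Z)).IsLE a) : (DerivedCategory.Q.obj Z).IsLE a := by
  have h' := isLE_of_iso' (DerivedCategory.Q.mapIso (LTensorCx.singleTensorIsoLeft N Z)) h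
  rw [DerivedCategory.isLE_Q_obj_iff, CochainComplex.isLE_iff] at h' ⊢
  exact fun i hi => exactAt_of_tensorLeft N (h' i hi)

/-- Amplitude descends along faithfully flat tensoring. -/
theorem bdd_flat_restrict_single_tensor_iff (N : ModuleCat.{u} A) [Module.FaithfullyFlat A N] (X : DRing.Cx A)
    (a b : ℤ) :
    Bdd (flat R) a b (DerivedCategory.Q.obj ((DTen.resCx (algebraMap R A)).obj (sing N ⊗ X))) ↔
      Bdd (flat R) a b (DerivedCategory.Q.obj ((DTen.resCx (algebraMap R A)).obj X)) := by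
  let f := algebraMap R A
  have hNf : flat A N := inferInstanceAs (Module.Flat A N)
  have hN : ∀ i, i < 0 ∨ 0 < i → IsZero ((sing N).X i) := fun i hi =>
    HomologicalComplex.isZero_single_obj_X _ 0 N i (by omega)
  have hNX : ∀ i, flat A ((sing N).X i) := fun i => by
    by_cases hi : i = 0
    · subst hi
      exact good_flat.iso (HomologicalComplex.singleObjXSelf (.up ℤ) 0 N).symm hNf
    · exact good_flat.zero (hN i (by omega))
  refine ⟨fun h => bdd_flat_of_isGE ?_ fun M P _ hP eP => ?_, fun h => ?_⟩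
  · exact (isLE_restrict_iff f _ _).2 (isLE_of_single_tensor N ((isLE_restrict_iff f _ _).1 h.isLE))
  · have h1 := bounds_tensor_of_bdd h M hP eP
    have := ProjCx.isIso_ζ f P (sing N ⊗ X)
    have h2 := (isGE_restrict_iff f _ _).1
      (isGE_of_iso' (DerivedCategory.Q.mapIso (asIso (ProjCx.ζ f P (sing N ⊗ X)))) h1)
    have h3 := isGE_of_single_tensor N (isGE_of_iso' (DerivedCategory.Q.mapIso
      ((α_ _ _ _).symm ≪≫ whiskerRightIso (DTen.braidCx _ _) X ≪≫ α_ _ _ _)) h2)
    have := ProjCx.isIso_ζ f P X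
    exact isGE_of_iso' (DerivedCategory.Q.mapIso (asIso (ProjCx.ζ f P X))).symm ((isGE_restrict_iff f _ _).2 h3)
  · have := bdd_flat_restrict_tensor f hN hNX h
    rwa [zero_add, zero_add] at this

end FF

end Groth.Agent.Lib.DR.TensorAmp
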