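import Groth.Agent.Lib.DR.FiniteComplex
import Mathlib.Algebra.Homology.DerivedCategory.KInjective
import Mathlib.Algebra.Homology.HomotopyCategory.KInjective
import Mathlib.Algebra.Homology.Embedding.TruncGE
import Mathlib.Algebra.Homology.Embedding.TruncGEHomology

/-!
# Projective amplitude from the vanishing of morphisms to single objects
-/

universe w v u

open CategoryTheory CategoryTheory.Limits CategoryTheory.Pretriangulated
open Groth.Agent.Lib.DR.Basic Groth.Agent.Lib.DR.FiniteComplex

namespace Groth.Agent.Lib.DR.Amplitude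

variable {C : Type u} [Category.{v} C] [Abelian C] [HasDerivedCategory.{w} C]
variable {P : ObjectProperty C}

lemma nonempty_homotopy_of_Q_map_eq' {E K : CochainComplex C ℤ} [K.IsKInjective]
    {φ ψ : E ⟶ K} (h : DerivedCategory.Q.map φ = DerivedCategory.Q.map ψ) :
    Nonempty (Homotopy φ ψ) := by
  refine ⟨HomotopyCategory.homotopyOfEq _ _ ((CochainComplex.IsKInjective.Qh_map_bijective
    ((HomotopyCategory.quotient C (.up ℤ)).obj E) K).injective ?_)⟩
  rw [← cancel_mono ((DerivedCategory.quotientCompQhIso C).hom.app K),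
    DerivedCategory.quotientCompQhIso_hom_naturality,
    DerivedCategory.quotientCompQhIso_hom_naturality, h]

omit [HasDerivedCategory.{w} C] in
lemma exists_lift_of_homotopy_single {E : CochainComplex C ℤ} {n : ℤ} {M : C}
    {φ : E ⟶ (HomologicalComplex.single C (.up ℤ) n).obj M} (h : Homotopy φ 0) (m : ℤ)
    (hm : n + 1 = m) : ∃ t : E.X m ⟶ M,
      φ.f n ≫ (HomologicalComplex.singleObjXSelf (.up ℤ) n M).hom = E.d n m ≫ t := by
  subst hm
  refine ⟨h.hom (n + 1) n ≫ (HomologicalComplex.singleObjXSelf (.up ℤ) n M).hom, ?_⟩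
  rw [h.comm n, dNext_eq h.hom (i' := n + 1) (show (ComplexShape.up ℤ).Rel n (n + 1) from rfl),
    prevD_eq h.hom (j' := n - 1) (show (ComplexShape.up ℤ).Rel (n - 1) n from sub_add_cancel n 1)]
  simp

/-- `H^n X = 0` as soon as there is no nonzero map from `X` to an injective in degree `n`. -/
lemma isZero_homology_of_hom_single [EnoughInjectives C] (X : DerivedCategory C) (n : ℤ)
    (h : ∀ I : C, Injective I → Subsingleton (X ⟶ (DerivedCategory.singleFunctor C n).obj I)) :
    IsZero ((DerivedCategory.homologyFunctor C n).obj X) := by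
  let K := DerivedCategory.Q.objPreimage X
  let e := DerivedCategory.Q.objObjPreimageIso X
  refine IsZero.of_iso ?_ ((DerivedCategory.homologyFunctor C n).mapIso e.symm ≪≫ homologyQIso K n)
  let I := Injective.under (K.homology n)
  let g : K.opcycles n ⟶ I := Injective.factorThru (Injective.ι (K.homology n)) (K.homologyι n)
  let J : CochainComplex C ℤ := (HomologicalComplex.single C (.up ℤ) n).obj I
  let φ : K ⟶ J := HomologicalComplex.mkHomToSingle (K.pOpcycles n ≫ g) (fun i _ => by simp)
  have : J.IsKInjective := by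
    have : ∀ i, Injective (J.X i) := fun i => by
      by_cases hi : i = n
      · subst hi
        exact Injective.of_iso (HomologicalComplex.singleObjXSelf (.up ℤ) i I).symm inferInstance
      · exact (HomologicalComplex.isZero_single_obj_X _ _ _ i hi).injective
    have : J.IsStrictlyGE n := inferInstanceAs (CochainComplex.IsStrictlyGE _ n)
    exact CochainComplex.isKInjective_of_injective J n
  have : Subsingleton (DerivedCategory.Q.obj K ⟶ DerivedCategory.Q.obj J) := by
    have := h I inferInstance
    exact (Iso.homCongr e.symm ((DerivedCategory.singleFunctorIsoCompQ C n).app I)).symm.subsingleton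
  obtain ⟨H⟩ := nonempty_homotopy_of_Q_map_eq' (φ := φ) (ψ := 0) (Subsingleton.elim _ _)
  obtain ⟨t, ht⟩ := exists_lift_of_homotopy_single H (n + 1) rfl
  simp [φ] at ht
  have h0 : K.homologyπ n ≫ Injective.ι (K.homology n) = 0 := by
    rw [← Injective.comp_factorThru (Injective.ι (K.homology n)) (K.homologyι n),
      HomologicalComplex.homology_π_ι_assoc, show Injective.factorThru _ _ = g from rfl, ht]
    simp
  refine IsZero.of_epi_eq_zero (K.homologyπ n) ?_
  rwa [← cancel_mono (Injective.ι (K.homology n)), zero_comp]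

lemma subsingleton_hom_single_of_bdd (hproj : ∀ X, P X → Projective X) {a b : ℤ}
    {X : DerivedCategory C} (h : Bdd P a b X) (N : C) (p : ℤ) (hp : p < a ∨ b < p) :
    Subsingleton (X ⟶ (DerivedCategory.singleFunctor C p).obj N) := by
  obtain ⟨E, hE, hEp, ⟨e⟩⟩ := h
  refine subsingleton_of_forall_eq 0 fun f => ?_
  rcases hp with hp | hp
  · have := isKProjective_of_bounds hproj (fun i hi => hE i (Or.inr hi)) hEp
    rw [← cancel_epi e.hom, comp_zero]
    exact hom_eq_zero_of_isKProjective (fun i hi => hE i (Or.inl hi))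
      (isLE_mono (inferInstance : ((DerivedCategory.singleFunctor C p).obj N).IsLE p) (by lia)) _
  · exact hom_eq_zero_of_isLE_of_isGE f hp
      (isLE_of_iso' e (isLE_Q_of_isZero E b fun i hi => hE i (Or.inr hi))) inferInstance

/-- If `X` is `≥ a`, represented by projectives in `P` in degrees `≤ b`, and has no nonzero map to
an object in degree `a - 1`, then it is represented by objects of `P` in degrees `[a, b]`. -/
lemma bdd_of_hom_single (hP : Good P) (hproj : ∀ X, P X → Projective X)
    (hret : ∀ {X Y : C}, Retract X Y → P Y → P X) {E : CochainComplex C ℤ} {a b : ℤ}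
    (hb : ∀ i, b < i → IsZero (E.X i)) (hp : ∀ i, P (E.X i))
    (hge : (DerivedCategory.Q.obj E).IsGE a)
    (hv : ∀ N : C, Subsingleton
      (DerivedCategory.Q.obj E ⟶ (DerivedCategory.singleFunctor C (a - 1)).obj N)) :
    Bdd P a b (DerivedCategory.Q.obj E) := by
  have := isKProjective_of_bounds hproj hb hp
  have : E.IsGE a := (DerivedCategory.isGE_Q_obj_iff E a).1 hge
  have : QuasiIso (E.πTruncGE a) := (E.quasiIso_πTruncGE_iff a).2 inferInstance
  let J := (HomologicalComplex.single C (.up ℤ) (a - 1)).obj (E.opcycles (a - 1))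
  let φ : E ⟶ J := HomologicalComplex.mkHomToSingle (E.pOpcycles (a - 1)) (fun i _ => by simp)
  have : Subsingleton (DerivedCategory.Q.obj E ⟶ DerivedCategory.Q.obj J) := by
    have := hv (E.opcycles (a - 1))
    exact (Iso.homCongr (Iso.refl _)
      ((DerivedCategory.singleFunctorIsoCompQ C (a - 1)).app (E.opcycles (a - 1)))).symm.subsingleton
  obtain ⟨H⟩ := nonempty_homotopy_of_Q_map_eq (φ := φ) (ψ := 0) (Subsingleton.elim _ _)
  obtain ⟨t, ht⟩ := exists_lift_of_homotopy_single H a (sub_add_cancel a 1)
  simp [φ] at ht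
  have := hproj _ (hp a)
  let r : E.X a ⟶ E.X (a - 1) := Projective.factorThru t (E.pOpcycles (a - 1))
  have hr : E.d (a - 1) a ≫ r ≫ E.d (a - 1) a = E.d (a - 1) a := by
    conv_lhs => arg 2; arg 2; rw [← E.p_fromOpcycles]
    rw [Projective.factorThru_comp_assoc, ← Category.assoc, ← ht, HomologicalComplex.p_fromOpcycles]
  let s : E.opcycles a ⟶ E.X a :=
    E.descOpcycles (𝟙 (E.X a) - r ≫ E.d (a - 1) a) (a - 1) (by simp)
      (by simp [Preadditive.comp_sub, hr])
  have hs : s ≫ E.pOpcycles a = 𝟙 _ := by
    rw [← cancel_epi (E.pOpcycles a)]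
    simp [s, Preadditive.sub_comp]
  have hop : P (E.opcycles a) := hret ⟨s, E.pOpcycles a, hs⟩ (hp a)
  refine ⟨E.truncGE a, fun i hi => ?_, fun i => ?_,
    ⟨(asIso (DerivedCategory.Q.map (E.πTruncGE a))).symm⟩⟩
  · rcases hi with hi | hi
    · exact (E.truncGE a).isZero_of_isStrictlyGE a i hi
    · rcases lt_trichotomy i a with h | h | h
      · exact (E.truncGE a).isZero_of_isStrictlyGE a i h
      · subst h
        refine IsZero.of_iso ?_ (E.truncGEXIsoOpcycles i)
        exact IsZero.of_epi (E.pOpcycles i) (hb i hi)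
      · exact (hb i hi).of_iso (E.truncGEXIso a i h)
  · rcases lt_trichotomy i a with h | h | h
    · exact hP.zero ((E.truncGE a).isZero_of_isStrictlyGE a i h)
    · subst h
      exact hP.iso (E.truncGEXIsoOpcycles i).symm hop
    · exact hP.iso (E.truncGEXIso a i h).symm (hp i)

end Groth.Agent.Lib.DR.Amplitude
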