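import Groth.Agent.Lib.DR.KProjRes
import Mathlib.Algebra.Homology.DerivedCategory.ExactFunctor
import Mathlib.CategoryTheory.Functor.Derived.Adjunction
import Mathlib.CategoryTheory.Functor.Derived.RightDerived
import Mathlib.CategoryTheory.Functor.Derived.PointwiseRightDerived

/-!
# Total left derived functors of additive functors on `D(A)`, and the derived adjunction
-/

universe w w' v u v' u' v'' u''

open CategoryTheory CategoryTheory.Limits CategoryTheory.Functor
open Groth.Agent.Lib.DR

namespace Groth.Agent.Lib.DR.Derived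

section Generic

variable {C : Type*} [Category C] {D : Type*} [Category D] {H : Type*} [Category H]
  {L : C ⥤ D} {W : MorphismProperty C} [L.IsLocalization W] {G : C ⥤ H}
  {R : C ⥤ C} {η : R ⟶ 𝟭 C}

/-- A candidate which is correct on resolved objects is the left derived functor. -/
theorem isLeftDerived_of_isIso (h : LeftDerived.ResData W G R η) (LF : D ⥤ H) (α : L ⋙ LF ⟶ G)
    (hα : ∀ X, IsIso (α.app (R.obj X))) : LF.IsLeftDerivedFunctor α W := by
  have := LeftDerived.isLeftDerivedFunctor (L := L) h
  rw [isLeftDerivedFunctor_iff_isIso_leftDerivedLift (LeftDerived.derived (L := L) h)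
    (LeftDerived.counit h) W LF α]
  let m := (LeftDerived.derived (L := L) h).leftDerivedLift (LeftDerived.counit h) W LF α
  have hm : ∀ X, IsIso (m.app (L.obj (R.obj X))) := fun X => by
    have h1 : IsIso ((LeftDerived.counit (L := L) h).app (R.obj X)) := by
      have := h.idem X
      rw [LeftDerived.counit_app]
      infer_instance
    have h2 : IsIso (m.app (L.obj (R.obj X)) ≫ (LeftDerived.counit (L := L) h).app (R.obj X)) := by
      rw [leftDerived_fac_app]
      exact hα X
    exact IsIso.of_isIso_comp_right _ ((LeftDerived.counit (L := L) h).app (R.obj X))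
  have : L.EssSurj := Localization.essSurj L W
  refine @NatIso.isIso_of_isIso_app _ _ _ _ _ _ m fun d => ?_
  have := Localization.inverts L W _ (h.mem (L.objPreimage d))
  exact (NatTrans.isIso_app_iff_of_iso m
    ((asIso (L.map (η.app (L.objPreimage d)))) ≪≫ L.objObjPreimageIso d)).1 (hm _)

omit [L.IsLocalization W] in
lemma resData_comp (h : LeftDerived.ResData W G R η) {K : Type*} [Category K] (E : H ⥤ K) :
    LeftDerived.ResData W (G ⋙ E) R η where
  mem := h.mem
  inverts X Y f hf := by
    have : IsIso ((R ⋙ G).map f) := h.inverts f hf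
    exact inferInstanceAs (IsIso (E.map ((R ⋙ G).map f)))
  idem X := by
    have := h.idem X
    exact inferInstanceAs (IsIso (E.map (G.map (η.app (R.obj X)))))

end Generic

section Additive

variable {A : Type u} [CommRing A] {V : Type u'} [Category.{v'} V] [Abelian V]
  [HasDerivedCategory.{w} (ModuleCat.{u} A)] [HasDerivedCategory.{w'} V]
  (F : ModuleCat.{u} A ⥤ V) [F.Additive]

/-- `F` termwise on complexes, then localization. -/
noncomputable abbrev cxQ : CochainComplex (ModuleCat.{u} A) ℤ ⥤ DerivedCategory V :=
  F.mapHomologicalComplex (.up ℤ) ⋙ DerivedCategory.Q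

/-- `F` termwise on the homotopy category, then localization. -/
noncomputable abbrev khQ : HomotopyCategory (ModuleCat.{u} A) (.up ℤ) ⥤ DerivedCategory V :=
  F.mapHomotopyCategory (.up ℤ) ⋙ DerivedCategory.Qh

omit [HasDerivedCategory (ModuleCat.{u} A)] in
lemma cxQ_inverts : (HomologicalComplex.homotopyEquivalences _ _).IsInvertedBy (cxQ F) := by
  rintro K L _ ⟨e, rfl⟩
  have : IsIso (DerivedCategory.Q.map (F.mapHomotopyEquiv e).hom) :=
    Localization.inverts DerivedCategory.Q (HomologicalComplex.quasiIso V (.up ℤ)) _
      (homotopyEquivalences_le_quasiIso _ _ _ ⟨_, rfl⟩)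
  exact this

/-- The two descriptions agree. -/
noncomputable def khQIso : HomotopyCategory.quotient _ _ ⋙ khQ F ≅ cxQ F :=
  (associator _ _ _).symm ≪≫ isoWhiskerRight (F.mapHomotopyCategoryFactors _) _ ≪≫
    associator _ _ _ ≪≫ isoWhiskerLeft _ (DerivedCategory.quotientCompQhIso V)

variable [(khQ F).HasLeftDerivedFunctor (HomotopyCategory.quasiIso (ModuleCat.{u} A) (.up ℤ))]

/-- The total left derived functor. -/
noncomputable abbrev LF : DerivedCategory (ModuleCat.{u} A) ⥤ DerivedCategory V :=
  (khQ F).totalLeftDerived DerivedCategory.Qh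
    (HomotopyCategory.quasiIso (ModuleCat.{u} A) (.up ℤ))

/-- Its counit on complexes. -/
noncomputable def α : DerivedCategory.Q ⋙ LF F ⟶ cxQ F :=
  whiskerRight (DerivedCategory.quotientCompQhIso (ModuleCat.{u} A)).inv (LF F) ≫
    (associator _ _ _).hom ≫
    whiskerLeft _ ((khQ F).totalLeftDerivedCounit DerivedCategory.Qh
      (HomotopyCategory.quasiIso (ModuleCat.{u} A) (.up ℤ))) ≫ (khQIso F).hom

theorem isIso_α (K : CochainComplex (ModuleCat.{u} A) ℤ) [K.IsKProjective] :
    IsIso ((α F).app K) := by
  have := KProjRes.isIso_counit_of_isKProjective' (khQ F) K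
  simp only [α, NatTrans.comp_app, whiskerRight_app, associator_hom_app, whiskerLeft_app]
  infer_instance

/-- The derived functor on a K-projective complex. -/
noncomputable def LFIso (K : CochainComplex (ModuleCat.{u} A) ℤ) [K.IsKProjective] :
    (LF F).obj (DerivedCategory.Q.obj K) ≅
      DerivedCategory.Q.obj ((F.mapHomologicalComplex (.up ℤ)).obj K) :=
  haveI := isIso_α F K
  asIso ((α F).app K)

instance isLeftDerived_LF : (LF F).IsLeftDerivedFunctor (α F)
    (HomologicalComplex.quasiIso (ModuleCat.{u} A) (.up ℤ)) :=
  isLeftDerived_of_isIso (KProjRes.resData _ (cxQ_inverts F)) _ _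
    fun X => isIso_α F ((KProjRes.res A).obj X)

theorem isLeftDerived_LF_comp {K : Type u''} [Category.{v''} K] (E : DerivedCategory V ⥤ K) :
    (LF F ⋙ E).IsLeftDerivedFunctor ((associator _ _ _).inv ≫ whiskerRight (α F) E)
      (HomologicalComplex.quasiIso (ModuleCat.{u} A) (.up ℤ)) :=
  isLeftDerived_of_isIso (resData_comp (KProjRes.resData _ (cxQ_inverts F)) E) _ _ fun X => by
    have := isIso_α F ((KProjRes.res A).obj X)
    simp only [NatTrans.comp_app, whiskerRight_app, associator_inv_app]
    infer_instance

variable {F} {F' : V ⥤ ModuleCat.{u} A} [F'.Additive] [PreservesFiniteLimits F']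
  [PreservesFiniteColimits F'] (adj : F ⊣ F')

/-- An adjunction induces one on complexes. -/
@[simps]
noncomputable def cxAdj :
    F.mapHomologicalComplex (.up ℤ) ⊣ F'.mapHomologicalComplex (.up ℤ) where
  unit :=
    { app := fun K =>
        { f := fun i => adj.unit.app (K.X i)
          comm' := fun i j _ => (adj.unit.naturality (K.d i j)).symm }
      naturality := fun _ _ f => HomologicalComplex.hom_ext _ _ fun i => adj.unit.naturality (f.f i) }
  counit :=
    { app := fun K =>
        { f := fun i => adj.counit.app (K.X i)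
          comm' := fun i j _ => (adj.counit.naturality (K.d i j)).symm }
      naturality := fun _ _ f => HomologicalComplex.hom_ext _ _ fun i => adj.counit.naturality (f.f i) }
  left_triangle_components K :=
    HomologicalComplex.hom_ext _ _ fun i => adj.left_triangle_components (K.X i)
  right_triangle_components K :=
    HomologicalComplex.hom_ext _ _ fun i => adj.right_triangle_components (K.X i)

/-- The derived adjunction between a total left derived functor and an exact functor. -/
noncomputable def derivedAdj : LF F ⊣ F'.mapDerivedCategory := by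
  let W₁ := HomologicalComplex.quasiIso (ModuleCat.{u} A) (.up ℤ)
  let W₂ := HomologicalComplex.quasiIso V (.up ℤ)
  let β := F'.mapDerivedCategoryFactors.inv
  have hW : W₂.IsInvertedBy (F'.mapHomologicalComplex (.up ℤ) ⋙ DerivedCategory.Q) := fun _ _ f hf => by
    have : QuasiIso f := hf
    exact Localization.inverts DerivedCategory.Q W₁ _
      (inferInstanceAs (QuasiIso ((F'.mapHomologicalComplex (.up ℤ)).map f)))
  have h₁ : F'.mapDerivedCategory.IsRightDerivedFunctor β W₂ :=
    isRightDerivedFunctor_of_inverts W₂ F'.mapDerivedCategory F'.mapDerivedCategoryFactors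
  have h₂ : (F'.mapDerivedCategory ⋙ LF F).IsRightDerivedFunctor
      (whiskerRight β (LF F) ≫ (associator _ _ _).hom) W₂ := by
    let e : DerivedCategory.Q ⋙ (F'.mapDerivedCategory ⋙ LF F) ≅
        (F'.mapHomologicalComplex (.up ℤ) ⋙ DerivedCategory.Q) ⋙ LF F :=
      (associator _ _ _).symm ≪≫ isoWhiskerRight F'.mapDerivedCategoryFactors (LF F)
    exact isRightDerivedFunctor_of_inverts W₂ (F'.mapDerivedCategory ⋙ LF F) e
  have h₃ := isLeftDerived_LF_comp F F'.mapDerivedCategory
  exact (cxAdj adj).derived W₁ W₂ (α F) β

end Additive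

end Groth.Agent.Lib.DR.Derived
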