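import Groth.Agent.Lib.TensorCx.Basic
import Groth.Prelude.Def_DRing4
import Mathlib.Algebra.Homology.HomotopyCategory.KInjective

/-!
# The tensor-Hom adjunction for complexes of modules
-/

universe u

open CategoryTheory CategoryTheory.Limits MonoidalCategory CochainComplex CochainComplex.HomComplex
open Groth.Agent.Lib.TensorCx.Basic
open scoped TensorProduct

namespace Groth.Agent.Lib.DR.HomCx

variable {A : Type u} [CommRing A]

section

variable {F G : DRing.Cx A}

/-- The value of a cochain, as a linear map. -/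
noncomputable def lv {n : ℤ} (p q : ℤ) (h : p + n = q) :
    Cochain F G n →ₗ[A] (F.X p →ₗ[A] G.X q) where
  toFun z := (z.v p q h).hom
  map_add' _ _ := rfl
  map_smul' _ _ := rfl

lemma lv_ext {n : ℤ} {z w : Cochain F G n} (h : ∀ p q hpq, lv p q hpq z = lv p q hpq w) : z = w :=
  Cochain.ext _ _ fun p q hpq => ModuleCat.hom_ext (h p q hpq)

lemma lv_d {n m : ℤ} (hnm : n + 1 = m) (z : Cochain F G n) (p q q₁ q₂ : ℤ) (hpq : p + m = q)
    (h₁ : q₁ = q - 1) (h₂ : p + 1 = q₂) (x : F.X p) :
    lv p q hpq (δ_hom A F G n m z) x = G.d q₁ q (lv p q₁ (by lia) z x) +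
      ((m.negOnePow : ℤˣ) : ℤ) • lv q₂ q (by lia) z (F.d p q₂ x) :=
  ConcreteCategory.congr_hom (δ_v n m hnm z p q hpq q₁ q₂ h₁ h₂) x

lemma lv_ofHom (f : F ⟶ G) (p : ℤ) (x : F.X p) : lv p p (add_zero p) (Cochain.ofHom f) x = f.f p x :=
  ConcreteCategory.congr_hom (Cochain.ofHom_v f p) x

end

variable {X K L : DRing.Cx A}

lemma lv_incl_congr {n : ℤ} (c : Cochain (tens X K) L n) {i p m m' q : ℤ} (hm : i + p = m) (hm' : i + p = m')
    (h : m + n = q) (h' : m' + n = q) (t : X.X i ⊗[A] K.X p) :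
    lv m q h c (incl X K i p m hm t) = lv m' q h' c (incl X K i p m' hm' t) := by
  obtain rfl : m = m' := hm.symm.trans hm'
  rfl

/-- Currying of cochains. -/
noncomputable def curry (n : ℤ) : Cochain (tens X K) L n →ₗ[A] Cochain X (DRing.homCx K L) n where
  toFun c := Cochain.mk fun i j hij => ModuleCat.ofHom
    { toFun := fun x => (Cochain.mk fun p q hpq => ModuleCat.ofHom
        ((lv (i + p) q (by lia) c) ∘ₗ (incl X K i p (i + p) rfl) ∘ₗ TensorProduct.mk A (X.X i) (K.X p) x) : Cochain K L j)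
      map_add' := fun x y => lv_ext fun p q hpq => by
        ext k
        show lv (i + p) q _ c (incl X K i p _ rfl ((x + y) ⊗ₜ k)) =
          lv (i + p) q _ c (incl X K i p _ rfl (x ⊗ₜ k)) + lv (i + p) q _ c (incl X K i p _ rfl (y ⊗ₜ k))
        rw [TensorProduct.add_tmul, map_add, map_add]
      map_smul' := fun r x => lv_ext fun p q hpq => by
        ext k
        show lv (i + p) q _ c (incl X K i p _ rfl ((r • x) ⊗ₜ k)) = r • lv (i + p) q _ c (incl X K i p _ rfl (x ⊗ₜ k))
        rw [← TensorProduct.smul_tmul', map_smul, map_smul] }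
  map_add' c c' := lv_ext fun i j hij => LinearMap.ext fun x => lv_ext fun p q hpq => LinearMap.ext fun k => rfl
  map_smul' r c := lv_ext fun i j hij => LinearMap.ext fun x => lv_ext fun p q hpq => LinearMap.ext fun k => rfl

lemma curry_apply {n : ℤ} (c : Cochain (tens X K) L n) (i j : ℤ) (hij : i + n = j) (p q : ℤ) (hpq : p + j = q)
    (m : ℤ) (hm : i + p = m) (x : X.X i) (k : K.X p) :
    lv p q hpq (lv i j hij (curry n c) x : Cochain K L j) k = lv m q (by lia) c (incl X K i p m hm (x ⊗ₜ k)) :=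
  lv_incl_congr c rfl hm _ _ _

/-- Uncurrying of cochains. -/
noncomputable def uncurry (n : ℤ) (g : Cochain X (DRing.homCx K L) n) : Cochain (tens X K) L n :=
  Cochain.mk fun m q hmq => HomologicalComplex.mapBifunctorDesc
    (F := curriedTensor (ModuleCat.{u} A)) (A := L.X q) fun i p h => ModuleCat.ofHom
      (TensorProduct.lift ((lv (F := K) (G := L) (n := i + n) p q (by change i + p = m at h; lia)) ∘ₗ
        lv i (i + n) rfl g))

lemma uncurry_apply {n : ℤ} (g : Cochain X (DRing.homCx K L) n) (m q : ℤ) (hmq : m + n = q) (i p j : ℤ)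
    (h : i + p = m) (hij : i + n = j) (hpq : p + j = q) (x : X.X i) (k : K.X p) :
    lv m q hmq (uncurry n g) (incl X K i p m h (x ⊗ₜ k)) = lv p q hpq (lv i j hij g x : Cochain K L j) k := by
  subst hij
  exact ConcreteCategory.congr_hom (HomologicalComplex.ι_mapBifunctorDesc (K₁ := X) (K₂ := K)
    (F := curriedTensor (ModuleCat.{u} A)) (c := ComplexShape.up ℤ) (j := m) _ i p h) (x ⊗ₜ k)

/-- Currying of cochains, as an equivalence. -/
noncomputable def curryEquiv (n : ℤ) : Cochain (tens X K) L n ≃ₗ[A] Cochain X (DRing.homCx K L) n :=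
  { curry n with
    invFun := uncurry n
    left_inv := fun c => lv_ext fun m q hmq => hom_ext' fun i p h => TensorProduct.ext' fun x k => by
      show lv m q hmq (uncurry n (curry n c)) (incl X K i p m h (x ⊗ₜ k)) = lv m q hmq c (incl X K i p m h (x ⊗ₜ k))
      rw [uncurry_apply (curry n c) m q hmq i p (i + n) h rfl (by lia), curry_apply c i (i + n) rfl p q _ m h]
    right_inv := fun g => lv_ext fun i j hij => LinearMap.ext fun x => lv_ext fun p q hpq => LinearMap.ext fun k => by
      show lv p q hpq (lv i j hij (curry n (uncurry n g)) x : Cochain K L j) k = _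
      rw [curry_apply _ i j hij p q hpq (i + p) rfl, uncurry_apply g (i + p) q (by lia) i p j rfl hij hpq] }

@[simp]
lemma curryEquiv_apply (n : ℤ) (c : Cochain (tens X K) L n) : curryEquiv n c = curry n c := rfl

/-- Currying commutes with the differentials. -/
lemma curry_δ (n m : ℤ) (c : Cochain (tens X K) L n) :
    curry m (δ_hom A (tens X K) L n m c) = δ_hom A X (DRing.homCx K L) n m (curry n c) := by
  by_cases hnm : n + 1 = m
  swap
  · rw [show δ_hom A (tens X K) L n m c = 0 from δ_shape _ _ hnm c,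
      show δ_hom A X (DRing.homCx K L) n m (curry n c) = 0 from δ_shape _ _ hnm _, map_zero]
  refine lv_ext fun i j hij => LinearMap.ext fun x => lv_ext fun p q hpq => LinearMap.ext fun k => ?_
  rw [curry_apply _ i j hij p q hpq (i + p) rfl,
    lv_d hnm c (i + p) q (q - 1) (i + p + 1) (by lia) rfl rfl,
    d_incl X K i p (i + p) (i + 1) (p + 1) (i + p + 1) rfl rfl rfl (by lia) (by lia),
    lv_d hnm (curry n c) i j (j - 1) (i + 1) hij rfl rfl]
  rw [map_add, map_zsmul, LinearMap.rTensor_tmul, LinearMap.lTensor_tmul]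
  let z₁ : Cochain K L (j - 1) := lv i (j - 1) (by lia) (curry n c) x
  let z₂ : Cochain K L j := lv (i + 1) j (by lia) (curry n c) (X.d i (i + 1) x)
  show _ = lv p q hpq (δ_hom A K L (j - 1) j z₁ + ((m.negOnePow : ℤˣ) : ℤ) • z₂) k
  rw [map_add, map_zsmul, LinearMap.add_apply, LinearMap.smul_apply,
    lv_d (show j - 1 + 1 = j by lia) z₁ p q (q - 1) (p + 1) hpq rfl rfl]
  simp only [z₁, z₂]
  erw [curry_apply c i (j - 1) _ p (q - 1) _ (i + p) rfl, curry_apply c i (j - 1) _ (p + 1) q _ (i + p + 1) (by lia),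
    curry_apply c (i + 1) j _ p q hpq (i + p + 1) (by lia)]
  have hs : ((j.negOnePow : ℤˣ) : ℤ) = ((m.negOnePow : ℤˣ) : ℤ) * ((i.negOnePow : ℤˣ) : ℤ) := by
    rw [← hij, Int.negOnePow_add, Units.val_mul, mul_comm]
  rw [smul_add, smul_smul, ← hs]
  abel

/-- The isomorphism `Hom(X, Hom(K, L)) ≅ Hom(X ⊗ K, L)`. -/
noncomputable def homCxIso (X K L : DRing.Cx A) :
    DRing.homCx X (DRing.homCx K L) ≅ DRing.homCx (X ⊗ K) L :=
  (HomologicalComplex.Hom.isoOfComponents (C₁ := DRing.homCx (tens X K) L) (C₂ := DRing.homCx X (DRing.homCx K L))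
    (fun n => (curryEquiv n).toModuleIso)
    (fun n m _ => ModuleCat.hom_ext (LinearMap.ext fun c => (curry_δ n m c).symm))).symm

lemma mem_cocycle_iff {F G : DRing.Cx A} (c : Cochain F G 0) :
    c ∈ cocycle F G 0 ↔ δ_hom A F G 0 1 c = 0 := Cocycle.mem_iff 0 1 (zero_add 1) c

/-- Currying of cocycles. -/
noncomputable def cocycleEquiv : Cocycle (tens X K) L 0 ≃ Cocycle X (DRing.homCx K L) 0 where
  toFun z := ⟨curryEquiv 0 z.1, by
    rw [mem_cocycle_iff, curryEquiv_apply, ← curry_δ, (mem_cocycle_iff z.1).1 z.2, map_zero]⟩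
  invFun z := ⟨(curryEquiv 0).symm z.1, by
    rw [mem_cocycle_iff]
    apply (curryEquiv 1).injective
    rw [curryEquiv_apply, curry_δ, ← curryEquiv_apply, LinearEquiv.apply_symm_apply, map_zero]
    exact (mem_cocycle_iff z.1).1 z.2⟩
  left_inv z := Subtype.ext ((curryEquiv 0).symm_apply_apply z.1)
  right_inv z := Subtype.ext ((curryEquiv 0).apply_symm_apply z.1)

/-- Currying of morphisms of complexes. -/
noncomputable def homEquiv : (X ⊗ K ⟶ L) ≃ (X ⟶ DRing.homCx K L) :=
  (Cocycle.equivHom (tens X K) L).toEquiv.trans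
    (cocycleEquiv.trans (Cocycle.equivHom X (DRing.homCx K L)).toEquiv.symm)

lemma homEquiv_apply (f : X ⊗ K ⟶ L) (i p q : ℤ) (hpq : p + i = q) (x : X.X i) (k : K.X p) :
    lv p q hpq ((homEquiv f).f i x : Cochain K L i) k = f.f q (incl X K i p q (by lia) (x ⊗ₜ k)) :=
  (curry_apply (Cochain.ofHom f) i i (add_zero i) p q hpq q (by lia) x k).trans (lv_ofHom f q _)

lemma ofHom_homEquiv (f : X ⊗ K ⟶ L) : Cochain.ofHom (homEquiv f) = curry 0 (Cochain.ofHom f) :=
  congrArg Subtype.val ((Cocycle.equivHom X (DRing.homCx K L)).apply_symm_apply _)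

theorem homotopy_iff (f g : X ⊗ K ⟶ L) :
    Nonempty (Homotopy (homEquiv f) (homEquiv g)) ↔ Nonempty (Homotopy f g) := by
  constructor
  · rintro ⟨h⟩
    obtain ⟨z, hz⟩ := Cochain.equivHomotopy _ _ h
    refine ⟨(Cochain.equivHomotopy _ _).symm ⟨(curryEquiv (-1)).symm z, (curryEquiv 0).injective ?_⟩⟩
    rw [curryEquiv_apply, map_add, curryEquiv_apply, curryEquiv_apply, ← ofHom_homEquiv, ← ofHom_homEquiv]
    refine hz.trans (congrArg (· + _) ?_)
    exact (congrArg (δ_hom A X (DRing.homCx K L) (-1) 0) ((curryEquiv (-1)).apply_symm_apply z)).symm.trans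
      (curry_δ (-1) 0 _).symm
  · rintro ⟨h⟩
    obtain ⟨z, hz⟩ := Cochain.equivHomotopy _ _ h
    refine ⟨(Cochain.equivHomotopy _ _).symm ⟨curry (-1) z, ?_⟩⟩
    rw [ofHom_homEquiv, ofHom_homEquiv, hz, map_add]
    exact congrArg (· + _) (curry_δ (-1) 0 z)

lemma homEquiv_naturality_right {L' : DRing.Cx A} (f : X ⊗ K ⟶ L) (g : L ⟶ L') :
    homEquiv (f ≫ g) = homEquiv f ≫ (DRing.homCxFunctor K).map g := by
  refine HomologicalComplex.hom_ext _ _ fun i => ModuleCat.hom_ext (LinearMap.ext fun x =>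
    lv_ext fun p q hpq => LinearMap.ext fun k => ?_)
  refine (homEquiv_apply (f ≫ g) i p q hpq x k).trans ?_
  show g.f q (f.f q _) = lv p q hpq (Cochain.comp ((homEquiv f).f i x) (Cochain.ofHom g) (add_zero i)) k
  rw [show lv p q hpq (Cochain.comp ((homEquiv f).f i x) (Cochain.ofHom g) (add_zero i)) k =
    g.f q (lv p q hpq ((homEquiv f).f i x : Cochain K L i) k) from
    ConcreteCategory.congr_hom ((Cochain.comp_zero_cochain_v _ _ p q hpq).trans
      (congrArg (_ ≫ ·) (Cochain.ofHom_v g q))) k, homEquiv_apply]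

lemma homEquiv_naturality_left {X' : DRing.Cx A} (g : X' ⟶ X) (f : X ⊗ K ⟶ L) :
    homEquiv (g ▷ K ≫ f) = g ≫ homEquiv f := by
  refine HomologicalComplex.hom_ext _ _ fun i => ModuleCat.hom_ext (LinearMap.ext fun x =>
    lv_ext fun p q hpq => LinearMap.ext fun k => ?_)
  refine (homEquiv_apply (g ▷ K ≫ f) i p q hpq x k).trans ?_
  show f.f q ((g ▷ K).f q _) = lv p q hpq ((homEquiv f).f i (g.f i x) : Cochain K L i) k
  rw [homEquiv_apply]
  refine congrArg (f.f q) ?_
  have e : HomologicalComplex.ιTensorObj X' K i p q (by lia) ≫ (g ▷ K).f q =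
      g.f i ▷ K.X p ≫ HomologicalComplex.ιTensorObj X K i p q (by lia) := by
    refine (HomologicalComplex.ι_mapBifunctorMap g (𝟙 K) (curriedTensor (ModuleCat.{u} A)) (ComplexShape.up ℤ) i p q
      (by change i + p = q; lia)).trans ?_
    simp
  exact ConcreteCategory.congr_hom e (x ⊗ₜ k)

/-- The tensor-Hom adjunction. -/
noncomputable def adjunction (K : DRing.Cx A) : tensorRight K ⊣ DRing.homCxFunctor K :=
  Adjunction.mkOfHomEquiv
    { homEquiv := fun _ _ => homEquiv
      homEquiv_naturality_left_symm := fun g f => by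
        apply homEquiv.injective
        refine (homEquiv.apply_symm_apply _).trans ?_
        exact (congrArg (g ≫ ·) (homEquiv.apply_symm_apply f)).symm.trans (homEquiv_naturality_left g _).symm
      homEquiv_naturality_right := fun f g => homEquiv_naturality_right f g }

end Groth.Agent.Lib.DR.HomCx
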