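import Groth.Agent.Lib.DR.HomCxFinite
import Groth.Prelude.Def_DTen
import Mathlib.Data.Int.Interval

/-!
# The biduality evaluation map of Hom complexes
-/

universe u

open CategoryTheory CategoryTheory.Limits MonoidalCategory CochainComplex CochainComplex.HomComplex
open Groth.Agent.Lib.TensorCx.Basic Groth.Agent.Lib.DR.HomCx Groth.Agent.Lib.DR.HomCxFinite
open scoped TensorProduct

namespace Groth.Agent.Lib.DR.EvalHomCx

variable {A : Type u} [CommRing A]

theorem braid_incl (K L : DRing.Cx A) (p q n : ℤ) (h : p + q = n) (k : K.X p) (l : L.X q) :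
    (DTen.braidCx K L).hom.f n (incl K L p q n h (k ⊗ₜ l)) =
      (((p * q).negOnePow : ℤˣ) : ℤ) • incl L K q p n (by lia) (l ⊗ₜ k) :=
  ConcreteCategory.congr_hom (DTen.ι_braidCx_hom K L p q n h) (k ⊗ₜ l)

theorem negOnePow_smul_smul {M : Type*} [AddCommGroup M] (t : ℤ) (x : M) :
    (((t.negOnePow : ℤˣ) : ℤ)) • (((t.negOnePow : ℤˣ) : ℤ)) • x = x := by
  rw [smul_smul, ← Units.val_mul, Int.units_mul_self]
  exact one_smul _ x

/-- `Hom(X, Y) ⊗ P ⟶ Hom(Hom(P, X), Y)`. -/
noncomputable def evalHomCx (P X Y : DRing.Cx A) :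
    DRing.homCx X Y ⊗ P ⟶ DRing.homCx (DRing.homCx P X) Y :=
  homEquiv ((α_ (DRing.homCx X Y) P (DRing.homCx P X)).hom ≫
    DRing.homCx X Y ◁ ((DTen.braidCx P (DRing.homCx P X)).hom ≫ ev P X) ≫ ev X Y)

/-- `incl` with the cochains visible. -/
noncomputable def inclP (P X Y : DRing.Cx A) (i p n : ℤ) (h : i + p = n) :
    Cochain X Y i ⊗[A] P.X p →ₗ[A] (tens (DRing.homCx X Y) P).X n :=
  incl (DRing.homCx X Y) P i p n h

/-- Value of `evalHomCx` at a degree. -/
noncomputable def evH (P X Y : DRing.Cx A) (n m r : ℤ) (h : m + n = r) :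
    (tens (DRing.homCx X Y) P).X n →ₗ[A] (Cochain P X m →ₗ[A] Y.X r) :=
  (lv m r h).comp ((evalHomCx P X Y).f n).hom

theorem evH_incl (P X Y : DRing.Cx A) (i p n m r q : ℤ) (hn : i + p = n) (hr : m + n = r) (hq : p + m = q)
    (z : Cochain X Y i) (k : P.X p) (w : Cochain P X m) :
    evH P X Y n m r hr (inclP P X Y i p n hn (z ⊗ₜ k)) w =
      (((p * m).negOnePow : ℤˣ) : ℤ) • lv q r (by lia) z (lv p q hq w k) := by
  show lv m r hr ((evalHomCx P X Y).f n (incl (DRing.homCx X Y) P i p n hn (z ⊗ₜ k))) w = _
  rw [evalHomCx]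
  refine (homEquiv_apply (K := DRing.homCx P X) _ n m r hr _ (w : (DRing.homCx P X).X m)).trans ?_
  show (ev X Y).f r ((DRing.homCx X Y ◁ ((DTen.braidCx P (DRing.homCx P X)).hom ≫ ev P X)).f r
    ((α_ (DRing.homCx X Y) P (DRing.homCx P X)).hom.f r _)) = _
  erw [α_incl (DRing.homCx X Y) P (DRing.homCx P X) i p n m r q hn (by lia) hq (by lia) z k w]
  refine (congrArg ((ev X Y).f r) (mapR_incl (DRing.homCx X Y)
    ((DTen.braidCx P (DRing.homCx P X)).hom ≫ ev P X) i q r (by lia) _)).trans ?_
  erw [LinearMap.lTensor_tmul]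
  refine (ev_incl X Y i q r (by lia) z _).trans ?_
  rw [← map_zsmul]
  refine congrArg (lv q r (by lia) z) ?_
  show (ev P X).f q ((DTen.braidCx P (DRing.homCx P X)).hom.f q _) = _
  erw [braid_incl P (DRing.homCx P X) p m q hq k w, map_zsmul]
  exact congrArg _ (ev_incl P X m p q hq w k)

/-- `lv` with the cochains visible. -/
noncomputable def lvH (P X Y : DRing.Cx A) {n : ℤ} (m r : ℤ) (h : m + n = r) :
    Cochain (DRing.homCx P X) Y n →ₗ[A] (Cochain P X m →ₗ[A] Y.X r) :=
  lv m r h

/-- A component of the inverse of `evalHomCx`. -/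
noncomputable def dual (P X Y : DRing.Cx A) (n : ℤ) {p : ℤ} (φ : P.X p →ₗ[A] A) :
    Cochain (DRing.homCx P X) Y n →ₗ[A] Cochain X Y (n - p) where
  toFun c := Cochain.mk fun q r h => ModuleCat.ofHom
    ((((p * (q - p)).negOnePow : ℤˣ) : ℤ) • ((lvH P X Y (q - p) r (by lia) c).comp (rankOne P X φ q (q - p))))
  map_add' c c' := lv_ext fun q r h => LinearMap.ext fun x =>
    show (((p * (q - p)).negOnePow : ℤˣ) : ℤ) •
        (lvH P X Y (q - p) r (by lia) (c + c') (rankOne P X φ q (q - p) x)) = _ by
      rw [map_add, LinearMap.add_apply, smul_add]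
      rfl
  map_smul' a c := lv_ext fun q r h => LinearMap.ext fun x =>
    show (((p * (q - p)).negOnePow : ℤˣ) : ℤ) •
        (lvH P X Y (q - p) r (by lia) (a • c) (rankOne P X φ q (q - p) x)) = _ by
      rw [map_smul, LinearMap.smul_apply, smul_comm]
      rfl

theorem dual_apply (P X Y : DRing.Cx A) (n : ℤ) {p : ℤ} (φ : P.X p →ₗ[A] A)
    (c : Cochain (DRing.homCx P X) Y n) (q r m : ℤ) (h : q + (n - p) = r) (hm : p + m = q) (hr : m + n = r)
    (x : X.X q) :
    lv q r h (dual P X Y n φ c) x =
      (((p * m).negOnePow : ℤˣ) : ℤ) • lvH P X Y m r hr c (rankOne P X φ q m x) := by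
  obtain rfl : m = q - p := by lia
  rfl

/-- The degreewise finiteness condition making `evalHomCx` an isomorphism. -/
def Finitary (P X Y : DRing.Cx A) : Prop :=
  ∀ n : ℤ, ∃ S : Finset ℤ, ∀ p, p ∉ S → ∀ m, IsZero (P.X p) ∨ IsZero (X.X (p + m)) ∨ IsZero (Y.X (m + n))

theorem eq_zero_or (P X Y : DRing.Cx A) {n p m : ℤ}
    (h : IsZero (P.X p) ∨ IsZero (X.X (p + m)) ∨ IsZero (Y.X (m + n))) (w : Cochain P X m) (k : P.X p) :
    lv p (p + m) rfl w k = 0 ∨ IsZero (Y.X (m + n)) := by
  rcases h with h | h | h
  · have := ModuleCat.subsingleton_of_isZero h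
    left
    rw [Subsingleton.elim k 0, map_zero]
  · have := ModuleCat.subsingleton_of_isZero h
    left
    exact Subsingleton.elim _ _
  · exact Or.inr h

theorem isIso_evalHomCx (P X Y : DRing.Cx A) (hP : ∀ p, Module.Finite A (P.X p) ∧ Module.Projective A (P.X p))
    (hS : Finitary P X Y) : IsIso (evalHomCx P X Y) := by
  classical
  refine @HomologicalComplex.Hom.isIso_of_components _ _ _ _ _ _ _ _ fun n => ?_
  rw [ConcreteCategory.isIso_iff_bijective]
  obtain ⟨S, hS⟩ := hS n
  have hb := fun p => (have := (hP p).1; have := (hP p).2; exists_dual_basis (A := A) (P.X p))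
  choose N v f hf using hb
  let g : Cochain (DRing.homCx P X) Y n →ₗ[A] (tens (DRing.homCx X Y) P).X n :=
    ∑ p ∈ S, ∑ s : Fin (N p), inclP P X Y (n - p) p n (sub_add_cancel n p) ∘ₗ
      (TensorProduct.mk A (Cochain X Y (n - p)) (P.X p)).flip (v p s) ∘ₗ dual P X Y n (f p s)
  have hg : ∀ c, g c = ∑ p ∈ S, ∑ s : Fin (N p),
      inclP P X Y (n - p) p n (sub_add_cancel n p) (dual P X Y n (f p s) c ⊗ₜ v p s) := fun c => by
    simp only [g, LinearMap.coe_sum, Finset.sum_apply]
    rfl
  refine Function.bijective_iff_has_inverse.2 ⟨g, fun t => ?_, fun c => lv_ext fun m r hr =>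
    LinearMap.ext fun w => ?_⟩
  · induction t using induction with
    | zero =>
      rw [map_zero]
      exact g.map_zero
    | add a b ha hb =>
      rw [map_add]
      exact (g.map_add _ _).trans (congrArg₂ (· + ·) ha hb)
    | inc i j hij y =>
      induction y using TensorProduct.induction_on with
      | zero =>
        rw [map_zero, map_zero]
        exact g.map_zero
      | add a b ha hb =>
        rw [map_add, map_add]
        exact (g.map_add _ _).trans (congrArg₂ (· + ·) ha hb)
      | tmul z k =>
        obtain rfl : i = n - j := by lia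
        let z' : Cochain X Y (n - j) := z
        refine (hg _).trans (Eq.trans ?_ (rfl : inclP P X Y (n - j) j n hij (z' ⊗ₜ k) = _))
        have hd : ∀ p (s : Fin (N p)) q r (h : q + (n - p) = r) (x : X.X q),
            lv q r h (dual P X Y n (f p s) ((evalHomCx P X Y).f n (inclP P X Y (n - j) j n hij (z' ⊗ₜ k)))) x =
              (((p * (q - p)).negOnePow : ℤˣ) : ℤ) • (((j * (q - p)).negOnePow : ℤˣ) : ℤ) •
                lv (j + (q - p)) r (by lia) z' (lv j (j + (q - p)) rfl (rankOne P X (f p s) q (q - p) x) k) := by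
          intro p s q r h x
          erw [dual_apply P X Y n (f p s) _ q r (q - p) h (by lia) (by lia) x]
          exact congrArg _ (evH_incl P X Y (n - j) j n (q - p) r (j + (q - p)) hij (by lia) rfl z' k _)
        by_cases hj : j ∈ S
        · refine (Finset.sum_eq_single j (fun p _ hp => Finset.sum_eq_zero fun s _ => ?_)
            (fun h => absurd hj h)).trans ?_
          · refine (congrArg (fun u => inclP P X Y (n - p) p n (sub_add_cancel n p) (u ⊗ₜ v p s)) ?_).trans
              (by rw [TensorProduct.zero_tmul, map_zero])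
            refine lv_ext fun q r h => LinearMap.ext fun x => ?_
            erw [hd p s q r h x, rankOne_apply_ne P X _ _ _ _ _ rfl hp.symm, map_zero, smul_zero, smul_zero]
            rfl
          · have hs : ∀ s, dual P X Y n (f j s)
                ((evalHomCx P X Y).f n (inclP P X Y (n - j) j n hij (z' ⊗ₜ k))) = f j s k • z' := fun s =>
              lv_ext fun q r h => LinearMap.ext fun x => by
                erw [hd j s q r h x, negOnePow_smul_smul]
                have key : ∀ m (hq : j + m = q), lv (j + m) r (by lia) z'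
                    (lv j (j + m) rfl (rankOne P X (f j s) q m x) k) = f j s k • lv q r h z' x := by
                  intro m hq
                  subst hq
                  rw [rankOne_apply P X (f j s) (j + m) m rfl x k, map_smul]
                rw [map_smul]
                exact key (q - j) (by lia)
            refine (Finset.sum_congr rfl fun s _ => congrArg
              (fun u => inclP P X Y (n - j) j n (sub_add_cancel n j) (u ⊗ₜ v j s)) (hs s)).trans ?_
            rw [← map_sum]
            refine congrArg _ ?_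
            conv_rhs => rw [← hf j k, TensorProduct.tmul_sum]
            exact Finset.sum_congr rfl fun s _ => TensorProduct.smul_tmul _ _ _
        · refine (Finset.sum_eq_zero fun p hp => Finset.sum_eq_zero fun s _ => ?_).trans ?_
          · refine (congrArg (fun u => inclP P X Y (n - p) p n (sub_add_cancel n p) (u ⊗ₜ v p s)) ?_).trans
              (by rw [TensorProduct.zero_tmul, map_zero])
            refine lv_ext fun q r h => LinearMap.ext fun x => ?_
            erw [hd p s q r h x, rankOne_apply_ne P X _ _ _ _ _ rfl (fun e : j = p => hj (e ▸ hp)), map_zero,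
              smul_zero, smul_zero]
            rfl
          · by_cases hk : IsZero (P.X j)
            · have := ModuleCat.subsingleton_of_isZero hk
              rw [Subsingleton.elim k 0, TensorProduct.tmul_zero, map_zero]
            · have : z' = 0 := lv_ext fun q r h => LinearMap.ext fun x => by
                rcases hS j hj (q - j) with h0 | h0 | h0
                · exact absurd h0 hk
                · rw [show j + (q - j) = q by lia] at h0
                  have := ModuleCat.subsingleton_of_isZero h0
                  rw [Subsingleton.elim x 0, map_zero, map_zero]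
                · rw [show q - j + n = r by lia] at h0
                  have := ModuleCat.subsingleton_of_isZero h0
                  exact Subsingleton.elim _ _
              rw [this, TensorProduct.zero_tmul, map_zero]
  · obtain rfl : r = m + n := hr.symm
    by_cases hY : IsZero (Y.X (m + n))
    · have := ModuleCat.subsingleton_of_isZero hY
      exact Subsingleton.elim _ _
    let w' : Cochain P X m := w
    change Cochain (DRing.homCx P X) Y n at c
    show evH P X Y n m (m + n) rfl (g c) w' = lvH P X Y m (m + n) rfl c w'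
    rw [hg, map_sum, LinearMap.coe_sum, Finset.sum_apply]
    have h1 : ∀ p (s : Fin (N p)), evH P X Y n m (m + n) rfl
        (inclP P X Y (n - p) p n (sub_add_cancel n p) (dual P X Y n (f p s) c ⊗ₜ v p s)) w' =
        lvH P X Y m (m + n) rfl c (rankOne P X (f p s) (p + m) m (lv p (p + m) rfl w' (v p s))) := fun p s => by
      rw [evH_incl P X Y (n - p) p n m (m + n) (p + m) _ rfl rfl,
        dual_apply P X Y n (f p s) c (p + m) (m + n) m (by lia) rfl rfl, negOnePow_smul_smul]
    have h2 : ∀ p, evH P X Y n m (m + n) rfl (∑ s : Fin (N p),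
        inclP P X Y (n - p) p n (sub_add_cancel n p) (dual P X Y n (f p s) c ⊗ₜ v p s)) w' =
        lvH P X Y m (m + n) rfl c (∑ s : Fin (N p),
          rankOne P X (f p s) (p + m) m (lv p (p + m) rfl w' (v p s))) := fun p => by
      rw [map_sum, LinearMap.coe_sum, Finset.sum_apply]
      exact (Finset.sum_congr rfl fun s _ => h1 p s).trans (map_sum (lvH P X Y m (m + n) rfl c) _ _).symm
    refine (Finset.sum_congr rfl fun p _ => h2 p).trans ?_
    refine (map_sum (lvH P X Y m (m + n) rfl c) _ _).symm.trans (congrArg (lvH P X Y m (m + n) rfl c) ?_)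
    show _ = w'
    refine lv_ext fun p' q' h => LinearMap.ext fun k => ?_
    obtain rfl : q' = p' + m := h.symm
    simp only [map_sum, LinearMap.coe_sum, Finset.sum_apply]
    by_cases hp : p' ∈ S
    · refine (Finset.sum_eq_single p' (fun l _ hl => Finset.sum_eq_zero fun s _ =>
          rankOne_apply_ne P X _ _ _ _ _ h hl.symm _ _) (fun h => absurd hp h)).trans ?_
      simp only [rankOne_apply _ _ _ _ _ h]
      conv_rhs => rw [← hf p' k, map_sum]
      simp only [map_smul]
    · refine Eq.trans (Finset.sum_eq_zero fun l hl => Finset.sum_eq_zero fun s _ =>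
          rankOne_apply_ne P X _ _ _ _ _ h (fun e : p' = l => hp (e ▸ hl)) _ _) ?_
      exact (((eq_zero_or P X Y (hS p' hp m) w' k).resolve_right hY)).symm

theorem finitary_of_bounded (P X Y : DRing.Cx A) (S : Finset ℤ) (hS : ∀ p, p ∉ S → IsZero (P.X p)) :
    Finitary P X Y := fun _ => ⟨S, fun p hp _ => Or.inl (hS p hp)⟩

theorem finitary_of_bdd (P X Y : DRing.Cx A) (a b d : ℤ) (hP : ∀ p, b < p → IsZero (P.X p))
    (hX : ∀ q, q < a → IsZero (X.X q)) (hY : ∀ r, d < r → IsZero (Y.X r)) : Finitary P X Y := fun n =>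
  ⟨Finset.Icc (a - d + n) b, fun p hp m => by
    simp only [Finset.mem_Icc, not_and_or, not_le] at hp
    rcases hp with hp | hp
    · by_cases h : p + m < a
      · exact Or.inr (Or.inl (hX _ h))
      · exact Or.inr (Or.inr (hY _ (by lia)))
    · exact Or.inl (hP p hp)⟩

end Groth.Agent.Lib.DR.EvalHomCx
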