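import Groth.Agent.Lib.DR.EvalTen
import Groth.Agent.Lib.DR.EvalHomCx
import Groth.Agent.Lib.DerCat.KInjExists
import Mathlib.Algebra.Category.ModuleCat.EnoughInjectives

/-!
# The evaluation map `RHom(L, M) ⊗ K ⟶ RHom(RHom(K, L), M)`
-/

universe u

open CategoryTheory CategoryTheory.Limits MonoidalCategory CochainComplex

attribute [local instance] HasDerivedCategory.standard

namespace Groth.Agent.Lib.DR.EvalHom

open EvalTen

variable {A : Type u} [CommRing A] [DTen.HasLTen A] [DTen.HasRHom A]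

theorem rhom_ext {X S M : Dual.D A} {φ ψ : X ⟶ (DTen.RHomR A S).obj M}
    (h : (DTen.LTen₂ A).map (Prod.mkHom φ (𝟙 S)) ≫ DTen.ev S M =
      (DTen.LTen₂ A).map (Prod.mkHom ψ (𝟙 S)) ≫ DTen.ev S M) : φ = ψ :=
  (DTen.rhomHomEquiv X S M).symm.injective
    (((DTen.rhomAdj A S).homEquiv_counit X M φ).trans (h.trans ((DTen.rhomAdj A S).homEquiv_counit X M ψ).symm))

/-- Symmetry followed by evaluation. -/
noncomputable def inner (K L : Dual.D A) :
    (DTen.LTen₂ A).obj (K, (DTen.RHomR A K).obj L) ⟶ L :=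
  (DTen.symm A).app ((DTen.RHomR A K).obj L, K) ≫ DTen.ev K L

theorem symm_naturality {a a' b b' : Dual.D A} (f : a ⟶ a') (g : b ⟶ b') :
    (DTen.LTen₂ A).map (Prod.mkHom g f) ≫ (DTen.symm A).app (a', b') =
      (DTen.symm A).app (a, b) ≫ (DTen.LTen₂ A).map (Prod.mkHom f g) :=
  (DTen.symm A).naturality (Prod.mkHom f g)

theorem inner_left {K K' : Dual.D A} (a : K' ⟶ K) (L : Dual.D A) :
    (DTen.LTen₂ A).map (Prod.mkHom (𝟙 K') (DTen.RHomMap a L)) ≫ inner K' L =
      (DTen.LTen₂ A).map (Prod.mkHom a (𝟙 _)) ≫ inner K L := by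
  rw [inner, inner, reassoc_of% (symm_naturality (DTen.RHomMap a L) (𝟙 K')), DTen.RHom_map_ev,
    reassoc_of% (symm_naturality (𝟙 ((DTen.RHomR A K).obj L)) a)]

theorem inner_right (K : Dual.D A) {L L' : Dual.D A} (b : L' ⟶ L) :
    (DTen.LTen₂ A).map (Prod.mkHom (𝟙 K) ((DTen.RHomR A K).map b)) ≫ inner K L = inner K L' ≫ b := by
  have hev : (DTen.LTen₂ A).map (Prod.mkHom ((DTen.RHomR A K).map b) (𝟙 K)) ≫ DTen.ev K L =
      DTen.ev K L' ≫ b := (DTen.rhomAdj A K).counit_naturality b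
  rw [inner, inner, reassoc_of% (symm_naturality ((DTen.RHomR A K).map b) (𝟙 K)), hev, Category.assoc]

variable [DTen.HasLTen₃ A] [DTen.IsSymMonoidal A]

theorem evalHom_fac' (K L M : Dual.D A) {X S : Dual.D A}
    (φ : X ⟶ (DTen.LTen₂ A).obj ((DTen.RHomR A L).obj M, K)) (h : S ⟶ (DTen.RHomR A K).obj L) :
    (DTen.LTen₂ A).map (Prod.mkHom (φ ≫ DTen.evalHom K L M) h) ≫ DTen.ev ((DTen.RHomR A K).obj L) M =
      (DTen.LTen₂ A).map (Prod.mkHom φ h) ≫
        (DTen.associator ((DTen.RHomR A L).obj M) K ((DTen.RHomR A K).obj L)).hom ≫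
          (DTen.LTen₂ A).map (Prod.mkHom (𝟙 _) (inner K L)) ≫ DTen.ev L M := by
  rw [show (DTen.LTen₂ A).map (Prod.mkHom (φ ≫ DTen.evalHom K L M) h) =
      (DTen.LTen₂ A).map (Prod.mkHom φ h) ≫ (DTen.LTen₂ A).map (Prod.mkHom (DTen.evalHom K L M) (𝟙 _)) by
        rw [T_comp, Category.comp_id], Category.assoc, DTen.evalHom_fac]
  rfl

theorem evalHom_naturality₁ {K K' : Dual.D A} (a : K' ⟶ K) (L M : Dual.D A) :
    (DTen.LTen₂ A).map (Prod.mkHom (𝟙 _) a) ≫ DTen.evalHom K L M =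
      DTen.evalHom K' L M ≫ DTen.RHomMap (DTen.RHomMap a L) M := by
  refine rhom_ext ?_
  rw [evalHom_fac']
  rw [show (DTen.LTen₂ A).map (Prod.mkHom (DTen.evalHom K' L M ≫ DTen.RHomMap (DTen.RHomMap a L) M) (𝟙 _)) =
      (DTen.LTen₂ A).map (Prod.mkHom (DTen.evalHom K' L M) (𝟙 _)) ≫
        (DTen.LTen₂ A).map (Prod.mkHom (DTen.RHomMap (DTen.RHomMap a L) M) (𝟙 _)) by rw [T_comp, Category.comp_id],
    Category.assoc, DTen.RHom_map_ev, T_comp_assoc, Category.id_comp, Category.comp_id]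
  conv_rhs => rw [← Category.id_comp (DTen.evalHom K' L M), evalHom_fac']
  rw [← CategoryTheory.Functor.map_id (DTen.LTen₂ A), prod_id, DTenCurry.associator_naturality_assoc,
    DTenCurry.associator_naturality_assoc, T_comp_assoc, T_comp_assoc, inner_left]

theorem evalHom_naturality₂ (K : Dual.D A) {L L' : Dual.D A} (b : L' ⟶ L) (M : Dual.D A) :
    (DTen.LTen₂ A).map (Prod.mkHom (DTen.RHomMap b M) (𝟙 K)) ≫ DTen.evalHom K L' M =
      DTen.evalHom K L M ≫ DTen.RHomMap ((DTen.RHomR A K).map b) M := by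
  refine rhom_ext ?_
  rw [evalHom_fac']
  rw [show (DTen.LTen₂ A).map (Prod.mkHom (DTen.evalHom K L M ≫ DTen.RHomMap ((DTen.RHomR A K).map b) M) (𝟙 _)) =
      (DTen.LTen₂ A).map (Prod.mkHom (DTen.evalHom K L M) (𝟙 _)) ≫
        (DTen.LTen₂ A).map (Prod.mkHom (DTen.RHomMap ((DTen.RHomR A K).map b) M) (𝟙 _)) by
          rw [T_comp, Category.comp_id],
    Category.assoc, DTen.RHom_map_ev, T_comp_assoc, Category.id_comp, Category.comp_id]
  conv_rhs => rw [← Category.id_comp (DTen.evalHom K L M), evalHom_fac']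
  rw [← CategoryTheory.Functor.map_id (DTen.LTen₂ A), prod_id, DTenCurry.associator_naturality_assoc,
    DTenCurry.associator_naturality_assoc, T_comp_assoc, T_comp_assoc]
  simp only [Category.comp_id, Category.id_comp, CategoryTheory.Functor.map_id, ← prod_id]
  rw [inner_right, show (DTen.LTen₂ A).map (Prod.mkHom (𝟙 ((DTen.RHomR A L).obj M)) (inner K L' ≫ b)) =
      (DTen.LTen₂ A).map (Prod.mkHom (𝟙 _) (inner K L')) ≫ (DTen.LTen₂ A).map (Prod.mkHom (𝟙 _) b) by
        rw [T_comp, Category.id_comp],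
    Category.assoc, ← DTen.RHom_map_ev, T_comp_assoc, Category.id_comp, Category.comp_id]

theorem evalHom_naturality₃ (K L : Dual.D A) {M M' : Dual.D A} (c : M' ⟶ M) :
    (DTen.LTen₂ A).map (Prod.mkHom ((DTen.RHomR A L).map c) (𝟙 K)) ≫ DTen.evalHom K L M =
      DTen.evalHom K L M' ≫ (DTen.RHomR A ((DTen.RHomR A K).obj L)).map c := by
  have hev : ∀ S : Dual.D A, (DTen.LTen₂ A).map (Prod.mkHom ((DTen.RHomR A S).map c) (𝟙 S)) ≫ DTen.ev S M =
      DTen.ev S M' ≫ c := fun S => (DTen.rhomAdj A S).counit_naturality c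
  refine rhom_ext ?_
  rw [evalHom_fac', show (DTen.LTen₂ A).map (Prod.mkHom
      (DTen.evalHom K L M' ≫ (DTen.RHomR A ((DTen.RHomR A K).obj L)).map c) (𝟙 _)) =
      (DTen.LTen₂ A).map (Prod.mkHom (DTen.evalHom K L M') (𝟙 _)) ≫
        (DTen.LTen₂ A).map (Prod.mkHom ((DTen.RHomR A ((DTen.RHomR A K).obj L)).map c) (𝟙 _)) by
          rw [T_comp, Category.comp_id],
    Category.assoc, hev, DTenCurry.associator_naturality_assoc, ← prod_id, CategoryTheory.Functor.map_id,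
    T_comp_assoc, Category.id_comp, Category.comp_id]
  conv_rhs => rw [← Category.assoc, DTen.evalHom_fac]
  rw [show (DTen.LTen₂ A).map (Prod.mkHom ((DTen.RHomR A L).map c) (inner K L)) =
      (DTen.LTen₂ A).map (Prod.mkHom (𝟙 _) (inner K L)) ≫
        (DTen.LTen₂ A).map (Prod.mkHom ((DTen.RHomR A L).map c) (𝟙 L)) by rw [T_comp, Category.id_comp, Category.comp_id],
    Category.assoc, hev]
  simp only [DTen.evalHomAux, inner, Category.assoc]

theorem isIso_of_iso {K K' L L' M M' : Dual.D A} (a : K' ≅ K) (b : L' ≅ L) (c : M' ≅ M)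
    (h : IsIso (DTen.evalHom K' L' M')) : IsIso (DTen.evalHom K L M) := by
  have h3 : IsIso (DTen.evalHom K' L' M) := by
    have := isIso_T ((DTen.RHomR A L').map c.hom) (𝟙 K')
    have : IsIso ((DTen.LTen₂ A).map (Prod.mkHom ((DTen.RHomR A L').map c.hom) (𝟙 K')) ≫ DTen.evalHom K' L' M) := by
      rw [evalHom_naturality₃]; infer_instance
    exact IsIso.of_isIso_comp_left ((DTen.LTen₂ A).map (Prod.mkHom ((DTen.RHomR A L').map c.hom) (𝟙 K'))) _
  have h2 : IsIso (DTen.evalHom K' L M) := by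
    have hb : IsIso (DTen.RHomMap b.hom M) := (((DTen.RHom A).mapIso b.op).app M).isIso_hom
    have hb' : IsIso (DTen.RHomMap ((DTen.RHomR A K').map b.hom) M) :=
      (((DTen.RHom A).mapIso ((DTen.RHomR A K').mapIso b).op).app M).isIso_hom
    have := isIso_T (DTen.RHomMap b.hom M) (𝟙 K')
    have : IsIso (DTen.evalHom K' L M ≫ DTen.RHomMap ((DTen.RHomR A K').map b.hom) M) := by
      rw [← evalHom_naturality₂]; infer_instance
    exact IsIso.of_isIso_comp_right _ (DTen.RHomMap ((DTen.RHomR A K').map b.hom) M)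
  have := isIso_T (𝟙 ((DTen.RHomR A L).obj M)) a.hom
  have ha : IsIso (DTen.RHomMap (DTen.RHomMap a.hom L) M) :=
    (((DTen.RHom A).mapIso (((DTen.RHom A).mapIso a.op).app L).op).app M).isIso_hom
  have : IsIso ((DTen.LTen₂ A).map (Prod.mkHom (𝟙 _) a.hom) ≫ DTen.evalHom K L M) := by
    rw [evalHom_naturality₁]; infer_instance
  exact IsIso.of_isIso_comp_left ((DTen.LTen₂ A).map (Prod.mkHom (𝟙 _) a.hom)) _

theorem θ_ev (P L : DRing.Cx A) :
    (DTen.LTen₂ A).map (Prod.mkHom (RHom.θ P L) (𝟙 (DerivedCategory.Q.obj P))) ≫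
      DTen.ev (DerivedCategory.Q.obj P) (DerivedCategory.Q.obj L) =
      (DTen.ε A).app (DRing.homCx P L, P) ≫ DerivedCategory.Q.map (HomCxFinite.ev P L) := by
  rw [← symm_homEquiv, RHom.θ, Equiv.symm_apply_apply, ev_eq_counit]

/-- On complexes, the evaluation map is `evalHomCx`. -/
theorem evalHom_fac_Q (P X Y : DRing.Cx A) :
    ((DTen.LTen₂ A).map (Prod.mkHom (RHom.θ X Y) (𝟙 (DerivedCategory.Q.obj P))) ≫ DTen.evalHom _ _ _) ≫
        DTen.RHomMap (RHom.θ P X) (DerivedCategory.Q.obj Y) =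
      (DTen.ε A).app (DRing.homCx X Y, P) ≫ DerivedCategory.Q.map (EvalHomCx.evalHomCx P X Y) ≫
        RHom.θ (DRing.homCx P X) Y := by
  refine rhom_ext ?_
  rw [show (DTen.LTen₂ A).map (Prod.mkHom
        (((DTen.LTen₂ A).map (Prod.mkHom (RHom.θ X Y) (𝟙 (DerivedCategory.Q.obj P))) ≫ DTen.evalHom _ _ _) ≫
          DTen.RHomMap (RHom.θ P X) (DerivedCategory.Q.obj Y)) (𝟙 _)) =
      (DTen.LTen₂ A).map (Prod.mkHom
        ((DTen.LTen₂ A).map (Prod.mkHom (RHom.θ X Y) (𝟙 (DerivedCategory.Q.obj P))) ≫ DTen.evalHom _ _ _) (𝟙 _)) ≫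
      (DTen.LTen₂ A).map (Prod.mkHom (DTen.RHomMap (RHom.θ P X) (DerivedCategory.Q.obj Y)) (𝟙 _)) by
        rw [T_comp, Category.comp_id],
    Category.assoc, DTen.RHom_map_ev, T_comp_assoc, Category.id_comp, Category.comp_id, evalHom_fac',
    DTenCurry.associator_naturality_assoc, T_comp_assoc, Category.comp_id]
  have hin : (DTen.LTen₂ A).map (Prod.mkHom (𝟙 (DerivedCategory.Q.obj P)) (RHom.θ P X)) ≫ inner _ _ =
      (DTen.ε A).app (P, DRing.homCx P X) ≫
        DerivedCategory.Q.map ((DTen.braidCx P (DRing.homCx P X)).hom ≫ HomCxFinite.ev P X) := by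
    rw [inner, reassoc_of% (symm_naturality (RHom.θ P X) (𝟙 (DerivedCategory.Q.obj P))), θ_ev,
      ← Category.assoc, DTen.symm_fac, Category.assoc, ← Functor.map_comp]
  rw [hin]
  rw [show (DTen.LTen₂ A).map (Prod.mkHom (RHom.θ X Y) ((DTen.ε A).app (P, DRing.homCx P X) ≫
        DerivedCategory.Q.map ((DTen.braidCx P (DRing.homCx P X)).hom ≫ HomCxFinite.ev P X))) =
      (DTen.LTen₂ A).map (Prod.mkHom (𝟙 _) ((DTen.ε A).app (P, DRing.homCx P X))) ≫
      (DTen.LTen₂ A).map (Prod.mkHom (DerivedCategory.Q.map (𝟙 (DRing.homCx X Y)))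
        (DerivedCategory.Q.map ((DTen.braidCx P (DRing.homCx P X)).hom ≫ HomCxFinite.ev P X))) ≫
      (DTen.LTen₂ A).map (Prod.mkHom (RHom.θ X Y) (𝟙 (DerivedCategory.Q.obj X))) by
        rw [CategoryTheory.Functor.map_id, T_comp, T_comp]
        simp only [Category.id_comp, Category.comp_id],
    Category.assoc, Category.assoc, θ_ev]
  rw [← symm_homEquiv, RHom.map_comp_θ, EvalHomCx.evalHomCx]
  rw [show HomCx.homEquiv.symm (HomCx.homEquiv ((α_ (DRing.homCx X Y) P (DRing.homCx P X)).hom ≫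
    DRing.homCx X Y ◁ ((DTen.braidCx P (DRing.homCx P X)).hom ≫ HomCxFinite.ev P X) ≫ HomCxFinite.ev X Y)) = _ from
    Equiv.symm_apply_apply _ _]
  refine Eq.trans ?_ ((congrArg (_ ≫ ·) (Equiv.symm_apply_apply _ _).symm).trans
    ((DTen.rhomAdj A (DerivedCategory.Q.obj (DRing.homCx P X))).homEquiv_naturality_left_symm _ _).symm)
  have hn := (DTen.ε A).naturality (Prod.mkHom (𝟙 (DRing.homCx X Y))
    ((DTen.braidCx P (DRing.homCx P X)).hom ≫ HomCxFinite.ev P X))
  dsimp at hn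
  rw [reassoc_of% hn]
  have hR := assoc_βR (DRing.homCx X Y) P (DRing.homCx P X)
  dsimp [DTen.βR, DTen.βL] at hR
  rw [reassoc_of% hR, MonoidalCategory.id_whiskerRight, Category.id_comp, Functor.map_comp, Functor.map_comp]
  exact (Category.assoc _ _ _).trans (congrArg (_ ≫ ·) (Category.assoc _ _ _))

theorem isIso_evalHom_rep (P X Y : DRing.Cx A) (h1 : IsIso (RHom.θ X Y)) (h2 : IsIso (RHom.θ P X))
    (h3 : IsIso (RHom.θ (DRing.homCx P X) Y)) (hε : IsIso ((DTen.ε A).app (DRing.homCx X Y, P)))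
    (h : IsIso (EvalHomCx.evalHomCx P X Y)) :
    IsIso (DTen.evalHom (DerivedCategory.Q.obj P) (DerivedCategory.Q.obj X) (DerivedCategory.Q.obj Y)) := by
  have := isIso_T (RHom.θ X Y) (𝟙 (DerivedCategory.Q.obj P))
  have h4 : IsIso (DTen.RHomMap (RHom.θ P X) (DerivedCategory.Q.obj Y)) :=
    (((DTen.RHom A).mapIso (asIso (RHom.θ P X)).op).app _).isIso_hom
  have h5 : IsIso ((DTen.ε A).app (DRing.homCx X Y, P) ≫ DerivedCategory.Q.map (EvalHomCx.evalHomCx P X Y) ≫
      RHom.θ (DRing.homCx P X) Y) := inferInstance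
  rw [← evalHom_fac_Q] at h5
  have h6 := IsIso.of_isIso_comp_right ((DTen.LTen₂ A).map (Prod.mkHom (RHom.θ X Y) (𝟙 (DerivedCategory.Q.obj P))) ≫
    DTen.evalHom _ _ _) (DTen.RHomMap (RHom.θ P X) (DerivedCategory.Q.obj Y))
  exact IsIso.of_isIso_comp_left ((DTen.LTen₂ A).map (Prod.mkHom (RHom.θ X Y) (𝟙 (DerivedCategory.Q.obj P)))) _

end Groth.Agent.Lib.DR.EvalHom

namespace Groth.Agent.Lib.DR.EvalHom

open EvalTen

variable {A : Type u} [CommRing A]

theorem exists_Q_map_eq_injective {E K : DRing.Cx A} [K.IsKInjective]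
    (f : DerivedCategory.Q.obj E ⟶ DerivedCategory.Q.obj K) : ∃ φ : E ⟶ K, DerivedCategory.Q.map φ = f := by
  obtain ⟨g, hg⟩ := (CochainComplex.IsKInjective.Qh_map_bijective
    ((HomotopyCategory.quotient (ModuleCat.{u} A) (.up ℤ)).obj E) K).surjective
      ((DerivedCategory.quotientCompQhIso _).hom.app E ≫ f ≫ (DerivedCategory.quotientCompQhIso _).inv.app K)
  obtain ⟨φ, rfl⟩ := (HomotopyCategory.quotient (ModuleCat.{u} A) (.up ℤ)).map_surjective g
  refine ⟨φ, ?_⟩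
  rw [← cancel_epi ((DerivedCategory.quotientCompQhIso _).hom.app E),
    ← DerivedCategory.quotientCompQhIso_hom_naturality]
  simp [hg]

theorem nonempty_homotopy_of_Q_map_eq_injective {E K : DRing.Cx A} [K.IsKInjective]
    {φ ψ : E ⟶ K} (h : DerivedCategory.Q.map φ = DerivedCategory.Q.map ψ) : Nonempty (Homotopy φ ψ) := by
  refine ⟨HomotopyCategory.homotopyOfEq _ _ ((CochainComplex.IsKInjective.Qh_map_bijective
    ((HomotopyCategory.quotient (ModuleCat.{u} A) (.up ℤ)).obj E) K).injective ?_)⟩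
  rw [← cancel_mono ((DerivedCategory.quotientCompQhIso _).hom.app K),
    DerivedCategory.quotientCompQhIso_hom_naturality,
    DerivedCategory.quotientCompQhIso_hom_naturality, h]

variable [DTen.HasLTen A] [DTen.HasRHom A]

/-- `RHom` is computed by Hom complexes into K-injective complexes. -/
theorem isIso_θ_of_isKInjective (P L : DRing.Cx A) [L.IsKInjective] : IsIso (RHom.θ P L) := by
  refine isIso_of_yoneda_map_bijective _ fun T => ?_
  obtain ⟨X, hX, ⟨e⟩⟩ := DTenBasic.exists_rep T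
  suffices h : Function.Bijective (fun x : DerivedCategory.Q.obj X ⟶ _ => x ≫ RHom.θ P L) by
    have h' : Function.Bijective (fun x : DerivedCategory.Q.obj X ⟶ _ => e.inv ≫ x ≫ RHom.θ P L) :=
      (e.homFromEquiv.bijective.comp h)
    convert h'.comp e.symm.homFromEquiv.bijective using 1
    ext x
    simp
  constructor
  · intro φ φ' hφ
    obtain ⟨g, rfl⟩ := Basic.exists_Q_map_eq φ
    obtain ⟨g', rfl⟩ := Basic.exists_Q_map_eq φ'
    simp only [RHom.map_comp_θ, EmbeddingLike.apply_eq_iff_eq, cancel_epi] at hφ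
    obtain ⟨H⟩ := nonempty_homotopy_of_Q_map_eq_injective hφ
    obtain ⟨H'⟩ := (HomCx.homotopy_iff _ _).2 ⟨H⟩
    rw [Equiv.apply_symm_apply, Equiv.apply_symm_apply] at H'
    exact DerivedCategory.Q_map_eq_of_homotopy _ H'
  · intro ψ
    obtain ⟨f, hf⟩ := exists_Q_map_eq_injective (inv ((DTen.ε A).app (X, P)) ≫ (DTen.rhomHomEquiv _ _ _).symm ψ)
    refine ⟨DerivedCategory.Q.map (HomCx.homEquiv f), ?_⟩
    show _ ≫ RHom.θ P L = ψ
    rw [RHom.map_comp_θ, Equiv.symm_apply_apply, hf, IsIso.hom_inv_id_assoc, Equiv.apply_symm_apply]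

variable [DTen.HasLTen₃ A] [DTen.IsSymMonoidal A]

theorem exists_kInj_rep (M : Dual.D A) :
    ∃ Y : DRing.Cx A, Y.IsKInjective ∧ Nonempty (DerivedCategory.Q.obj Y ≅ M) := by
  obtain ⟨I, f, hI, hf⟩ := Groth.Agent.Lib.DerCat.KInjExists.hasKInjRes (DerivedCategory.Q.objPreimage M)
  have := DTenBasic.isIso_Q_map f hf
  exact ⟨I, hI, ⟨(asIso (DerivedCategory.Q.map f)).symm ≪≫ DerivedCategory.Q.objObjPreimageIso M⟩⟩

theorem isIso_evalHom_of_isPerfect (K L M : Dual.D A) (hK : DRing.IsPerfect A K) :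
    IsIso (DTen.evalHom K L M) := by
  obtain ⟨P, S, hP, hS, hp, ⟨eK⟩⟩ := exists_perfect_rep hK
  obtain ⟨X, hX, ⟨eL⟩⟩ := DTenBasic.exists_rep L
  obtain ⟨Y, hY, ⟨eM⟩⟩ := exists_kInj_rep M
  exact isIso_of_iso eK eL eM (isIso_evalHom_rep P X Y (RHom.isIso_θ X Y) (RHom.isIso_θ P X)
    (isIso_θ_of_isKInjective _ Y) inferInstance
    (EvalHomCx.isIso_evalHomCx P X Y hp (EvalHomCx.finitary_of_bounded P X Y S hS)))

theorem isIso_evalHom_of_isPseudoCoherent (K L M : Dual.D A) (hK : DRing.IsPseudoCoherent' A K) (n : ℤ)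
    (hL : DerivedCategory.IsGE L n) (hM : DRing.HasFiniteInjDim A M) :
    IsIso (DTen.evalHom K L M) := by
  obtain ⟨P, b, hb, hff, ⟨eK⟩⟩ := hK
  obtain ⟨X, hX, ⟨eL⟩⟩ := DerivedCategory.exists_iso_Q_obj_of_isGE L n
  obtain ⟨c, d, Y, hY, hinj, ⟨eM⟩⟩ := hM
  have hp : ∀ i, Module.Finite A (P.X i) ∧ Module.Projective A (P.X i) := fun i => by
    obtain ⟨h1, h2⟩ := hff i
    exact ⟨h1, inferInstance⟩
  have : P.IsStrictlyLE b := (CochainComplex.isStrictlyLE_iff _ _).2 fun i hi => hb i hi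
  have : ∀ i, Projective (P.X i) := fun i =>
    have := (hp i).2
    (IsProjective.iff_projective (R := A) (P.X i)).1 this
  have := CochainComplex.isKProjective_of_projective P b
  have : Y.IsStrictlyGE c := (CochainComplex.isStrictlyGE_iff _ _).2 fun i hi => hY i (Or.inl hi)
  have : ∀ i, Injective (Y.X i) := fun i => by
    have := hinj i
    exact Module.injective_object_of_injective_module A (Y.X i)
  have := CochainComplex.isKInjective_of_injective Y c
  exact isIso_of_iso eK eL.symm eM (isIso_evalHom_rep P X Y (isIso_θ_of_isKInjective X Y) (RHom.isIso_θ P X)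
    (isIso_θ_of_isKInjective _ Y) inferInstance
    (EvalHomCx.isIso_evalHomCx P X Y hp (EvalHomCx.finitary_of_bdd P X Y n b d hb
      (fun q hq => X.isZero_of_isStrictlyGE n q hq) (fun r hr => hY r (Or.inr hr)))))

end Groth.Agent.Lib.DR.EvalHom
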