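import Groth.Agent.Lib.DR.LTensorCx
import Groth.Prelude.Def_DTen2

/-!
# Values of the derived tensor bifunctor
-/

universe u

open CategoryTheory CategoryTheory.Limits MonoidalCategory HomologicalComplex
open Groth.Agent.Lib.DerivedOX

attribute [local instance] HasDerivedCategory.standard

namespace Groth.Agent.Lib.DR.DTenBasic

variable {A : Type u} [CommRing A]

theorem isIso_Q_map {K L : DRing.Cx A} (f : K ⟶ L) (hf : QuasiIso f) : IsIso (DerivedCategory.Q.map f) :=
  Localization.inverts DerivedCategory.Q (quasiIso (ModuleCat.{u} A) (.up ℤ)) _ hf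

theorem isIso_Q_map_tensor {K K' L L' : DRing.Cx A} (f : K ⟶ K') (g : L ⟶ L')
    (hf : homotopyEquivalences _ _ f) (hg : homotopyEquivalences _ _ g) :
    IsIso (DerivedCategory.Q.map (f ▷ L ≫ K' ◁ g)) := by
  have h1 : IsIso (DerivedCategory.Q.map (((KFlat.tcx A).flip.obj L).map f)) := LTensorCx.inverts L f hf
  obtain ⟨e, rfl⟩ := hg
  have h2 : IsIso (DerivedCategory.Q.map (((KFlat.tcx A).obj K').map e.hom)) :=
    isIso_Q_map _ (KFlat.mapHomotopyEquiv K' e).quasiIso_hom
  have h3 : IsIso (DerivedCategory.Q.map (((KFlat.tcx A).flip.obj L).map f) ≫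
      DerivedCategory.Q.map (((KFlat.tcx A).obj K').map e.hom)) := inferInstance
  rw [← Functor.map_comp] at h3
  exact h3

theorem quasiIso_res₂ {K L : DRing.Cx A} (h : DRing.IsKFlat A K ∨ DRing.IsKFlat A L) :
    QuasiIso ((KProjRes.aug A).app K ▷ (KProjRes.res A).obj L ≫ K ◁ (KProjRes.aug A).app L) ∧
      IsIso (DerivedCategory.Q.map ((KProjRes.aug A).app K ▷ (KProjRes.res A).obj L ≫ K ◁ (KProjRes.aug A).app L)) := by
  have hK := KProjRes.quasiIso_aug A K
  have hL := KProjRes.quasiIso_aug A L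
  have key : QuasiIso ((KProjRes.aug A).app K ▷ (KProjRes.res A).obj L ≫ K ◁ (KProjRes.aug A).app L) := by
    rcases h with h | h
    · have h1 : QuasiIso ((KProjRes.aug A).app K ▷ (KProjRes.res A).obj L) :=
        KFlat.quasiIso_tensor_of_isKFlat (KFlat.isKFlat_res L) ((KProjRes.aug A).app K)
      have h2 : QuasiIso (K ◁ (KProjRes.aug A).app L) := LTensorCx.quasiIso_tensor_left h _
      exact inferInstance
    · have hw : (KProjRes.aug A).app K ▷ (KProjRes.res A).obj L ≫ K ◁ (KProjRes.aug A).app L =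
          (KProjRes.res A).obj K ◁ (KProjRes.aug A).app L ≫ (KProjRes.aug A).app K ▷ L :=
        (whisker_exchange _ _).symm
      rw [hw]
      have h1 : QuasiIso ((KProjRes.res A).obj K ◁ (KProjRes.aug A).app L) :=
        LTensorCx.quasiIso_tensor_left (KFlat.isKFlat_res K) _
      have h2 : QuasiIso ((KProjRes.aug A).app K ▷ L) :=
        KFlat.quasiIso_tensor_of_isKFlat h ((KProjRes.aug A).app K)
      exact inferInstance
  exact ⟨key, isIso_Q_map _ key⟩

/-- Resolution data for `(K, L) ↦ Q (K ⊗ L)`. -/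
theorem resData₂ : LeftDerived.ResData (DTen.qis₂ A) (DTen.tensor₂ A)
    ((KProjRes.res A).prod (KProjRes.res A)) (NatTrans.prod (KProjRes.aug A) (KProjRes.aug A)) where
  mem X := ⟨KProjRes.quasiIso_aug A X.1, KProjRes.quasiIso_aug A X.2⟩
  inverts X Y f hf := by
    have : QuasiIso f.1 := hf.1
    have : QuasiIso f.2 := hf.2
    exact isIso_Q_map_tensor _ _ (KProjRes.res_map_homotopyEquivalences A f.1)
      (KProjRes.res_map_homotopyEquivalences A f.2)
  idem X := isIso_Q_map_tensor _ _ (KProjRes.aug_homotopyEquivalences A ((KProjRes.res A).obj X.1))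
    (KProjRes.aug_homotopyEquivalences A ((KProjRes.res A).obj X.2))

/-- The derived tensor bifunctor exists. -/
theorem hasLTen : DTen.HasLTen A :=
  have := LeftDerived.isLeftDerivedFunctor (L := DTen.QQ A) (resData₂ (A := A))
  Functor.HasLeftDerivedFunctor.mk' _ (LeftDerived.counit (L := DTen.QQ A) (resData₂ (A := A)))

section

variable [DTen.HasLTen A]

/-- The derived tensor product is computed by K-flat complexes. -/
theorem isIso_ε {K L : DRing.Cx A} (h : DRing.IsKFlat A K ∨ DRing.IsKFlat A L) :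
    IsIso ((DTen.ε A).app (K, L)) :=
  LeftDerived.isIso_totalLeftDerivedCounit_app resData₂ (K, L) (quasiIso_res₂ h).2

instance isIso_ε_left (K L : DRing.Cx A) [K.IsKProjective] : IsIso ((DTen.ε A).app (K, L)) :=
  isIso_ε (Or.inl (KFlat.isKFlat_of_isKProjective K))

instance isIso_ε_right (K L : DRing.Cx A) [L.IsKProjective] : IsIso ((DTen.ε A).app (K, L)) :=
  isIso_ε (Or.inr (KFlat.isKFlat_of_isKProjective L))

theorem kFlatComputes : DTen.KFlatComputes A := ⟨fun _ _ h => isIso_ε h⟩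

end

/-- Every object has a K-projective representative. -/
theorem exists_rep (X : Dual.D A) : ∃ P : DRing.Cx A, P.IsKProjective ∧
    Nonempty (DerivedCategory.Q.obj P ≅ X) :=
  let ⟨P, hP, _, e⟩ := BaseChangeU.exists_rep X
  ⟨P, hP, e⟩

section Symm

variable [DTen.HasLTen A]

theorem isIso_symm (X : Dual.D A × Dual.D A) : IsIso ((DTen.symm A).app X) := by
  obtain ⟨P, hP, ⟨eP⟩⟩ := exists_rep X.1
  obtain ⟨Q, hQ, ⟨eQ⟩⟩ := exists_rep X.2
  refine (NatTrans.isIso_app_iff_of_iso (DTen.symm A)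
    (show (DerivedCategory.Q.obj P, DerivedCategory.Q.obj Q) ≅ X from eP.prod eQ)).1 ?_
  have : IsIso ((DTen.symm A).app (DerivedCategory.Q.obj P, DerivedCategory.Q.obj Q) ≫ (DTen.ε A).app (P, Q)) := by
    rw [DTen.symm_fac]
    infer_instance
  exact IsIso.of_isIso_comp_right _ ((DTen.ε A).app (P, Q))

end Symm

/-- Resolution data for the triple tensor product. -/
theorem resData₃ : LeftDerived.ResData (DTen.qis₃ A) (DTen.tensor₃ A)
    ((KProjRes.res A).prod ((KProjRes.res A).prod (KProjRes.res A)))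
    (NatTrans.prod (KProjRes.aug A) (NatTrans.prod (KProjRes.aug A) (KProjRes.aug A))) where
  mem X := ⟨KProjRes.quasiIso_aug A X.1, KProjRes.quasiIso_aug A X.2.1, KProjRes.quasiIso_aug A X.2.2⟩
  inverts X Y f hf := by
    have : QuasiIso f.1 := hf.1
    have : QuasiIso f.2.1 := hf.2.1
    have : QuasiIso f.2.2 := hf.2.2
    have h1 := isIso_Q_map_tensor _ _ (KProjRes.res_map_homotopyEquivalences A f.2.1)
      (KProjRes.res_map_homotopyEquivalences A f.2.2)
    have h1' := (DerivedCategory.isIso_Q_map_iff_quasiIso _ _).1 h1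
    have h2 : IsIso (DerivedCategory.Q.map ((KProjRes.res A).map f.1 ▷
        ((KProjRes.res A).obj X.2.1 ⊗ (KProjRes.res A).obj X.2.2))) :=
      LTensorCx.inverts _ _ (KProjRes.res_map_homotopyEquivalences A f.1)
    have h3 : IsIso (DerivedCategory.Q.map ((KProjRes.res A).obj Y.1 ◁
        ((KProjRes.res A).map f.2.1 ▷ (KProjRes.res A).obj X.2.2 ≫
          (KProjRes.res A).obj Y.2.1 ◁ (KProjRes.res A).map f.2.2))) :=
      isIso_Q_map _ (LTensorCx.quasiIso_tensor_left (KFlat.isKFlat_res Y.1) _)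
    show IsIso (DerivedCategory.Q.map (_ ≫ _))
    rw [Functor.map_comp]
    exact IsIso.comp_isIso' h2 h3
  idem X := by
    have h1 := isIso_Q_map_tensor _ _ (KProjRes.aug_homotopyEquivalences A ((KProjRes.res A).obj X.2.1))
      (KProjRes.aug_homotopyEquivalences A ((KProjRes.res A).obj X.2.2))
    have h1' := (DerivedCategory.isIso_Q_map_iff_quasiIso _ _).1 h1
    have h2 : IsIso (DerivedCategory.Q.map ((KProjRes.aug A).app ((KProjRes.res A).obj X.1) ▷
        ((KProjRes.res A).obj ((KProjRes.res A).obj X.2.1) ⊗ (KProjRes.res A).obj ((KProjRes.res A).obj X.2.2)))) :=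
      LTensorCx.inverts _ _ (KProjRes.aug_homotopyEquivalences A _)
    have h3 : IsIso (DerivedCategory.Q.map ((KProjRes.res A).obj X.1 ◁
        ((KProjRes.aug A).app ((KProjRes.res A).obj X.2.1) ▷ (KProjRes.res A).obj ((KProjRes.res A).obj X.2.2) ≫
          (KProjRes.res A).obj X.2.1 ◁ (KProjRes.aug A).app ((KProjRes.res A).obj X.2.2)))) :=
      isIso_Q_map _ (@LTensorCx.quasiIso_tensor_left _ _ _ (KFlat.isKFlat_res X.1) _ _ _ h1')
    show IsIso (DerivedCategory.Q.map (_ ≫ _))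
    rw [Functor.map_comp]
    exact IsIso.comp_isIso' h2 h3

section Assoc

variable [DTen.HasLTen A] [DTen.HasLTen₃ A]

instance isIso_ε₃ (P Q R : DRing.Cx A) [P.IsKProjective] [Q.IsKProjective] [R.IsKProjective] :
    IsIso ((DTen.ε₃ A).app (P, (Q, R))) := by
  refine LeftDerived.isIso_totalLeftDerivedCounit_app resData₃ (P, (Q, R)) ?_
  have h1 := isIso_Q_map_tensor _ _ (KProjRes.aug_homotopyEquivalences A Q)
    (KProjRes.aug_homotopyEquivalences A R)
  have h1' := (DerivedCategory.isIso_Q_map_iff_quasiIso _ _).1 h1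
  show IsIso (DerivedCategory.Q.map (_ ≫ _))
  rw [Functor.map_comp]
  exact IsIso.comp_isIso' (LTensorCx.inverts _ _ (KProjRes.aug_homotopyEquivalences A P))
    (isIso_Q_map _ (@LTensorCx.quasiIso_tensor_left _ _ _ (KFlat.isKFlat_of_isKProjective P) _ _ _ h1'))

theorem isIso_assoc (X : Dual.D A × (Dual.D A × Dual.D A)) :
    IsIso ((DTen.assocL A).app X) ∧ IsIso ((DTen.assocR A).app X) := by
  obtain ⟨P, hP, ⟨eP⟩⟩ := exists_rep X.1
  obtain ⟨Q, hQ, ⟨eQ⟩⟩ := exists_rep X.2.1
  obtain ⟨R, hR, ⟨eR⟩⟩ := exists_rep X.2.2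
  let e : (DTen.QQQ A).obj (P, (Q, R)) ≅ X := eP.prod (eQ.prod eR)
  constructor
  · refine (NatTrans.isIso_app_iff_of_iso (DTen.assocL A) e).1 ?_
    have h1 : IsIso ((DTen.LTen₂ A).map (Prod.mkHom ((DTen.ε A).app (P, Q)) (𝟙 (DerivedCategory.Q.obj R)))) :=
      ((DTen.LTen₂ A).mapIso ((asIso ((DTen.ε A).app (P, Q))).prod (Iso.refl _))).isIso_hom
    have : IsIso ((DTen.βL A).app (P, (Q, R))) := by
      show IsIso (_ ≫ _ ≫ _)
      exact IsIso.comp_isIso' h1 inferInstance
    have : IsIso ((DTen.assocL A).app ((DTen.QQQ A).obj (P, (Q, R))) ≫ (DTen.ε₃ A).app (P, (Q, R))) := by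
      rw [DTen.assocL_fac]
      infer_instance
    exact IsIso.of_isIso_comp_right _ ((DTen.ε₃ A).app (P, (Q, R)))
  · refine (NatTrans.isIso_app_iff_of_iso (DTen.assocR A) e).1 ?_
    have h1 : IsIso ((DTen.LTen₂ A).map (Prod.mkHom (𝟙 (DerivedCategory.Q.obj P)) ((DTen.ε A).app (Q, R)))) :=
      ((DTen.LTen₂ A).mapIso ((Iso.refl _).prod (asIso ((DTen.ε A).app (Q, R))))).isIso_hom
    have : IsIso ((DTen.βR A).app (P, (Q, R))) := IsIso.comp_isIso' h1 inferInstance
    have : IsIso ((DTen.assocR A).app ((DTen.QQQ A).obj (P, (Q, R))) ≫ (DTen.ε₃ A).app (P, (Q, R))) := by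
      rw [DTen.assocR_fac]
      infer_instance
    exact IsIso.of_isIso_comp_right _ ((DTen.ε₃ A).app (P, (Q, R)))

end Assoc

end Groth.Agent.Lib.DR.DTenBasic
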