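import Groth.Agent.Lib.DR.HomCx
import Groth.Agent.Lib.DR.DTenBasic
import Groth.Prelude.Def_DTen3
import Mathlib.Algebra.Homology.HomotopyCategory.HomComplexCohomology
import Mathlib.CategoryTheory.Functor.Derived.PointwiseRightDerived

/-!
# `RHom` is computed by Hom complexes out of K-projective complexes
-/

universe u

open CategoryTheory CategoryTheory.Limits MonoidalCategory CochainComplex CochainComplex.HomComplex

attribute [local instance] HasDerivedCategory.standard

namespace Groth.Agent.Lib.DR.RHom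

variable {A : Type u} [CommRing A]

theorem acyclic_homCx (P : DRing.Cx A) [P.IsKProjective] {L : DRing.Cx A} (hL : L.Acyclic) :
    (DRing.homCx P L).Acyclic := fun n => by
  rw [HomologicalComplex.exactAt_iff' _ (n - 1) n (n + 1) (by simp) (by simp), ShortComplex.moduleCat_exact_iff]
  intro z hz
  let x : Cocycle P L n := Cocycle.mk z (n + 1) rfl hz
  have hL' : (L⟦n⟧).Acyclic := KFlatTri.exactAt_shift hL n
  obtain ⟨h⟩ := IsKProjective.nonempty_homotopy_zero (Cocycle.equivHomShift.symm x) hL'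
  have h0 : CohomologyClass.toHom (CohomologyClass.mk x) = 0 := by
    rw [CohomologyClass.toHom_mk, HomotopyCategory.eq_of_homotopy _ _ h, Functor.map_zero]
  obtain ⟨m, hm, β, hβ⟩ := (CohomologyClass.toHom_mk_eq_zero_iff x).1 h0
  obtain rfl : m = n - 1 := by lia
  exact ⟨β, hβ⟩

theorem isKProjective_tensor (X P : DRing.Cx A) [X.IsKProjective] [P.IsKProjective] :
    (X ⊗ P).IsKProjective where
  nonempty_homotopy_zero {L} f hL := by
    obtain ⟨h⟩ := IsKProjective.nonempty_homotopy_zero (HomCx.homEquiv f) (acyclic_homCx P hL)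
    have h0 : HomCx.homEquiv (0 : X ⊗ P ⟶ L) = 0 := by
      refine HomologicalComplex.hom_ext _ _ fun i => ModuleCat.hom_ext (LinearMap.ext fun x =>
        HomCx.lv_ext fun p q hpq => LinearMap.ext fun k => ?_)
      rw [HomCx.homEquiv_apply]
      rfl
    exact (HomCx.homotopy_iff f 0).1 ⟨h.trans (Homotopy.ofEq h0.symm)⟩

theorem adj_homEquiv (X P L : DRing.Cx A) : (HomCx.adjunction P).homEquiv X L = HomCx.homEquiv := by
  simp [HomCx.adjunction]
  try rfl

section Adjunct

variable [DTen.HasLTen A] [DTen.HasRHom A]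

/-- The comparison `Hom•(P, L) ⟶ RHom(P, L)` for K-projective `P`. -/
noncomputable def θ (P L : DRing.Cx A) :
    DerivedCategory.Q.obj (DRing.homCx P L) ⟶
      (DTen.RHomR A (DerivedCategory.Q.obj P)).obj (DerivedCategory.Q.obj L) :=
  DTen.rhomHomEquiv _ _ _ ((DTen.ε A).app (DRing.homCx P L, P) ≫
    DerivedCategory.Q.map ((HomCx.adjunction P).counit.app L))

theorem map_comp_θ {X P L : DRing.Cx A} (g : X ⟶ DRing.homCx P L) :
    DerivedCategory.Q.map g ≫ θ P L = DTen.rhomHomEquiv _ _ _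
      ((DTen.ε A).app (X, P) ≫ DerivedCategory.Q.map (HomCx.homEquiv.symm g)) := by
  refine ((DTen.rhomAdj A (DerivedCategory.Q.obj P)).homEquiv_naturality_left _ _).symm.trans (congrArg _ ?_)
  have h := (DTen.ε A).naturality (Prod.mkHom g (𝟙 P))
  dsimp at h
  have hc : HomCx.homEquiv.symm g = g ▷ P ≫ (HomCx.adjunction P).counit.app L :=
    (adj_homEquiv X P L) ▸ (HomCx.adjunction P).homEquiv_counit X L g
  rw [hc]
  show (DTen.LTen₂ A).map (Prod.mkHom (DerivedCategory.Q.map g) (𝟙 (DerivedCategory.Q.obj P))) ≫ _ = _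
  rw [← CategoryTheory.Functor.map_id, reassoc_of% h]
  simp only [MonoidalCategory.whiskerLeft_id, Category.comp_id]
  exact congrArg (_ ≫ ·) (Functor.map_comp _ _ _).symm

/-- `RHom` is computed by Hom complexes out of K-projective complexes. -/
theorem isIso_θ (P L : DRing.Cx A) [P.IsKProjective] : IsIso (θ P L) := by
  refine isIso_of_yoneda_map_bijective _ fun T => ?_
  obtain ⟨X, hX, ⟨e⟩⟩ := DTenBasic.exists_rep T
  have := isKProjective_tensor X P
  have : CochainComplex.IsKProjective ((DTen.tensorT A).obj (X, P)) := isKProjective_tensor X P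
  suffices h : Function.Bijective (fun x : DerivedCategory.Q.obj X ⟶ _ => x ≫ θ P L) by
    have h' : Function.Bijective (fun x : DerivedCategory.Q.obj X ⟶ _ => e.inv ≫ x ≫ θ P L) :=
      (e.homFromEquiv.bijective.comp h)
    convert h'.comp e.symm.homFromEquiv.bijective using 1
    ext x
    simp
  constructor
  · intro φ φ' hφ
    obtain ⟨g, rfl⟩ := Basic.exists_Q_map_eq φ
    obtain ⟨g', rfl⟩ := Basic.exists_Q_map_eq φ'
    simp only [map_comp_θ, EmbeddingLike.apply_eq_iff_eq, cancel_epi] at hφ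
    obtain ⟨H⟩ := Basic.nonempty_homotopy_of_Q_map_eq hφ
    obtain ⟨H'⟩ := (HomCx.homotopy_iff _ _).2 ⟨H⟩
    rw [Equiv.apply_symm_apply, Equiv.apply_symm_apply] at H'
    exact DerivedCategory.Q_map_eq_of_homotopy _ H'
  · intro ψ
    obtain ⟨f, hf⟩ := Basic.exists_Q_map_eq (inv ((DTen.ε A).app (X, P)) ≫ (DTen.rhomHomEquiv _ _ _).symm ψ)
    refine ⟨DerivedCategory.Q.map (HomCx.homEquiv f), ?_⟩
    show _ ≫ θ P L = ψ
    rw [map_comp_θ, Equiv.symm_apply_apply, hf, IsIso.hom_inv_id_assoc, Equiv.apply_symm_apply]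

theorem θ_naturality (P : DRing.Cx A) {L L' : DRing.Cx A} (f : L ⟶ L') :
    DerivedCategory.Q.map ((DRing.homCxFunctor P).map f) ≫ θ P L' =
      θ P L ≫ (DTen.RHomR A (DerivedCategory.Q.obj P)).map (DerivedCategory.Q.map f) := by
  refine (map_comp_θ _).trans ?_
  rw [θ, ← Adjunction.homEquiv_naturality_right, Category.assoc]
  erw [← Functor.map_comp]
  refine congrArg (fun w => DTen.rhomHomEquiv _ _ _ ((DTen.ε A).app _ ≫ DerivedCategory.Q.map w)) ?_
  exact (congrArg (fun e : _ ≃ _ => e.symm _) (adj_homEquiv _ P L').symm).trans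
    (((HomCx.adjunction P).homEquiv_counit _ _ _).trans ((HomCx.adjunction P).counit.naturality f))

end Adjunct

theorem inverts_homCxQ (P : DRing.Cx A) [P.IsKProjective] :
    (HomologicalComplex.quasiIso (ModuleCat.{u} A) (ComplexShape.up ℤ)).IsInvertedBy (DRing.homCxQ P) := by
  intro L L' f hf
  have : IsIso (DerivedCategory.Q.map f) := DTenBasic.isIso_Q_map _ hf
  refine isIso_of_yoneda_map_bijective _ fun T => ?_
  obtain ⟨X, hX, ⟨e⟩⟩ := DTenBasic.exists_rep T
  have := isKProjective_tensor X P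
  have hnat : ∀ g : X ⟶ DRing.homCx P L,
      HomCx.homEquiv.symm (g ≫ (DRing.homCxFunctor P).map f) = HomCx.homEquiv.symm g ≫ f := fun g => by
    apply HomCx.homEquiv.injective
    rw [Equiv.apply_symm_apply, HomCx.homEquiv_naturality_right, Equiv.apply_symm_apply]
    rfl
  suffices h : Function.Bijective (fun x : DerivedCategory.Q.obj X ⟶ _ => x ≫ (DRing.homCxQ P).map f) by
    convert (e.homFromEquiv.bijective.comp h).comp e.symm.homFromEquiv.bijective using 1
    ext x
    simp
  constructor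
  · intro φ φ' hφ
    obtain ⟨(g : X ⟶ DRing.homCx P L), rfl⟩ := Basic.exists_Q_map_eq φ
    obtain ⟨(g' : X ⟶ DRing.homCx P L), rfl⟩ := Basic.exists_Q_map_eq φ'
    have hφ' : DerivedCategory.Q.map (g ≫ (DRing.homCxFunctor P).map f) =
        DerivedCategory.Q.map (g' ≫ (DRing.homCxFunctor P).map f) :=
      (Functor.map_comp _ _ _).trans (hφ.trans (Functor.map_comp _ _ _).symm)
    obtain ⟨H⟩ := Basic.nonempty_homotopy_of_Q_map_eq hφ'
    obtain ⟨H'⟩ := (HomCx.homotopy_iff (HomCx.homEquiv.symm g ≫ f) (HomCx.homEquiv.symm g' ≫ f)).1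
      ⟨(Homotopy.ofEq ((congrArg HomCx.homEquiv (hnat g)).symm.trans (Equiv.apply_symm_apply _ _))).trans
        (H.trans (Homotopy.ofEq ((congrArg HomCx.homEquiv (hnat g')).symm.trans (Equiv.apply_symm_apply _ _)).symm))⟩
    have h1 := DerivedCategory.Q_map_eq_of_homotopy _ H'
    rw [Functor.map_comp, Functor.map_comp, cancel_mono] at h1
    obtain ⟨H₁⟩ := Basic.nonempty_homotopy_of_Q_map_eq h1
    obtain ⟨H₂⟩ := (HomCx.homotopy_iff _ _).2 ⟨H₁⟩
    rw [Equiv.apply_symm_apply, Equiv.apply_symm_apply] at H₂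
    exact DerivedCategory.Q_map_eq_of_homotopy _ H₂
  · intro ψ
    obtain ⟨(h : X ⟶ DRing.homCx P L'), rfl⟩ := Basic.exists_Q_map_eq ψ
    obtain ⟨k, hk⟩ := Basic.exists_Q_map_eq
      (DerivedCategory.Q.map (HomCx.homEquiv.symm h) ≫ inv (DerivedCategory.Q.map f))
    refine ⟨DerivedCategory.Q.map (HomCx.homEquiv k), ?_⟩
    have h1 : DerivedCategory.Q.map (k ≫ f) = DerivedCategory.Q.map (HomCx.homEquiv.symm h) := by
      rw [Functor.map_comp, hk, Category.assoc, IsIso.inv_hom_id, Category.comp_id]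
    obtain ⟨H⟩ := Basic.nonempty_homotopy_of_Q_map_eq h1
    obtain ⟨H'⟩ := (HomCx.homotopy_iff _ _).2 ⟨H⟩
    rw [Equiv.apply_symm_apply, HomCx.homEquiv_naturality_right] at H'
    exact (Functor.map_comp _ _ _).symm.trans (DerivedCategory.Q_map_eq_of_homotopy _ H')

theorem nonempty_RHomCx_iso (P : DRing.Cx A) [P.IsKProjective] [DRing.HasRHomCx P] (L : DRing.Cx A) :
    Nonempty ((DRing.RHomCx P).obj (DerivedCategory.Q.obj L) ≅ DerivedCategory.Q.obj (DRing.homCx P L)) := by
  have := Functor.isIso_of_isRightDerivedFunctor_of_inverts (DRing.RHomCx P)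
    ((DRing.homCxQ P).totalRightDerivedUnit DerivedCategory.Q
      (HomologicalComplex.quasiIso (ModuleCat.{u} A) (ComplexShape.up ℤ))) (inverts_homCxQ P)
  exact ⟨((asIso ((DRing.homCxQ P).totalRightDerivedUnit DerivedCategory.Q
    (HomologicalComplex.quasiIso (ModuleCat.{u} A) (ComplexShape.up ℤ)))).app L).symm⟩

end Groth.Agent.Lib.DR.RHom
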