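import Groth.Agent.Lib.DR.ProjCx
import Groth.Agent.Lib.DR.DTenRing
import Groth.Agent.Lib.DR.RHom
import Groth.Agent.Lib.DR.EvalHom
import Groth.Agent.Lib.DR.Perfect

/-!
# The relative internal Hom and the mixed tensor product
-/

universe u

open CategoryTheory CategoryTheory.Limits MonoidalCategory HomologicalComplex
open Groth.Agent.Lib.TensorCx.Basic
open scoped TensorProduct ChangeOfRings

attribute [local instance] HasDerivedCategory.standard

set_option backward.isDefEq.respectTransparency false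

namespace Groth.Agent.Lib.DR.RelHom

variable {R A : Type u} [CommRing R] [CommRing A] (φ : R →+* A)
variable {P : DRing.Cx R} (p : P ⟶ (DTen.resCx φ).obj (𝟙_ (DRing.Cx A)))

/-- The action `res X ⊗ P ⟶ res X`. -/
noncomputable def κ (X : DRing.Cx A) : (DTen.resCx φ).obj X ⊗ P ⟶ (DTen.resCx φ).obj X :=
  (DTen.resCx φ).obj X ◁ p ≫ DTen.resTenCx φ X (𝟙_ (DRing.Cx A)) ≫ (DTen.resCx φ).map (ρ_ X).hom

theorem κ_naturality {X Y : DRing.Cx A} (f : X ⟶ Y) :
    (DTen.resCx φ).map f ▷ P ≫ κ φ p Y = κ φ p X ≫ (DTen.resCx φ).map f := by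
  have e := DTen.resTenCx_naturality φ f (𝟙 (𝟙_ (DRing.Cx A)))
  rw [CategoryTheory.Functor.map_id, tensorHom_id, tensorHom_id] at e
  rw [κ, κ, ← Category.assoc, ← whisker_exchange, Category.assoc, reassoc_of% e, ← Functor.map_comp,
    rightUnitor_naturality, Functor.map_comp, Category.assoc, Category.assoc]

theorem mapL_incl {K L M : DRing.Cx R} (f : K ⟶ L) (i j n : ℤ) (h : i + j = n) (a : K.X i) (b : M.X j) :
    (f ▷ M).f n (incl K M i j n h (a ⊗ₜ b)) = incl L M i j n h (f.f i a ⊗ₜ b) := by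
  have e : ιTensorObj K M i j n h ≫ (f ▷ M).f n =
      ((curriedTensor (ModuleCat.{u} R)).map (f.f i)).app (M.X j) ≫ ιTensorObj L M i j n h := by
    change ιTensorObj K M i j n h ≫ (HomologicalComplex.mapBifunctorMap _ _ _ _).f n = _
    rw [ι_mapBifunctorMap, HomologicalComplex.id_f, CategoryTheory.Functor.map_id, Category.id_comp]
  exact ConcreteCategory.congr_hom e (a ⊗ₜ b)

theorem whiskerLeft_incl {S : Type u} [CommRing S] (L : DRing.Cx S) {M M' : DRing.Cx S} (f : M ⟶ M')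
    (i j n : ℤ) (h : i + j = n) (a : L.X i) (b : M.X j) :
    (L ◁ f).f n (incl L M i j n h (a ⊗ₜ b)) = incl L M' i j n h (a ⊗ₜ f.f j b) :=
  mapR_incl L f i j n h (a ⊗ₜ b)

theorem resTen_incl (Y Y' : DRing.Cx A) (i j n : ℤ) (h : i + j = n) (y : Y.X i) (y' : Y'.X j) :
    (DTen.resTenCx φ Y Y').f n (incl ((DTen.resCx φ).obj Y) ((DTen.resCx φ).obj Y') i j n h
        ((show ((DTen.resCx φ).obj Y).X i from y) ⊗ₜ (show ((DTen.resCx φ).obj Y').X j from y'))) =
      (show ((DTen.resCx φ).obj (Y ⊗ Y')).X n from incl Y Y' i j n h (y ⊗ₜ y')) :=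
  ConcreteCategory.congr_hom (DTen.ι_resTenCx φ Y Y' i j n h) _

theorem ζ_tmul (K : DRing.Cx R) (N : DRing.Cx A) (i j n : ℤ) (h : i + j = n) (k : K.X i)
    (x : ((DTen.resCx φ).obj N).X j) :
    (ProjCx.ζ φ K N).f n (incl K ((DTen.resCx φ).obj N) i j n h (k ⊗ₜ x)) =
      (show ((DTen.resCx φ).obj ((DTen.extCx φ).obj K ⊗ N)).X n from
        incl ((DTen.extCx φ).obj K) N i j n h (((DTen.unitCx φ).app K).f i k ⊗ₜ (show N.X j from x))) :=
  ProjCx.ζ_incl φ K N i j n h _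

theorem ρ_incl (E N : DRing.Cx A) (i j m q n r : ℤ) (hm : i + j = m) (hn : m + q = n) (hr : j + q = r)
    (hir : i + r = n) (e : E.X i) (v : N.X j) (u : (𝟙_ (DRing.Cx A)).X q) :
    (ρ_ (E ⊗ N)).hom.f n (incl (tens E N) (𝟙_ (DRing.Cx A)) m q n hn (incl E N i j m hm (e ⊗ₜ v) ⊗ₜ u)) =
      incl E N i r n hir (e ⊗ₜ (ρ_ N).hom.f r (incl N (𝟙_ (DRing.Cx A)) j q r hr (v ⊗ₜ u))) := by
  have h : (ρ_ (E ⊗ N)).hom.f n = ((α_ E N (𝟙_ (DRing.Cx A))).hom ≫ E ◁ (ρ_ N).hom).f n :=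
    congrArg (fun f => HomologicalComplex.Hom.f f n) (rightUnitor_tensor_hom E N)
  refine (ConcreteCategory.congr_hom h _).trans ?_
  refine (congrArg (fun t => (E ◁ (ρ_ N).hom).f n t)
    (HomCxFinite.α_incl E N (𝟙_ (DRing.Cx A)) i j m q n r hm hn hr hir e v u)).trans ?_
  exact whiskerLeft_incl E (ρ_ N).hom i r n hir e _

theorem κ_incl (X : DRing.Cx A) (j q r : ℤ) (hr : j + q = r) (v : X.X j) (x : P.X q) :
    (κ φ p X).f r (incl ((DTen.resCx φ).obj X) P j q r hr ((show ((DTen.resCx φ).obj X).X j from v) ⊗ₜ x)) =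
      (show ((DTen.resCx φ).obj X).X r from
        (ρ_ X).hom.f r (incl X (𝟙_ (DRing.Cx A)) j q r hr (v ⊗ₜ (show (𝟙_ (DRing.Cx A)).X q from p.f q x)))) := by
  show ((DTen.resCx φ).map (ρ_ X).hom).f r ((DTen.resTenCx φ X (𝟙_ (DRing.Cx A))).f r
    (((DTen.resCx φ).obj X ◁ p).f r _)) = _
  refine (congrArg (fun t => ((DTen.resCx φ).map (ρ_ X).hom).f r ((DTen.resTenCx φ X (𝟙_ (DRing.Cx A))).f r t))
    (whiskerLeft_incl ((DTen.resCx φ).obj X) p j q r hr _ x)).trans ?_
  exact congrArg (fun t => ((DTen.resCx φ).map (ρ_ X).hom).f r t) (resTen_incl φ X (𝟙_ (DRing.Cx A)) j q r hr v _)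

/-- The action on `res (ext K ⊗ N)` comes from the action on `res N`. -/
theorem ζ_κ (K : DRing.Cx R) (N : DRing.Cx A) :
    ProjCx.ζ φ K N ▷ P ≫ κ φ p ((DTen.extCx φ).obj K ⊗ N) =
      (α_ K ((DTen.resCx φ).obj N) P).hom ≫ K ◁ κ φ p N ≫ ProjCx.ζ φ K N := by
  refine HomologicalComplex.hom_ext _ _ fun n => ModuleCat.hom_ext ?_
  refine Groth.Agent.Lib.TensorCx.Basic.hom_ext' fun m q hq => TensorProduct.ext' fun z x => ?_
  induction z using Groth.Agent.Lib.TensorCx.Basic.induction with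
  | zero => simp only [LinearMap.comp_apply, TensorProduct.zero_tmul, map_zero]
  | add a b ha hb =>
    simp only [LinearMap.comp_apply, TensorProduct.add_tmul, map_add] at ha hb ⊢
    rw [ha, hb]
  | inc i j hij y =>
    induction y using TensorProduct.induction_on with
    | zero => simp only [LinearMap.comp_apply, map_zero, TensorProduct.zero_tmul]
    | add a b ha hb =>
      simp only [LinearMap.comp_apply, map_add, TensorProduct.add_tmul] at ha hb ⊢
      rw [ha, hb]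
    | tmul k v =>
      show (κ φ p _).f n ((ProjCx.ζ φ K N ▷ P).f n (incl (tens K ((DTen.resCx φ).obj N)) P m q n hq
          (incl K ((DTen.resCx φ).obj N) i j m hij (k ⊗ₜ v) ⊗ₜ x))) =
        (ProjCx.ζ φ K N).f n ((K ◁ κ φ p N).f n ((α_ K ((DTen.resCx φ).obj N) P).hom.f n
          (incl (tens K ((DTen.resCx φ).obj N)) P m q n hq (incl K ((DTen.resCx φ).obj N) i j m hij (k ⊗ₜ v) ⊗ₜ x))))
      refine (congrArg (fun t => (κ φ p _).f n t)
        ((mapL_incl (ProjCx.ζ φ K N) m q n hq _ x).trans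
          (congrArg (fun t => incl _ P m q n hq (t ⊗ₜ x)) (ζ_tmul φ K N i j m hij k v)))).trans ?_
      refine (κ_incl φ p _ m q n hq (incl ((DTen.extCx φ).obj K) N i j m hij _) x).trans ?_
      refine (ρ_incl ((DTen.extCx φ).obj K) N i j m q n (j + q) hij hq rfl (by lia) _ (show N.X j from v) _).trans ?_
      refine Eq.trans ?_ (congrArg (fun t => (ProjCx.ζ φ K N).f n ((K ◁ κ φ p N).f n t))
        (HomCxFinite.α_incl K ((DTen.resCx φ).obj N) P i j m q n (j + q) hij hq rfl (by lia) k v x)).symm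
      refine Eq.trans ?_ (congrArg (fun t => (ProjCx.ζ φ K N).f n t)
        (whiskerLeft_incl K (κ φ p N) i (j + q) n (by lia) k _)).symm
      refine Eq.trans ?_ (ζ_tmul φ K N i (j + q) n (by lia) k _).symm
      exact congrArg (fun t => incl ((DTen.extCx φ).obj K) N i (j + q) n _
        (((DTen.unitCx φ).app K).f i k ⊗ₜ t)) (κ_incl φ p N j q (j + q) rfl (show N.X j from v) x).symm

/-- Restriction detects isomorphisms. -/
theorem isIso_of_isIso_restrictD {M N : Dual.D A} (f : M ⟶ N) (hf : IsIso ((DRing.restrictD φ).map f)) :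
    IsIso f := by
  obtain ⟨X, hX, ⟨e⟩⟩ := DTenBasic.exists_rep M
  let Y := DerivedCategory.Q.objPreimage N
  let e' : DerivedCategory.Q.obj Y ≅ N := DerivedCategory.Q.objObjPreimageIso N
  obtain ⟨h, hh⟩ := Basic.exists_Q_map_eq (e.hom ≫ f ≫ e'.inv)
  have h1 : IsIso ((DRing.restrictD φ).map (DerivedCategory.Q.map h)) := by
    rw [hh, Functor.map_comp, Functor.map_comp]
    infer_instance
  have h2 : IsIso (DerivedCategory.Q.map ((DTen.resCx φ).map h)) :=
    (NatIso.isIso_map_iff (DTen.resFactors φ) h).1 h1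
  have h2' : QuasiIso ((DTen.resCx φ).map h) := (DerivedCategory.isIso_Q_map_iff_quasiIso _ _).1 h2
  have : (ModuleCat.restrictScalars.{u} φ).ReflectsIsomorphisms := inferInstance
  have h3 : IsIso (DerivedCategory.Q.map h) := DTenBasic.isIso_Q_map h
    ((HomologicalComplex.quasiIso_map_iff_of_preservesHomology h (ModuleCat.restrictScalars.{u} φ)).1 h2')
  have h4 : f = e.inv ≫ DerivedCategory.Q.map h ≫ e'.hom := by
    rw [hh]
    simp
  rw [h4]
  infer_instance

/-- `QS ⟶ res (Q (ext S))`. -/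
noncomputable def γ (S : DRing.Cx R) :
    DerivedCategory.Q.obj S ⟶ (DRing.restrictD φ).obj (DerivedCategory.Q.obj ((DTen.extCx φ).obj S)) :=
  DerivedCategory.Q.map ((DTen.unitCx φ).app S) ≫ (DTen.resFactors φ).inv.app ((DTen.extCx φ).obj S)

theorem γ_map (S : DRing.Cx R) {Y : DRing.Cx A} (h : (DTen.extCx φ).obj S ⟶ Y) :
    γ φ S ≫ (DRing.restrictD φ).map (DerivedCategory.Q.map h) =
      DerivedCategory.Q.map ((DTen.unitCx φ).app S ≫ (DTen.resCx φ).map h) ≫ (DTen.resFactors φ).inv.app Y := by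
  have hn := (DTen.resFactors φ).inv.naturality h
  dsimp at hn
  rw [Functor.map_comp, γ, Category.assoc, Category.assoc]
  exact congrArg (_ ≫ ·) hn.symm

/-- Base change of K-projective complexes is left adjoint to restriction. -/
theorem bijective_γ (S : DRing.Cx R) [S.IsKProjective] (M : Dual.D A) :
    Function.Bijective (fun g : DerivedCategory.Q.obj ((DTen.extCx φ).obj S) ⟶ M =>
      γ φ S ≫ (DRing.restrictD φ).map g) := by
  have := BaseChangeU.isKProjective_ext φ S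
  have : CochainComplex.IsKProjective ((DTen.extCx φ).obj S) := this
  let adj := Derived.cxAdj (ModuleCat.extendRestrictScalarsAdj.{u} φ)
  let Y := DerivedCategory.Q.objPreimage M
  let eY : DerivedCategory.Q.obj Y ≅ M := DerivedCategory.Q.objObjPreimageIso M
  have hcalc : ∀ h : (DTen.extCx φ).obj S ⟶ Y,
      γ φ S ≫ (DRing.restrictD φ).map (DerivedCategory.Q.map h ≫ eY.hom) =
        DerivedCategory.Q.map (adj.homEquiv _ _ h) ≫ (DTen.resFactors φ).inv.app Y ≫
          (DRing.restrictD φ).map eY.hom := fun h => by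
    rw [Functor.map_comp, reassoc_of% (γ_map φ S h), adj.homEquiv_unit, DTenRing.unitCx_eq φ S]
    try rfl
  constructor
  · intro g g' hg
    obtain ⟨h, hh⟩ := Basic.exists_Q_map_eq (g ≫ eY.inv)
    obtain ⟨h', hh'⟩ := Basic.exists_Q_map_eq (g' ≫ eY.inv)
    have e1 : g = DerivedCategory.Q.map h ≫ eY.hom := by rw [hh, Category.assoc, Iso.inv_hom_id, Category.comp_id]
    have e2 : g' = DerivedCategory.Q.map h' ≫ eY.hom := by rw [hh', Category.assoc, Iso.inv_hom_id, Category.comp_id]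
    simp only [e1, e2, hcalc, cancel_mono] at hg
    obtain ⟨H⟩ := Basic.nonempty_homotopy_of_Q_map_eq hg
    rw [e1, e2]
    refine congrArg (· ≫ eY.hom) (DerivedCategory.Q_map_eq_of_homotopy _
      (((Homotopy.ofEq ?_).trans (((ModuleCat.extendScalars.{u, u, u} φ).mapHomotopy H).compRight
        (adj.counit.app Y))).trans (Homotopy.ofEq ?_)))
    · exact ((adj.homEquiv _ _).symm_apply_apply h).symm.trans (adj.homEquiv_counit _ _ _)
    · exact ((adj.homEquiv_counit _ _ _).symm.trans ((adj.homEquiv _ _).symm_apply_apply h'))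
  · intro g
    obtain ⟨h₀, hh₀⟩ := Basic.exists_Q_map_eq
      (g ≫ (DRing.restrictD φ).map eY.inv ≫ (DTen.resFactors φ).hom.app Y)
    refine ⟨DerivedCategory.Q.map ((adj.homEquiv _ _).symm h₀) ≫ eY.hom, ?_⟩
    dsimp only
    rw [hcalc, Equiv.apply_symm_apply, hh₀]
    simp only [Category.assoc, Iso.hom_inv_id_app_assoc]
    rw [← Functor.map_comp, Iso.inv_hom_id, CategoryTheory.Functor.map_id]
    exact Category.comp_id g

/-- The adjunct of `κ ≫ w`. -/
noncomputable def Ψ {X : DRing.Cx A} {Y : DRing.Cx R} (w : (DTen.resCx φ).obj X ⟶ Y) :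
    (DTen.resCx φ).obj X ⟶ DRing.homCx P Y :=
  HomCx.homEquiv (κ φ p X ≫ w)

/-- `S ⊗ P ⟶ res (ext S)`. -/
noncomputable def κS (S : DRing.Cx R) : S ⊗ P ⟶ (DTen.resCx φ).obj ((DTen.extCx φ).obj S) :=
  (DTen.unitCx φ).app S ▷ P ≫ κ φ p ((DTen.extCx φ).obj S)

theorem quasiIso_κS [QuasiIso p] (S : DRing.Cx R) [S.IsKProjective] : QuasiIso (κS φ p S) := by
  have e : κS φ p S = S ◁ p ≫ ProjCx.ζ φ S (𝟙_ (DRing.Cx A)) ≫
      (DTen.resCx φ).map (ρ_ ((DTen.extCx φ).obj S)).hom := by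
    rw [κS, κ, ← Category.assoc ((DTen.unitCx φ).app S ▷ P),
      show (DTen.unitCx φ).app S ▷ P ≫ (DTen.resCx φ).obj ((DTen.extCx φ).obj S) ◁ p =
        S ◁ p ≫ (DTen.unitCx φ).app S ▷ (DTen.resCx φ).obj (𝟙_ (DRing.Cx A)) from
        (whisker_exchange ((DTen.unitCx φ).app S) p).symm, Category.assoc, ProjCx.ζ]
    simp only [Category.assoc]
  rw [e]
  have := ProjCx.isIso_ζ φ S (𝟙_ (DRing.Cx A))
  have : QuasiIso (S ◁ p) := LTensorCx.quasiIso_tensor_left (KFlat.isKFlat_of_isKProjective S) p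
  infer_instance

theorem bijective_Q_homEquiv [P.IsKProjective] (S : DRing.Cx R) [S.IsKProjective] (Y : DRing.Cx R) :
    ∃ Θ : (DerivedCategory.Q.obj S ⟶ DerivedCategory.Q.obj (DRing.homCx P Y)) →
        (DerivedCategory.Q.obj (S ⊗ P) ⟶ DerivedCategory.Q.obj Y),
      Function.Bijective Θ ∧ ∀ h : S ⟶ DRing.homCx P Y,
        Θ (DerivedCategory.Q.map h) = DerivedCategory.Q.map (HomCx.homEquiv.symm h) := by
  have hSP := RHom.isKProjective_tensor S P
  let Θ : (DerivedCategory.Q.obj S ⟶ DerivedCategory.Q.obj (DRing.homCx P Y)) →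
      (DerivedCategory.Q.obj (S ⊗ P) ⟶ DerivedCategory.Q.obj Y) := fun x =>
    DerivedCategory.Q.map (HomCx.homEquiv.symm (Basic.exists_Q_map_eq x).choose)
  have hΘ : ∀ h : S ⟶ DRing.homCx P Y,
      Θ (DerivedCategory.Q.map h) = DerivedCategory.Q.map (HomCx.homEquiv.symm h) := fun h => by
    obtain ⟨H⟩ := Basic.nonempty_homotopy_of_Q_map_eq (Basic.exists_Q_map_eq (DerivedCategory.Q.map h)).choose_spec
    obtain ⟨H'⟩ := (HomCx.homotopy_iff (HomCx.homEquiv.symm _) (HomCx.homEquiv.symm h)).1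
      ⟨(Homotopy.ofEq (Equiv.apply_symm_apply _ _)).trans (H.trans (Homotopy.ofEq (Equiv.apply_symm_apply _ _).symm))⟩
    exact DerivedCategory.Q_map_eq_of_homotopy _ H'
  refine ⟨Θ, ⟨fun x x' hx => ?_, fun y => ?_⟩, hΘ⟩
  · obtain ⟨h, rfl⟩ := Basic.exists_Q_map_eq x
    obtain ⟨h', rfl⟩ := Basic.exists_Q_map_eq x'
    rw [hΘ, hΘ] at hx
    obtain ⟨H⟩ := Basic.nonempty_homotopy_of_Q_map_eq hx
    obtain ⟨H'⟩ := (HomCx.homotopy_iff _ _).2 ⟨H⟩
    rw [Equiv.apply_symm_apply, Equiv.apply_symm_apply] at H'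
    exact DerivedCategory.Q_map_eq_of_homotopy _ H'
  · obtain ⟨f, rfl⟩ := Basic.exists_Q_map_eq y
    exact ⟨DerivedCategory.Q.map (HomCx.homEquiv f), by rw [hΘ, Equiv.symm_apply_apply]⟩

theorem isIso_of_bijective {M N : Dual.D R} (f : M ⟶ N)
    (h : ∀ S : DRing.Cx R, S.IsKProjective →
      Function.Bijective (fun x : DerivedCategory.Q.obj S ⟶ M => x ≫ f)) : IsIso f := by
  refine isIso_of_yoneda_map_bijective _ fun T => ?_
  obtain ⟨S, hS, ⟨e⟩⟩ := DTenBasic.exists_rep T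
  convert (e.homFromEquiv.bijective.comp (h S hS)).comp e.symm.homFromEquiv.bijective using 1
  ext x
  simp

variable [DTen.HasRHomRel φ]

/-- The adjunct `QX ⟶ RHom(A, QY)` of a map `res X ⟶ Y`. -/
noncomputable def adjunct {X : DRing.Cx A} {Y : DRing.Cx R} (w : (DTen.resCx φ).obj X ⟶ Y) :
    DerivedCategory.Q.obj X ⟶ (DTen.RHomRel φ).obj (DerivedCategory.Q.obj Y) :=
  (DTen.relAdj φ).homEquiv _ _ ((DTen.resFactors φ).hom.app X ≫ DerivedCategory.Q.map w)

/-- The criterion for the adjunct to be an isomorphism. -/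
theorem isIso_adjunct_iff [QuasiIso p] [P.IsKProjective] {X : DRing.Cx A} {Y : DRing.Cx R}
    (w : (DTen.resCx φ).obj X ⟶ Y) :
    IsIso (adjunct φ w) ↔ IsIso (DerivedCategory.Q.map (Ψ φ p w)) := by
  let G := DTen.RHomRel φ
  let r : DerivedCategory.Q.obj ((DTen.resCx φ).obj X) ⟶ (DRing.restrictD φ).obj (G.obj (DerivedCategory.Q.obj Y)) :=
    (DTen.resFactors φ).inv.app X ≫ (DRing.restrictD φ).map (adjunct φ w)
  have key : ∀ S : DRing.Cx R, S.IsKProjective →
      (Function.Bijective (fun x : DerivedCategory.Q.obj S ⟶ _ => x ≫ r) ↔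
        Function.Bijective (fun x : DerivedCategory.Q.obj S ⟶ _ => x ≫ DerivedCategory.Q.map (Ψ φ p w))) := by
    intro S hS
    obtain ⟨Θ, hΘ, hΘ'⟩ := bijective_Q_homEquiv (P := P) S Y
    have := DTenBasic.isIso_Q_map (κS φ p S) (quasiIso_κS φ p S)
    let β := Equiv.ofBijective _ (bijective_γ φ S (G.obj (DerivedCategory.Q.obj Y)))
    let i : DerivedCategory.Q.obj (S ⊗ P) ≅ (DRing.restrictD φ).obj (DerivedCategory.Q.obj ((DTen.extCx φ).obj S)) :=
      asIso (DerivedCategory.Q.map (κS φ p S)) ≪≫ ((DTen.resFactors φ).app ((DTen.extCx φ).obj S)).symm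
    let B : (DerivedCategory.Q.obj S ⟶ (DRing.restrictD φ).obj (G.obj (DerivedCategory.Q.obj Y))) →
        (DerivedCategory.Q.obj (S ⊗ P) ⟶ DerivedCategory.Q.obj Y) := fun y =>
      i.hom ≫ ((DTen.relAdj φ).homEquiv _ _).symm (β.symm y)
    have hB : Function.Bijective B :=
      (Iso.homFromEquiv (Z := DerivedCategory.Q.obj Y) i.symm).bijective.comp
        (((DTen.relAdj φ).homEquiv _ _).symm.bijective.comp β.symm.bijective)
    have heq : B ∘ (fun x : DerivedCategory.Q.obj S ⟶ _ => x ≫ r) =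
        Θ ∘ (fun x : DerivedCategory.Q.obj S ⟶ _ => x ≫ DerivedCategory.Q.map (Ψ φ p w)) := by
      funext x
      obtain ⟨g, rfl⟩ := Basic.exists_Q_map_eq x
      let adj := Derived.cxAdj (ModuleCat.extendRestrictScalarsAdj.{u} φ)
      let ĝ := (adj.homEquiv _ _).symm g
      have hg : (DTen.unitCx φ).app S ≫ (DTen.resCx φ).map ĝ = g := by
        rw [DTenRing.unitCx_eq φ S]
        exact (adj.homEquiv_unit _ _ _).symm.trans ((adj.homEquiv _ _).apply_symm_apply g)
      have hβ : β.symm (DerivedCategory.Q.map g ≫ r) = DerivedCategory.Q.map ĝ ≫ adjunct φ w := by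
        rw [Equiv.symm_apply_eq]
        show _ = γ φ S ≫ (DRing.restrictD φ).map (_ ≫ _)
        rw [Functor.map_comp, reassoc_of% (γ_map φ S ĝ), hg]
        try rfl
      show i.hom ≫ ((DTen.relAdj φ).homEquiv _ _).symm (β.symm (DerivedCategory.Q.map g ≫ r)) =
        Θ (DerivedCategory.Q.map g ≫ DerivedCategory.Q.map (Ψ φ p w))
      rw [hβ, ← Functor.map_comp, hΘ', Ψ, ← HomCx.homEquiv_naturality_left, Equiv.symm_apply_apply,
        Adjunction.homEquiv_naturality_left_symm, adjunct, Equiv.symm_apply_apply]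
      have hn := (DTen.resFactors φ).hom.naturality ĝ
      dsimp at hn
      simp only [i, Iso.trans_hom, asIso_hom, Iso.symm_hom, Iso.app_inv, Category.assoc]
      rw [reassoc_of% hn, Iso.inv_hom_id_app_assoc, ← Functor.map_comp, ← Functor.map_comp]
      refine congrArg _ ?_
      rw [κS, Category.assoc, ← reassoc_of% (κ_naturality φ p ĝ), ← comp_whiskerRight_assoc, hg]
    exact ⟨fun h => (Function.Bijective.of_comp_iff' hΘ _).1 (heq ▸ hB.comp h),
      fun h => (Function.Bijective.of_comp_iff' hB _).1 (heq.symm ▸ hΘ.comp h)⟩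
  constructor
  · intro h
    have hr : IsIso r := IsIso.comp_isIso' inferInstance inferInstance
    exact isIso_of_bijective _ fun S hS => (key S hS).1 (asIso r).homToEquiv.bijective
  · intro h
    have hr : IsIso r := isIso_of_bijective _ fun S hS =>
      (key S hS).2 (asIso (DerivedCategory.Q.map (Ψ φ p w))).homToEquiv.bijective
    exact isIso_of_isIso_restrictD φ _ (IsIso.of_isIso_comp_left ((DTen.resFactors φ).inv.app X) _)

/-- The mixed projection formula. -/
noncomputable def wMix (K : DRing.Cx R) (N : DRing.Cx A) {J : DRing.Cx R} (χ : (DTen.resCx φ).obj N ⟶ J) :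
    (DTen.resCx φ).obj ((DTen.extCx φ).obj K ⊗ N) ⟶ K ⊗ J :=
  have := ProjCx.isIso_ζ φ K N
  inv (ProjCx.ζ φ K N) ≫ K ◁ χ

omit [DTen.HasRHomRel φ] in
theorem wMix_naturality {K K' : DRing.Cx R} (f : K ⟶ K') (N : DRing.Cx A) {J : DRing.Cx R}
    (χ : (DTen.resCx φ).obj N ⟶ J) :
    (DTen.resCx φ).map ((DTen.extCx φ).map f ▷ N) ≫ wMix φ K' N χ = wMix φ K N χ ≫ f ▷ J := by
  have := ProjCx.isIso_ζ φ K N
  have := ProjCx.isIso_ζ φ K' N
  rw [← cancel_epi (ProjCx.ζ φ K N), ← Category.assoc, ← ProjCx.ζ_naturality]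
  simp only [wMix, Category.assoc, IsIso.hom_inv_id_assoc]
  exact (whisker_exchange _ _).symm

omit [DTen.HasRHomRel φ] in
theorem ζ_Ψ (K : DRing.Cx R) (N : DRing.Cx A) {J : DRing.Cx R} (χ : (DTen.resCx φ).obj N ⟶ J) :
    ProjCx.ζ φ K N ≫ Ψ φ p (wMix φ K N χ) = K ◁ Ψ φ p χ ≫ HomCxFinite.evalTenCx K P J := by
  have := ProjCx.isIso_ζ φ K N
  have h1 : Ψ φ p χ ▷ P ≫ HomCxFinite.ev P J = κ φ p N ≫ χ := by
    apply HomCx.homEquiv.injective
    rw [HomCx.homEquiv_naturality_left, show HomCx.homEquiv (HomCxFinite.ev P J) = 𝟙 _ from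
      HomCx.homEquiv.apply_symm_apply _, Category.comp_id]
    rfl
  rw [Ψ, HomCxFinite.evalTenCx, ← HomCx.homEquiv_naturality_left, ← HomCx.homEquiv_naturality_left]
  refine congrArg _ ?_
  rw [← Category.assoc, ζ_κ]
  simp only [wMix, Category.assoc, IsIso.hom_inv_id_assoc]
  rw [associator_naturality_middle_assoc, ← MonoidalCategory.whiskerLeft_comp, ← MonoidalCategory.whiskerLeft_comp, h1]

/-- The adjunct of `K ⊗ χ` is an isomorphism as soon as the one of `χ` is. -/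
theorem isIso_adjunct_wMix [QuasiIso p] [P.IsKProjective] (S : Finset ℤ) (hS : ∀ i, i ∉ S → IsZero (P.X i))
    (hP : ∀ i, Module.Finite R (P.X i) ∧ Module.Projective R (P.X i))
    (K : DRing.Cx R) (hK : DRing.IsKFlat R K) (N : DRing.Cx A) {J : DRing.Cx R}
    (χ : (DTen.resCx φ).obj N ⟶ J) (hχ : IsIso (adjunct φ χ)) : IsIso (adjunct φ (wMix φ K N χ)) := by
  rw [isIso_adjunct_iff φ p] at hχ ⊢
  have := ProjCx.isIso_ζ φ K N
  have := HomCxFinite.isIso_evalTenCx_of_right K P J S hS hP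
  have : QuasiIso (K ◁ Ψ φ p χ) :=
    @LTensorCx.quasiIso_tensor_left _ _ _ hK _ _ _ ((DerivedCategory.isIso_Q_map_iff_quasiIso _ _).1 hχ)
  have h := ζ_Ψ φ p K N χ
  have : QuasiIso (ProjCx.ζ φ K N ≫ Ψ φ p (wMix φ K N χ)) := by
    rw [h]
    infer_instance
  exact DTenBasic.isIso_Q_map _ (quasiIso_of_comp_left (ProjCx.ζ φ K N) _)

omit [DTen.HasRHomRel φ] in
/-- A finite projective resolution of `A` over `R`. -/
theorem exists_perfect_unit (hA : DRing.IsPerfect R ((DRing.restrictD φ).obj (DTen.unit A))) :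
    ∃ (P : DRing.Cx R) (p : P ⟶ (DTen.resCx φ).obj (𝟙_ (DRing.Cx A))) (S : Finset ℤ),
      QuasiIso p ∧ P.IsKProjective ∧ (∀ i, i ∉ S → IsZero (P.X i)) ∧
        ∀ i, Module.Finite R (P.X i) ∧ Module.Projective R (P.X i) := by
  obtain ⟨a, b, P, hP, hP', ⟨e⟩⟩ := (Perfect.pf_iff _).1 hA
  have hK : P.IsKProjective :=
    FiniteComplex.isKProjective_of_bounds PseudoCoherent.projective_of_fproj (b := b)
      (fun i hi => hP i (Or.inr hi)) hP'
  let e' := e ≪≫ (DTen.resFactors φ).app (𝟙_ (DRing.Cx A))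
  obtain ⟨p, hp⟩ := Basic.exists_Q_map_eq e'.hom
  refine ⟨P, p, Finset.Icc a b, ?_, hK, fun i hi => hP i ?_, hP'⟩
  · rw [← DerivedCategory.isIso_Q_map_iff_quasiIso, hp]
    infer_instance
  · rw [Finset.mem_Icc] at hi
    omega

section Tau

variable [DTen.HasLTenMix φ] {N : DRing.Cx A} {J : DRing.Cx R} (η : 𝟙_ (DRing.Cx R) ⟶ J) [QuasiIso η]
  (χ : (DTen.resCx φ).obj N ⟶ J) {M : Dual.D A} (eN : DerivedCategory.Q.obj N ≅ M)

omit [DTen.HasRHomRel φ] [DTen.HasLTenMix φ] in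
theorem isIso_Q_whiskerLeft_η (K : DRing.Cx R) :
    IsIso (DerivedCategory.Q.map ((KProjRes.res R).obj K ◁ η)) :=
  DTenBasic.isIso_Q_map _ (LTensorCx.quasiIso_tensor_left (KFlat.isKFlat_res K) η)

/-- `Q (res K ⊗ J) ⟶ QK`. -/
noncomputable def ιJ (K : DRing.Cx R) :
    DerivedCategory.Q.obj ((KProjRes.res R).obj K ⊗ J) ⟶ DerivedCategory.Q.obj K :=
  have := isIso_Q_whiskerLeft_η η K
  inv (DerivedCategory.Q.map ((KProjRes.res R).obj K ◁ η)) ≫
    DerivedCategory.Q.map ((ρ_ ((KProjRes.res R).obj K)).hom ≫ (KProjRes.aug R).app K)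

omit [DTen.HasRHomRel φ] [DTen.HasLTenMix φ] in
theorem isIso_ιJ (K : DRing.Cx R) : IsIso (ιJ η K) := by
  have := DTenBasic.isIso_Q_map _ (KProjRes.quasiIso_aug R K)
  unfold ιJ
  rw [Functor.map_comp]
  exact IsIso.comp_isIso' inferInstance (IsIso.comp_isIso' inferInstance this)

omit [DTen.HasRHomRel φ] [DTen.HasLTenMix φ] in
theorem ιJ_naturality {K K' : DRing.Cx R} (f : K ⟶ K') :
    DerivedCategory.Q.map ((KProjRes.res R).map f ▷ J) ≫ ιJ η K' = ιJ η K ≫ DerivedCategory.Q.map f := by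
  have := isIso_Q_whiskerLeft_η η K
  have := isIso_Q_whiskerLeft_η η K'
  rw [← cancel_epi (DerivedCategory.Q.map ((KProjRes.res R).obj K ◁ η))]
  simp only [ιJ, Category.assoc, IsIso.hom_inv_id_assoc]
  rw [← Functor.map_comp_assoc, whisker_exchange, Functor.map_comp, Category.assoc, IsIso.hom_inv_id_assoc,
    ← Functor.map_comp, ← Functor.map_comp, ← Category.assoc, rightUnitor_naturality, Category.assoc, Category.assoc]
  exact congrArg (fun t => DerivedCategory.Q.map (_ ≫ t)) ((KProjRes.aug R).naturality f)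

/-- The comparison on complexes. -/
noncomputable def τApp (K : DRing.Cx R) :
    ((Functor.curry.obj (DTen.LTenMix φ)).flip.obj M).obj (DerivedCategory.Q.obj K) ⟶
      (DTen.RHomRel φ).obj (DerivedCategory.Q.obj K) :=
  have := DTenBasic.isIso_Q_map _ (KProjRes.quasiIso_aug R K)
  (DTen.LTenMix φ).map (Prod.mkHom (inv (DerivedCategory.Q.map ((KProjRes.aug R).app K))) eN.inv) ≫
    (DTen.εMix φ).app ((KProjRes.res R).obj K, N) ≫ adjunct φ (wMix φ ((KProjRes.res R).obj K) N χ) ≫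
    (DTen.RHomRel φ).map (ιJ η K)

omit [QuasiIso η] [DTen.HasLTenMix φ] in
theorem adjunct_naturality {X X' : DRing.Cx A} {Y Y' : DRing.Cx R} (f : X ⟶ X') (g : Y ⟶ Y')
    (w : (DTen.resCx φ).obj X ⟶ Y) (w' : (DTen.resCx φ).obj X' ⟶ Y')
    (h : (DTen.resCx φ).map f ≫ w' = w ≫ g) :
    DerivedCategory.Q.map f ≫ adjunct φ w' = adjunct φ w ≫ (DTen.RHomRel φ).map (DerivedCategory.Q.map g) := by
  rw [adjunct, adjunct, ← Adjunction.homEquiv_naturality_left, ← Adjunction.homEquiv_naturality_right]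
  refine congrArg _ ?_
  have hn := (DTen.resFactors φ).hom.naturality f
  dsimp at hn
  rw [reassoc_of% hn, Category.assoc, ← Functor.map_comp, ← Functor.map_comp, h]

/-- The comparison as a natural transformation on complexes. -/
noncomputable def τ₀ :
    DerivedCategory.Q ⋙ (Functor.curry.obj (DTen.LTenMix φ)).flip.obj M ⟶ DerivedCategory.Q ⋙ DTen.RHomRel φ where
  app K := τApp φ η χ eN K
  naturality K K' f := by
    have := DTenBasic.isIso_Q_map _ (KProjRes.quasiIso_aug R K)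
    have := DTenBasic.isIso_Q_map _ (KProjRes.quasiIso_aug R K')
    let rf := (KProjRes.res R).map f
    have h1 : DerivedCategory.Q.map f ≫ inv (DerivedCategory.Q.map ((KProjRes.aug R).app K')) =
        inv (DerivedCategory.Q.map ((KProjRes.aug R).app K)) ≫ DerivedCategory.Q.map rf := by
      rw [IsIso.comp_inv_eq, Category.assoc, IsIso.eq_inv_comp, ← Functor.map_comp, ← Functor.map_comp]
      exact congrArg _ ((KProjRes.aug R).naturality f).symm
    have h2 : (DTen.LTenMix φ).map (Prod.mkHom (DerivedCategory.Q.map rf) (𝟙 (DerivedCategory.Q.obj N))) ≫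
        (DTen.εMix φ).app ((KProjRes.res R).obj K', N) =
        (DTen.εMix φ).app ((KProjRes.res R).obj K, N) ≫ DerivedCategory.Q.map ((DTen.extCx φ).map rf ▷ N) := by
      have e := (DTen.εMix φ).naturality (Prod.mkHom rf (𝟙 N))
      dsimp at e
      simpa using e
    have h3 := adjunct_naturality φ ((DTen.extCx φ).map rf ▷ N) (rf ▷ J) _ _ (wMix_naturality φ rf N χ)
    show (DTen.LTenMix φ).map (Prod.mkHom (DerivedCategory.Q.map f) (𝟙 M)) ≫ τApp φ η χ eN K' =
      τApp φ η χ eN K ≫ (DTen.RHomRel φ).map (DerivedCategory.Q.map f)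
    simp only [τApp, Category.assoc]
    rw [← Functor.map_comp, ← ιJ_naturality, Functor.map_comp, ← reassoc_of% h3, ← reassoc_of% h2,
      ← Functor.map_comp_assoc, ← Functor.map_comp_assoc]
    simp only [prod_comp, Prod.mkHom, h1, Category.id_comp, Category.comp_id]
    try rfl

theorem isIso_τApp {P : DRing.Cx R} (p : P ⟶ (DTen.resCx φ).obj (𝟙_ (DRing.Cx A))) [QuasiIso p] [P.IsKProjective]
    (S : Finset ℤ) (hS : ∀ i, i ∉ S → IsZero (P.X i))
    (hP : ∀ i, Module.Finite R (P.X i) ∧ Module.Projective R (P.X i)) (hN : DRing.IsKFlat A N)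
    (hχ : IsIso (adjunct φ χ)) (K : DRing.Cx R) : IsIso (τApp φ η χ eN K) := by
  have := DTenBasic.isIso_Q_map _ (KProjRes.quasiIso_aug R K)
  have h1 : IsIso ((DTen.LTenMix φ).map
      (Prod.mkHom (inv (DerivedCategory.Q.map ((KProjRes.aug R).app K))) eN.inv)) :=
    ((DTen.LTenMix φ).mapIso ((asIso (inv (DerivedCategory.Q.map ((KProjRes.aug R).app K)))).prod eN.symm)).isIso_hom
  have h2 := DTenRing.isIso_εMix φ (KFlat.isKFlat_res K) hN
  have h3 := isIso_adjunct_wMix φ p S hS hP _ (KFlat.isKFlat_res K) N χ hχ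
  have := isIso_ιJ η K
  exact IsIso.comp_isIso' h1 (IsIso.comp_isIso' h2 (IsIso.comp_isIso' h3 inferInstance))

end Tau

/-- `RHom(A, -)` is `- ⊗^L RHom(A, R)` for perfect `A`. -/
theorem nonempty_RHomRel_iso [DTen.HasLTenMix φ]
    (hA : DRing.IsPerfect R ((DRing.restrictD φ).obj (DTen.unit A))) :
    Nonempty (DTen.RHomRel φ ≅
      (Functor.curry.obj (DTen.LTenMix φ)).flip.obj ((DTen.RHomRel φ).obj (DTen.unit R))) := by
  let M := (DTen.RHomRel φ).obj (DTen.unit R)
  obtain ⟨P, p, S, hp, hPK, hS, hP⟩ := exists_perfect_unit φ hA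
  obtain ⟨N, hN, ⟨eN⟩⟩ := DTenBasic.exists_rep M
  obtain ⟨J, η, hJ, hη⟩ := Groth.Agent.Lib.DerCat.KInjExists.hasKInjRes (𝟙_ (DRing.Cx R))
  have := DTenBasic.isIso_Q_map η hη
  obtain ⟨χ, hχ⟩ := EvalHom.exists_Q_map_eq_injective
    ((DTen.resFactors φ).inv.app N ≫ ((DTen.relAdj φ).homEquiv _ _).symm
      (eN.hom ≫ (DTen.RHomRel φ).map (DerivedCategory.Q.map η)))
  have hχ' : adjunct φ χ = eN.hom ≫ (DTen.RHomRel φ).map (DerivedCategory.Q.map η) := by
    rw [adjunct, hχ, Iso.hom_inv_id_app_assoc, Equiv.apply_symm_apply]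
  have hχi : IsIso (adjunct φ χ) := by rw [hχ']; infer_instance
  let τ := Localization.liftNatTrans DerivedCategory.Q (DTen.qis R)
    (DerivedCategory.Q ⋙ (Functor.curry.obj (DTen.LTenMix φ)).flip.obj M)
    (DerivedCategory.Q ⋙ DTen.RHomRel φ)
    ((Functor.curry.obj (DTen.LTenMix φ)).flip.obj M) (DTen.RHomRel φ) (τ₀ φ η χ eN)
  have : ∀ X, IsIso (τ.app X) := fun X => by
    refine (NatTrans.isIso_app_iff_of_iso τ (DerivedCategory.Q.objObjPreimageIso X)).1 ?_
    have := isIso_τApp φ η χ eN p S hS hP (KFlat.isKFlat_of_isKProjective N) hχi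
      (DerivedCategory.Q.objPreimage X)
    rw [Localization.liftNatTrans_app]
    exact IsIso.comp_isIso' inferInstance (IsIso.comp_isIso' this inferInstance)
  have := NatIso.isIso_of_isIso_app τ
  exact ⟨(asIso τ).symm⟩

end Groth.Agent.Lib.DR.RelHom
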