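import Groth.Agent.Lib.DR.HomCxFinite
import Groth.Agent.Lib.DR.RelHom
import Mathlib.CategoryTheory.Monoidal.Rigid.Basic
import Mathlib.LinearAlgebra.Contraction

/-!
# Dualisable modules and complexes are finite projective
-/

universe u

open CategoryTheory CategoryTheory.Limits MonoidalCategory HomologicalComplex
open Groth.Agent.Lib.TensorCx.Basic
open scoped TensorProduct

set_option backward.isDefEq.respectTransparency false

namespace Groth.Agent.Lib.DR.PairingFinite

variable {R : Type u} [CommRing R]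

theorem finite_projective_of_id_mem {M : Type u} [AddCommGroup M] [Module R M]
    (h : LinearMap.id ∈ LinearMap.range (dualTensorHom R M M)) : Module.Finite R M ∧ Module.Projective R M := by
  classical
  obtain ⟨w, hw⟩ := h
  obtain ⟨S, hS⟩ := TensorProduct.exists_finset w
  have key : ∀ x, ∑ i ∈ S, i.1 x • i.2 = x := fun x => by
    have := LinearMap.congr_fun hw x
    rw [hS, map_sum, LinearMap.sum_apply] at this
    simpa using this
  let f : (S → R) →ₗ[R] M := Fintype.linearCombination R fun i : S => i.1.2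
  let g : M →ₗ[R] (S → R) := LinearMap.pi fun i : S => i.1.1
  have hfg : f ∘ₗ g = LinearMap.id := LinearMap.ext fun x => by
    show Fintype.linearCombination R (fun i : S => i.1.2) (fun i : S => i.1.1 x) = x
    rw [Fintype.linearCombination_apply, Finset.sum_coe_sort S (fun i => i.1 x • i.2)]
    exact key x
  exact ⟨Module.Finite.of_surjective f fun x => ⟨g x, LinearMap.congr_fun hfg x⟩,
    Module.Projective.of_split g f hfg⟩

theorem map_mem_range {M V : Type u} [AddCommGroup M] [Module R M] [AddCommGroup V] [Module R V]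
    (e : V ≃ₗ[R] R) (ψ : M →ₗ[R] V) (L : V →ₗ[R] M) :
    L ∘ₗ ψ ∈ LinearMap.range (dualTensorHom R M M) :=
  ⟨(e.toLinearMap ∘ₗ ψ) ⊗ₜ L (e.symm 1), LinearMap.ext fun x => by
    rw [dualTensorHom_apply, LinearMap.comp_apply, LinearMap.comp_apply, LinearEquiv.coe_coe, ← map_smul, ← map_smul,
      smul_eq_mul, mul_one, LinearEquiv.symm_apply_apply]⟩

/-- The degree zero part of the unit complex. -/
noncomputable def unitEquiv : (𝟙_ (DRing.Cx R)).X 0 ≃ₗ[R] R :=
  (singleObjXSelf (ComplexShape.up ℤ) (0 : ℤ) (𝟙_ (ModuleCat.{u} R))).toLinearEquiv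

theorem unit_eq_zero {i : ℤ} (hi : i ≠ 0) (z : (𝟙_ (DRing.Cx R)).X i) : z = 0 :=
  haveI := ModuleCat.subsingleton_of_isZero
    (isZero_single_obj_X (ComplexShape.up ℤ) (0 : ℤ) (𝟙_ (ModuleCat.{u} R)) i hi)
  Subsingleton.elim _ _

theorem lam_inv (M : DRing.Cx R) (n : ℤ) (m : M.X n) :
    (λ_ M).inv.f n m = incl (𝟙_ (DRing.Cx R)) M 0 n n (zero_add n) (unitEquiv.symm 1 ⊗ₜ m) :=
  ConcreteCategory.congr_hom (leftUnitor'_inv M n) m

theorem rho_inv (M : DRing.Cx R) (n : ℤ) (m : M.X n) :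
    (ρ_ M).inv.f n m = incl M (𝟙_ (DRing.Cx R)) n 0 n (add_zero n) (m ⊗ₜ unitEquiv.symm 1) :=
  ConcreteCategory.congr_hom (rightUnitor'_inv M n) m

variable {M N : DRing.Cx R}

section Left

variable (ε : N ⊗ M ⟶ 𝟙_ (DRing.Cx R))

/-- The contraction of `x ⊗ -`. -/
noncomputable def phiL (n : ℤ) : (tens M N).X 0 →ₗ[R] M.X n →ₗ[R] M.X n :=
  (TensorProduct.mk R ((tens M N).X 0) (M.X n)).compr₂
    ((((α_ M N M).hom ≫ M ◁ ε ≫ (ρ_ M).hom).f n).hom ∘ₗ incl (M ⊗ N) M 0 n n (zero_add n))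

theorem phiL_spec (x : (tens M N).X 0) :
    ∃ s : Finset ℤ, ∀ n, phiL ε n x ∈ LinearMap.range (dualTensorHom R (M.X n) (M.X n)) ∧
      (n ∉ s → phiL ε n x = 0) := by
  induction x using Groth.Agent.Lib.TensorCx.Basic.induction with
  | zero => exact ⟨∅, fun n => ⟨by rw [map_zero]; exact zero_mem _, fun _ => map_zero _⟩⟩
  | add a b ha hb =>
    obtain ⟨s, hs⟩ := ha
    obtain ⟨t, ht⟩ := hb
    refine ⟨s ∪ t, fun n => ⟨by rw [map_add]; exact add_mem (hs n).1 (ht n).1, fun hn => ?_⟩⟩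
    rw [Finset.mem_union, not_or] at hn
    rw [map_add, (hs n).2 hn.1, (ht n).2 hn.2, add_zero]
  | inc p q hpq y =>
    refine ⟨{p}, fun n => ?_⟩
    induction y using TensorProduct.induction_on with
    | zero => simp only [map_zero]; exact ⟨zero_mem _, fun _ => trivial⟩
    | add a b ha hb =>
      refine ⟨by simp only [map_add]; exact add_mem ha.1 hb.1, fun h => ?_⟩
      simp only [map_add, ha.2 h, hb.2 h, add_zero]
    | tmul a b =>
      have e : ∀ m : M.X n, phiL ε n (incl M N p q 0 hpq (a ⊗ₜ b)) m = (ρ_ M).hom.f n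
          (incl M (𝟙_ (DRing.Cx R)) p (q + n) n (by omega) (a ⊗ₜ ε.f (q + n) (incl N M q n (q + n) rfl (b ⊗ₜ m)))) :=
        fun m => by
          show (ρ_ M).hom.f n ((M ◁ ε).f n ((α_ M N M).hom.f n
            (incl (M ⊗ N) M 0 n n (zero_add n) (incl M N p q 0 hpq (a ⊗ₜ b) ⊗ₜ m)))) = _
          refine congrArg (fun t => (ρ_ M).hom.f n t) ?_
          exact (congrArg (fun t => (M ◁ ε).f n t)
            (HomCxFinite.α_incl M N M p q 0 n n (q + n) hpq (zero_add n) rfl (by omega) a b m)).trans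
              (RelHom.whiskerLeft_incl M ε p (q + n) n (by omega) a _)
      by_cases hn : n = p
      · subst hn
        refine ⟨?_, fun h => absurd (Finset.mem_singleton_self n) h⟩
        have hr : q + n = 0 := by omega
        convert map_mem_range unitEquiv
          ((ε.f 0).hom ∘ₗ incl N M q n 0 hr ∘ₗ TensorProduct.mk R (N.X q) (M.X n) b)
          (((ρ_ M).hom.f n).hom ∘ₗ incl M (𝟙_ (DRing.Cx R)) n 0 n (add_zero n) ∘ₗ
            TensorProduct.mk R (M.X n) ((𝟙_ (DRing.Cx R)).X 0) a) using 1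
        refine LinearMap.ext fun m => (e m).trans ?_
        have key : ∀ r (h : q + n = r) (h' : n + r = n), r = 0 →
            (ρ_ M).hom.f n (incl M (𝟙_ (DRing.Cx R)) n r n h' (a ⊗ₜ ε.f r (incl N M q n r h (b ⊗ₜ m)))) =
            (ρ_ M).hom.f n (incl M (𝟙_ (DRing.Cx R)) n 0 n (add_zero n)
              (a ⊗ₜ ε.f 0 (incl N M q n 0 hr (b ⊗ₜ m)))) := by
          rintro r h h' rfl
          rfl
        exact key (q + n) rfl (by omega) hr
      · have h0 : phiL ε n (incl M N p q 0 hpq (a ⊗ₜ b)) = 0 := LinearMap.ext fun m => by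
          rw [e m, unit_eq_zero (show q + n ≠ 0 by omega) (ε.f (q + n) _), TensorProduct.tmul_zero, map_zero,
            map_zero, LinearMap.zero_apply]
        exact ⟨h0 ▸ zero_mem _, fun _ => h0⟩

end Left

section Right

variable (ε : N ⊗ M ⟶ 𝟙_ (DRing.Cx R))

/-- The contraction of `- ⊗ x`. -/
noncomputable def phiR (n : ℤ) : (tens M N).X 0 →ₗ[R] N.X n →ₗ[R] N.X n :=
  ((TensorProduct.mk R (N.X n) ((tens M N).X 0)).compr₂
    ((((α_ N M N).inv ≫ ε ▷ N ≫ (λ_ N).hom).f n).hom ∘ₗ incl N (M ⊗ N) n 0 n (add_zero n))).flip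

theorem phiR_spec (x : (tens M N).X 0) :
    ∃ s : Finset ℤ, ∀ n, phiR ε n x ∈ LinearMap.range (dualTensorHom R (N.X n) (N.X n)) ∧
      (n ∉ s → phiR ε n x = 0) := by
  induction x using Groth.Agent.Lib.TensorCx.Basic.induction with
  | zero => exact ⟨∅, fun n => ⟨by rw [map_zero]; exact zero_mem _, fun _ => map_zero _⟩⟩
  | add a b ha hb =>
    obtain ⟨s, hs⟩ := ha
    obtain ⟨t, ht⟩ := hb
    refine ⟨s ∪ t, fun n => ⟨by rw [map_add]; exact add_mem (hs n).1 (ht n).1, fun hn => ?_⟩⟩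
    rw [Finset.mem_union, not_or] at hn
    rw [map_add, (hs n).2 hn.1, (ht n).2 hn.2, add_zero]
  | inc p q hpq y =>
    refine ⟨{q}, fun n => ?_⟩
    induction y using TensorProduct.induction_on with
    | zero => simp only [map_zero]; exact ⟨zero_mem _, fun _ => trivial⟩
    | add a b ha hb =>
      refine ⟨by simp only [map_add]; exact add_mem ha.1 hb.1, fun h => ?_⟩
      simp only [map_add, ha.2 h, hb.2 h, add_zero]
    | tmul a b =>
      have e : ∀ x : N.X n, phiR ε n (incl M N p q 0 hpq (a ⊗ₜ b)) x = (λ_ N).hom.f n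
          (incl (𝟙_ (DRing.Cx R)) N (n + p) q n (by omega) (ε.f (n + p) (incl N M n p (n + p) rfl (x ⊗ₜ a)) ⊗ₜ b)) :=
        fun x => by
          show (λ_ N).hom.f n ((ε ▷ N).f n ((α_ N M N).inv.f n
            (incl N (M ⊗ N) n 0 n (add_zero n) (x ⊗ₜ incl M N p q 0 hpq (a ⊗ₜ b))))) = _
          refine congrArg (fun t => (λ_ N).hom.f n t) ?_
          have hα := HomCxFinite.α_incl N M N n p (n + p) q n 0 rfl (by omega) hpq (add_zero n) x a b
          rw [← hα]
          refine (congrArg (fun t => (ε ▷ N).f n t)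
            (ConcreteCategory.congr_hom ((HomologicalComplex.eval _ _ n).mapIso (α_ N M N)).hom_inv_id _)).trans ?_
          exact RelHom.mapL_incl ε (n + p) q n (by omega) _ b
      by_cases hn : n = q
      · subst hn
        refine ⟨?_, fun h => absurd (Finset.mem_singleton_self n) h⟩
        have hr : n + p = 0 := by omega
        convert map_mem_range unitEquiv
          ((ε.f 0).hom ∘ₗ incl N M n p 0 hr ∘ₗ (TensorProduct.mk R (N.X n) (M.X p)).flip a)
          (((λ_ N).hom.f n).hom ∘ₗ incl (𝟙_ (DRing.Cx R)) N 0 n n (zero_add n) ∘ₗ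
            (TensorProduct.mk R ((𝟙_ (DRing.Cx R)).X 0) (N.X n)).flip b) using 1
        refine LinearMap.ext fun x => (e x).trans ?_
        have key : ∀ r (h : n + p = r) (h' : r + n = n), r = 0 →
            (λ_ N).hom.f n (incl (𝟙_ (DRing.Cx R)) N r n n h' (ε.f r (incl N M n p r h (x ⊗ₜ a)) ⊗ₜ b)) =
            (λ_ N).hom.f n (incl (𝟙_ (DRing.Cx R)) N 0 n n (zero_add n)
              (ε.f 0 (incl N M n p 0 hr (x ⊗ₜ a)) ⊗ₜ b)) := by
          rintro r h h' rfl
          rfl
        exact key (n + p) rfl (by omega) hr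
      · have h0 : phiR ε n (incl M N p q 0 hpq (a ⊗ₜ b)) = 0 := LinearMap.ext fun x => by
          rw [e x, unit_eq_zero (show n + p ≠ 0 by omega) (ε.f (n + p) _), TensorProduct.zero_tmul, map_zero,
            map_zero, LinearMap.zero_apply]
        exact ⟨h0 ▸ zero_mem _, fun _ => h0⟩

end Right

/-- Dualisable complexes are bounded and termwise finite projective. -/
theorem bounded_finite_projective [ExactPairing M N] :
    ∃ s : Finset ℤ, (∀ n, (Module.Finite R (M.X n) ∧ Module.Projective R (M.X n)) ∧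
      (Module.Finite R (N.X n) ∧ Module.Projective R (N.X n))) ∧
      ∀ n, n ∉ s → IsZero (M.X n) ∧ IsZero (N.X n) := by
  let ε := ε_ M N
  let x := (η_ M N).f 0 (unitEquiv.symm 1)
  have eM : η_ M N ▷ M ≫ (α_ M N M).hom ≫ M ◁ ε ≫ (ρ_ M).hom = (λ_ M).hom := by
    simp only [ε]
    rw [← Category.assoc (α_ M N M).hom, ← Category.assoc (η_ M N ▷ M), ExactPairing.evaluation_coevaluation,
      Category.assoc, Iso.inv_hom_id, Category.comp_id]
  have eN : N ◁ η_ M N ≫ (α_ N M N).inv ≫ ε ▷ N ≫ (λ_ N).hom = (ρ_ N).hom := by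
    simp only [ε]
    rw [← Category.assoc (α_ N M N).inv, ← Category.assoc (N ◁ η_ M N), ExactPairing.coevaluation_evaluation,
      Category.assoc, Iso.inv_hom_id, Category.comp_id]
  have hM : ∀ n, phiL ε n x = LinearMap.id := fun n => LinearMap.ext fun m => by
    have h := ConcreteCategory.congr_hom (congrArg (fun f => Hom.f f n) eM) ((λ_ M).inv.f n m)
    refine Eq.trans ?_ (h.trans (ConcreteCategory.congr_hom ((HomologicalComplex.eval _ _ n).mapIso (λ_ M)).inv_hom_id m))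
    show ((α_ M N M).hom ≫ M ◁ ε ≫ (ρ_ M).hom).f n (incl (M ⊗ N) M 0 n n (zero_add n) (x ⊗ₜ m)) =
      ((α_ M N M).hom ≫ M ◁ ε ≫ (ρ_ M).hom).f n ((η_ M N ▷ M).f n ((λ_ M).inv.f n m))
    rw [lam_inv M n m]
    exact congrArg (fun t => ((α_ M N M).hom ≫ M ◁ ε ≫ (ρ_ M).hom).f n t)
      (RelHom.mapL_incl (η_ M N) 0 n n (zero_add n) _ m).symm
  have hN : ∀ n, phiR ε n x = LinearMap.id := fun n => LinearMap.ext fun y => by
    have h := ConcreteCategory.congr_hom (congrArg (fun f => Hom.f f n) eN) ((ρ_ N).inv.f n y)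
    refine Eq.trans ?_ (h.trans (ConcreteCategory.congr_hom ((HomologicalComplex.eval _ _ n).mapIso (ρ_ N)).inv_hom_id y))
    show ((α_ N M N).inv ≫ ε ▷ N ≫ (λ_ N).hom).f n (incl N (M ⊗ N) n 0 n (add_zero n) (y ⊗ₜ x)) =
      ((α_ N M N).inv ≫ ε ▷ N ≫ (λ_ N).hom).f n ((N ◁ η_ M N).f n ((ρ_ N).inv.f n y))
    rw [rho_inv N n y]
    exact congrArg (fun t => ((α_ N M N).inv ≫ ε ▷ N ≫ (λ_ N).hom).f n t)
      (RelHom.whiskerLeft_incl N (η_ M N) n 0 n (add_zero n) y _).symm
  obtain ⟨s, hs⟩ := phiL_spec ε x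
  obtain ⟨t, ht⟩ := phiR_spec ε x
  refine ⟨s ∪ t, fun n => ⟨finite_projective_of_id_mem (hM n ▸ (hs n).1),
    finite_projective_of_id_mem (hN n ▸ (ht n).1)⟩, fun n hn => ?_⟩
  rw [Finset.mem_union, not_or] at hn
  have h1 : (LinearMap.id : M.X n →ₗ[R] M.X n) = 0 := (hM n).symm.trans ((hs n).2 hn.1)
  have h2 : (LinearMap.id : N.X n →ₗ[R] N.X n) = 0 := (hN n).symm.trans ((ht n).2 hn.2)
  have := subsingleton_of_forall_eq (0 : M.X n) fun a => LinearMap.congr_fun h1 a
  have := subsingleton_of_forall_eq (0 : N.X n) fun a => LinearMap.congr_fun h2 a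
  exact ⟨ModuleCat.isZero_of_subsingleton _, ModuleCat.isZero_of_subsingleton _⟩

end Groth.Agent.Lib.DR.PairingFinite
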