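import Groth.Agent.Lib.DR.DComp.HomCompletion
import Mathlib.CategoryTheory.Functor.Derived.RightDerived
import Mathlib.CategoryTheory.Adjunction.Mates

/-!
# `RHom` out of a complex is computed by a K-projective resolution

`IsRightDerivedFunctor` from K-injective representatives, and the comparison
`Hom•(K, -) ⟶ Hom•(P, -)` for a resolution `P ⟶ K`.
-/

universe u v w

open CategoryTheory CategoryTheory.Limits MonoidalCategory
open Groth.Agent.Lib.RGamma
open Groth.Agent.Lib.TensorCx.Basic

attribute [local instance] HasDerivedCategory.standard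

set_option backward.isDefEq.respectTransparency false

namespace Groth.Agent.Lib.DR.RHomRes

variable {A : Type u} [CommRing A]

section Derived

variable {H : Type v} [Category.{w} H] {F : DRing.Cx A ⥤ H} (G : Dual.D A ⥤ H)
  (α : F ⟶ DerivedCategory.Q ⋙ G)

/-- A functor out of `D(A)` agreeing with `F` on K-injective complexes is its right derived functor. -/
theorem isRightDerivedFunctor (hα : ∀ J : DRing.Cx A, J.IsKInjective → IsIso (α.app J)) :
    G.IsRightDerivedFunctor α (HomologicalComplex.quasiIso (ModuleCat.{u} A) (ComplexShape.up ℤ)) := by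
  choose J hJ hinj e using fun d : Dual.D A => exists_rep d
  have ei := fun d => (Classical.choice (e d)).symm
  let desc : ∀ E : StructuredArrow F ((Functor.whiskeringLeft _ _ H).obj (DerivedCategory.Q (C := ModuleCat.{u} A))),
      G ⟶ E.right := fun E =>
    { app := fun d =>
        haveI := hα (J d) (hJ d)
        G.map (ei d).inv ≫ inv (α.app (J d)) ≫ E.hom.app (J d) ≫ E.right.map (ei d).hom
      naturality := fun d d' φ => by
        have := hJ d'
        have := hα (J d) (hJ d)
        have := hα (J d') (hJ d')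
        obtain ⟨g, hg⟩ := EvalHom.exists_Q_map_eq_injective ((ei d).hom ≫ φ ≫ (ei d').inv)
        have h1 : φ = (ei d).inv ≫ DerivedCategory.Q.map g ≫ (ei d').hom := by rw [hg]; simp
        have n1 := α.naturality g
        have n2 := E.hom.naturality g
        simp only [Functor.comp_map] at n1 n2
        rw [h1]
        simp only [Functor.map_comp, Category.assoc]
        rw [← G.map_comp_assoc (ei d').hom, Iso.hom_inv_id, G.map_id, Category.id_comp]
        congr 1
        have n1' : G.map (DerivedCategory.Q.map g) ≫ inv (α.app (J d')) = inv (α.app (J d)) ≫ F.map g := by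
          rw [IsIso.comp_inv_eq, Category.assoc, IsIso.eq_inv_comp]
          exact n1.symm
        rw [reassoc_of% n1', ← E.right.map_comp_assoc (ei d).hom, Iso.hom_inv_id, E.right.map_id, Category.id_comp,
          ← reassoc_of% (show F.map g ≫ E.hom.app (J d') = E.hom.app (J d) ≫ E.right.map (DerivedCategory.Q.map g) from n2)] }
  refine ⟨⟨⟨Limits.IsInitial.ofUniqueHom (fun E => StructuredArrow.homMk (desc E) ?_) fun E m => ?_⟩⟩⟩
  · ext X
    have := hJ (DerivedCategory.Q.obj X)
    have := hα (J (DerivedCategory.Q.obj X)) (hJ (DerivedCategory.Q.obj X))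
    obtain ⟨g, hg⟩ := EvalHom.exists_Q_map_eq_injective (ei (DerivedCategory.Q.obj X)).inv
    have n1 := α.naturality g
    have n2 := E.hom.naturality g
    simp only [Functor.comp_map] at n1 n2
    show α.app X ≫ G.map (ei _).inv ≫ inv (α.app _) ≫ E.hom.app _ ≫ E.right.map (ei _).hom = E.hom.app X
    rw [← hg, ← reassoc_of% n1, IsIso.hom_inv_id_assoc,
      reassoc_of% (show F.map g ≫ E.hom.app (J (DerivedCategory.Q.obj X)) =
        E.hom.app X ≫ E.right.map (DerivedCategory.Q.map g) from n2), ← E.right.map_comp, hg, Iso.inv_hom_id,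
      E.right.map_id]
    exact Category.comp_id _
  · refine StructuredArrow.ext _ _ (NatTrans.ext (funext fun d => ?_))
    have := hα (J d) (hJ d)
    let mr : G ⟶ E.right := m.right
    have w : α.app (J d) ≫ mr.app (DerivedCategory.Q.obj (J d)) = E.hom.app (J d) :=
      congrArg (fun t : F ⟶ _ => t.app (J d)) (StructuredArrow.w m)
    have n := mr.naturality (ei d).hom
    show mr.app d = G.map (ei d).inv ≫ inv (α.app (J d)) ≫ E.hom.app (J d) ≫ E.right.map (ei d).hom
    rw [← w, Category.assoc, IsIso.inv_hom_id_assoc, ← n, ← G.map_comp_assoc, Iso.inv_hom_id, G.map_id,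
      Category.id_comp]

end Derived

variable {P K : DRing.Cx A} (q : P ⟶ K)

/-- Precomposition on Hom complexes. -/
noncomputable def precomp : DRing.homCxFunctor K ⟶ DRing.homCxFunctor P :=
  conjugateEquiv (HomCx.adjunction K) (HomCx.adjunction P) ((tensoringRight (DRing.Cx A)).map q)

theorem homEquiv_comp_precomp {X J : DRing.Cx A} (g : X ⊗ K ⟶ J) :
    HomCx.homEquiv g ≫ (precomp q).app J = HomCx.homEquiv (X ◁ q ≫ g) := by
  rw [← RHom.adj_homEquiv X K J, ← RHom.adj_homEquiv X P J]
  refine (congrArg (· ≫ (precomp q).app J) ((HomCx.adjunction K).homEquiv_unit X J g)).trans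
    (Eq.trans ?_ ((HomCx.adjunction P).homEquiv_unit X J (X ◁ q ≫ g)).symm)
  refine (Category.assoc _ _ _).trans ((congrArg ((HomCx.adjunction K).unit.app X ≫ ·)
    ((precomp q).naturality g)).trans ?_)
  refine (Category.assoc _ _ _).symm.trans ((congrArg (· ≫ (DRing.homCxFunctor P).map g)
    (unit_conjugateEquiv (HomCx.adjunction K) (HomCx.adjunction P) ((tensoringRight (DRing.Cx A)).map q) X)).trans ?_)
  exact (Category.assoc _ _ _).trans (congrArg ((HomCx.adjunction P).unit.app X ≫ ·) (Functor.map_comp _ _ _).symm)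

/-- Precomposition with a quasi-isomorphism is invertible on K-injective complexes. -/
theorem isIso_precomp [QuasiIso q] (J : DRing.Cx A) [J.IsKInjective] :
    IsIso (DerivedCategory.Q.map ((precomp q).app J)) := by
  refine isIso_of_yoneda_map_bijective _ fun T => ?_
  obtain ⟨X, hX, ⟨e⟩⟩ := DTenBasic.exists_rep T
  have : IsIso (DerivedCategory.Q.map (X ◁ q)) :=
    DTenBasic.isIso_Q_map _ (LTensorCx.quasiIso_tensor_left (KFlat.isKFlat_of_isKProjective X) q)
  suffices h : Function.Bijective
      (fun x : DerivedCategory.Q.obj X ⟶ _ => x ≫ DerivedCategory.Q.map ((precomp q).app J)) by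
    convert (e.homFromEquiv.bijective.comp h).comp e.symm.homFromEquiv.bijective using 1
    ext x
    simp
  constructor
  · intro φ φ' hφ
    obtain ⟨(g : X ⟶ DRing.homCx K J), rfl⟩ := Basic.exists_Q_map_eq φ
    obtain ⟨(g' : X ⟶ DRing.homCx K J), rfl⟩ := Basic.exists_Q_map_eq φ'
    obtain ⟨k, rfl⟩ := HomCx.homEquiv.surjective g
    obtain ⟨k', rfl⟩ := HomCx.homEquiv.surjective g'
    have hφ' : DerivedCategory.Q.map (HomCx.homEquiv (X ◁ q ≫ k)) =
        DerivedCategory.Q.map (HomCx.homEquiv (X ◁ q ≫ k')) := by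
      rw [← homEquiv_comp_precomp q k, ← homEquiv_comp_precomp q k', Functor.map_comp, Functor.map_comp]
      exact hφ
    obtain ⟨H⟩ := Basic.nonempty_homotopy_of_Q_map_eq hφ'
    obtain ⟨H'⟩ := (HomCx.homotopy_iff _ _).1 ⟨H⟩
    have h1 := DerivedCategory.Q_map_eq_of_homotopy _ H'
    rw [Functor.map_comp, Functor.map_comp, cancel_epi] at h1
    obtain ⟨H₁⟩ := EvalHom.nonempty_homotopy_of_Q_map_eq_injective h1
    obtain ⟨H₂⟩ := (HomCx.homotopy_iff _ _).2 ⟨H₁⟩
    exact DerivedCategory.Q_map_eq_of_homotopy _ H₂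
  · intro ψ
    obtain ⟨(h : X ⟶ DRing.homCx P J), rfl⟩ := Basic.exists_Q_map_eq ψ
    obtain ⟨c, rfl⟩ := HomCx.homEquiv.surjective h
    obtain ⟨k, hk⟩ := EvalHom.exists_Q_map_eq_injective (inv (DerivedCategory.Q.map (X ◁ q)) ≫ DerivedCategory.Q.map c)
    refine ⟨DerivedCategory.Q.map (HomCx.homEquiv k), ?_⟩
    have h1 : DerivedCategory.Q.map (X ◁ q ≫ k) = DerivedCategory.Q.map c := by
      rw [Functor.map_comp, hk, IsIso.hom_inv_id_assoc]
    obtain ⟨H⟩ := EvalHom.nonempty_homotopy_of_Q_map_eq_injective h1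
    obtain ⟨H'⟩ := (HomCx.homotopy_iff _ _).2 ⟨H⟩
    refine (Functor.map_comp _ _ _).symm.trans ?_
    rw [homEquiv_comp_precomp q k]
    exact DerivedCategory.Q_map_eq_of_homotopy _ H'

/-- `RHom(K, -) ≅ Hom(P, -)`. -/
theorem nonempty_RHomCx_iso_homD [P.IsKProjective] [QuasiIso q] [DRing.HasRHomCx K] :
    Nonempty (DRing.RHomCx K ≅ DComp.homD P) := by
  let α : DRing.homCxQ K ⟶ DerivedCategory.Q ⋙ DComp.homD P :=
    Functor.whiskerRight (precomp q) DerivedCategory.Q ≫ (DComp.homDIso P).inv
  have := isRightDerivedFunctor (DComp.homD P) α fun J _ => by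
    have := isIso_precomp q J
    show IsIso (DerivedCategory.Q.map ((precomp q).app J) ≫ (DComp.homDIso P).inv.app J)
    infer_instance
  exact ⟨Functor.rightDerivedUnique (DRing.RHomCx K) (DComp.homD P)
    ((DRing.homCxQ K).totalRightDerivedUnit DerivedCategory.Q
      (HomologicalComplex.quasiIso (ModuleCat.{u} A) (ComplexShape.up ℤ))) α
    (HomologicalComplex.quasiIso (ModuleCat.{u} A) (ComplexShape.up ℤ))⟩

end Groth.Agent.Lib.DR.RHomRes
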