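import Groth.Prelude.Def_DDual2
import Groth.Agent.Lib.DR.Derived
import Groth.Agent.Lib.DMod.LBC
import Mathlib.CategoryTheory.Functor.Derived.PointwiseLeftDerived
import Mathlib.RingTheory.PicardGroup

/-!
# Twisting derived categories of modules by invertible modules
-/

universe u

open CategoryTheory CategoryTheory.Limits MonoidalCategory
open Groth.Agent.Lib.DR

attribute [local instance] HasDerivedCategory.standard

namespace Groth.Agent.Lib.DR.TwistInvertible

variable (A : Type u) [CommRing A]

/-- Tensoring with `P`. -/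
noncomputable abbrev T (P : Type u) [AddCommGroup P] [Module A P] : ModuleCat.{u} A ⥤ ModuleCat.{u} A :=
  tensorRight (ModuleCat.of A P)

/-- Tensoring with `P` is undone by tensoring with its dual. -/
noncomputable def unitT (P : Type u) [AddCommGroup P] [Module A P] [Module.Invertible A P] :
    T A P ⋙ T A (Module.Dual A P) ≅ 𝟭 (ModuleCat.{u} A) :=
  (tensorRightTensor (ModuleCat.of A P) (ModuleCat.of A (Module.Dual A P))).symm ≪≫
    ((curriedTensor (ModuleCat.{u} A)).flip.mapIso
      ((TensorProduct.comm A P (Module.Dual A P) ≪≫ₗ Module.Invertible.linearEquiv A P).toModuleIso :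
        (ModuleCat.of A P ⊗ ModuleCat.of A (Module.Dual A P) : ModuleCat.{u} A) ≅ ModuleCat.of A A)) ≪≫
      rightUnitorNatIso (ModuleCat.{u} A)

/-- Tensoring with the dual of `P` is undone by tensoring with `P`. -/
noncomputable def counitT (P : Type u) [AddCommGroup P] [Module A P] [Module.Invertible A P] :
    T A (Module.Dual A P) ⋙ T A P ≅ 𝟭 (ModuleCat.{u} A) :=
  (tensorRightTensor (ModuleCat.of A (Module.Dual A P)) (ModuleCat.of A P)).symm ≪≫
    ((curriedTensor (ModuleCat.{u} A)).flip.mapIso
      ((Module.Invertible.linearEquiv A P).toModuleIso :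
        (ModuleCat.of A (Module.Dual A P) ⊗ ModuleCat.of A P : ModuleCat.{u} A) ≅ ModuleCat.of A A)) ≪≫
      rightUnitorNatIso (ModuleCat.{u} A)

instance (P : Type u) [AddCommGroup P] [Module A P] [Module.Invertible A P] : (T A P).IsEquivalence :=
  (CategoryTheory.Equivalence.mk (T A P) (T A (Module.Dual A P)) (unitT A P).symm (counitT A P)).isEquivalence_functor

variable {A}

/-- The composite of induced functors on derived categories. -/
noncomputable def compIso (F G H : ModuleCat.{u} A ⥤ ModuleCat.{u} A) [F.Additive] [G.Additive] [H.Additive]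
    [PreservesFiniteLimits F] [PreservesFiniteColimits F] [PreservesFiniteLimits G] [PreservesFiniteColimits G]
    [PreservesFiniteLimits H] [PreservesFiniteColimits H]
    (e : F ⋙ G ≅ H) : F.mapDerivedCategory ⋙ G.mapDerivedCategory ≅ H.mapDerivedCategory :=
  letI : Localization.Lifting DerivedCategory.Q (HomologicalComplex.quasiIso (ModuleCat.{u} A) (.up ℤ))
      (H.mapHomologicalComplex _ ⋙ DerivedCategory.Q) (F.mapDerivedCategory ⋙ G.mapDerivedCategory) :=
    ⟨(Functor.associator _ _ _).symm ≪≫ Functor.isoWhiskerRight F.mapDerivedCategoryFactors _ ≪≫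
      Functor.associator _ _ _ ≪≫ Functor.isoWhiskerLeft _ G.mapDerivedCategoryFactors ≪≫
      (Functor.associator _ _ _).symm ≪≫ Functor.isoWhiskerRight
        (Functor.mapHomologicalComplexCompIso e (.up ℤ)) _⟩
  Localization.liftNatIso DerivedCategory.Q (HomologicalComplex.quasiIso (ModuleCat.{u} A) (.up ℤ))
    (H.mapHomologicalComplex _ ⋙ DerivedCategory.Q) (H.mapHomologicalComplex _ ⋙ DerivedCategory.Q) _ _ (Iso.refl _)

/-- The composite of induced functors on derived categories, when trivial. -/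
noncomputable def compIsoId (F G : ModuleCat.{u} A ⥤ ModuleCat.{u} A) [F.Additive] [G.Additive]
    [PreservesFiniteLimits F] [PreservesFiniteColimits F] [PreservesFiniteLimits G] [PreservesFiniteColimits G]
    (e : F ⋙ G ≅ 𝟭 _) : F.mapDerivedCategory ⋙ G.mapDerivedCategory ≅ 𝟭 (Dual.D A) :=
  letI : Localization.Lifting DerivedCategory.Q (HomologicalComplex.quasiIso (ModuleCat.{u} A) (.up ℤ))
      DerivedCategory.Q (𝟭 (ModuleCat.{u} A)).mapDerivedCategory :=
    ⟨(𝟭 (ModuleCat.{u} A)).mapDerivedCategoryFactors ≪≫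
      Functor.isoWhiskerRight (Functor.mapHomologicalComplexIdIso _ _) _ ≪≫ Functor.leftUnitor _⟩
  letI : Localization.Lifting DerivedCategory.Q (HomologicalComplex.quasiIso (ModuleCat.{u} A) (.up ℤ))
      DerivedCategory.Q (𝟭 (Dual.D A)) := ⟨Functor.rightUnitor _⟩
  compIso F G (𝟭 _) e ≪≫
    Localization.liftNatIso DerivedCategory.Q (HomologicalComplex.quasiIso (ModuleCat.{u} A) (.up ℤ))
      DerivedCategory.Q DerivedCategory.Q _ _ (Iso.refl _)

variable (A) (P : Type u) [AddCommGroup P] [Module A P] [Module.Invertible A P]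

/-- The twist on derived categories. -/
noncomputable abbrev G : Dual.D A ⥤ Dual.D A := (T A P).mapDerivedCategory

/-- The twist is an autoequivalence. -/
noncomputable def dEquiv : Dual.D A ≌ Dual.D A :=
  CategoryTheory.Equivalence.mk (G A P) (T A (Module.Dual A P)).mapDerivedCategory
    (compIsoId (T A P) (T A (Module.Dual A P)) (unitT A P)).symm
    (compIsoId (T A (Module.Dual A P)) (T A P) (counitT A P))

instance : (G A P).IsEquivalence := (dEquiv A P).isEquivalence_functor

/-- The twist is `- ⊗^L P`. -/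
noncomputable def isoLTensor [DRing.HasLTensor A (ModuleCat.of A P)] :
    DRing.LTensor A (ModuleCat.of A P) ≅ G A P :=
  have h : (G A P).IsLeftDerivedFunctor (T A P).mapDerivedCategoryFactors.hom
      (HomologicalComplex.quasiIso (ModuleCat.{u} A) (.up ℤ)) :=
    Functor.isLeftDerivedFunctor_of_inverts _ (G A P) (T A P).mapDerivedCategoryFactors
  Functor.leftDerivedUnique _ _ (Derived.α (T A P)) (T A P).mapDerivedCategoryFactors.hom
    (HomologicalComplex.quasiIso (ModuleCat.{u} A) (.up ℤ))

/-- Cohomology of a twist. -/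
theorem nonempty_HD (X : Dual.D A) (i : ℤ) :
    Nonempty (Dual.HD A ((G A P).obj X) i ≃ₗ[A] (T A P).obj ((DerivedCategory.homologyFunctor _ i).obj X)) := by
  let K := DerivedCategory.Q.objPreimage X
  let e : DerivedCategory.Q.obj K ≅ X := DerivedCategory.Q.objObjPreimageIso X
  let H := DerivedCategory.homologyFunctor (ModuleCat.{u} A) i
  let f := DerivedCategory.homologyFunctorFactors (ModuleCat.{u} A) i
  exact ⟨(H.mapIso (((G A P).mapIso e).symm ≪≫ (T A P).mapDerivedCategoryFactors.app K) ≪≫
    f.app (((T A P).mapHomologicalComplex _).obj K) ≪≫ (K.sc i).mapHomologyIso (T A P) ≪≫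
    (T A P).mapIso ((f.app K).symm ≪≫ H.mapIso e)).toLinearEquiv⟩

/-- A twist of a dualizing complex is dualizing. -/
theorem isDualizing {ω : Dual.D A} (h : Dual.IsDualizing A ω) : Dual.IsDualizing A ((G A P).obj ω) := by
  let F := G A P
  refine ⟨h.isNoetherianRing, ?_, fun i => ?_, ?_, fun i hi => ?_⟩
  · obtain ⟨a, b, hab⟩ := h.finite_injective_dimension
    refine ⟨a, b, fun M _ _ i hi => ?_⟩
    let N := (T A (Module.Dual A P)).obj (ModuleCat.of A M)
    have := hab N i hi
    let e : F.obj (Dual.inD A N) ≅ Dual.inD A M :=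
      ((T A P).mapDerivedCategorySingleFunctor 0).app N ≪≫
        (DerivedCategory.singleFunctor (ModuleCat.{u} A) 0).mapIso ((counitT A P).app (ModuleCat.of A M) : (T A P).obj N ≅ ModuleCat.of A M)
    exact ((Iso.homCongr e.symm ((F.commShiftIso i).app ω).symm).trans
      (Functor.FullyFaithful.ofFullyFaithful F).homEquiv.symm).subsingleton
  · obtain ⟨e⟩ := nonempty_HD A P ω i
    haveI : Module.Finite A ((DerivedCategory.homologyFunctor (ModuleCat.{u} A) i).obj ω) := h.finite_cohomology i
    haveI : Module.Finite A ((T A P).obj ((DerivedCategory.homologyFunctor (ModuleCat.{u} A) i).obj ω)) :=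
      inferInstanceAs (Module.Finite A (TensorProduct A _ P))
    exact Module.Finite.equiv e.symm
  · refine DMod.FlatHom.bij_congr ((Functor.FullyFaithful.ofFullyFaithful F).homEquiv.bijective.comp h.toEnd_bijective) fun a => ?_
    show F.map (a • 𝟙 ω) = a • 𝟙 (F.obj ω)
    rw [Functor.map_smul, CategoryTheory.Functor.map_id]
  · have := h.ext_self_subsingleton i hi
    exact ((Iso.homCongr (Iso.refl _) ((F.commShiftIso i).app ω).symm).trans
      (Functor.FullyFaithful.ofFullyFaithful F).homEquiv.symm).subsingleton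

/-- Shifts of dualizing complexes are dualizing. -/
theorem isDualizing_shift {ω : Dual.D A} (h : Dual.IsDualizing A ω) (n : ℤ) : Dual.IsDualizing A (ω⟦n⟧) := by
  let F := shiftFunctor (Dual.D A) n
  refine ⟨h.isNoetherianRing, ?_, fun i => ?_, ?_, fun i hi => ?_⟩
  · obtain ⟨a, b, hab⟩ := h.finite_injective_dimension
    refine ⟨a - n, b - n, fun M _ _ i hi => ?_⟩
    have := hab M (n + i) (by lia)
    exact (Iso.homCongr (Iso.refl _) ((shiftFunctorAdd (Dual.D A) n i).app ω).symm).subsingleton
  · have := h.finite_cohomology (n + i)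
    exact Module.Finite.equiv (DMod.Basic.HDShift ω n i (n + i) rfl).symm
  · refine DMod.FlatHom.bij_congr ((Functor.FullyFaithful.ofFullyFaithful F).homEquiv.bijective.comp h.toEnd_bijective) fun a => ?_
    show F.map (a • 𝟙 ω) = a • 𝟙 (F.obj ω)
    rw [Functor.map_smul, CategoryTheory.Functor.map_id]
  · have := h.ext_self_subsingleton i hi
    exact ((Iso.homCongr (Iso.refl _) (shiftComm ω n i)).trans
      (Functor.FullyFaithful.ofFullyFaithful F).homEquiv.symm).subsingleton

/-- Morphisms from an object into its twists. -/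
noncomputable def tw (K : DRing.Cx A) : ModuleCat.{u} A ⥤ Dual.D A where
  obj N := DerivedCategory.Q.obj (((tensorRight N).mapHomologicalComplex (.up ℤ)).obj K)
  map f := DerivedCategory.Q.map
    ((NatTrans.mapHomologicalComplex ((curriedTensor (ModuleCat.{u} A)).flip.map f) _).app K)
  map_id N := by
    rw [CategoryTheory.Functor.map_id, NatTrans.mapHomologicalComplex_id]
    simp
  map_comp f g := by
    rw [Functor.map_comp, NatTrans.mapHomologicalComplex_comp]
    simp

instance (K : DRing.Cx A) : (tw A K).Additive where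
  map_add {M N f g} := by
    refine (congrArg DerivedCategory.Q.map ?_).trans DerivedCategory.Q.map_add
    ext i : 1
    simp [MonoidalPreadditive.whiskerLeft_add]
    rfl

instance (K : DRing.Cx A) : (tw A K).Linear A where
  map_smul {M N} f a := by
    refine (congrArg DerivedCategory.Q.map ?_).trans (DerivedCategory.Q.map_smul a _)
    ext i : 1
    simp [MonoidalLinear.whiskerLeft_smul]
    rfl

/-- `N → Hom(K, K ⊗ N)`. -/
noncomputable def ψ (K : DRing.Cx A) (N : ModuleCat.{u} A) :
    N →ₗ[A] ((tw A K).obj (ModuleCat.of A A) ⟶ (tw A K).obj N) where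
  toFun x := (tw A K).map (ModuleCat.ofHom (LinearMap.toSpanSingleton A N x))
  map_add' x y := by
    rw [← (tw A K).map_add]
    congr 1
    ext
    simp
  map_smul' a x := by
    rw [RingHom.id_apply, ← (tw A K).map_smul]
    congr 1
    ext
    simp

theorem bijective_ψ (K : DRing.Cx A)
    (h : Function.Bijective fun a : A => a • 𝟙 ((tw A K).obj (ModuleCat.of A A)))
    (N : ModuleCat.{u} A) [Module.Finite A N] [Module.Projective A N] : Function.Bijective (ψ A K N) := by
  have h1 : ∀ a : A, ψ A K (ModuleCat.of A A) a = a • 𝟙 _ := fun a => by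
    show (tw A K).map _ = _
    rw [← (tw A K).map_id, ← (tw A K).map_smul]
    congr 1
    ext
    simp
  have hA : Function.Bijective (ψ A K (ModuleCat.of A A)) := DMod.FlatHom.bij_congr h fun a => (h1 a).symm
  obtain ⟨k, π, hπ⟩ := Module.Finite.exists_fin' A N
  obtain ⟨s, hs⟩ := Module.projective_lifting_property π LinearMap.id hπ
  let p : Fin k → (N ⟶ ModuleCat.of A A) := fun j => ModuleCat.ofHom ((LinearMap.proj j).comp s)
  let q : Fin k → (ModuleCat.of A A ⟶ N) := fun j => ModuleCat.ofHom
    (π.comp (LinearMap.single A (fun _ : Fin k => A) j))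
  have hpq : ∑ j, p j ≫ q j = 𝟙 N := by
    ext x
    simp only [ModuleCat.hom_sum, ModuleCat.hom_comp, LinearMap.coe_sum, Finset.sum_apply, ModuleCat.hom_id,
      LinearMap.id_coe, id_eq, p, q, ModuleCat.hom_ofHom, LinearMap.coe_comp, Function.comp_apply, LinearMap.proj_apply,
      LinearMap.coe_single]
    rw [← map_sum, Finset.univ_sum_single (s x)]
    exact LinearMap.congr_fun hs x
  have nat : ∀ {M M' : ModuleCat.{u} A} (f : M ⟶ M') (x : M), ψ A K M x ≫ (tw A K).map f = ψ A K M' (f x) := by
    intro M M' f x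
    show (tw A K).map _ ≫ _ = (tw A K).map _
    rw [← Functor.map_comp]
    congr 1
    ext
    simp
  refine ⟨fun x y hxy => ?_, fun g => ?_⟩
  · have : ∀ j, (p j).hom x = (p j).hom y := fun j => hA.1 (by rw [← nat, ← nat, hxy])
    calc x = (∑ j, p j ≫ q j : N ⟶ N).hom x := by rw [hpq]; rfl
      _ = ∑ j, (q j).hom ((p j).hom x) := by simp
      _ = ∑ j, (q j).hom ((p j).hom y) := by simp only [this]
      _ = (∑ j, p j ≫ q j : N ⟶ N).hom y := by simp
      _ = y := by rw [hpq]; rfl
  · choose c hc using fun j => hA.2 (g ≫ (tw A K).map (p j))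
    refine ⟨∑ j, (q j).hom (c j), ?_⟩
    calc ψ A K N (∑ j, (q j).hom (c j)) = ∑ j, ψ A K N ((q j).hom (c j)) := map_sum _ _ _
      _ = ∑ j, g ≫ (tw A K).map (p j ≫ q j) :=
        Finset.sum_congr rfl fun j _ => by rw [← nat (q j) (c j), hc, Category.assoc, ← Functor.map_comp]
      _ = g ≫ (tw A K).map (∑ j, p j ≫ q j) := by rw [Functor.map_sum, Preadditive.comp_sum]
      _ = g := by rw [hpq, CategoryTheory.Functor.map_id, Category.comp_id]

/-- A dualizing complex fixed by a twist forces the twist to be trivial. -/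
theorem nonempty_equiv {ω : Dual.D A} (h : Dual.IsDualizing A ω) (e : (G A P).obj ω ≅ ω) :
    Nonempty (P ≃ₗ[A] A) := by
  let K := DerivedCategory.Q.objPreimage ω
  let eK : DerivedCategory.Q.obj K ≅ ω := DerivedCategory.Q.objObjPreimageIso ω
  let e₁ : (tw A K).obj (ModuleCat.of A A) ≅ ω :=
    DerivedCategory.Q.mapIso ((NatIso.mapHomologicalComplex (rightUnitorNatIso (ModuleCat.{u} A)) (.up ℤ)).app K ≪≫
      (Functor.mapHomologicalComplexIdIso _ _).app K) ≪≫ eK
  let e₂ : (tw A K).obj (ModuleCat.of A P) ≅ ω :=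
    ((T A P).mapDerivedCategoryFactors.app K).symm ≪≫ (G A P).mapIso eK ≪≫ e
  have hb := (DMod.LBC.isDualizing_of_iso e₁.symm h).toEnd_bijective
  let f := LinearEquiv.ofBijective (ψ A K (ModuleCat.of A P)) (bijective_ψ A K hb _)
  let g : A ≃ₗ[A] (ω ⟶ ω) :=
    LinearEquiv.ofBijective (LinearMap.toSpanSingleton A _ (𝟙 ω)) h.toEnd_bijective
  exact ⟨f ≪≫ₗ Linear.homCongr A e₁ e₂ ≪≫ₗ g.symm⟩

/-- A dualizing complex is not isomorphic to a nonzero shift of a twist of it. -/
theorem shift_eq_zero [Nontrivial A] {ω : Dual.D A} (h : Dual.IsDualizing A ω) (n : ℤ)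
    (e : ((G A P).obj ω)⟦n⟧ ≅ ω) : n = 0 := by
  by_contra hn
  obtain ⟨-, a, b, hab⟩ := DMod.FlatDualizing.bddFin_of_dualizing h
  have key : ∀ i, Subsingleton (Dual.HD A ω (n + i)) ↔ Subsingleton (Dual.HD A ω i) := fun i => by
    obtain ⟨l⟩ := nonempty_HD A P ω (n + i)
    have l' := ((DMod.Basic.HDShift ((G A P).obj ω) n i (n + i) rfl).symm ≪≫ₗ DMod.Basic.HDCongr e i).symm ≪≫ₗ l
    rw [l'.toEquiv.subsingleton_congr]
    let Y := (DerivedCategory.homologyFunctor (ModuleCat.{u} A) (n + i)).obj ω
    show Subsingleton Y ↔ Subsingleton ((T A P).obj Y)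
    rw [← ModuleCat.isZero_iff_subsingleton, ← ModuleCat.isZero_iff_subsingleton]
    exact ⟨(T A P).map_isZero, fun hz => IsZero.of_iso ((T A (Module.Dual A P)).map_isZero hz)
      ((unitT A P).app Y).symm⟩
  have step : ∀ k : ℕ, ∀ i, Subsingleton (Dual.HD A ω i) ↔ Subsingleton (Dual.HD A ω (i + k * n)) := by
    intro k
    induction k with
    | zero => intro i; simp
    | succ k ih =>
      intro i
      rw [ih i, ← key (i + k * n)]
      have : n + (i + (k : ℤ) * n) = i + ((k + 1 : ℕ) : ℤ) * n := by push_cast; ring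
      rw [this]
  have hall : ∀ i, Subsingleton (Dual.HD A ω i) := fun i => by
    let k := (b - a).natAbs + (i - a).natAbs + (i - b).natAbs + 1
    refine (step k i).2 (hab _ ?_)
    have h1 : (k : ℤ) ≤ |(k : ℤ) * n| := by
      rw [abs_mul, Nat.abs_cast]
      exact le_mul_of_one_le_right (by positivity) (Int.one_le_abs hn)
    rcases abs_cases ((k : ℤ) * n) with ⟨h2, -⟩ | ⟨h2, -⟩ <;> lia
  have hz : IsZero ω := by
    let K := DerivedCategory.Q.objPreimage ω
    let eK : DerivedCategory.Q.obj K ≅ ω := DerivedCategory.Q.objObjPreimageIso ω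
    have hK : QuasiIso (0 : K ⟶ (HomologicalComplex.single (ModuleCat.{u} A) (.up ℤ) 0).obj (ModuleCat.of A PUnit)) := ⟨fun i => by
      rw [quasiIsoAt_iff_exactAt' _ _ (HomologicalComplex.ExactAt.of_isZero
        (((HomologicalComplex.single (ModuleCat.{u} A) (.up ℤ) 0) ⋙ HomologicalComplex.eval _ _ i).map_isZero
          (ModuleCat.isZero_of_subsingleton _))), HomologicalComplex.exactAt_iff_isZero_homology]
      exact IsZero.of_iso (ModuleCat.isZero_iff_subsingleton.2 (hall i))
        (((DerivedCategory.homologyFunctorFactors (ModuleCat.{u} A) i).app K).symm ≪≫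
          (DerivedCategory.homologyFunctor (ModuleCat.{u} A) i).mapIso eK)⟩
    exact IsZero.of_iso (((HomologicalComplex.single (ModuleCat.{u} A) (.up ℤ) 0) ⋙ DerivedCategory.Q).map_isZero
      (ModuleCat.isZero_of_subsingleton (ModuleCat.of A PUnit)))
      (eK.symm ≪≫ asIso (DerivedCategory.Q.map (0 : K ⟶ (HomologicalComplex.single (ModuleCat.{u} A) (.up ℤ) 0).obj (ModuleCat.of A PUnit))))
  haveI : Subsingleton (ω ⟶ ω) := ⟨fun f g => hz.eq_of_src f g⟩
  exact not_subsingleton A h.toEnd_bijective.1.subsingleton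

end Groth.Agent.Lib.DR.TwistInvertible
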