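import Groth.Agent.Lib.DR.DTenBasic
import Groth.Prelude.Def_DTen3

/-!
# Formal consequences of associativity
-/

universe u

open CategoryTheory CategoryTheory.Limits MonoidalCategory

attribute [local instance] HasDerivedCategory.standard

namespace Groth.Agent.Lib.DR.DTenCurry

variable {A : Type u} [CommRing A] [DTen.HasLTen A] [DTen.HasLTen₃ A] [DTen.IsSymMonoidal A]

@[reassoc]
theorem associator_naturality {a a' b b' c c' : Dual.D A} (f : a ⟶ a') (g : b ⟶ b') (h : c ⟶ c') :
    (DTen.LTen₂ A).map (Prod.mkHom ((DTen.LTen₂ A).map (Prod.mkHom f g)) h) ≫ (DTen.associator a' b' c').hom =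
      (DTen.associator a b c).hom ≫ (DTen.LTen₂ A).map (Prod.mkHom f ((DTen.LTen₂ A).map (Prod.mkHom g h))) := by
  rw [← cancel_mono ((DTen.assocR A).app (a', (b', c'))), Category.assoc, Category.assoc,
    DTen.associator_hom_assocR]
  have hR := (DTen.assocR A).naturality (Prod.mkHom f (Prod.mkHom g h))
  have hL := (DTen.assocL A).naturality (Prod.mkHom f (Prod.mkHom g h))
  dsimp [DTen.LTenL] at hR hL ⊢
  rw [hR, DTen.associator_hom_assocR_assoc]
  exact hL

variable [DTen.HasRHom A]

theorem isIso_curryHom (K L M : Dual.D A) : IsIso (DTen.curryHom K L M) := by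
  refine isIso_of_yoneda_map_bijective _ fun X => ?_
  let α := DTen.associator X K L
  have key : ∀ f : X ⟶ (DTen.RHomR A ((DTen.LTen₂ A).obj (K, L))).obj M,
      f ≫ DTen.curryHom K L M = DTen.rhomHomEquiv _ _ _ (DTen.rhomHomEquiv _ _ _
        (α.hom ≫ (DTen.rhomHomEquiv X _ M).symm f)) := fun f => by
    have h1 := associator_naturality f (𝟙 K) (𝟙 L)
    rw [← prod_id, CategoryTheory.Functor.map_id] at h1
    have h3 := ((DTen.rhomAdj A ((DTen.LTen₂ A).obj (K, L))).homEquiv_counit X M f).symm
    have h2 : (DTen.tensorRightD A L).map ((DTen.tensorRightD A K).map f) ≫ DTen.curryHomAux K L M =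
        α.hom ≫ (DTen.rhomHomEquiv X _ M).symm f := by
      show _ ≫ (DTen.associator _ K L).hom ≫ _ = _
      rw [← Category.assoc]
      refine (congrArg (· ≫ _) h1).trans ?_
      rw [Category.assoc]
      exact congrArg (α.hom ≫ ·) h3
    rw [← h2]
    exact ((DTen.rhomAdj A K).homEquiv_naturality_left f _).symm.trans
      (congrArg (DTen.rhomHomEquiv _ _ _) ((DTen.rhomAdj A L).homEquiv_naturality_left _ _).symm)
  rw [show (fun f : X ⟶ _ => f ≫ DTen.curryHom K L M) =
    DTen.rhomHomEquiv _ _ _ ∘ DTen.rhomHomEquiv _ _ _ ∘ (α.homFromEquiv (Z := M)).symm ∘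
      (DTen.rhomHomEquiv X _ M).symm from funext key]
  exact (Equiv.bijective _).comp ((Equiv.bijective _).comp ((Equiv.bijective _).comp (Equiv.bijective _)))

end Groth.Agent.Lib.DR.DTenCurry
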