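import Groth.Agent.Lib.DR.HomCx
import Mathlib.RingTheory.Finiteness.Projective
import Mathlib.Algebra.Homology.HomotopyCategory.HomComplexSingle

/-!
# Evaluation maps of Hom complexes under finiteness
-/

universe u

open CategoryTheory CategoryTheory.Limits MonoidalCategory CochainComplex CochainComplex.HomComplex
open Groth.Agent.Lib.TensorCx.Basic Groth.Agent.Lib.DR.HomCx
open scoped TensorProduct

namespace Groth.Agent.Lib.DR.HomCxFinite

variable {A : Type u} [CommRing A]

theorem exists_dual_basis (M : Type u) [AddCommGroup M] [Module A M] [Module.Finite A M] [Module.Projective A M] :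
    ∃ (n : ℕ) (v : Fin n → M) (f : Fin n → M →ₗ[A] A), ∀ x, ∑ s, f s x • v s = x := by
  classical
  obtain ⟨n, π, hπ⟩ := Module.Finite.exists_fin' A M
  obtain ⟨g, hg⟩ := Module.projective_lifting_property π LinearMap.id hπ
  refine ⟨n, fun s => π (Pi.single s 1), fun s => LinearMap.proj s ∘ₗ g, fun x => ?_⟩
  conv_rhs => rw [← LinearMap.congr_fun hg x |>.trans (LinearMap.id_apply x), LinearMap.comp_apply, pi_eq_sum_univ (g x)]
  rw [map_sum]
  refine Finset.sum_congr rfl fun s _ => ?_
  rw [map_smul]
  simp only [LinearMap.comp_apply, LinearMap.proj_apply]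
  congr 2
  funext j
  simp [Pi.single_apply, eq_comm]

theorem α_incl (E H K : DRing.Cx A) (i j m p q r : ℤ) (hm : i + j = m) (hq : m + p = q) (hr : j + p = r)
    (hir : i + r = q) (a : E.X i) (b : H.X j) (k : K.X p) :
    (α_ E H K).hom.f q (incl (E ⊗ H) K m p q hq (incl E H i j m hm (a ⊗ₜ b) ⊗ₜ k)) =
      incl E (H ⊗ K) i r q hir (a ⊗ₜ incl H K j p r hr (b ⊗ₜ k)) := by
  have h : ComplexShape.r (ComplexShape.up ℤ) (ComplexShape.up ℤ) (ComplexShape.up ℤ) (ComplexShape.up ℤ)
      (ComplexShape.up ℤ) (i, j, p) = q := by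
    show i + j + p = q
    lia
  have e := HomologicalComplex.ι_mapBifunctorAssociatorX_hom (curriedAssociatorNatIso (ModuleCat.{u} A)) E H K
    (ComplexShape.up ℤ) (ComplexShape.up ℤ) (c₄ := ComplexShape.up ℤ) i j p q h
  rw [HomologicalComplex.mapBifunctor₁₂.ι_eq _ _ _ _ _ _ _ i j p m q hm hq,
    HomologicalComplex.mapBifunctor₂₃.ι_eq _ _ _ _ _ _ _ _ i j p r q hr hir] at e
  exact ConcreteCategory.congr_hom e ((a ⊗ₜ b) ⊗ₜ k)

/-- Evaluation. -/
noncomputable def ev (P L : DRing.Cx A) : DRing.homCx P L ⊗ P ⟶ L :=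
  homEquiv.symm (𝟙 _)

theorem ev_incl (P L : DRing.Cx A) (j p r : ℤ) (h : p + j = r) (z : Cochain P L j) (k : P.X p) :
    (ev P L).f r (incl (DRing.homCx P L) P j p r (by lia) (z ⊗ₜ k)) = lv p r h z k := by
  rw [← homEquiv_apply (ev P L) j p r h z k, show homEquiv (ev P L) = 𝟙 _ from homEquiv.apply_symm_apply _]
  rfl

/-- `E ⊗ Hom(P, L) ⟶ Hom(P, E ⊗ L)`. -/
noncomputable def evalTenCx (E P L : DRing.Cx A) : E ⊗ DRing.homCx P L ⟶ DRing.homCx P (E ⊗ L) :=
  homEquiv ((α_ E (DRing.homCx P L) P).hom ≫ E ◁ ev P L)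

theorem evalTenCx_apply (E P L : DRing.Cx A) (i j n p q r : ℤ) (hn : i + j = n) (hq : p + n = q)
    (hr : p + j = r) (x : E.X i) (z : Cochain P L j) (k : P.X p) :
    lv p q hq ((evalTenCx E P L).f n (incl E (DRing.homCx P L) i j n hn (x ⊗ₜ z)) : Cochain P (E ⊗ L) n) k =
      incl E L i r q (by lia) (x ⊗ₜ lv p r hr z k) := by
  rw [evalTenCx, homEquiv_apply _ n p q hq]
  show (E ◁ ev P L).f q ((α_ E (DRing.homCx P L) P).hom.f q _) = _
  erw [α_incl E (DRing.homCx P L) P i j n p q r hn (by lia) (by lia) (by lia) x z k]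
  refine (mapR_incl E (ev P L) i r q (by lia) _).trans ?_
  rw [LinearMap.lTensor_tmul, ← ev_incl P L j p r hr z k]

lemma eq_sum_of_zero {E L : DRing.Cx A} {q : ℤ} (S : Finset ℤ) (hS : ∀ i, i ∉ S → IsZero (E.X i))
    (y : (tens E L).X q) :
    y = ∑ i ∈ S, incl E L i (q - i) q (add_sub_cancel i q) (proj E L i (q - i) q y) := by
  refine ext_proj fun i j hij => ?_
  obtain rfl : j = q - i := by lia
  rw [map_sum]
  by_cases hi : i ∈ S
  · refine ((Finset.sum_eq_single i (fun l _ hl => ?_) (fun h => absurd hi h)).trans ?_).symm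
    · exact proj_incl_ne E L _ _ _ _ _ _ (fun h => hl h.1) _
    · exact proj_incl E L _ _ _ _ _
  · have := ModuleCat.subsingleton_of_isZero (hS i hi)
    exact Subsingleton.elim _ _

/-- `incl` with the cochains visible. -/
noncomputable def inclH (E P L : DRing.Cx A) (i j n : ℤ) (h : i + j = n) :
    E.X i ⊗[A] Cochain P L j →ₗ[A] (tens E (DRing.homCx P L)).X n :=
  incl E (DRing.homCx P L) i j n h

/-- Value of `evalTenCx` at a cochain degree. -/
noncomputable def evL (E P L : DRing.Cx A) (n p q : ℤ) (h : p + n = q) :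
    (tens E (DRing.homCx P L)).X n →ₗ[A] (P.X p →ₗ[A] (tens E L).X q) :=
  (lv p q h).comp ((evalTenCx E P L).f n).hom

theorem evL_incl (E P L : DRing.Cx A) (i j n p q r : ℤ) (hn : i + j = n) (hq : p + n = q)
    (hr : p + j = r) (x : E.X i) (z : Cochain P L j) (k : P.X p) :
    evL E P L n p q hq (inclH E P L i j n hn (x ⊗ₜ z)) k =
      incl E L i r q (by lia) (x ⊗ₜ lv p r hr z k) :=
  evalTenCx_apply E P L i j n p q r hn hq hr x z k

theorem bijective_evalTenCx (E P L : DRing.Cx A) (n : ℤ)
    (g : Cochain P (tens E L) n →ₗ[A] (tens E (DRing.homCx P L)).X n)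
    (hl : ∀ (i j : ℤ) (h : i + j = n) (x : E.X i) (z : Cochain P L j) (w : Cochain P (tens E L) n),
      (∀ p q (hpq : p + n = q) k, lv p q hpq w k = evL E P L n p q hpq (inclH E P L i j n h (x ⊗ₜ z)) k) →
      g w = inclH E P L i j n h (x ⊗ₜ z))
    (hr : ∀ (z : Cochain P (tens E L) n) p k, evL E P L n p (p + n) rfl (g z) k = lv p (p + n) rfl z k) :
    IsIso ((evalTenCx E P L).f n) := by
  rw [ConcreteCategory.isIso_iff_bijective]
  refine Function.bijective_iff_has_inverse.2 ⟨g, fun t => ?_, fun z => lv_ext fun p q hq => LinearMap.ext fun k => ?_⟩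
  · induction t using induction with
    | zero =>
      rw [map_zero]
      exact g.map_zero
    | add a b ha hb =>
      rw [map_add]
      exact (g.map_add _ _).trans (congrArg₂ (· + ·) ha hb)
    | inc i j hij y =>
      induction y using TensorProduct.induction_on with
      | zero =>
        rw [map_zero, map_zero]
        exact g.map_zero
      | add a b ha hb =>
        rw [map_add, map_add]
        exact (g.map_add _ _).trans (congrArg₂ (· + ·) ha hb)
      | tmul x z => exact hl i j hij x (z : Cochain P L j) _ fun _ _ _ _ => rfl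
  · obtain rfl : q = p + n := hq.symm
    exact hr z p k

/-- `E ⊗ L ⟶ L` along a functional on `E`. -/
noncomputable def proj₁ (E L : DRing.Cx A) {i : ℤ} (φ : E.X i →ₗ[A] A) (r q : ℤ) :
    (tens E L).X q →ₗ[A] L.X r :=
  (TensorProduct.lid A (L.X r)).toLinearMap ∘ₗ φ.rTensor (L.X r) ∘ₗ proj E L i r q

/-- Postcomposition with `proj₁`. -/
noncomputable def post (E P L : DRing.Cx A) (n : ℤ) {i : ℤ} (φ : E.X i →ₗ[A] A) (j : ℤ) :
    Cochain P (tens E L) n →ₗ[A] Cochain P L j where
  toFun z := Cochain.mk fun p r _ => ModuleCat.ofHom (proj₁ E L φ r (p + n) ∘ₗ lv p (p + n) rfl z)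
  map_add' z z' := lv_ext fun p r h => LinearMap.ext fun k =>
    (proj₁ E L φ r (p + n)).map_add (lv p (p + n) rfl z k) (lv p (p + n) rfl z' k)
  map_smul' c z := lv_ext fun p r h => LinearMap.ext fun k =>
    (proj₁ E L φ r (p + n)).map_smul c (lv p (p + n) rfl z k)

theorem post_apply (E P L : DRing.Cx A) (n : ℤ) {i : ℤ} (φ : E.X i →ₗ[A] A) (j : ℤ)
    (z : Cochain P (tens E L) n) (p r : ℤ) (h : p + j = r) (k : P.X p) :
    lv p r h (post E P L n φ j z) k = proj₁ E L φ r (p + n) (lv p (p + n) rfl z k) := rfl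

theorem isIso_evalTenCx_of_left (E P L : DRing.Cx A) (S : Finset ℤ) (hS : ∀ i, i ∉ S → IsZero (E.X i))
    (hE : ∀ i, Module.Finite A (E.X i) ∧ Module.Projective A (E.X i)) : IsIso (evalTenCx E P L) := by
  classical
  refine @HomologicalComplex.Hom.isIso_of_components _ _ _ _ _ _ _ _ fun n => ?_
  have hb := fun i => (have := (hE i).1; have := (hE i).2; exists_dual_basis (A := A) (E.X i))
  choose N v f hf using hb
  refine bijective_evalTenCx E P L n (∑ i ∈ S, ∑ s : Fin (N i),
    inclH E P L i (n - i) n (add_sub_cancel i n) ∘ₗ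
      (TensorProduct.mk A _ (Cochain P L (n - i)) (v i s)) ∘ₗ post E P L n (f i s) (n - i)) ?_ ?_
  · intro i j hij x z w hw
    obtain rfl : j = n - i := by lia
    simp only [LinearMap.coe_sum, Finset.sum_apply, LinearMap.comp_apply]
    by_cases hi : i ∈ S
    · refine (Finset.sum_eq_single i (fun l _ hl => Finset.sum_eq_zero fun s _ => ?_)
        (fun h => absurd hi h)).trans ?_
      · have : post E P L n (f l s) (n - l) w = 0 := lv_ext fun p q' h => LinearMap.ext fun k => by
          rw [post_apply, hw, evL_incl E P L i (n - i) n p (p + n) (p + (n - i)) hij rfl rfl x z k]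
          simp only [proj₁, LinearMap.comp_apply]
          rw [proj_incl_ne E L _ _ _ _ _ _ (fun h => hl h.1.symm), map_zero, map_zero]
          rfl
        rw [this, map_zero, map_zero]
      · have hp : ∀ s, post E P L n (f i s) (n - i) w = f i s x • z := fun s =>
          lv_ext fun p q' h => LinearMap.ext fun k => by
            rw [post_apply, hw, evL_incl E P L i (n - i) n p (p + n) q' hij rfl h x z k]
            simp only [proj₁, LinearMap.comp_apply]
            rw [proj_incl, map_smul]
            rfl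
        simp only [hp, map_smul]
        conv_rhs => rw [← hf i x, TensorProduct.sum_tmul, map_sum]
        refine Finset.sum_congr rfl fun s _ => ?_
        rw [TensorProduct.mk_apply, ← map_smul, TensorProduct.smul_tmul']
    · have := ModuleCat.subsingleton_of_isZero (hS i hi)
      obtain rfl : x = 0 := Subsingleton.elim _ _
      have : w = 0 := lv_ext fun p q hpq => LinearMap.ext fun k => by
        rw [hw, TensorProduct.zero_tmul, map_zero, map_zero]
        rfl
      subst this
      simp
  · intro z p k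
    simp only [LinearMap.coe_sum, Finset.sum_apply, LinearMap.comp_apply, map_sum]
    conv_rhs => rw [eq_sum_of_zero S hS (lv p (p + n) rfl z k)]
    refine Finset.sum_congr rfl fun i _ => ?_
    refine (Finset.sum_congr rfl fun s _ => evL_incl E P L i (n - i) n p (p + n) (p + n - i) _ rfl (by lia) _ _ k).trans ?_
    rw [← map_sum]
    refine congrArg _ ?_
    obtain ⟨T, hT⟩ : ∃ T, proj E L i (p + n - i) (p + n) (lv p (p + n) rfl z k) = T := ⟨_, rfl⟩
    simp only [post_apply, proj₁, LinearMap.comp_apply, hT]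
    clear hT
    induction T using TensorProduct.induction_on with
    | zero => simp
    | add a b ha hb => simp only [map_add, TensorProduct.tmul_add, Finset.sum_add_distrib, ha, hb]
    | tmul x l =>
      conv_rhs => rw [← hf i x, TensorProduct.sum_tmul]
      exact Finset.sum_congr rfl fun s _ => by simp [TensorProduct.smul_tmul]

/-- The rank one cochain in one degree. -/
noncomputable def rankOne (P L : DRing.Cx A) {p : ℤ} (φ : P.X p →ₗ[A] A) (q j : ℤ) :
    L.X q →ₗ[A] Cochain P L j where
  toFun l := Cochain.mk fun p' q' _ => if h : p' = p ∧ q = q' then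
    (P.XIsoOfEq h.1).hom ≫ ModuleCat.ofHom (φ.smulRight l) ≫ (L.XIsoOfEq h.2).hom else 0
  map_add' l l' := Cochain.ext _ _ fun p' q' h => by
    simp only [Cochain.mk_v, Cochain.add_v]
    split_ifs with hp
    · rw [show (ModuleCat.ofHom (φ.smulRight (l + l')) : P.X p ⟶ L.X q) =
        ModuleCat.ofHom (φ.smulRight l) + ModuleCat.ofHom (φ.smulRight l') from
        ModuleCat.hom_ext (LinearMap.ext fun x => smul_add _ l l')]
      rw [Preadditive.add_comp, Preadditive.comp_add]
    · rw [add_zero]
  map_smul' r l := Cochain.ext _ _ fun p' q' h => by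
    simp only [Cochain.mk_v, RingHom.id_apply, Cochain.smul_v]
    split_ifs with hp
    · rw [show (ModuleCat.ofHom (φ.smulRight (r • l)) : P.X p ⟶ L.X q) =
        r • ModuleCat.ofHom (φ.smulRight l) from
        ModuleCat.hom_ext (LinearMap.ext fun x => smul_comm _ r l)]
      rw [Linear.smul_comp, Linear.comp_smul]
    · rw [smul_zero]

theorem rankOne_apply (P L : DRing.Cx A) {p : ℤ} (φ : P.X p →ₗ[A] A) (q j : ℤ) (h : p + j = q)
    (l : L.X q) (k : P.X p) : lv p q h (rankOne P L φ q j l) k = φ k • l := by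
  show ((Cochain.mk _ : Cochain P L j).v p q h).hom k = _
  rw [Cochain.mk_v, dif_pos ⟨rfl, rfl⟩]
  simp

theorem rankOne_apply_ne (P L : DRing.Cx A) {p : ℤ} (φ : P.X p →ₗ[A] A) (q j : ℤ) (p' q' : ℤ)
    (h : p' + j = q') (hne : p' ≠ p) (l : L.X q) (k : P.X p') :
    lv p' q' h (rankOne P L φ q j l) k = 0 := by
  show ((Cochain.mk _ : Cochain P L j).v p' q' h).hom k = _
  rw [Cochain.mk_v, dif_neg fun h => hne h.1]
  rfl

/-- A piece of the inverse of `evalTenCx`. -/
noncomputable def lift₁ (E P L : DRing.Cx A) {p : ℤ} (φ : P.X p →ₗ[A] A) (n m : ℤ) :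
    (tens E L).X m →ₗ[A] (tens E (DRing.homCx P L)).X n :=
  (HomologicalComplex.mapBifunctorDesc (F := curriedTensor (ModuleCat.{u} A))
    (A := (tens E (DRing.homCx P L)).X n) fun i q (_ : i + q = m) => ModuleCat.ofHom
      (inclH E P L i (n - i) n (add_sub_cancel i n) ∘ₗ
        (rankOne P L φ q (n - i)).lTensor (E.X i))).hom

theorem lift₁_incl (E P L : DRing.Cx A) {p : ℤ} (φ : P.X p →ₗ[A] A) (n m i q : ℤ) (h : i + q = m) (t) :
    lift₁ E P L φ n m (incl E L i q m h t) =
      inclH E P L i (n - i) n (add_sub_cancel i n) ((rankOne P L φ q (n - i)).lTensor (E.X i) t) :=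
  ConcreteCategory.congr_hom (HomologicalComplex.ι_mapBifunctorDesc (K₁ := E) (K₂ := L)
    (F := curriedTensor (ModuleCat.{u} A)) (c := ComplexShape.up ℤ) (j := m) _ i q h) t

theorem evL_lift₁ (E P L : DRing.Cx A) {p : ℤ} (φ : P.X p →ₗ[A] A) (n : ℤ) (y : (tens E L).X (p + n))
    (k : P.X p) : evL E P L n p (p + n) rfl (lift₁ E P L φ n (p + n) y) k = φ k • y := by
  induction y using induction with
  | zero => simp
  | add a b ha hb => rw [map_add, map_add, LinearMap.add_apply, ha, hb, smul_add]
  | inc i q hiq t =>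
    induction t using TensorProduct.induction_on with
    | zero => simp
    | add a b ha hb => rw [map_add, map_add, map_add, LinearMap.add_apply, ha, hb, smul_add]
    | tmul x l =>
      rw [lift₁_incl, LinearMap.lTensor_tmul,
        evL_incl E P L i (n - i) n p (p + n) q _ rfl (by lia) x _ k,
        rankOne_apply, TensorProduct.tmul_smul, map_smul]

theorem evL_lift₁_ne (E P L : DRing.Cx A) {p p' : ℤ} (φ : P.X p →ₗ[A] A) (n : ℤ) (hne : p' ≠ p)
    (y : (tens E L).X (p + n)) (k : P.X p') :
    evL E P L n p' (p' + n) rfl (lift₁ E P L φ n (p + n) y) k = 0 := by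
  induction y using induction with
  | zero => simp
  | add a b ha hb => rw [map_add, map_add, LinearMap.add_apply, ha, hb, add_zero]
  | inc i q hiq t =>
    induction t using TensorProduct.induction_on with
    | zero => simp
    | add a b ha hb => rw [map_add, map_add, map_add, LinearMap.add_apply, ha, hb, add_zero]
    | tmul x l =>
      rw [lift₁_incl, LinearMap.lTensor_tmul,
        evL_incl E P L i (n - i) n p' (p' + n) (p' + n - i) _ rfl (by lia) x _ k,
        rankOne_apply_ne P L φ q _ _ _ _ hne, TensorProduct.tmul_zero, map_zero]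

theorem isIso_evalTenCx_of_right (E P L : DRing.Cx A) (S : Finset ℤ) (hS : ∀ i, i ∉ S → IsZero (P.X i))
    (hP : ∀ i, Module.Finite A (P.X i) ∧ Module.Projective A (P.X i)) : IsIso (evalTenCx E P L) := by
  classical
  refine @HomologicalComplex.Hom.isIso_of_components _ _ _ _ _ _ _ _ fun n => ?_
  have hb := fun p => (have := (hP p).1; have := (hP p).2; exists_dual_basis (A := A) (P.X p))
  choose N v f hf using hb
  refine bijective_evalTenCx E P L n (∑ p ∈ S, ∑ s : Fin (N p),
    lift₁ E P L (f p s) n (p + n) ∘ₗ (LinearMap.applyₗ (v p s)) ∘ₗ lv p (p + n) rfl) ?_ ?_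
  · intro i j hij x z w hw
    obtain rfl : j = n - i := by lia
    simp only [LinearMap.coe_sum, Finset.sum_apply, LinearMap.comp_apply, LinearMap.applyₗ_apply_apply]
    have hs : ∀ p (s : Fin (N p)), lift₁ E P L (f p s) n (p + n) (lv p (p + n) rfl w (v p s)) =
        inclH E P L i (n - i) n hij (x ⊗ₜ
          rankOne P L (f p s) (p + (n - i)) (n - i) (lv p (p + (n - i)) rfl z (v p s))) := fun p s => by
      rw [hw, evL_incl E P L i (n - i) n p (p + n) (p + (n - i)) hij rfl rfl x z (v p s), lift₁_incl]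
      rfl
    simp only [hs, ← map_sum, ← TensorProduct.tmul_sum]
    refine congrArg (fun w : Cochain P L (n - i) => inclH E P L i (n - i) n hij (x ⊗ₜ w))
      (lv_ext fun p' q' h => LinearMap.ext fun k => ?_)
    simp only [map_sum, LinearMap.coe_sum, Finset.sum_apply]
    obtain rfl : q' = p' + (n - i) := h.symm
    by_cases hp : p' ∈ S
    · refine (Finset.sum_eq_single p' (fun l _ hl => Finset.sum_eq_zero fun s _ =>
          rankOne_apply_ne P L _ _ _ _ _ h hl.symm _ _) (fun h => absurd hp h)).trans ?_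
      simp only [rankOne_apply _ _ _ _ _ h]
      conv_rhs => rw [← hf p' k, map_sum]
      simp only [map_smul]
    · have := ModuleCat.subsingleton_of_isZero (hS p' hp)
      obtain rfl : k = 0 := Subsingleton.elim _ _
      simp
  · intro z p k
    simp only [LinearMap.coe_sum, Finset.sum_apply, LinearMap.comp_apply, LinearMap.applyₗ_apply_apply, map_sum]
    by_cases hp : p ∈ S
    · refine (Finset.sum_eq_single p (fun l _ hl => Finset.sum_eq_zero fun s _ =>
        evL_lift₁_ne E P L _ n hl.symm _ k) (fun h => absurd hp h)).trans ?_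
      simp only [evL_lift₁]
      conv_rhs => rw [← hf p k, map_sum]
      simp only [map_smul]
    · have := ModuleCat.subsingleton_of_isZero (hS p hp)
      obtain rfl : k = 0 := Subsingleton.elim _ _
      simp

end Groth.Agent.Lib.DR.HomCxFinite
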