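import Groth.Agent.Lib.DR.RHom
import Groth.Agent.Lib.DR.DTenCurry
import Groth.Agent.Lib.DR.HomCxFinite
import Mathlib.Data.Int.Interval

/-!
# The evaluation map `K ⊗ RHom(M, L) ⟶ RHom(M, K ⊗ L)`
-/

universe u

open CategoryTheory CategoryTheory.Limits MonoidalCategory CochainComplex

attribute [local instance] HasDerivedCategory.standard

namespace Groth.Agent.Lib.DR.EvalTen

variable {A : Type u} [CommRing A] [DTen.HasLTen A]


@[reassoc]
theorem T_comp {a a' a'' b b' b'' : Dual.D A} (f : a ⟶ a') (f' : a' ⟶ a'') (g : b ⟶ b') (g' : b' ⟶ b'') :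
    (DTen.LTen₂ A).map (Prod.mkHom f g) ≫ (DTen.LTen₂ A).map (Prod.mkHom f' g') =
      (DTen.LTen₂ A).map (Prod.mkHom (f ≫ f') (g ≫ g')) := by
  rw [← Functor.map_comp]
  rfl

theorem isIso_T {a a' b b' : Dual.D A} (f : a ⟶ a') (g : b ⟶ b') [IsIso f] [IsIso g] :
    IsIso ((DTen.LTen₂ A).map (Prod.mkHom f g)) :=
  ((DTen.LTen₂ A).mapIso ((asIso f).prod (asIso g))).isIso_hom

variable [DTen.HasLTen₃ A] [DTen.IsSymMonoidal A] [DTen.HasRHom A]

theorem assoc_βR (X Y Z : DRing.Cx A) :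
    (DTen.associator (DerivedCategory.Q.obj X) (DerivedCategory.Q.obj Y) (DerivedCategory.Q.obj Z)).hom ≫
      (DTen.βR A).app (X, (Y, Z)) = (DTen.βL A).app (X, (Y, Z)) := by
  rw [← DTen.assocR_fac, ← DTen.assocL_fac]
  exact DTen.associator_hom_assocR_assoc _ _ _ _

theorem symm_homEquiv (K M : Dual.D A) {L : Dual.D A} (g : K ⟶ (DTen.RHomR A L).obj M) :
    (DTen.rhomHomEquiv K L M).symm g = (DTen.LTen₂ A).map (Prod.mkHom g (𝟙 L)) ≫ DTen.ev L M :=
  (DTen.rhomAdj A L).homEquiv_counit K M g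

theorem evalTen_naturality {K K' L L' : Dual.D A} (M : Dual.D A) (a : K' ⟶ K) (b : L' ⟶ L) :
    (DTen.LTen₂ A).map (Prod.mkHom a ((DTen.RHomR A M).map b)) ≫ DTen.evalTen K L M =
      DTen.evalTen K' L' M ≫ (DTen.RHomR A M).map ((DTen.LTen₂ A).map (Prod.mkHom a b)) := by
  have hev : (DTen.LTen₂ A).map (Prod.mkHom ((DTen.RHomR A M).map b) (𝟙 M)) ≫ DTen.ev M L =
      DTen.ev M L' ≫ b := (DTen.rhomAdj A M).counit_naturality b
  apply (DTen.rhomHomEquiv _ M _).symm.injective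
  rw [DTen.evalTen, DTen.evalTen, Adjunction.homEquiv_naturality_left_symm,
    Adjunction.homEquiv_naturality_right_symm, Equiv.symm_apply_apply, Equiv.symm_apply_apply]
  show (DTen.LTen₂ A).map (Prod.mkHom ((DTen.LTen₂ A).map (Prod.mkHom a ((DTen.RHomR A M).map b))) (𝟙 M)) ≫
    (_ ≫ _) = (_ ≫ _) ≫ _
  rw [DTenCurry.associator_naturality_assoc, Category.assoc, T_comp, T_comp, Category.id_comp, Category.comp_id, hev]

theorem evalTen_naturality₃ (K L : Dual.D A) {M M' : Dual.D A} (g : M' ⟶ M) :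
    (DTen.LTen₂ A).map (Prod.mkHom (𝟙 K) (DTen.RHomMap g L)) ≫ DTen.evalTen K L M' =
      DTen.evalTen K L M ≫ DTen.RHomMap g ((DTen.LTen₂ A).obj (K, L)) := by
  apply (DTen.rhomHomEquiv _ M' _).symm.injective
  rw [symm_homEquiv (K := (DTen.LTen₂ A).obj (K, (DTen.RHomR A M).obj L)) (g := DTen.evalTen K L M ≫ _)]
  rw [show (DTen.LTen₂ A).map (Prod.mkHom (DTen.evalTen K L M ≫ DTen.RHomMap g ((DTen.LTen₂ A).obj (K, L))) (𝟙 M')) =
      (DTen.LTen₂ A).map (Prod.mkHom (DTen.evalTen K L M) (𝟙 M')) ≫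
      (DTen.LTen₂ A).map (Prod.mkHom (DTen.RHomMap g ((DTen.LTen₂ A).obj (K, L))) (𝟙 M')) by
        rw [T_comp, Category.comp_id],
    Category.assoc, DTen.RHom_map_ev, T_comp_assoc, Category.id_comp, Category.comp_id,
    show (DTen.LTen₂ A).map (Prod.mkHom (DTen.evalTen K L M) g) =
      (DTen.LTen₂ A).map (Prod.mkHom (𝟙 _) g) ≫ (DTen.LTen₂ A).map (Prod.mkHom (DTen.evalTen K L M) (𝟙 M)) by
        rw [T_comp, Category.id_comp, Category.comp_id],
    Category.assoc, DTen.evalTen_fac, DTen.evalTen, Adjunction.homEquiv_naturality_left_symm, Equiv.symm_apply_apply]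
  show (DTen.LTen₂ A).map (Prod.mkHom ((DTen.LTen₂ A).map (Prod.mkHom (𝟙 K) (DTen.RHomMap g L))) (𝟙 M')) ≫
    (_ ≫ _) = _ ≫ (_ ≫ _)
  rw [DTenCurry.associator_naturality_assoc, T_comp, Category.id_comp, DTen.RHom_map_ev]
  conv_rhs => rw [← CategoryTheory.Functor.map_id (DTen.LTen₂ A), prod_id, DTenCurry.associator_naturality_assoc,
    T_comp, Category.id_comp]

theorem isIso_of_iso {K K' L L' M M' : Dual.D A} (a : K' ≅ K) (b : L' ≅ L) (c : M' ≅ M)
    (h : IsIso (DTen.evalTen K' L' M')) : IsIso (DTen.evalTen K L M) := by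
  have : IsIso (DTen.evalTen K L M') := by
    have := isIso_T a.hom ((DTen.RHomR A M').map b.hom)
    have := isIso_T a.hom b.hom
    have h1 := evalTen_naturality M' a.hom b.hom
    have : IsIso ((DTen.LTen₂ A).map (Prod.mkHom a.hom ((DTen.RHomR A M').map b.hom)) ≫ DTen.evalTen K L M') := by
      rw [h1]; infer_instance
    exact IsIso.of_isIso_comp_left ((DTen.LTen₂ A).map (Prod.mkHom a.hom ((DTen.RHomR A M').map b.hom))) _
  have hR : ∀ X : Dual.D A, IsIso (DTen.RHomMap c.hom X) := fun X => (((DTen.RHom A).mapIso c.op).app X).isIso_hom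
  have := isIso_T (𝟙 K) (DTen.RHomMap c.hom L)
  have h2 := evalTen_naturality₃ K L c.hom
  have : IsIso (DTen.evalTen K L M ≫ DTen.RHomMap c.hom ((DTen.LTen₂ A).obj (K, L))) := by
    rw [← h2]; infer_instance
  exact IsIso.of_isIso_comp_right _ (DTen.RHomMap c.hom ((DTen.LTen₂ A).obj (K, L)))

theorem ev_eq_counit (P L : DRing.Cx A) : HomCxFinite.ev P L = (HomCx.adjunction P).counit.app L := by
  have hc : HomCx.homEquiv.symm (𝟙 (DRing.homCx P L)) =
      𝟙 (DRing.homCx P L) ▷ P ≫ (HomCx.adjunction P).counit.app L :=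
    (RHom.adj_homEquiv (DRing.homCx P L) P L) ▸
      (HomCx.adjunction P).homEquiv_counit (DRing.homCx P L) L (𝟙 _)
  exact hc.trans ((congrArg (· ≫ _) (MonoidalCategory.id_whiskerRight _ P)).trans (Category.id_comp _))

/-- On complexes, the evaluation map is `evalTenCx`. -/
theorem evalTen_fac_Q (E L P : DRing.Cx A) :
    (DTen.LTen₂ A).map (Prod.mkHom (𝟙 (DerivedCategory.Q.obj E)) (RHom.θ P L)) ≫ DTen.evalTen _ _ _ ≫
        (DTen.RHomR A (DerivedCategory.Q.obj P)).map ((DTen.ε A).app (E, L)) =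
      (DTen.ε A).app (E, DRing.homCx P L) ≫ DerivedCategory.Q.map (HomCxFinite.evalTenCx E P L) ≫
        RHom.θ P (E ⊗ L) := by
  have hθ : (DTen.LTen₂ A).map (Prod.mkHom (RHom.θ P L) (𝟙 (DerivedCategory.Q.obj P))) ≫
      DTen.ev (DerivedCategory.Q.obj P) (DerivedCategory.Q.obj L) =
      (DTen.ε A).app (DRing.homCx P L, P) ≫ DerivedCategory.Q.map (HomCxFinite.ev P L) := by
    rw [← symm_homEquiv, RHom.θ, Equiv.symm_apply_apply, ev_eq_counit]
  rw [RHom.map_comp_θ, HomCxFinite.evalTenCx, Equiv.symm_apply_apply]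
  apply (DTen.rhomHomEquiv _ _ _).symm.injective
  rw [Adjunction.homEquiv_naturality_left_symm, Adjunction.homEquiv_naturality_right_symm, DTen.evalTen,
    Equiv.symm_apply_apply]
  refine Eq.trans ?_ ((congrArg (_ ≫ ·) (Equiv.symm_apply_apply _ _).symm).trans
    ((DTen.rhomAdj A (DerivedCategory.Q.obj P)).homEquiv_naturality_left_symm _ _).symm)
  show (DTen.LTen₂ A).map (Prod.mkHom ((DTen.LTen₂ A).map (Prod.mkHom (𝟙 _) (RHom.θ P L))) (𝟙 _)) ≫
    ((_ ≫ _) ≫ _) = (DTen.LTen₂ A).map (Prod.mkHom _ (𝟙 _)) ≫ _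
  rw [Category.assoc, DTenCurry.associator_naturality_assoc, T_comp_assoc, Category.id_comp, hθ,
    show (DTen.LTen₂ A).map (Prod.mkHom (𝟙 (DerivedCategory.Q.obj E))
        ((DTen.ε A).app (DRing.homCx P L, P) ≫ DerivedCategory.Q.map (HomCxFinite.ev P L))) =
      (DTen.LTen₂ A).map (Prod.mkHom (𝟙 _) ((DTen.ε A).app (DRing.homCx P L, P))) ≫
        (DTen.LTen₂ A).map (Prod.mkHom (DerivedCategory.Q.map (𝟙 E)) (DerivedCategory.Q.map (HomCxFinite.ev P L))) by
      rw [T_comp, CategoryTheory.Functor.map_id, Category.comp_id] <;> rfl]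
  have hn := (DTen.ε A).naturality (Prod.mkHom (𝟙 E) (HomCxFinite.ev P L))
  dsimp at hn
  rw [Category.assoc, hn]
  have hR := assoc_βR E (DRing.homCx P L) P
  dsimp [DTen.βR, DTen.βL] at hR
  rw [reassoc_of% hR, MonoidalCategory.id_whiskerRight, Category.id_comp, Functor.map_comp]
  exact (Category.assoc _ _ _).trans (congrArg (_ ≫ ·) (Category.assoc _ _ _))

theorem isIso_evalTen_rep (E L P : DRing.Cx A) [E.IsKProjective] [P.IsKProjective]
    (h : IsIso (HomCxFinite.evalTenCx E P L)) :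
    IsIso (DTen.evalTen (DerivedCategory.Q.obj E) (DerivedCategory.Q.obj L) (DerivedCategory.Q.obj P)) := by
  have := RHom.isIso_θ P L
  have := RHom.isIso_θ P (E ⊗ L)
  have := isIso_T (𝟙 (DerivedCategory.Q.obj E)) (RHom.θ P L)
  have h1 : IsIso ((DTen.ε A).app (E, DRing.homCx P L) ≫ DerivedCategory.Q.map (HomCxFinite.evalTenCx E P L) ≫
      RHom.θ P (E ⊗ L)) := inferInstance
  rw [← evalTen_fac_Q] at h1
  have h2 := IsIso.of_isIso_comp_left ((DTen.LTen₂ A).map (Prod.mkHom (𝟙 (DerivedCategory.Q.obj E)) (RHom.θ P L)))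
    (DTen.evalTen (DerivedCategory.Q.obj E) (DerivedCategory.Q.obj L)
    (DerivedCategory.Q.obj P) ≫ (DTen.RHomR A (DerivedCategory.Q.obj P)).map ((DTen.ε A).app (E, L)))
  exact IsIso.of_isIso_comp_right _ ((DTen.RHomR A (DerivedCategory.Q.obj P)).map ((DTen.ε A).app (E, L)))

omit [DTen.HasLTen A] [DTen.HasLTen₃ A] [DTen.IsSymMonoidal A] [DTen.HasRHom A] in
theorem exists_perfect_rep {K : Dual.D A} (hK : DRing.IsPerfect A K) :
    ∃ (E : DRing.Cx A) (S : Finset ℤ), E.IsKProjective ∧ (∀ i, i ∉ S → IsZero (E.X i)) ∧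
      (∀ i, Module.Finite A (E.X i) ∧ Module.Projective A (E.X i)) ∧ Nonempty (DerivedCategory.Q.obj E ≅ K) := by
  obtain ⟨E, a, b, hv, hp, e⟩ := hK
  refine ⟨E, Finset.Icc a b, ?_, fun i hi => hv i (by simp at hi; omega), hp, e⟩
  have : E.IsStrictlyLE b := (CochainComplex.isStrictlyLE_iff _ _).2 fun i hi => hv i (Or.inr hi)
  have : ∀ i, Projective (E.X i) := fun i =>
    have := (hp i).2
    (IsProjective.iff_projective (R := A) (E.X i)).1 this
  exact CochainComplex.isKProjective_of_projective E b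

theorem isIso_evalTen_of_isPerfect_hom_source (K L M : Dual.D A) (hM : DRing.IsPerfect A M) :
    IsIso (DTen.evalTen K L M) := by
  obtain ⟨P, S, hP, hS, hp, ⟨eM⟩⟩ := exists_perfect_rep hM
  obtain ⟨E, hE, ⟨eK⟩⟩ := DTenBasic.exists_rep K
  obtain ⟨F, hF, ⟨eL⟩⟩ := DTenBasic.exists_rep L
  exact isIso_of_iso eK eL eM (isIso_evalTen_rep E F P (HomCxFinite.isIso_evalTenCx_of_right E P F S hS hp))

theorem isIso_evalTen_of_isPerfect_tensor_left (K L M : Dual.D A) (hK : DRing.IsPerfect A K) :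
    IsIso (DTen.evalTen K L M) := by
  obtain ⟨E, S, hE, hS, hp, ⟨eK⟩⟩ := exists_perfect_rep hK
  obtain ⟨P, hP, ⟨eM⟩⟩ := DTenBasic.exists_rep M
  obtain ⟨F, hF, ⟨eL⟩⟩ := DTenBasic.exists_rep L
  exact isIso_of_iso eK eL eM (isIso_evalTen_rep E F P (HomCxFinite.isIso_evalTenCx_of_left E P F S hS hp))

end Groth.Agent.Lib.DR.EvalTen
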