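import Groth.Agent.Lib.DR.Fibre
import Groth.Agent.Lib.DR.TorAmp
import Groth.Agent.Lib.DR.FlatBC
import Groth.Prelude.Def_DDual2

/-!
# Pseudo-coherent objects with bounded fibres are perfect
-/

universe u

open CategoryTheory CategoryTheory.Limits TensorProduct
open Groth.Agent.Lib.DR
open Groth.Agent.Lib.DR.Basic Groth.Agent.Lib.DR.FiniteComplex Groth.Agent.Lib.DR.PseudoCoherent
open Groth.Agent.Lib.DR.Representative Groth.Agent.Lib.DR.BaseChange Groth.Agent.Lib.DR.TorAmp

attribute [local instance] HasDerivedCategory.standard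

namespace Groth.Agent.Lib.DR.FibreApp

variable {R : Type u} [CommRing R]

/-- Exactness of `E ⊗ R/I` in terms of elements of `E`. -/
theorem mem_sup_of_exactAt (I : Ideal R) (E : DRing.Cx R) (i j k : ℤ) (hij : i + 1 = j) (hjk : j + 1 = k)
    (h : ((ext (Ideal.Quotient.mk I)).obj E).ExactAt j) (y : E.X j)
    (hy : (E.d j k).hom y ∈ I • (⊤ : Submodule R (E.X k))) :
    y ∈ LinearMap.range (E.d i j).hom ⊔ I • (⊤ : Submodule R (E.X j)) := by
  rw [HomologicalComplex.exactAt_iff' _ i j k (by simp; lia) (by simp; lia),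
    ShortComplex.ShortExact.moduleCat_exact_iff_function_exact] at h
  refine Fibre.mem_sup_of_exact I (E.d i j).hom (E.d j k).hom ?_ y hy
  let e := FlatBC.resEquiv R (R ⧸ I)
  refine (Function.Exact.iff_of_ladder_linearEquiv
    (e₁ := TensorProduct.congr e (LinearEquiv.refl R (E.X i)))
    (e₂ := TensorProduct.congr e (LinearEquiv.refl R (E.X j)))
    (e₃ := TensorProduct.congr e (LinearEquiv.refl R (E.X k)))
    (f₁₂ := (E.d i j).hom.lTensor _) (f₂₃ := (E.d j k).hom.lTensor _)
    (TensorProduct.ext' fun _ _ => rfl) (TensorProduct.ext' fun _ _ => rfl)).2 h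

/-- The element criterion from the vanishing of a fibre cohomology module. -/
theorem mem_sup_of_subsingleton (I : Ideal R) [DRing.HasLBaseChange (Ideal.Quotient.mk I)] {K : Dual.D R}
    (E : DRing.Cx R) {b : ℤ} (hb : ∀ i, b < i → IsZero (E.X i)) (hp : ∀ i, flat R (E.X i))
    (e : DerivedCategory.Q.obj E ≅ K) (i j k : ℤ) (hij : i + 1 = j) (hjk : j + 1 = k)
    (h : Subsingleton (Dual.HD (R ⧸ I) ((DRing.LBaseChange (Ideal.Quotient.mk I)).obj K) j))
    (y : E.X j) (hy : (E.d j k).hom y ∈ I • (⊤ : Submodule R (E.X k))) :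
    y ∈ LinearMap.range (E.d i j).hom ⊔ I • (⊤ : Submodule R (E.X j)) := by
  refine mem_sup_of_exactAt I E i j k hij hjk ?_ y hy
  rw [HomologicalComplex.exactAt_iff_isZero_homology]
  exact (ModuleCat.isZero_of_subsingleton ((DerivedCategory.homologyFunctor _ j).obj
    ((DRing.LBaseChange (Ideal.Quotient.mk I)).obj K))).of_iso ((homologyQIso _ j).symm ≪≫
      (DerivedCategory.homologyFunctor _ j).mapIso
        ((bcFlat (Ideal.Quotient.mk I) E b hb hp).symm ≪≫ (DRing.LBaseChange _).mapIso e))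

/-- Fibre criterion: element form for all maximal ideals outside `[a, b]`. -/
theorem bdd_fproj_of_mem_sup {K : Dual.D R} (hK : ∀ m, PCn (ff R) m K) (a b : ℤ)
    (h : ∀ (E : DRing.Cx R) (c : ℤ), (∀ i, c < i → IsZero (E.X i)) → (∀ i, ff R (E.X i)) →
      (DerivedCategory.Q.obj E ≅ K) → ∀ (m : Ideal R), m.IsMaximal → ∀ i j k : ℤ, i + 1 = j → j + 1 = k →
        (j < a ∨ b < j) → ∀ y : E.X j, (E.d j k).hom y ∈ m • (⊤ : Submodule R (E.X k)) →
          y ∈ LinearMap.range (E.d i j).hom ⊔ m • (⊤ : Submodule R (E.X j))) :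
    Bdd (fproj R) a b K := by
  obtain ⟨c, hc⟩ := (hK 0).exists_isLE
  obtain ⟨E, hE, hp, ⟨e⟩⟩ := ba_ff_of_forall hK hc
  have hfin : ∀ (E : DRing.Cx R), (∀ i, ff R (E.X i)) → ∀ i, Module.Finite R (E.X i) := fun E hp i => (hp i).1
  have hproj : ∀ (E : DRing.Cx R), (∀ i, ff R (E.X i)) → ∀ i, Module.Projective R (E.X i) :=
    fun E hp i => (fproj_of_ff _ (hp i)).2
  have hd : ∀ (E : DRing.Cx R) (i j k : ℤ), (E.d j k).hom ∘ₗ (E.d i j).hom = 0 := fun E i j k =>
    congrArg ModuleCat.Hom.hom (E.d_comp_d i j k)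
  have hex : ∀ j, (j < a ∨ b < j) → Subsingleton (Dual.HD R K j) := fun j hj => by
    have := hfin E hp j
    have := hfin E hp (j + 1)
    have := hproj E hp (j + 1)
    have hx := Fibre.exact_of_forall (E.d (j - 1) j).hom (E.d j (j + 1)).hom (hd E _ _ _)
      fun m hm => h E c hE hp e m hm (j - 1) j (j + 1) (by lia) rfl hj
    have h0 : IsZero (E.homology j) := by
      rw [← HomologicalComplex.exactAt_iff_isZero_homology,
        HomologicalComplex.exactAt_iff' _ (j - 1) j (j + 1) (by simp) (by simp),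
        ShortComplex.ShortExact.moduleCat_exact_iff_function_exact]
      exact hx
    exact ModuleCat.subsingleton_of_isZero
      (h0.of_iso ((DerivedCategory.homologyFunctor _ j).mapIso e.symm ≪≫ homologyQIso E j))
  have hle : K.IsLE b := (isLE_iff_subsingleton K b).2 fun i hi => hex i (Or.inr hi)
  have hge : K.IsGE a := (isGE_iff_subsingleton K a).2 fun i hi => hex i (Or.inl hi)
  obtain ⟨E', hE', hp', ⟨e'⟩⟩ := ba_ff_of_forall hK hle
  have := hfin E' hp' a
  have := hfin E' hp' (a - 1)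
  have := hproj E' hp' a
  refine (bdd_of_opcycles good_fproj hE' (fun i _ => fproj_of_ff _ (hp' i))
    (isGE_of_iso' e'.symm hge) ⟨?_, ?_⟩).of_iso e'
  · infer_instance
  · exact Fibre.projective_coker (E'.d (a - 1 - 1) (a - 1)).hom (E'.d (a - 1) a).hom (hd E' _ _ _)
      fun m hm => h E' b hE' hp' e' m hm (a - 1 - 1) (a - 1) a (by lia) (by lia) (Or.inl (by lia))

end Groth.Agent.Lib.DR.FibreApp
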