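import Groth.Agent.Lib.DR.Representative
import Groth.Agent.Lib.DR.Amplitude
import Mathlib.Algebra.Category.Grp.EnoughInjectives
import Mathlib.Algebra.Category.ModuleCat.EnoughInjectives

/-!
# Projective amplitude in `D(A)`
-/

universe u

open CategoryTheory CategoryTheory.Limits CategoryTheory.Pretriangulated
open Groth.Agent.Lib.DR.Basic Groth.Agent.Lib.DR.FiniteComplex Groth.Agent.Lib.DR.PseudoCoherent
open Groth.Agent.Lib.DR.Representative Groth.Agent.Lib.DR.Amplitude

attribute [local instance] HasDerivedCategory.standard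

namespace Groth.Agent.Lib.DR.ProjAmp

variable {A : Type u} [CommRing A]

lemma proj_retract {X Y : ModuleCat.{u} A} (r : Retract X Y) (h : proj A Y) : proj A X :=
  have : Module.Projective A Y := h
  Module.Projective.of_split r.i.hom r.r.hom (congrArg ModuleCat.Hom.hom r.retract)

lemma fproj_retract {X Y : ModuleCat.{u} A} (r : Retract X Y) (h : fproj A Y) : fproj A X :=
  have := h.1
  ⟨Module.Finite.of_surjective r.r.hom fun x => ⟨r.i x, by
      rw [← CategoryTheory.comp_apply, r.retract]; rfl⟩, proj_retract r h.2⟩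

/-- `Hom(K, N[i]) = Hom(K, N placed in degree -i)`. -/
noncomputable def extEquiv (K : Dual.D A) (N : ModuleCat.{u} A) (i p : ℤ) (h : i + p = 0) :
    (K ⟶ ((DerivedCategory.singleFunctor (ModuleCat.{u} A) 0).obj N)⟦i⟧) ≃
      (K ⟶ (DerivedCategory.singleFunctor (ModuleCat.{u} A) p).obj N) :=
  Iso.homCongr (Iso.refl K) (singleShift N i p 0 h)

lemma subsingleton_ext_iff (K : Dual.D A) (N : Type u) [AddCommGroup N] [Module A N] (i : ℤ) :
    Subsingleton (DRing.ExtD A K (Dual.inD A N) i) ↔
      Subsingleton (K ⟶ (DerivedCategory.singleFunctor (ModuleCat.{u} A) (-i)).obj (ModuleCat.of A N)) :=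
  (extEquiv K (ModuleCat.of A N) i (-i) (by lia)).subsingleton_congr

/-- No maps to objects above `b` kills the cohomology above `b`. -/
lemma isLE_of_hom_single {K : Dual.D A} {b : ℤ}
    (h : ∀ (p : ℤ) (N : ModuleCat.{u} A), b < p →
      Subsingleton (K ⟶ (DerivedCategory.singleFunctor (ModuleCat.{u} A) p).obj N)) : K.IsLE b := by
  rw [DerivedCategory.isLE_iff]
  exact fun i hi => isZero_homology_of_hom_single K i fun I _ => h i I hi

lemma bdd_proj_of_ba {P : ObjectProperty (ModuleCat.{u} A)} (hP : Good P)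
    (hproj : ∀ M, P M → Projective M) (hret : ∀ {X Y : ModuleCat.{u} A}, Retract X Y → P Y → P X)
    {K : Dual.D A} {a b : ℤ} (hK : BA P b K) (hge : K.IsGE a)
    (hv : ∀ N : ModuleCat.{u} A,
      Subsingleton (K ⟶ (DerivedCategory.singleFunctor (ModuleCat.{u} A) (a - 1)).obj N)) :
    Bdd P a b K := by
  obtain ⟨E, hb, hp, ⟨e⟩⟩ := hK
  refine (bdd_of_hom_single hP hproj hret hb hp (isGE_of_iso' e.symm hge) fun N => ?_).of_iso e
  have := hv N
  exact (Iso.homCongr e (Iso.refl _)).subsingleton

/-- `K` with cohomology in `[a - 1, b]` and no maps to degree `a - 1` has projective amplitude in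
`[a, b]`. -/
lemma bdd_proj_of_hom {K : Dual.D A} {a b : ℤ} (hge : K.IsGE (a - 1)) (hle : K.IsLE b)
    (hv : ∀ N : ModuleCat.{u} A,
      Subsingleton (K ⟶ (DerivedCategory.singleFunctor (ModuleCat.{u} A) (a - 1)).obj N)) :
    Bdd (proj A) a b K := by
  refine bdd_proj_of_ba good_proj projective_of_proj proj_retract (ba_proj hle) ?_ hv
  rw [DerivedCategory.isGE_iff]
  intro i hi
  by_cases h : i < a - 1
  · exact DerivedCategory.isZero_of_isGE K (a - 1) i h
  · obtain rfl : i = a - 1 := by lia
    exact isZero_homology_of_hom_single K _ fun I _ => hv I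

end Groth.Agent.Lib.DR.ProjAmp
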