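import Groth.Agent.Lib.DR.EvalTen
import Groth.Agent.Lib.DR.FibreApp
import Groth.Agent.Lib.DR.Coherent
import Groth.Agent.Lib.DR.ProjAmp
import Groth.Agent.Lib.DR.Perfect
import Mathlib.Algebra.Homology.DerivedCategory.Linear
import Mathlib.Algebra.Homology.DerivedCategory.FullyFaithful
import Mathlib.Algebra.Homology.HomotopyCategory.HomComplexCohomology
import Mathlib.RingTheory.Spectrum.Prime.FreeLocus
import Mathlib.LinearAlgebra.Dual.Lemmas
import Mathlib.Algebra.Module.Torsion.Basic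
import Mathlib.CategoryTheory.Triangulated.Subcategory

/-!
# Detection of perfect and of invertible objects by Hom groups
-/

universe u

open CategoryTheory CategoryTheory.Limits MonoidalCategory CochainComplex.HomComplex
open Groth.Agent.Lib.DR.Basic Groth.Agent.Lib.DR.FiniteComplex Groth.Agent.Lib.DR.PseudoCoherent
open Groth.Agent.Lib.DR.Representative Groth.Agent.Lib.DR.TorAmp Groth.Agent.Lib.DR.ProjAmp

attribute [local instance] HasDerivedCategory.standard

namespace Groth.Agent.Lib.DR.Invertible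

variable {A : Type u} [CommRing A]

instance isKProjective_unit : (𝟙_ (DRing.Cx A)).IsKProjective := by
  have h : ∀ i : ℤ, i ≠ 0 → IsZero ((𝟙_ (DRing.Cx A)).X i) := fun i hi =>
    HomologicalComplex.isZero_single_obj_X (ComplexShape.up ℤ) 0 (ModuleCat.of A A) i hi
  have : (𝟙_ (DRing.Cx A)).IsStrictlyLE 0 :=
    (CochainComplex.isStrictlyLE_iff _ _).2 fun i hi => h i (by lia)
  have : ∀ i, Projective ((𝟙_ (DRing.Cx A)).X i) := fun i => by
    by_cases hi : i = 0
    · subst hi
      exact Projective.of_iso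
        (HomologicalComplex.singleObjXSelf (ComplexShape.up ℤ) 0 (ModuleCat.of A A)).symm
        ((IsProjective.iff_projective (R := A) A).1 inferInstance)
    · exact (h i hi).projective
  exact CochainComplex.isKProjective_of_projective _ 0

/-- No cohomology in degree `0` means no maps from the unit. -/
theorem subsingleton_unit_hom (Y : Dual.D A) (h : Subsingleton (Dual.HD A Y 0)) :
    Subsingleton (DTen.unit A ⟶ Y) := by
  refine subsingleton_of_forall_eq 0 fun f => ?_
  obtain ⟨P, R, i, q, k, hd, hP, hR⟩ := exists_trunc Y (-1) 0 rfl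
  have hR1 : R.IsGE 1 := by
    refine (isGE_iff_subsingleton R 1).2 fun n hn => ?_
    by_cases hn0 : n < 0
    · exact (isGE_iff_subsingleton R 0).1 hR n hn0
    · obtain rfl : n = 0 := by lia
      refine ModuleCat.subsingleton_of_isZero
        ((DerivedCategory.HomologySequence.exact₃ _ hd 0 1 rfl).isZero_X₂ ?_ ?_)
      · exact (ModuleCat.isZero_of_subsingleton ((DerivedCategory.homologyFunctor _ 0).obj Y)).eq_of_src _ _
      · exact (DerivedCategory.isZero_of_isLE P (-1) 1 (by lia)).eq_of_tgt _ _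
  have h1 : f ≫ q = 0 := hom_eq_zero_of_isLE_of_isGE _ (show (0 : ℤ) < 1 by lia)
    (isLE_Q_of_isZero _ 0 fun i hi =>
      HomologicalComplex.isZero_single_obj_X (ComplexShape.up ℤ) 0 (ModuleCat.of A A) i (by lia)) hR1
  obtain ⟨g, hg⟩ := Pretriangulated.Triangle.coyoneda_exact₂ _ hd f h1
  have hg0 : g = 0 := hom_eq_zero_of_isKProjective (E := 𝟙_ (DRing.Cx A)) (n := 0)
    (fun i hi => HomologicalComplex.isZero_single_obj_X (ComplexShape.up ℤ) 0 (ModuleCat.of A A) i (by lia)) hP g
  rw [hg, hg0]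
  exact zero_comp

theorem exists_functional (m : Ideal A) [m.IsMaximal] {V : Type u} [AddCommGroup V] [Module A V]
    (hV : Module.IsTorsionBySet A V m) {v : V} (hv : v ≠ 0) : ∃ φ : V →ₗ[A] A ⧸ m, φ v ≠ 0 := by
  let _ : Module (A ⧸ m) V := hV.module
  have : IsScalarTower A (A ⧸ m) V := hV.isScalarTower
  let _ : Field (A ⧸ m) := Ideal.Quotient.field m
  by_contra! h
  exact hv ((Module.forall_dual_apply_eq_zero_iff (A ⧸ m) v).1 fun φ => h (φ.restrictScalars A))

/-- No maps to `k(m)` in degree `j` gives exactness in the fibre at `m` in degree `j`. -/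
theorem mem_sup_of_subsingleton_hom (m : Ideal A) [m.IsMaximal] (E : DRing.Cx A) [E.IsKProjective]
    (i j k : ℤ) (hij : i + 1 = j) (hjk : j + 1 = k)
    (h : Subsingleton (DerivedCategory.Q.obj E ⟶
      (DerivedCategory.singleFunctor (ModuleCat.{u} A) j).obj (ModuleCat.of A (A ⧸ m))))
    (y : E.X j) (hy : (E.d j k).hom y ∈ m • (⊤ : Submodule A (E.X k))) :
    y ∈ LinearMap.range (E.d i j).hom ⊔ m • (⊤ : Submodule A (E.X j)) := by
  by_contra hn
  let W := LinearMap.range (E.d i j).hom ⊔ m • (⊤ : Submodule A (E.X j))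
  have hV : Module.IsTorsionBySet A (E.X j ⧸ W) m := by
    rintro x ⟨r, hr⟩
    obtain ⟨x, rfl⟩ := W.mkQ_surjective x
    show r • W.mkQ x = 0
    rw [← map_smul, ← LinearMap.mem_ker, Submodule.ker_mkQ]
    exact Submodule.mem_sup_right (Submodule.smul_mem_smul hr trivial)
  obtain ⟨φ, hφ⟩ := exists_functional m hV (v := W.mkQ y) (fun hy0 => hn ((Submodule.Quotient.mk_eq_zero W).1 hy0))
  let φ' : E.X j ⟶ ModuleCat.of A (A ⧸ m) := ModuleCat.ofHom (φ ∘ₗ W.mkQ)
  let Φ : E ⟶ (HomologicalComplex.single (ModuleCat.{u} A) (ComplexShape.up ℤ) j).obj (ModuleCat.of A (A ⧸ m)) :=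
    HomologicalComplex.mkHomToSingle φ' fun l (hl : l + 1 = j) => by
      obtain rfl : l = i := by lia
      ext x
      show φ (W.mkQ ((E.d l j).hom x)) = 0
      have : W.mkQ ((E.d l j).hom x) = 0 :=
        (Submodule.Quotient.mk_eq_zero W).2 (Submodule.mem_sup_left (LinearMap.mem_range_self _ x))
      rw [this, map_zero]
  have : Subsingleton (DerivedCategory.Q.obj E ⟶ DerivedCategory.Q.obj
      ((HomologicalComplex.single (ModuleCat.{u} A) (ComplexShape.up ℤ) j).obj (ModuleCat.of A (A ⧸ m)))) :=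
    (Iso.homCongr (Iso.refl _)
      ((DerivedCategory.singleFunctorIsoCompQ (ModuleCat.{u} A) j).app (ModuleCat.of A (A ⧸ m)))).symm.subsingleton
  obtain ⟨H⟩ := nonempty_homotopy_of_Q_map_eq (φ := Φ) (ψ := 0) (Subsingleton.elim _ _)
  have e := H.comm j
  rw [dNext_eq H.hom (show (ComplexShape.up ℤ).Rel j k by simpa using hjk),
    prevD_eq H.hom (show (ComplexShape.up ℤ).Rel i j by simpa using hij),
    HomologicalComplex.single_obj_d, comp_zero, add_zero, HomologicalComplex.zero_f, add_zero,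
    show Φ.f j = φ' ≫ (HomologicalComplex.singleObjXSelf (ComplexShape.up ℤ) j (ModuleCat.of A (A ⧸ m))).inv from
      HomologicalComplex.mkHomToSingle_f _ _] at e
  let ψ : E.X k →ₗ[A] A ⧸ m := (H.hom k j ≫ (HomologicalComplex.singleObjXSelf (ComplexShape.up ℤ) j
    (ModuleCat.of A (A ⧸ m))).hom).hom
  have e' : φ' = ModuleCat.ofHom (ψ ∘ₗ (E.d j k).hom) := by
    rw [Iso.comp_inv_eq] at e
    refine e.trans ?_
    ext x
    simp [ψ]
  apply hφ
  have h0 : ∀ z ∈ m • (⊤ : Submodule A (E.X k)), ψ z = 0 := fun z hz => by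
    refine Submodule.smul_induction_on hz (fun r hr x _ => ?_) (fun a b ha hb => by rw [map_add, ha, hb, add_zero])
    rw [map_smul, Algebra.smul_def, Ideal.Quotient.algebraMap_eq, Ideal.Quotient.eq_zero_iff_mem.2 hr, zero_mul]
  exact (ConcreteCategory.congr_hom e' y).trans (h0 _ hy)

/-- The cokernel of the differential into degree `i`. -/
abbrev Z (E : DRing.Cx A) (i : ℤ) := (E.X i) ⧸ LinearMap.range (E.d (i - 1) i).hom

theorem finitePresentation_Z (E : DRing.Cx A) (hp : ∀ i, ff A (E.X i)) (i : ℤ) :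
    Module.FinitePresentation A (Z E i) := by
  obtain ⟨_, _⟩ := hp i
  have := (hp (i - 1)).1
  have : Module.FinitePresentation A (E.X i) := Module.finitePresentation_of_projective A _
  exact Module.finitePresentation_of_surjective _ (Submodule.mkQ_surjective _) (by
    rw [Submodule.ker_mkQ, LinearMap.range_eq_map]
    exact Module.Finite.fg_top.map _)

theorem freeLocus_subset (E : DRing.Cx A) (hp : ∀ i, ff A (E.X i)) (i j : ℤ) (hij : i + 1 = j)
    (hex : E.ExactAt i) : Module.freeLocus A (Z E j) ⊆ Module.freeLocus A (Z E i) := by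
  obtain rfl : i = j - 1 := by lia
  intro p hp'
  let S := p.asIdeal.primeCompl
  let Rp := Localization.AtPrime p.asIdeal
  rw [HomologicalComplex.exactAt_iff' _ (j - 1 - 1) (j - 1) j (by simp) (by simp),
    ShortComplex.ShortExact.moduleCat_exact_iff_function_exact] at hex
  let f₀ : Z E (j - 1) →ₗ[A] E.X j :=
    (LinearMap.range (E.d (j - 1 - 1) (j - 1)).hom).liftQ (E.d (j - 1) j).hom (by
      rintro - ⟨x, rfl⟩
      exact hex.apply_apply_eq_zero x)
  have hinj : Function.Injective f₀ := by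
    rw [← LinearMap.ker_eq_bot, eq_bot_iff]
    intro x hx
    obtain ⟨x, rfl⟩ := Submodule.mkQ_surjective _ x
    exact (Submodule.Quotient.mk_eq_zero _).2 ((hex x).1 hx)
  let f := LocalizedModule.map S f₀
  let g := LocalizedModule.map S (LinearMap.range (E.d (j - 1) j).hom).mkQ
  have hfg : Function.Exact f g := LocalizedModule.map_exact S _ _ (by
    rw [LinearMap.exact_iff, Submodule.ker_mkQ]
    exact (Submodule.range_liftQ _ _ _).symm)
  have hfi : Function.Injective f := LocalizedModule.map_injective S _ hinj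
  have hgs : Function.Surjective g := LocalizedModule.map_surjective S _ (Submodule.mkQ_surjective _)
  obtain ⟨_, _⟩ := hp j
  obtain ⟨_, _⟩ := hp (j - 1)
  have : Module.Free Rp (LocalizedModule S (Z E j)) := hp'
  have : Module.Projective Rp (LocalizedModule S (E.X j)) :=
    Module.Projective.of_equiv (LocalizedModule.equivTensorProduct S _).symm
  have : Module.Finite Rp (LocalizedModule S (Z E (j - 1))) :=
    Module.Finite.equiv (LocalizedModule.equivTensorProduct S _).symm
  obtain ⟨σ, hσ⟩ := Module.projective_lifting_property g LinearMap.id hgs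
  obtain ⟨e, he, -⟩ := (hfg.splitSurjectiveEquiv hfi) ⟨σ, hσ⟩
  have : Module.Projective Rp (LocalizedModule S (Z E (j - 1))) :=
    Module.Projective.of_split f ((LinearMap.fst Rp _ _).comp e.toLinearMap) (LinearMap.ext fun x => by
      simp [he])
  show Module.Free Rp (LocalizedModule S (Z E (j - 1)))
  exact Module.free_of_flat_of_isLocalRing

/-- Over a Noetherian ring, a bounded object with finite cohomology and eventually no maps to each
residue field is perfect. -/
theorem isPerfect_of_hom_residue [IsNoetherianRing A] (K : Dual.D A)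
    (hfin : ∀ i : ℤ, Module.Finite A (Dual.HD A K i)) (a b : ℤ) (hge : K.IsGE a) (hle : K.IsLE b)
    (h : ∀ m : Ideal A, m.IsMaximal → ∃ N : ℤ, ∀ p, p < N →
      Subsingleton (K ⟶ (DerivedCategory.singleFunctor (ModuleCat.{u} A) p).obj (ModuleCat.of A (A ⧸ m)))) :
    DRing.IsPerfect A K := by
  have hK : ∀ n, PCn (ff A) n K := fun n => (Coherent.pcn_iff Coherent.isCoh_of_isNoetherianRing hle n).2
    ⟨hfin n, fun i _ => have := hfin i; Module.finitePresentation_of_finite _ _⟩
  obtain ⟨E, hE, hp, ⟨e⟩⟩ := ba_ff_of_forall hK hle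
  have : E.IsKProjective := isKProjective_of_bounds projective_of_ff hE hp
  have hgeE : (DerivedCategory.Q.obj E).IsGE a := isGE_of_iso' e.symm hge
  have hex : ∀ i, i < a → E.ExactAt i := fun i hi => by
    rw [HomologicalComplex.exactAt_iff_isZero_homology]
    exact (DerivedCategory.isZero_of_isGE (DerivedCategory.Q.obj E) a i hi).of_iso (homologyQIso E i).symm
  let U : ℕ → Set (PrimeSpectrum A) := fun n => Module.freeLocus A (Z E (a - 1 - n))
  have hopen : ∀ n, IsOpen (U n) := fun n =>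
    have := finitePresentation_Z E hp (a - 1 - n)
    Module.isOpen_freeLocus
  have hmono : Monotone U := monotone_nat_of_le_succ fun n =>
    freeLocus_subset E hp _ _ (by lia) (hex _ (by lia))
  have hcov : Set.univ ⊆ ⋃ n, U n := fun p _ => by
    obtain ⟨m, hm, hpm⟩ := Ideal.exists_le_maximal p.asIdeal p.2.ne_top
    obtain ⟨N, hN⟩ := h m hm
    let n : ℕ := (a - N).toNat
    have hsub : ∀ q, q < N → Subsingleton (DerivedCategory.Q.obj E ⟶
        (DerivedCategory.singleFunctor (ModuleCat.{u} A) q).obj (ModuleCat.of A (A ⧸ m))) := fun q hq =>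
      have := hN q hq
      (Iso.homCongr e (Iso.refl _)).subsingleton
    let j := a - 1 - n
    obtain ⟨_, _⟩ := hp (j - 1)
    obtain ⟨_, _⟩ := hp j
    have hfree := Fibre.free_localized m (E.d (j - 1 - 1) (j - 1)).hom (E.d (j - 1) j).hom
      (congrArg ModuleCat.Hom.hom (E.d_comp_d _ _ _))
      (fun y hy => mem_sup_of_subsingleton_hom m E (j - 1 - 1) (j - 1) j (by lia) (by lia)
        (hsub _ (by omega)) y hy)
    refine Set.mem_iUnion.2 ⟨n, ?_⟩
    exact ((PrimeSpectrum.le_iff_specializes p ⟨m, hm.isPrime⟩).1 hpm).mem_open (hopen n) hfree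
  obtain ⟨n, hn⟩ := isCompact_univ.elim_directed_cover U hopen hcov hmono.directed_le
  have := finitePresentation_Z E hp (a - 1 - n)
  have hproj : Module.Projective A (Z E (a - 1 - n)) :=
    Module.freeLocus_eq_univ_iff.1 (Set.eq_univ_of_univ_subset hn)
  exact (Perfect.pf_iff K).2 ⟨a - 1 - n, b, (bdd_of_opcycles good_fproj hE (fun i _ => fproj_of_ff _ (hp i))
    (isGE_mono hgeE (by lia)) ⟨inferInstance, hproj⟩).of_iso e⟩

/-- A perfect object with endomorphisms `A` and no shifted endomorphisms is invertible. -/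
theorem isInvertible_of_hom [DTen.HasLTen A] (L : Dual.D A) (hL : DRing.IsPerfect A L)
    (h0 : ∀ n : ℤ, n ≠ 0 → Subsingleton (L ⟶ L⟦n⟧))
    (h1 : Function.Bijective (fun a : A => a • 𝟙 L)) : DTen.IsInvertible A L := by
  obtain ⟨P, S, hP, hS, hp, ⟨eL⟩⟩ := EvalTen.exists_perfect_rep hL
  have h0' : ∀ n : ℤ, n ≠ 0 → Subsingleton (DerivedCategory.Q.obj P ⟶ DerivedCategory.Q.obj (P⟦n⟧)) :=
    fun n hn => have := h0 n hn
      (Iso.homCongr eL ((DerivedCategory.Q.commShiftIso n).app P ≪≫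
        (shiftFunctor (Dual.D A) n).mapIso eL)).subsingleton
  have h1' : Function.Bijective (fun a : A => a • 𝟙 (DerivedCategory.Q.obj P)) := by
    have : (fun a : A => a • 𝟙 (DerivedCategory.Q.obj P)) =
        (Iso.homCongr eL.symm eL.symm) ∘ (fun a : A => a • 𝟙 L) := by
      ext a
      simp
    rw [this]
    exact (Iso.homCongr eL.symm eL.symm).bijective.comp h1
  let C := DRing.homCx P P
  have hexC : ∀ n, n ≠ 0 → C.ExactAt n := fun n hn => by
    rw [HomologicalComplex.exactAt_iff' _ (n - 1) n (n + 1) (by simp) (by simp), ShortComplex.moduleCat_exact_iff]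
    intro z hz
    let x : Cocycle P P n := Cocycle.mk z (n + 1) rfl hz
    have := h0' n hn
    obtain ⟨h⟩ := nonempty_homotopy_of_Q_map_eq (φ := Cocycle.equivHomShift.symm x) (ψ := 0)
      (Subsingleton.elim _ _)
    have h0 : CohomologyClass.toHom (CohomologyClass.mk x) = 0 := by
      rw [CohomologyClass.toHom_mk, HomotopyCategory.eq_of_homotopy _ _ h, Functor.map_zero]
    obtain ⟨m, hm, β, hβ⟩ := (CohomologyClass.toHom_mk_eq_zero_iff x).1 h0
    obtain rfl : m = n - 1 := by lia
    exact ⟨β, hβ⟩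
  let T := C.sc' (-1) 0 1
  let c : T.X₂ := (Cochain.ofHom (𝟙 P) : Cochain P P 0)
  have hc : c ∈ LinearMap.ker T.g.hom := by
    show δ 0 1 (Cochain.ofHom (𝟙 P)) = 0
    exact δ_ofHom _
  let θ : A →ₗ[A] T.moduleCatLeftHomologyData.H :=
    (LinearMap.range T.moduleCatToCycles).mkQ.comp (LinearMap.toSpanSingleton A _ ⟨c, hc⟩)
  have hθ : Function.Bijective θ := by
    constructor
    · rw [injective_iff_map_eq_zero]
      intro a ha
      obtain ⟨(β : Cochain P P (-1)), hβ⟩ := (Submodule.Quotient.mk_eq_zero _).1 ha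
      have hβ' : δ (-1) 0 β = a • Cochain.ofHom (𝟙 P) := congrArg Subtype.val hβ
      have hh : Cochain.ofHom (a • 𝟙 P) = δ (-1) 0 β + Cochain.ofHom 0 := by
        rw [hβ', Cochain.ofHom_zero, add_zero]
        refine Cochain.ext _ _ fun p q hpq => ?_
        obtain rfl : q = p := by lia
        simp
      have hq := DerivedCategory.Q_map_eq_of_homotopy _ ((Cochain.equivHomotopy (a • 𝟙 P) 0).symm ⟨β, hh⟩)
      rw [Functor.map_zero, Functor.map_smul, CategoryTheory.Functor.map_id] at hq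
      exact h1'.1 (by simpa using hq)
    · intro x
      obtain ⟨⟨z, hz⟩, rfl⟩ := Submodule.mkQ_surjective _ x
      let f : P ⟶ P := Cocycle.homOf (Cocycle.mk (z : Cochain P P 0) 1 rfl hz)
      obtain ⟨a, ha⟩ := h1'.2 (DerivedCategory.Q.map f)
      obtain ⟨H⟩ := nonempty_homotopy_of_Q_map_eq (φ := f) (ψ := a • 𝟙 P) (by
        rw [Functor.map_smul, CategoryTheory.Functor.map_id]
        exact ha.symm)
      obtain ⟨β, hβ⟩ := Cochain.equivHomotopy _ _ H
      refine ⟨a, Eq.symm ((Submodule.Quotient.eq _).2 ⟨(β : Cochain P P (-1)), Subtype.ext ?_⟩)⟩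
      have h2 : Cochain.ofHom f = (z : Cochain P P 0) := Cocycle.cochain_ofHom_homOf_eq_coe _
      have h3 : Cochain.ofHom (a • 𝟙 P) = a • Cochain.ofHom (𝟙 P) := Cochain.ext _ _ fun p q hpq => by
        obtain rfl : q = p := by lia
        simp
      rw [h2, h3] at hβ
      let z' : Cochain P P 0 := z
      show δ (-1) 0 β = z' - a • Cochain.ofHom (𝟙 P)
      have hβ' : z' = δ (-1) 0 β + a • Cochain.ofHom (𝟙 P) := hβ
      rw [hβ', add_sub_cancel_right]
  have : (DerivedCategory.Q.obj C).IsGE 0 := (DerivedCategory.isGE_iff _ _).2 fun i hi =>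
    ((HomologicalComplex.exactAt_iff_isZero_homology _ _).1 (hexC i (by lia))).of_iso (homologyQIso C i)
  have : (DerivedCategory.Q.obj C).IsLE 0 := (DerivedCategory.isLE_iff _ _).2 fun i hi =>
    ((HomologicalComplex.exactAt_iff_isZero_homology _ _).1 (hexC i (by lia))).of_iso (homologyQIso C i)
  obtain ⟨Y, ⟨eY⟩⟩ := DerivedCategory.exists_iso_singleFunctor_obj_of_isGE_of_isLE (DerivedCategory.Q.obj C) 0
  let eY' : ModuleCat.of A A ≅ Y :=
    (LinearEquiv.ofBijective θ hθ).toModuleIso ≪≫ T.moduleCatHomologyIso.symm ≪≫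
      (ShortComplex.homologyMapIso (C.isoSc' (-1) 0 1 (by simp) (by simp))).symm ≪≫
      (homologyQIso C 0).symm ≪≫ (DerivedCategory.homologyFunctor _ 0).mapIso eY ≪≫
      (DerivedCategory.singleFunctorCompHomologyFunctorIso _ 0).app Y
  let eC : DerivedCategory.Q.obj C ≅ DTen.unit A :=
    eY ≪≫ (DerivedCategory.singleFunctor _ 0).mapIso eY'.symm ≪≫
      (DerivedCategory.singleFunctorIsoCompQ _ 0).app (ModuleCat.of A A)
  have := HomCxFinite.isIso_evalTenCx_of_right P P (𝟙_ (DRing.Cx A)) S hS hp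
  let e : P ⊗ DRing.homCx P (𝟙_ (DRing.Cx A)) ≅ C :=
    asIso (HomCxFinite.evalTenCx P P (𝟙_ (DRing.Cx A))) ≪≫ (DRing.homCxFunctor P).mapIso (ρ_ P)
  refine ⟨DerivedCategory.Q.obj (DRing.homCx P (𝟙_ (DRing.Cx A))), ⟨?_⟩, ⟨?_⟩⟩
  · exact (DTen.LTen₂ A).mapIso (eL.symm.prod (Iso.refl _)) ≪≫
      asIso ((DTen.ε A).app (P, DRing.homCx P (𝟙_ (DRing.Cx A)))) ≪≫ DerivedCategory.Q.mapIso e ≪≫ eC
  · exact (DTen.LTen₂ A).mapIso ((Iso.refl _).prod eL.symm) ≪≫
      asIso ((DTen.ε A).app (DRing.homCx P (𝟙_ (DRing.Cx A)), P)) ≪≫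
      DerivedCategory.Q.mapIso ((DTen.braidCx _ P) ≪≫ e) ≪≫ eC

theorem isInvertible_map_unit [IsNoetherianRing A] [DTen.HasLTen A]
    (P : ObjectProperty (Dual.D A))
    (hP : ∀ K : Dual.D A, P K ↔
      ((∀ i : ℤ, Module.Finite A (Dual.HD A K i)) ∧ ∃ a b : ℤ, ∀ i : ℤ, (i < a ∨ b < i) → Subsingleton (Dual.HD A K i)))
    [P.IsTriangulated]
    (F : P.FullSubcategory ⥤ P.FullSubcategory) [F.CommShift ℤ] [F.IsEquivalence]
    [F.Additive] [F.Linear A] (hA : P (DTen.unit A)) :
    DTen.IsInvertible A (F.obj ⟨DTen.unit A, hA⟩).obj := by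
  let U : P.FullSubcategory := ⟨DTen.unit A, hA⟩
  let φ : ∀ (M : P.FullSubcategory) (j : ℤ), ((F.obj U).obj ⟶ (F.obj M).obj⟦j⟧) ≃ (DTen.unit A ⟶ M.obj⟦j⟧) :=
    fun M j =>
    let e₁ : ((F.obj U).obj ⟶ (F.obj M).obj⟦j⟧) ≃ (P.ι.obj (F.obj U) ⟶ P.ι.obj ((F.obj M)⟦j⟧)) :=
      Iso.homCongr (Iso.refl (P.ι.obj (F.obj U))) ((P.ι.commShiftIso j).app (F.obj M)).symm
    let e₂ : (P.ι.obj (F.obj U) ⟶ P.ι.obj ((F.obj M)⟦j⟧)) ≃ (F.obj U ⟶ (F.obj M)⟦j⟧) :=
      P.fullyFaithfulι.homEquiv.symm
    let e₃ : (F.obj U ⟶ (F.obj M)⟦j⟧) ≃ (F.obj U ⟶ F.obj (M⟦j⟧)) :=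
      Iso.homCongr (Iso.refl _) ((F.commShiftIso j).app M).symm
    let e₄ : (F.obj U ⟶ F.obj (M⟦j⟧)) ≃ (U ⟶ M⟦j⟧) :=
      (Functor.FullyFaithful.ofFullyFaithful F).homEquiv.symm
    let e₅ : (U ⟶ M⟦j⟧) ≃ (P.ι.obj U ⟶ P.ι.obj (M⟦j⟧)) := P.fullyFaithfulι.homEquiv
    let e₆ : (P.ι.obj U ⟶ P.ι.obj (M⟦j⟧)) ≃ (DTen.unit A ⟶ M.obj⟦j⟧) :=
      Iso.homCongr (Iso.refl (P.ι.obj U)) ((P.ι.commShiftIso j).app M)
    e₁.trans (e₂.trans (e₃.trans (e₄.trans (e₅.trans e₆))))
  have hvan : ∀ (M : P.FullSubcategory) (j : ℤ), Subsingleton (Dual.HD A M.obj j) →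
      Subsingleton ((F.obj U).obj ⟶ (F.obj M).obj⟦j⟧) := fun M j hj => by
    have : Subsingleton (DTen.unit A ⟶ M.obj⟦j⟧) := subsingleton_unit_hom _ (ModuleCat.subsingleton_of_isZero
      ((ModuleCat.isZero_of_subsingleton ((DerivedCategory.homologyFunctor _ j).obj M.obj)).of_iso
        (((DerivedCategory.homologyFunctor (ModuleCat.{u} A) 0).shiftIso j 0 j (by lia)).app M.obj)))
    exact (φ M j).subsingleton
  obtain ⟨hfin, a, b, hab⟩ := (hP _).1 (F.obj U).property
  refine isInvertible_of_hom _ ?_ ?_ ?_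
  · refine isPerfect_of_hom_residue _ hfin a b ((isGE_iff_subsingleton _ a).2 fun i hi => hab i (Or.inl hi))
      ((isLE_iff_subsingleton _ b).2 fun i hi => hab i (Or.inr hi)) fun m hm => ?_
    let k : Dual.D A := (DerivedCategory.singleFunctor (ModuleCat.{u} A) 0).obj (ModuleCat.of A (A ⧸ m))
    have hk : P k := by
      refine (hP _).2 ⟨fun i => ?_, 0, 0, fun i hi => ModuleCat.subsingleton_of_isZero ?_⟩
      · by_cases hi : i = 0
        · subst hi
          have : Module.Finite A ((𝟭 (ModuleCat.{u} A)).obj (ModuleCat.of A (A ⧸ m))) :=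
            inferInstanceAs (Module.Finite A (A ⧸ m))
          exact Module.Finite.equiv
            ((DerivedCategory.singleFunctorCompHomologyFunctorIso (ModuleCat.{u} A) 0).app
              (ModuleCat.of A (A ⧸ m))).symm.toLinearEquiv
        · have : Subsingleton (Dual.HD A k i) := by
            rcases lt_or_gt_of_ne hi with h | h
            · exact ModuleCat.subsingleton_of_isZero (DerivedCategory.isZero_of_isGE k 0 i h)
            · exact ModuleCat.subsingleton_of_isZero (DerivedCategory.isZero_of_isLE k 0 i h)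
          exact Module.Finite.of_finite
      · rcases hi with h | h
        · exact DerivedCategory.isZero_of_isGE k 0 i h
        · exact DerivedCategory.isZero_of_isLE k 0 i h
    let M := F.objPreimage ⟨k, hk⟩
    let eM : (F.obj M).obj ≅ k := P.ι.mapIso (F.objObjPreimageIso ⟨k, hk⟩)
    obtain ⟨-, c, d, hcd⟩ := (hP _).1 M.property
    refine ⟨-d, fun p hp => ?_⟩
    have := hvan M (-p) (hcd _ (Or.inr (by lia)))
    exact (Iso.homCongr (Iso.refl _) ((shiftFunctor _ (-p)).mapIso eM ≪≫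
      singleShift (ModuleCat.of A (A ⧸ m)) (-p) p 0 (by lia))).symm.subsingleton
  · intro n hn
    refine hvan U n (ModuleCat.subsingleton_of_isZero ?_)
    refine IsZero.of_iso ?_ (homologyQIso (𝟙_ (DRing.Cx A)) n)
    exact HomologicalComplex.isZero_single_obj_homology (ComplexShape.up ℤ) 0 (ModuleCat.of A A) n hn
  · have hu : Function.Bijective (fun a : A => a • 𝟙 (DTen.unit A)) := by
      constructor
      · intro a b hab
        have hQ : DerivedCategory.Q.map (a • 𝟙 (𝟙_ (DRing.Cx A))) =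
            DerivedCategory.Q.map (b • 𝟙 (𝟙_ (DRing.Cx A))) := by
          rw [Functor.map_smul, Functor.map_smul, CategoryTheory.Functor.map_id]
          exact hab
        obtain ⟨H⟩ := nonempty_homotopy_of_Q_map_eq hQ
        have h := H.comm 0
        rw [dNext_eq H.hom (show (ComplexShape.up ℤ).Rel 0 1 by simp),
          prevD_eq H.hom (show (ComplexShape.up ℤ).Rel (-1) 0 by simp),
          show (𝟙_ (DRing.Cx A)).d 0 1 = 0 from HomologicalComplex.single_obj_d _ _ _ _ _,
          show (𝟙_ (DRing.Cx A)).d (-1) 0 = 0 from HomologicalComplex.single_obj_d _ _ _ _ _,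
          zero_comp, comp_zero, add_zero, zero_add] at h
        let e₀ := HomologicalComplex.singleObjXSelf (ComplexShape.up ℤ) 0 (ModuleCat.of A A)
        have h' : e₀.inv ≫ (a • 𝟙 (𝟙_ (DRing.Cx A))).f 0 ≫ e₀.hom =
            e₀.inv ≫ (b • 𝟙 (𝟙_ (DRing.Cx A))).f 0 ≫ e₀.hom :=
          congrArg (fun w => e₀.inv ≫ w ≫ e₀.hom) h
        have h'' : a • 𝟙 (ModuleCat.of A A) = b • 𝟙 (ModuleCat.of A A) := by
          have h1 : e₀.inv ≫ 𝟙 ((𝟙_ (DRing.Cx A)).X 0) ≫ e₀.hom = 𝟙 (ModuleCat.of A A) :=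
            (congrArg (e₀.inv ≫ ·) (Category.id_comp e₀.hom)).trans e₀.inv_hom_id
          simp only [HomologicalComplex.smul_f_apply, HomologicalComplex.id_f, Linear.smul_comp,
            Linear.comp_smul] at h'
          rwa [h1] at h'
        have := ConcreteCategory.congr_hom h'' (1 : A)
        simpa using this
      · intro f
        obtain ⟨g, rfl⟩ := exists_Q_map_eq (E := 𝟙_ (DRing.Cx A)) (K := 𝟙_ (DRing.Cx A)) f
        let e₀ := HomologicalComplex.singleObjXSelf (ComplexShape.up ℤ) 0 (ModuleCat.of A A)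
        let g₀ : ModuleCat.of A A ⟶ ModuleCat.of A A := e₀.inv ≫ g.f 0 ≫ e₀.hom
        refine ⟨g₀ (1 : A), ?_⟩
        have hg : g = g₀ (1 : A) • 𝟙 (𝟙_ (DRing.Cx A)) := by
          refine HomologicalComplex.from_single_hom_ext ?_
          rw [← cancel_epi e₀.inv, ← cancel_mono e₀.hom, HomologicalComplex.smul_f_apply, Category.assoc]
          refine ModuleCat.hom_ext (LinearMap.ext_ring ?_)
          show g₀ (1 : A) = _
          simp [e₀]
          exact congrArg g₀ (ConcreteCategory.congr_hom e₀.inv_hom_id (1 : A)).symm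
        conv_rhs => rw [hg, Functor.map_smul, CategoryTheory.Functor.map_id]
    have : (fun a : A => a • 𝟙 (F.obj U).obj) =
        (P.fullyFaithfulι.homEquiv (X := F.obj U) (Y := F.obj U)) ∘
          ((Functor.FullyFaithful.ofFullyFaithful F).homEquiv (X := U) (Y := U)) ∘
          (P.fullyFaithfulι.homEquiv (X := U) (Y := U)).symm ∘ (fun a : A => a • 𝟙 (DTen.unit A)) := by
      funext a
      have h : (P.fullyFaithfulι.homEquiv (X := U) (Y := U)).symm (a • 𝟙 (DTen.unit A)) = a • 𝟙 U := by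
        rw [Equiv.symm_apply_eq]
        rfl
      show _ = (F.map ((P.fullyFaithfulι.homEquiv (X := U) (Y := U)).symm (a • 𝟙 (DTen.unit A)))).hom
      rw [h, Functor.map_smul, CategoryTheory.Functor.map_id]
      rfl
    rw [this]
    exact (Equiv.bijective _).comp ((Equiv.bijective _).comp ((Equiv.bijective _).comp hu))

end Groth.Agent.Lib.DR.Invertible
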