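import Groth.Agent.Lib.DR.BcRHom
import Groth.Agent.Lib.DR.ExactPush
import Groth.Agent.Lib.DR.TorDim
import Mathlib.Algebra.Homology.DerivedCategory.TStructure

/-!
# Base change of `RHom`: the standard cases
-/

universe u

open CategoryTheory CategoryTheory.Limits MonoidalCategory HomologicalComplex

attribute [local instance] HasDerivedCategory.standard

set_option backward.isDefEq.respectTransparency false

namespace Groth.Agent.Lib.DR.BcRHomCases

variable {R R' : Type u} [CommRing R] [CommRing R'] (φ : R →+* R')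

/-- `R'` as an `R`-module in degree zero. -/
noncomputable def unitIso :
    (DerivedCategory.singleFunctor (ModuleCat.{u} R) 0).obj
        ((ModuleCat.restrictScalars.{u} φ).obj (ModuleCat.of R' R')) ≅
      DerivedCategory.Q.obj ((DTen.resCx φ).obj (𝟙_ (DRing.Cx R'))) :=
  (ExactPush.mapSingle (ModuleCat.restrictScalars.{u} φ) (ModuleCat.of R' R') 0).symm ≪≫
    (DRing.restrictD φ).mapIso
      ((DerivedCategory.singleFunctorIsoCompQ (ModuleCat.{u} R') 0).app (ModuleCat.of R' R')) ≪≫
    (DTen.resFactors φ).app (𝟙_ (DRing.Cx R'))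

theorem isZero_resUnit (i : ℤ) (hi : i ≠ 0) : IsZero (((DTen.resCx φ).obj (𝟙_ (DRing.Cx R'))).X i) :=
  Functor.map_isZero (ModuleCat.restrictScalars.{u} φ)
    (HomologicalComplex.isZero_single_obj_X (ComplexShape.up ℤ) 0 (ModuleCat.of R' R') i hi)

theorem flat_resUnit (h : Module.Flat R ((ModuleCat.restrictScalars.{u} φ).obj (ModuleCat.of R' R'))) (i : ℤ) :
    Module.Flat R (((DTen.resCx φ).obj (𝟙_ (DRing.Cx R'))).X i) := by
  by_cases hi : i = 0
  · subst hi
    exact Module.Flat.of_linearEquiv ((ModuleCat.restrictScalars.{u} φ).mapIso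
      (HomologicalComplex.singleObjXSelf (ComplexShape.up ℤ) 0 (ModuleCat.of R' R'))).toLinearEquiv
  · have := ModuleCat.subsingleton_of_isZero (isZero_resUnit φ i hi)
    infer_instance

/-- `bcRHom` is invertible when some flat model of `R'` makes the evaluation of complexes invertible. -/
theorem isIso_bcRHom_of_model [DTen.HasLTen R] [DTen.HasLTen R'] [DTen.HasRHom R] [DTen.HasRHom R']
    [DTen.HasLBase φ] [DTen.HasResTen φ] [DTen.ResLegIso φ] {K M : Dual.D R}
    [IsIso (DTen.rhomBC φ K ((DTen.LBase φ).obj M))] (E P X : DRing.Cx R) [P.IsKProjective]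
    (eK : DerivedCategory.Q.obj P ≅ K) (eM : DerivedCategory.Q.obj X ≅ M) (hE : DRing.IsKFlat R E)
    (eE : DerivedCategory.Q.obj E ≅ DerivedCategory.Q.obj ((DTen.resCx φ).obj (𝟙_ (DRing.Cx R'))))
    (h : IsIso (HomCxFinite.evalTenCx E P X)) : IsIso (DTen.bcRHom φ K M) := by
  let U := (DTen.resCx φ).obj (𝟙_ (DRing.Cx R'))
  let E₁ := (KProjRes.res R).obj U
  let p : E₁ ⟶ U := (KProjRes.aug R).app U
  have hp : QuasiIso p := KProjRes.quasiIso_aug R U
  have := DTenBasic.isIso_Q_map p hp
  obtain ⟨q, hq⟩ := Basic.exists_Q_map_eq (E := E₁) (DerivedCategory.Q.map p ≫ eE.inv)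
  have : QuasiIso q := by
    rw [← DerivedCategory.isIso_Q_map_iff_quasiIso, hq]
    infer_instance
  exact BcRHom.isIso_bcRHom_rep φ q p P X K M eK eM hE h

theorem isKFlat_of_bdd {E : DRing.Cx R} (b : ℤ) (hb : ∀ i, b < i → IsZero (E.X i))
    (hP : ∀ i, Module.Flat R (E.X i)) : DRing.IsKFlat R E :=
  KFlat.isKFlat_of_flat E b hb hP

/-- The pseudo-coherent, bounded below case. -/
theorem isIso_bcRHom_of_isPseudoCoherent [DTen.HasLTen R] [DTen.HasLTen R'] [DTen.HasRHom R] [DTen.HasRHom R']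
    [DTen.HasLBase φ] [DTen.HasResTen φ] [DTen.ResLegIso φ] {K M : Dual.D R}
    [IsIso (DTen.rhomBC φ K ((DTen.LBase φ).obj M))] (hK : DRing.IsPseudoCoherent' R K) (n : ℤ)
    [M.IsGE n] (E : DRing.Cx R) (a b : ℤ) (hv : ∀ i, i < a ∨ b < i → IsZero (E.X i))
    (hflat : ∀ i, Module.Flat R (E.X i))
    (eE : DerivedCategory.Q.obj E ≅ DerivedCategory.Q.obj ((DTen.resCx φ).obj (𝟙_ (DRing.Cx R')))) :
    IsIso (DTen.bcRHom φ K M) := by
  obtain ⟨P, c, hc, hff, ⟨eK⟩⟩ := hK
  have hproj : ∀ i, Module.Finite R (P.X i) ∧ Module.Projective R (P.X i) := fun i =>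
    ⟨(hff i).1, have := (hff i).2; Module.Projective.of_free⟩
  have : P.IsStrictlyLE c := (CochainComplex.isStrictlyLE_iff _ _).2 fun i hi => hc i hi
  have : ∀ i, Projective (P.X i) := fun i =>
    have := (hproj i).2
    (IsProjective.iff_projective (R := R) (P.X i)).1 this
  have := CochainComplex.isKProjective_of_projective P c
  obtain ⟨X, hX, ⟨eM⟩⟩ := DerivedCategory.exists_iso_Q_obj_of_isGE M n
  refine isIso_bcRHom_of_model φ E P X eK eM.symm (isKFlat_of_bdd b (fun i hi => hv i (Or.inr hi)) hflat) eE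
    (BcRHom.Finitary.isIso_evalTenCx_of_finitary E P X hproj fun m => ⟨Finset.Icc (n - m + a) c, fun q hq => ?_⟩)
  rw [Finset.mem_Icc] at hq
  by_cases h : c < q
  · exact Or.inl (hc q h)
  · refine Or.inr fun i => ?_
    by_cases hi : i < a
    · exact Or.inl (hv i (Or.inl hi))
    · exact Or.inr ((CochainComplex.isStrictlyGE_iff _ _).1 hX _ (by lia))

/-- The structure map gives back the module structure of an algebra. -/
noncomputable def algIso (R R' : Type u) [CommRing R] [CommRing R'] [Algebra R R'] :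
    ModuleCat.of R R' ≅ (ModuleCat.restrictScalars.{u} (algebraMap R R')).obj (ModuleCat.of R' R') :=
  LinearEquiv.toModuleIso (X₂ := (ModuleCat.restrictScalars.{u} (algebraMap R R')).obj (ModuleCat.of R' R'))
    { AddEquiv.refl R' with
      map_smul' := fun r x => Algebra.smul_def r x }

/-- `inD R R'` is the restriction of the unit. -/
noncomputable def inDIso (R R' : Type u) [CommRing R] [CommRing R'] [Algebra R R'] :
    Dual.inD R R' ≅ DerivedCategory.Q.obj ((DTen.resCx (algebraMap R R')).obj (𝟙_ (DRing.Cx R'))) :=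
  (DerivedCategory.singleFunctor (ModuleCat.{u} R) 0).mapIso (algIso R R') ≪≫ unitIso (algebraMap R R')

end Groth.Agent.Lib.DR.BcRHomCases
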