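import Groth.Agent.Lib.DR.DTenRing
import Groth.Prelude.Def_DTen5
import Groth.Prelude.Def_DTen6

/-!
# Base change is monoidal, and the comparison for `RHom`
-/

universe u

open CategoryTheory CategoryTheory.Limits MonoidalCategory HomologicalComplex

attribute [local instance] HasDerivedCategory.standard

set_option backward.isDefEq.respectTransparency false

namespace Groth.Agent.Lib.DR.DTenProj

variable {R R' : Type u} [CommRing R] [CommRing R'] (φ : R →+* R')

theorem unit_δ (M N : ModuleCat.{u} R) :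
    ((ModuleCat.extendRestrictScalarsAdj.{u} φ).unit.app M ⊗ₘ (ModuleCat.extendRestrictScalarsAdj.{u} φ).unit.app N) ≫
      DTen.resTen₀app φ _ _ =
    (ModuleCat.extendRestrictScalarsAdj.{u} φ).unit.app (M ⊗ N) ≫
      (DTen.resM φ).map (Functor.OplaxMonoidal.δ (DTen.extM φ) M N) :=
  ModuleCat.hom_ext (TensorProduct.ext' fun m n => (ModuleCat.extendScalars_δ_tmul φ M N m n).symm)

theorem unitCx_resTenCx (X K : DRing.Cx R) :
    ((DTen.unitCx φ).app X ⊗ₘ (DTen.unitCx φ).app K) ≫
        DTen.resTenCx φ ((DTen.extCx φ).obj X) ((DTen.extCx φ).obj K) =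
      (DTen.unitCx φ).app (X ⊗ K) ≫ (DTen.resCx φ).map (DTen.extTenCxIso φ X K).hom := by
  change HomologicalComplex.mapBifunctorMap _ _ _ _ ≫ _ = _
  refine HomologicalComplex.hom_ext _ _ fun n => HomologicalComplex.mapBifunctor.hom_ext fun p q h => ?_
  let u := (ModuleCat.extendRestrictScalarsAdj.{u} φ).unit
  let ι := HomologicalComplex.ιTensorObj X K p q n h
  let ι' := HomologicalComplex.ιTensorObj ((DTen.extCx φ).obj X) ((DTen.extCx φ).obj K) p q n h
  have hn : ι ≫ u.app ((X ⊗ K).X n) = u.app (X.X p ⊗ K.X q) ≫ (DTen.resM φ).map ((DTen.extM φ).map ι) :=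
    u.naturality ι
  have hR : ι ≫ u.app ((X ⊗ K).X n) ≫ (DTen.resM φ).map ((DTen.extTenCxIso φ X K).hom.f n) =
      ((u.app (X.X p) ⊗ₘ u.app (K.X q)) ≫ DTen.resTen₀app φ _ _) ≫ (DTen.resM φ).map ι' := by
    refine (Category.assoc _ _ _).symm.trans ?_
    refine (congrArg (· ≫ _) hn).trans ?_
    refine (Category.assoc _ _ _).trans ?_
    refine (congrArg (_ ≫ ·) (((DTen.resM φ).map_comp _ _).symm.trans
      (congrArg (DTen.resM φ).map (DTen.map_ι_extTenCxIso_hom φ X K p q n h)))).trans ?_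
    refine (congrArg (_ ≫ ·) ((DTen.resM φ).map_comp _ _)).trans ?_
    exact (Category.assoc _ _ _).symm.trans (congrArg (· ≫ _) (unit_δ φ _ _).symm)
  rw [HomologicalComplex.comp_f, HomologicalComplex.comp_f, HomologicalComplex.ι_mapBifunctorMap_assoc]
  refine (congrArg (fun m => _ ≫ _ ≫ m) (DTen.ι_resTenCx φ _ _ p q n h)).trans (Eq.trans ?_ hR.symm)
  rw [MonoidalCategory.tensorHom_def]
  exact ((Category.assoc _ _ _).trans (Category.assoc _ _ _)).symm

variable [DTen.HasLTen R] [DTen.HasLTen R'] [DTen.HasLBase φ] [DTen.HasResTen φ] [DTen.ResLegIso φ]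

/-- The adjunct of the monoidal comparison of base change. -/
noncomputable def fη (X K : Dual.D R) :
    (DTen.LTen₂ R).obj (X, K) ⟶ (DRing.restrictD φ).obj ((DTen.LTen₂ R').obj ((DTen.LBase φ).obj X, (DTen.LBase φ).obj K)) :=
  (DTen.LTen₂ R).map (Prod.mkHom ((DTen.baseAdj φ).unit.app X) ((DTen.baseAdj φ).unit.app K)) ≫
    (DTen.resPF φ).app ((DTen.LBase φ).obj X, (DTen.LBase φ).obj K)

/-- The monoidal comparison of base change. -/
noncomputable def μ (X K : Dual.D R) :
    (DTen.LBase φ).obj ((DTen.LTen₂ R).obj (X, K)) ⟶ (DTen.LTen₂ R').obj ((DTen.LBase φ).obj X, (DTen.LBase φ).obj K) :=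
  ((DTen.baseAdj φ).homEquiv _ _).symm (fη φ X K)

theorem fη_naturality {X X' K K' : Dual.D R} (f : X ⟶ X') (g : K ⟶ K') :
    (DTen.LTen₂ R).map (Prod.mkHom f g) ≫ fη φ X' K' =
      fη φ X K ≫ (DRing.restrictD φ).map ((DTen.LTen₂ R').map
        (Prod.mkHom ((DTen.LBase φ).map f) ((DTen.LBase φ).map g))) := by
  have h := (DTen.resPF φ).naturality (Prod.mkHom ((DTen.LBase φ).map f) ((DTen.LBase φ).map g))
  have h1 := (DTen.baseAdj φ).unit.naturality f
  have h2 := (DTen.baseAdj φ).unit.naturality g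
  dsimp at h h1 h2
  rw [fη, fη, Category.assoc, ← h, ← Category.assoc, ← Category.assoc, ← Functor.map_comp, ← Functor.map_comp]
  simp only [prod_comp, Prod.mkHom]
  rw [h1, h2]

theorem μ_naturality {X X' K K' : Dual.D R} (f : X ⟶ X') (g : K ⟶ K') :
    (DTen.LBase φ).map ((DTen.LTen₂ R).map (Prod.mkHom f g)) ≫ μ φ X' K' =
      μ φ X K ≫ (DTen.LTen₂ R').map (Prod.mkHom ((DTen.LBase φ).map f) ((DTen.LBase φ).map g)) := by
  rw [μ, μ, ← Adjunction.homEquiv_naturality_left_symm, ← Adjunction.homEquiv_naturality_right_symm,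
    fη_naturality]

theorem μ_fac (X K : DRing.Cx R) :
    μ φ (DerivedCategory.Q.obj X) (DerivedCategory.Q.obj K) ≫
      ((DTen.LTen₂ R').map (Prod.mkHom ((DTen.baseCmp φ).app X) ((DTen.baseCmp φ).app K)) ≫
        (DTen.ε R').app ((DTen.extCx φ).obj X, (DTen.extCx φ).obj K)) =
      (DTen.LBase φ).map ((DTen.ε R).app (X, K)) ≫ (DTen.baseCmp φ).app (X ⊗ K) ≫
        DerivedCategory.Q.map (DTen.extTenCxIso φ X K).hom := by
  let E := (DTen.extCx φ).obj X
  let F := (DTen.extCx φ).obj K
  let W := (DTen.LTen₂ R').map (Prod.mkHom ((DTen.baseCmp φ).app X) ((DTen.baseCmp φ).app K)) ≫ (DTen.ε R').app (E, F)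
  have key : fη φ (DerivedCategory.Q.obj X) (DerivedCategory.Q.obj K) ≫ (DRing.restrictD φ).map W =
      (DTen.ε R).app (X, K) ≫ (DTen.baseγ φ).app (X ⊗ K) ≫
        (DRing.restrictD φ).map (DerivedCategory.Q.map (DTen.extTenCxIso φ X K).hom) := by
    rw [← cancel_mono ((DTen.resFactors φ).hom.app ((DTen.tensorT R').obj (E, F)))]
    have hn := (DTen.resFactors φ).inv.naturality (DTen.extTenCxIso φ X K).hom
    have hPF := (DTen.resPF φ).naturality (Prod.mkHom ((DTen.baseCmp φ).app X) ((DTen.baseCmp φ).app K))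
    have hfac := DTen.resPF_fac φ (E, F)
    have hB : (DTen.resβB φ).app (E, F) =
        (DRing.restrictD φ).map ((DTen.ε R').app (E, F)) ≫ (DTen.resFactors φ).hom.app ((DTen.tensorT R').obj (E, F)) := rfl
    dsimp at hn hPF
    calc _ = ((DTen.LTen₂ R).map (Prod.mkHom ((DTen.baseγ φ).app X) ((DTen.baseγ φ).app K))) ≫
          (DTen.resPF φ).app ((DTen.QQ R').obj (E, F)) ≫ (DTen.resβB φ).app (E, F) := by
            rw [hB, fη]
            simp only [W, Functor.map_comp, Category.assoc]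
            erw [← reassoc_of% hPF, ← Functor.map_comp_assoc]
            simp only [prod_comp, Prod.mkHom]
            erw [DTen.baseCmp_fac, DTen.baseCmp_fac]
            rfl
      _ = (DTen.LTen₂ R).map (Prod.mkHom (DerivedCategory.Q.map ((DTen.unitCx φ).app X))
            (DerivedCategory.Q.map ((DTen.unitCx φ).app K))) ≫
          (DTen.ε R).app ((DTen.resCx φ).obj E, (DTen.resCx φ).obj F) ≫
            DerivedCategory.Q.map (DTen.resTenCx φ E F) := by
            rw [hfac]
            show _ ≫ (DTen.LTen₂ R).map _ ≫ _ ≫ _ = _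
            rw [← Functor.map_comp_assoc]
            simp only [prod_comp, Prod.mkHom, DTen.baseγ, Category.assoc]
            erw [Iso.inv_hom_id_app, Iso.inv_hom_id_app]
            erw [Category.comp_id, Category.comp_id]
      _ = (DTen.ε R).app (X, K) ≫ DerivedCategory.Q.map ((DTen.unitCx φ).app (X ⊗ K) ≫
            (DTen.resCx φ).map (DTen.extTenCxIso φ X K).hom) := by
            have e := (DTen.ε R).naturality (Prod.mkHom ((DTen.unitCx φ).app X) ((DTen.unitCx φ).app K))
            dsimp at e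
            erw [reassoc_of% e]
            rw [← unitCx_resTenCx, MonoidalCategory.tensorHom_def]
            simp only [Functor.map_comp, Category.assoc]
            rfl
      _ = _ := by
            simp only [DTen.baseγ, Functor.map_comp, Category.assoc]
            erw [← reassoc_of% hn]
            erw [Iso.inv_hom_id_app]
            erw [Category.comp_id]
  show μ φ (DerivedCategory.Q.obj X) (DerivedCategory.Q.obj K) ≫ W = _
  apply ((DTen.baseAdj φ).homEquiv _ _).injective
  rw [μ, Adjunction.homEquiv_naturality_right, Equiv.apply_symm_apply]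
  refine key.trans ?_
  rw [Adjunction.homEquiv_naturality_left]
  refine congrArg (_ ≫ ·) ?_
  rw [Adjunction.homEquiv_unit, Functor.map_comp, ← Category.assoc]
  exact congrArg (· ≫ _) (DTen.baseCmp_fac φ (X ⊗ K)).symm

theorem isIso_μ_Q (X K : DRing.Cx R) [X.IsKProjective] [K.IsKProjective] :
    IsIso (μ φ (DerivedCategory.Q.obj X) (DerivedCategory.Q.obj K)) := by
  let E := (DTen.extCx φ).obj X
  let F := (DTen.extCx φ).obj K
  have := DTenRing.isIso_baseCmp_of_isKProjective φ X
  have := DTenRing.isIso_baseCmp_of_isKProjective φ K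
  have hXK : DRing.IsKFlat R (X ⊗ K) :=
    DTenRing.isKFlat_tensor (KFlat.isKFlat_of_isKProjective X) (KFlat.isKFlat_of_isKProjective K)
  have := DTenRing.isIso_baseCmp φ (X ⊗ K) hXK
  have : IsIso ((DTen.ε R').app (E, F)) := DTenBasic.isIso_ε (Or.inl (DTenRing.isKFlat_ext_of_isKProjective φ X))
  let W := (DTen.LTen₂ R').map (Prod.mkHom ((DTen.baseCmp φ).app X) ((DTen.baseCmp φ).app K)) ≫ (DTen.ε R').app (E, F)
  have hW : IsIso W := IsIso.comp_isIso'
    ((DTen.LTen₂ R').mapIso ((asIso ((DTen.baseCmp φ).app X)).prod (asIso ((DTen.baseCmp φ).app K)))).isIso_hom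
    inferInstance
  have h2 := μ_fac φ X K
  have : IsIso (μ φ (DerivedCategory.Q.obj X) (DerivedCategory.Q.obj K) ≫ W) := by
    rw [h2]
    infer_instance
  exact IsIso.of_isIso_comp_right _ W

instance isIso_μ (X K : Dual.D R) : IsIso (μ φ X K) := by
  obtain ⟨P, hP, ⟨eP⟩⟩ := DTenBasic.exists_rep X
  obtain ⟨Q, hQ, ⟨eQ⟩⟩ := DTenBasic.exists_rep K
  have h := μ_naturality φ eP.hom eQ.hom
  have := isIso_μ_Q φ P Q
  have h1 : IsIso ((DTen.LBase φ).map ((DTen.LTen₂ R).map (Prod.mkHom eP.hom eQ.hom))) :=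
    ((DTen.LBase φ).mapIso ((DTen.LTen₂ R).mapIso (eP.prod eQ))).isIso_hom
  have h2 : IsIso ((DTen.LTen₂ R').map (Prod.mkHom ((DTen.LBase φ).map eP.hom) ((DTen.LBase φ).map eQ.hom))) :=
    ((DTen.LTen₂ R').mapIso (((DTen.LBase φ).mapIso eP).prod ((DTen.LBase φ).mapIso eQ))).isIso_hom
  exact IsIso.of_isIso_fac_left h

variable [DTen.HasRHom R] [DTen.HasRHom R']

theorem isIso_rhomBC (K : Dual.D R) (M : Dual.D R') : IsIso (DTen.rhomBC φ K M) := by
  refine isIso_of_yoneda_map_bijective _ fun Y => ?_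
  let K' := (DTen.LBase φ).obj K
  let adj := DTen.baseAdj φ
  have key : ∀ f : Y ⟶ (DRing.restrictD φ).obj ((DTen.RHomR R' K').obj M),
      f ≫ DTen.rhomBC φ K M = DTen.rhomHomEquiv _ _ _ (adj.homEquiv _ _
        (μ φ Y K ≫ (DTen.rhomHomEquiv _ K' M).symm ((adj.homEquiv _ _).symm f))) := fun f => by
    let g := (adj.homEquiv _ _).symm f
    have hf : f = adj.unit.app Y ≫ (DRing.restrictD φ).map g :=
      ((adj.homEquiv _ _).apply_symm_apply f).symm.trans (adj.homEquiv_unit _ _ _)
    refine ((DTen.rhomAdj R K).homEquiv_naturality_left f _).symm.trans (congrArg _ ?_)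
    rw [show (DTen.rhomHomEquiv _ K' M).symm g = (DTen.tensorRightD R' K').map g ≫ DTen.ev K' M from
      (DTen.rhomAdj R' K').homEquiv_counit _ _ _, μ, adj.homEquiv_naturality_right, Equiv.apply_symm_apply,
      fη, DTen.rhomBCCore, Functor.map_comp]
    have hPF := (DTen.resPF φ).naturality (Prod.mkHom g (𝟙 K'))
    dsimp at hPF
    simp only [Category.assoc]
    show (DTen.LTen₂ R).map (Prod.mkHom f (𝟙 K)) ≫ _ = _
    erw [← reassoc_of% hPF, ← Functor.map_comp_assoc, ← Functor.map_comp_assoc]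
    simp only [prod_comp, Prod.mkHom, Category.id_comp]
    erw [CategoryTheory.Functor.map_id, Category.comp_id, Category.comp_id, ← hf]
  rw [show (fun f : Y ⟶ _ => f ≫ DTen.rhomBC φ K M) = DTen.rhomHomEquiv _ _ _ ∘ adj.homEquiv _ _ ∘
      ((asIso (μ φ Y K)).homFromEquiv (Z := M)).symm ∘ (DTen.rhomHomEquiv _ K' M).symm ∘
      (adj.homEquiv _ _).symm from funext key]
  exact (Equiv.bijective _).comp ((Equiv.bijective _).comp ((Equiv.bijective _).comp
    ((Equiv.bijective _).comp (Equiv.bijective _))))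

end Groth.Agent.Lib.DR.DTenProj
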