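import Groth.Agent.Lib.DR.RelHom
import Groth.Agent.Lib.DR.DTenProj
import Groth.Agent.Lib.DR.EvalHomCx
import Groth.Agent.Lib.DR.EvalTen

/-!
# Base change of `RHom`
-/

universe u

open CategoryTheory CategoryTheory.Limits MonoidalCategory HomologicalComplex
open Groth.Agent.Lib.TensorCx.Basic
open scoped TensorProduct

attribute [local instance] HasDerivedCategory.standard

set_option backward.isDefEq.respectTransparency false

namespace Groth.Agent.Lib.DR.BcRHom

variable {R R' : Type u} [CommRing R] [CommRing R'] (φ : R →+* R')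

theorem resTen_incl (Y Y' : DRing.Cx R') (i j n : ℤ) (h : i + j = n) (y : Y.X i) (y' : Y'.X j) :
    (DTen.resTenCx φ Y Y').f n (incl ((DTen.resCx φ).obj Y) ((DTen.resCx φ).obj Y') i j n h
        ((show ((DTen.resCx φ).obj Y).X i from y) ⊗ₜ (show ((DTen.resCx φ).obj Y').X j from y'))) =
      (show ((DTen.resCx φ).obj (Y ⊗ Y')).X n from incl Y Y' i j n h (y ⊗ₜ y')) :=
  RelHom.resTen_incl φ Y Y' i j n h y y'

theorem tens_ext {S : Type u} [CommRing S] {L M N : DRing.Cx S} {f g : L ⊗ M ⟶ N}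
    (h : ∀ i j n (hn : i + j = n) (x : L.X i) (y : M.X j),
      f.f n (incl L M i j n hn (x ⊗ₜ y)) = g.f n (incl L M i j n hn (x ⊗ₜ y))) : f = g :=
  HomologicalComplex.hom_ext _ _ fun n => ModuleCat.hom_ext
    (Groth.Agent.Lib.TensorCx.Basic.hom_ext' fun i j hn => TensorProduct.ext' (h i j n hn))

@[reassoc]
theorem braid_braid {S : Type u} [CommRing S] (K L : DRing.Cx S) :
    (DTen.braidCx K L).hom ≫ (DTen.braidCx L K).hom = 𝟙 (K ⊗ L) := by
  refine tens_ext fun i j n hn x y => ?_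
  show (DTen.braidCx L K).hom.f n ((DTen.braidCx K L).hom.f n _) = incl K L i j n hn (x ⊗ₜ y)
  refine (congrArg (fun t => (DTen.braidCx L K).hom.f n t) (EvalHomCx.braid_incl K L i j n hn x y)).trans ?_
  refine (map_zsmul ((DTen.braidCx L K).hom.f n).hom _ _).trans ?_
  refine (congrArg (((((i * j).negOnePow : ℤˣ)) : ℤ) • ·) (EvalHomCx.braid_incl L K j i n (by lia) y x)).trans ?_
  rw [mul_comm j i]
  exact EvalHomCx.negOnePow_smul_smul _ _

/-- The lax symmetry of restriction. -/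
theorem resTen_braid (Y Y' : DRing.Cx R') :
    (DTen.braidCx ((DTen.resCx φ).obj Y) ((DTen.resCx φ).obj Y')).hom ≫ DTen.resTenCx φ Y' Y =
      DTen.resTenCx φ Y Y' ≫ (DTen.resCx φ).map (DTen.braidCx Y Y').hom := by
  refine tens_ext fun i j n hn x y => ?_
  show (DTen.resTenCx φ Y' Y).f n ((DTen.braidCx _ _).hom.f n _) =
    ((DTen.resCx φ).map (DTen.braidCx Y Y').hom).f n ((DTen.resTenCx φ Y Y').f n _)
  refine (congrArg (fun t => (DTen.resTenCx φ Y' Y).f n t) (EvalHomCx.braid_incl _ _ i j n hn x y)).trans ?_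
  refine ((map_zsmul ((DTen.resTenCx φ Y' Y).f n).hom _ _).trans ?_)
  refine (congrArg (((((i * j).negOnePow : ℤˣ)) : ℤ) • ·) (resTen_incl φ Y' Y j i n (by lia) y x)).trans ?_
  refine Eq.trans ?_ (congrArg (fun t => ((DTen.resCx φ).map (DTen.braidCx Y Y').hom).f n t)
    (resTen_incl φ Y Y' i j n hn x y)).symm
  exact (EvalHomCx.braid_incl Y Y' i j n hn x y).symm

/-- Associativity of the lax structure of restriction. -/
theorem resTen_assoc (a b c : DRing.Cx R') :
    DTen.resTenCx φ a b ▷ (DTen.resCx φ).obj c ≫ DTen.resTenCx φ (a ⊗ b) c ≫ (DTen.resCx φ).map (α_ a b c).hom =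
      (α_ ((DTen.resCx φ).obj a) ((DTen.resCx φ).obj b) ((DTen.resCx φ).obj c)).hom ≫
        (DTen.resCx φ).obj a ◁ DTen.resTenCx φ b c ≫ DTen.resTenCx φ a (b ⊗ c) := by
  refine HomologicalComplex.hom_ext _ _ fun n => ModuleCat.hom_ext ?_
  refine Groth.Agent.Lib.TensorCx.Basic.hom_ext' fun m q hq => TensorProduct.ext' fun z x => ?_
  induction z using Groth.Agent.Lib.TensorCx.Basic.induction with
  | zero => simp only [LinearMap.comp_apply, TensorProduct.zero_tmul, map_zero]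
  | add a b ha hb =>
    simp only [LinearMap.comp_apply, TensorProduct.add_tmul, map_add] at ha hb ⊢
    rw [ha, hb]
  | inc i j hij y =>
    induction y using TensorProduct.induction_on with
    | zero => simp only [LinearMap.comp_apply, map_zero, TensorProduct.zero_tmul]
    | add a b ha hb =>
      simp only [LinearMap.comp_apply, map_add, TensorProduct.add_tmul] at ha hb ⊢
      rw [ha, hb]
    | tmul k v =>
      show ((DTen.resCx φ).map (α_ a b c).hom).f n ((DTen.resTenCx φ (a ⊗ b) c).f n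
          ((DTen.resTenCx φ a b ▷ (DTen.resCx φ).obj c).f n (incl _ _ m q n hq (incl _ _ i j m hij (k ⊗ₜ v) ⊗ₜ x)))) =
        (DTen.resTenCx φ a (b ⊗ c)).f n (((DTen.resCx φ).obj a ◁ DTen.resTenCx φ b c).f n
          ((α_ ((DTen.resCx φ).obj a) ((DTen.resCx φ).obj b) ((DTen.resCx φ).obj c)).hom.f n
            (incl _ _ m q n hq (incl _ _ i j m hij (k ⊗ₜ v) ⊗ₜ x))))
      refine (congrArg (fun t => ((DTen.resCx φ).map (α_ a b c).hom).f n ((DTen.resTenCx φ (a ⊗ b) c).f n t))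
        ((RelHom.mapL_incl (DTen.resTenCx φ a b) m q n hq _ x).trans
          (congrArg (fun t => incl _ ((DTen.resCx φ).obj c) m q n hq (t ⊗ₜ x)) (resTen_incl φ a b i j m hij k v)))).trans ?_
      refine (congrArg (fun t => ((DTen.resCx φ).map (α_ a b c).hom).f n t)
        (resTen_incl φ (a ⊗ b) c m q n hq _ x)).trans ?_
      refine (HomCxFinite.α_incl a b c i j m q n (j + q) hij hq rfl (by lia)
        (show a.X i from k) (show b.X j from v) (show c.X q from x)).trans ?_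
      refine Eq.trans ?_ (congrArg
        (fun t => (DTen.resTenCx φ a (b ⊗ c)).f n (((DTen.resCx φ).obj a ◁ DTen.resTenCx φ b c).f n t))
        (HomCxFinite.α_incl _ _ _ i j m q n (j + q) hij hq rfl (by lia) k v x)).symm
      refine Eq.trans ?_ (congrArg (fun t => (DTen.resTenCx φ a (b ⊗ c)).f n t)
        ((RelHom.whiskerLeft_incl _ (DTen.resTenCx φ b c) i (j + q) n (by lia) k _).trans
          (congrArg (fun t => incl _ _ i (j + q) n _ (k ⊗ₜ t)) (resTen_incl φ b c j q (j + q) rfl v x)))).symm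
      exact (resTen_incl φ a (b ⊗ c) i (j + q) n (by lia) k _).symm

omit [CommRing R'] in
theorem ev_eq_counit (P L : DRing.Cx R) : HomCxFinite.ev P L = (HomCx.adjunction P).counit.app L := by
  have hc : HomCx.homEquiv.symm (𝟙 (DRing.homCx P L)) =
      𝟙 (DRing.homCx P L) ▷ P ≫ (HomCx.adjunction P).counit.app L :=
    (RHom.adj_homEquiv (DRing.homCx P L) P L) ▸
      (HomCx.adjunction P).homEquiv_counit (DRing.homCx P L) L (𝟙 _)
  exact hc.trans ((congrArg (· ≫ _) (MonoidalCategory.id_whiskerRight _ P)).trans (Category.id_comp _))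

/-- `res A ⊗ Y ⟶ res (ext Y)`. -/
noncomputable def eC (Y : DRing.Cx R) :
    (DTen.resCx φ).obj (𝟙_ (DRing.Cx R')) ⊗ Y ⟶ (DTen.resCx φ).obj ((DTen.extCx φ).obj Y) :=
  (DTen.resCx φ).obj (𝟙_ (DRing.Cx R')) ◁ (DTen.unitCx φ).app Y ≫
    DTen.resTenCx φ (𝟙_ (DRing.Cx R')) ((DTen.extCx φ).obj Y) ≫
      (DTen.resCx φ).map (λ_ ((DTen.extCx φ).obj Y)).hom

theorem eC_naturality {Y Y' : DRing.Cx R} (f : Y ⟶ Y') :
    (DTen.resCx φ).obj (𝟙_ (DRing.Cx R')) ◁ f ≫ eC φ Y' = eC φ Y ≫ (DTen.resCx φ).map ((DTen.extCx φ).map f) := by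
  have e := DTen.resTenCx_naturality φ (𝟙 (𝟙_ (DRing.Cx R'))) ((DTen.extCx φ).map f)
  rw [CategoryTheory.Functor.map_id, id_tensorHom, id_tensorHom] at e
  rw [eC, eC, ← MonoidalCategory.whiskerLeft_comp_assoc,
    show f ≫ (DTen.unitCx φ).app Y' = (DTen.unitCx φ).app Y ≫ (DTen.resCx φ).map ((DTen.extCx φ).map f) from
      (DTen.unitCx φ).naturality f, MonoidalCategory.whiskerLeft_comp_assoc, reassoc_of% e, ← Functor.map_comp,
    leftUnitor_naturality, Functor.map_comp, Category.assoc, Category.assoc]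

theorem isIso_eC (Y : DRing.Cx R) : IsIso (eC φ Y) := by
  have := ProjCx.isIso_ζ φ Y (𝟙_ (DRing.Cx R'))
  have e : eC φ Y = (DTen.braidCx ((DTen.resCx φ).obj (𝟙_ (DRing.Cx R'))) Y).hom ≫ ProjCx.ζ φ Y (𝟙_ (DRing.Cx R')) ≫
      (DTen.resCx φ).map ((DTen.braidCx ((DTen.extCx φ).obj Y) (𝟙_ (DRing.Cx R'))).hom ≫ (λ_ ((DTen.extCx φ).obj Y)).hom) := by
    have h := DTen.braidCx_naturality ((DTen.unitCx φ).app Y) (𝟙 ((DTen.resCx φ).obj (𝟙_ (DRing.Cx R'))))
    rw [tensorHom_id, id_tensorHom] at h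
    have h' := DTen.braidCx_naturality (𝟙 ((DTen.resCx φ).obj (𝟙_ (DRing.Cx R')))) ((DTen.unitCx φ).app Y)
    rw [tensorHom_id, id_tensorHom] at h'
    rw [ProjCx.ζ, Category.assoc, ← reassoc_of% h', Functor.map_comp,
      ← reassoc_of% (resTen_braid φ ((DTen.extCx φ).obj Y) (𝟙_ (DRing.Cx R')))]
    rw [show (DTen.braidCx ((DTen.resCx φ).obj (𝟙_ (DRing.Cx R'))) _).hom ≫
        (DTen.braidCx ((DTen.resCx φ).obj ((DTen.extCx φ).obj Y)) ((DTen.resCx φ).obj (𝟙_ (DRing.Cx R')))).hom ≫ _ = _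
      from braid_braid_assoc _ _ _]
    rfl
  rw [e]
  infer_instance

variable {E E₁ : DRing.Cx R} (qE : E₁ ⟶ E) (p : E₁ ⟶ (DTen.resCx φ).obj (𝟙_ (DRing.Cx R')))

/-- `E₁ ⊗ Y ⟶ res (ext Y)`. -/
noncomputable def eY (Y : DRing.Cx R) : E₁ ⊗ Y ⟶ (DTen.resCx φ).obj ((DTen.extCx φ).obj Y) :=
  p ▷ Y ≫ eC φ Y

theorem eY_naturality {Y Y' : DRing.Cx R} (f : Y ⟶ Y') :
    E₁ ◁ f ≫ eY φ p Y' = eY φ p Y ≫ (DTen.resCx φ).map ((DTen.extCx φ).map f) := by
  rw [eY, eY, ← Category.assoc, whisker_exchange, Category.assoc, eC_naturality, Category.assoc]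

set_option maxHeartbeats 1600000 in
theorem eY_assoc (H P : DRing.Cx R) :
    eY φ p H ▷ P ≫ (DTen.resCx φ).obj ((DTen.extCx φ).obj H) ◁ (DTen.unitCx φ).app P ≫
        DTen.resTenCx φ ((DTen.extCx φ).obj H) ((DTen.extCx φ).obj P) ≫
          (DTen.resCx φ).map (DTen.extTenCxIso φ H P).inv =
      (α_ E₁ H P).hom ≫ eY φ p (H ⊗ P) := by
  let a := (DTen.extCx φ).obj H
  let b := (DTen.extCx φ).obj P
  let I := 𝟙_ (DRing.Cx R')
  have h1 := DTen.resTenCx_naturality φ (λ_ a).hom (𝟙 b)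
  rw [CategoryTheory.Functor.map_id, tensorHom_id, tensorHom_id] at h1
  have hx : (DTen.resCx φ).map (λ_ a).hom ▷ P ≫ (DTen.resCx φ).obj a ◁ (DTen.unitCx φ).app P =
      (DTen.resCx φ).obj (I ⊗ a) ◁ (DTen.unitCx φ).app P ≫ (DTen.resCx φ).map (λ_ a).hom ▷ (DTen.resCx φ).obj b :=
    (whisker_exchange _ _).symm
  have hy : DTen.resTenCx φ I a ▷ P ≫ (DTen.resCx φ).obj (I ⊗ a) ◁ (DTen.unitCx φ).app P =
      ((DTen.resCx φ).obj I ⊗ (DTen.resCx φ).obj a) ◁ (DTen.unitCx φ).app P ≫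
        DTen.resTenCx φ I a ▷ (DTen.resCx φ).obj b :=
    (whisker_exchange _ _).symm
  have hz : (DTen.unitCx φ).app (H ⊗ P) = ((DTen.unitCx φ).app H ▷ P ≫
      (DTen.resCx φ).obj a ◁ (DTen.unitCx φ).app P) ≫ DTen.resTenCx φ a b ≫
        (DTen.resCx φ).map (DTen.extTenCxIso φ H P).inv := by
    have e := DTenProj.unitCx_resTenCx φ H P
    rw [MonoidalCategory.tensorHom_def] at e
    refine Eq.trans ?_ ((congrArg (· ≫ (DTen.resCx φ).map (DTen.extTenCxIso φ H P).inv) e).symm.trans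
      (Category.assoc _ _ _))
    rw [Category.assoc, ← Functor.map_comp, Iso.hom_inv_id, CategoryTheory.Functor.map_id]
    exact (Category.comp_id _).symm
  have hn : (DTen.resCx φ).obj (𝟙_ (DRing.Cx R')) ◁ (DTen.resCx φ).map (DTen.extTenCxIso φ H P).inv ≫
      DTen.resTenCx φ (𝟙_ (DRing.Cx R')) ((DTen.extCx φ).obj (H ⊗ P)) =
      DTen.resTenCx φ (𝟙_ (DRing.Cx R')) (a ⊗ b) ≫
        (DTen.resCx φ).map ((𝟙_ (DRing.Cx R')) ◁ (DTen.extTenCxIso φ H P).inv) := by
    have e := DTen.resTenCx_naturality φ (𝟙 I) (DTen.extTenCxIso φ H P).inv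
    rw [CategoryTheory.Functor.map_id, id_tensorHom, id_tensorHom] at e
    exact e
  show eY φ p H ▷ P ≫ _ = (α_ E₁ H P).hom ≫ (p ▷ (H ⊗ P) ≫ eC φ (H ⊗ P))
  rw [← associator_naturality_left_assoc p H P (eC φ (H ⊗ P))]
  rw [eY, comp_whiskerRight, Category.assoc]
  refine congrArg (p ▷ H ▷ P ≫ ·) ?_
  rw [eC, eC, comp_whiskerRight, comp_whiskerRight, Category.assoc, Category.assoc, reassoc_of% hx,
    reassoc_of% h1, reassoc_of% hy, hz]
  simp only [MonoidalCategory.whiskerLeft_comp, Category.assoc]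
  rw [reassoc_of% hn, ← associator_naturality_middle_assoc]
  refine congrArg (((DTen.resCx φ).obj (𝟙_ (DRing.Cx R')) ◁ (DTen.unitCx φ).app H) ▷ P ≫ ·) ?_
  refine Eq.trans ?_ (associator_naturality_right_assoc ((DTen.resCx φ).obj (𝟙_ (DRing.Cx R')))
    ((DTen.resCx φ).obj a) ((DTen.unitCx φ).app P) _)
  refine congrArg (((DTen.resCx φ).obj (𝟙_ (DRing.Cx R')) ⊗ (DTen.resCx φ).obj a) ◁ (DTen.unitCx φ).app P ≫ ·) ?_
  refine Eq.trans ?_ ((reassoc_of% (resTen_assoc φ (𝟙_ (DRing.Cx R')) a b)) _)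
  simp only [← Functor.map_comp]
  refine congrArg (fun t => DTen.resTenCx φ I a ▷ _ ≫ DTen.resTenCx φ (I ⊗ a) b ≫ (DTen.resCx φ).map t) ?_
  rw [leftUnitor_naturality, leftUnitor_tensor_hom_assoc, Iso.hom_inv_id_assoc]

section Derived

variable [QuasiIso qE] [QuasiIso p]

theorem isIso_eY (Y : DRing.Cx R) (hY : DRing.IsKFlat R Y) : IsIso (DerivedCategory.Q.map (eY φ p Y)) := by
  have := isIso_eC φ Y
  have : QuasiIso (p ▷ Y) := KFlat.quasiIso_tensor_of_isKFlat hY p
  refine DTenBasic.isIso_Q_map _ ?_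
  unfold eY
  infer_instance

omit [QuasiIso p] in
theorem isIso_qE (Y : DRing.Cx R) (hY : DRing.IsKFlat R Y) : IsIso (DerivedCategory.Q.map (qE ▷ Y)) :=
  DTenBasic.isIso_Q_map _ (KFlat.quasiIso_tensor_of_isKFlat hY qE)

variable [DTen.HasLBase φ] (hE : DRing.IsKFlat R E)

/-- `Q (E ⊗ Y) ⟶ res (L Q Y)` for K-flat `Y`. -/
noncomputable def jF (Y : DRing.Cx R) (hY : DRing.IsKFlat R Y) :
    DerivedCategory.Q.obj (E ⊗ Y) ⟶ (DRing.restrictD φ).obj ((DTen.LBase φ).obj (DerivedCategory.Q.obj Y)) :=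
  have := isIso_qE qE Y hY
  have := DTenRing.isIso_baseCmp φ Y hY
  inv (DerivedCategory.Q.map (qE ▷ Y)) ≫ DerivedCategory.Q.map (eY φ p Y) ≫
    (DTen.resFactors φ).inv.app ((DTen.extCx φ).obj Y) ≫ (DRing.restrictD φ).map (inv ((DTen.baseCmp φ).app Y))

omit [QuasiIso p] in
theorem jF_baseCmp (Y : DRing.Cx R) (hY : DRing.IsKFlat R Y) :
    DerivedCategory.Q.map (qE ▷ Y) ≫ jF φ qE p Y hY ≫ (DRing.restrictD φ).map ((DTen.baseCmp φ).app Y) ≫
      (DTen.resFactors φ).hom.app ((DTen.extCx φ).obj Y) = DerivedCategory.Q.map (eY φ p Y) := by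
  have := isIso_qE qE Y hY
  have := DTenRing.isIso_baseCmp φ Y hY
  simp only [jF, Category.assoc, IsIso.hom_inv_id_assoc, ← Functor.map_comp_assoc, IsIso.inv_hom_id,
    CategoryTheory.Functor.map_id, Category.id_comp]
  erw [Iso.inv_hom_id_app]
  exact Category.comp_id _

theorem isIso_jF (Y : DRing.Cx R) (hY : DRing.IsKFlat R Y) : IsIso (jF φ qE p Y hY) := by
  have := isIso_qE qE Y hY
  have := DTenRing.isIso_baseCmp φ Y hY
  have := isIso_eY φ p Y hY
  unfold jF
  infer_instance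

omit [QuasiIso p] in
theorem jF_naturality {Y Y' : DRing.Cx R} (f : Y ⟶ Y') (hY : DRing.IsKFlat R Y) (hY' : DRing.IsKFlat R Y') :
    DerivedCategory.Q.map (E ◁ f) ≫ jF φ qE p Y' hY' =
      jF φ qE p Y hY ≫ (DRing.restrictD φ).map ((DTen.LBase φ).map (DerivedCategory.Q.map f)) := by
  have := isIso_qE qE Y hY
  have := isIso_qE qE Y' hY'
  have := DTenRing.isIso_baseCmp φ Y hY
  have := DTenRing.isIso_baseCmp φ Y' hY'
  rw [← cancel_epi (DerivedCategory.Q.map (qE ▷ Y)), ← Category.assoc, ← Functor.map_comp, ← whisker_exchange,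
    Functor.map_comp, Category.assoc]
  rw [← cancel_mono ((DRing.restrictD φ).map ((DTen.baseCmp φ).app Y') ≫
    (DTen.resFactors φ).hom.app ((DTen.extCx φ).obj Y'))]
  simp only [Category.assoc]
  rw [jF_baseCmp, ← Functor.map_comp, eY_naturality, Functor.map_comp, ← jF_baseCmp φ qE p Y hY]
  simp only [Category.assoc]
  have h1 := (DTen.baseCmp φ).naturality f
  have h2 := (DTen.resFactors φ).hom.naturality ((DTen.extCx φ).map f)
  dsimp at h1 h2
  rw [← h2, ← Functor.map_comp_assoc, ← Functor.map_comp_assoc, h1]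

include hE in
omit [QuasiIso qE] [QuasiIso p] [DTen.HasLBase φ] in
theorem isIso_E_aug (Y : DRing.Cx R) : IsIso (DerivedCategory.Q.map (E ◁ (KProjRes.aug R).app Y)) :=
  have := KProjRes.quasiIso_aug R Y
  DTenBasic.isIso_Q_map _ (LTensorCx.quasiIso_tensor_left hE _)

/-- `Q (E ⊗ Y) ⟶ res (L Q Y)`. -/
noncomputable def j (Y : DRing.Cx R) :
    DerivedCategory.Q.obj (E ⊗ Y) ⟶ (DRing.restrictD φ).obj ((DTen.LBase φ).obj (DerivedCategory.Q.obj Y)) :=
  have := isIso_E_aug hE Y
  inv (DerivedCategory.Q.map (E ◁ (KProjRes.aug R).app Y)) ≫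
    jF φ qE p ((KProjRes.res R).obj Y) (KFlat.isKFlat_res Y) ≫
      (DRing.restrictD φ).map ((DTen.LBase φ).map (DerivedCategory.Q.map ((KProjRes.aug R).app Y)))

omit [QuasiIso p] in
theorem aug_j (Y : DRing.Cx R) :
    DerivedCategory.Q.map (E ◁ (KProjRes.aug R).app Y) ≫ j φ qE p hE Y =
      jF φ qE p ((KProjRes.res R).obj Y) (KFlat.isKFlat_res Y) ≫
        (DRing.restrictD φ).map ((DTen.LBase φ).map (DerivedCategory.Q.map ((KProjRes.aug R).app Y))) := by
  have := isIso_E_aug hE Y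
  rw [j, IsIso.hom_inv_id_assoc]

omit [QuasiIso p] in
theorem j_eq (Y : DRing.Cx R) (hY : DRing.IsKFlat R Y) : j φ qE p hE Y = jF φ qE p Y hY := by
  have := isIso_E_aug hE Y
  rw [j, IsIso.inv_comp_eq, jF_naturality]

omit [QuasiIso p] in
theorem j_naturality {Y Y' : DRing.Cx R} (f : Y ⟶ Y') :
    DerivedCategory.Q.map (E ◁ f) ≫ j φ qE p hE Y' =
      j φ qE p hE Y ≫ (DRing.restrictD φ).map ((DTen.LBase φ).map (DerivedCategory.Q.map f)) := by
  have := isIso_E_aug hE Y
  rw [← cancel_epi (DerivedCategory.Q.map (E ◁ (KProjRes.aug R).app Y)), reassoc_of% (aug_j φ qE p hE Y),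
    ← Category.assoc, ← Functor.map_comp, ← MonoidalCategory.whiskerLeft_comp,
    show (KProjRes.aug R).app Y ≫ f = (KProjRes.res R).map f ≫ (KProjRes.aug R).app Y' from
      ((KProjRes.aug R).naturality f).symm, MonoidalCategory.whiskerLeft_comp, Functor.map_comp, Category.assoc, aug_j,
    reassoc_of% (jF_naturality φ qE p ((KProjRes.res R).map f) (KFlat.isKFlat_res Y) (KFlat.isKFlat_res Y'))]
  simp only [← Functor.map_comp]
  refine congrArg (fun t => _ ≫ (DRing.restrictD φ).map ((DTen.LBase φ).map (DerivedCategory.Q.map t))) ?_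
  exact (KProjRes.aug R).naturality f

theorem isIso_j (Y : DRing.Cx R) : IsIso (j φ qE p hE Y) := by
  have := isIso_E_aug hE Y
  have := DTenBasic.isIso_Q_map _ (KProjRes.quasiIso_aug R Y)
  have := isIso_jF φ qE p _ (KFlat.isKFlat_res Y)
  unfold j
  infer_instance

variable [DTen.HasLTen R] [DTen.HasLTen R'] [DTen.HasResTen φ] [DTen.ResLegIso φ]

omit [QuasiIso p] in
/-- The projection isomorphism is multiplicative, on K-projective arguments. -/
theorem jF_mul (H P : DRing.Cx R) [H.IsKProjective] [P.IsKProjective] (hH : DRing.IsKFlat R H)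
    (hHP : DRing.IsKFlat R (H ⊗ P)) :
    (DTen.LTen₂ R).map (Prod.mkHom (jF φ qE p H hH) ((DTen.baseAdj φ).unit.app (DerivedCategory.Q.obj P))) ≫
      (DTen.resPF φ).app ((DTen.LBase φ).obj (DerivedCategory.Q.obj H), (DTen.LBase φ).obj (DerivedCategory.Q.obj P)) ≫
        (DRing.restrictD φ).map (inv (DTenProj.μ φ (DerivedCategory.Q.obj H) (DerivedCategory.Q.obj P)) ≫
          (DTen.LBase φ).map ((DTen.ε R).app (H, P))) =
      (DTen.ε R).app (E ⊗ H, P) ≫ DerivedCategory.Q.map (α_ E H P).hom ≫ jF φ qE p (H ⊗ P) hHP := by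
  let a := (DTen.extCx φ).obj H
  let b := (DTen.extCx φ).obj P
  have := isIso_qE qE H hH
  have := isIso_qE qE (H ⊗ P) hHP
  have := DTenRing.isIso_baseCmp φ (H ⊗ P) hHP
  have hμ := DTenProj.μ_fac φ H P
  have hinv : inv (DTenProj.μ φ (DerivedCategory.Q.obj H) (DerivedCategory.Q.obj P)) ≫
      (DTen.LBase φ).map ((DTen.ε R).app (H, P)) ≫ (DTen.baseCmp φ).app (H ⊗ P) =
      (DTen.LTen₂ R').map (Prod.mkHom ((DTen.baseCmp φ).app H) ((DTen.baseCmp φ).app P)) ≫
        (DTen.ε R').app (a, b) ≫ DerivedCategory.Q.map (DTen.extTenCxIso φ H P).inv := by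
    rw [IsIso.inv_comp_eq, ← cancel_mono (DerivedCategory.Q.map (DTen.extTenCxIso φ H P).hom)]
    simp only [Category.assoc]
    rw [← Functor.map_comp, Iso.inv_hom_id, CategoryTheory.Functor.map_id]
    erw [Category.comp_id]
    exact hμ.symm
  rw [← cancel_mono ((DRing.restrictD φ).map ((DTen.baseCmp φ).app (H ⊗ P)) ≫
      (DTen.resFactors φ).hom.app ((DTen.extCx φ).obj (H ⊗ P)))]
  simp only [Category.assoc]
  have h1 : IsIso ((DTen.LTen₂ R).map (Prod.mkHom (DerivedCategory.Q.map (qE ▷ H)) (𝟙 (DerivedCategory.Q.obj P)))) :=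
    ((DTen.LTen₂ R).mapIso ((asIso (DerivedCategory.Q.map (qE ▷ H))).prod (Iso.refl _))).isIso_hom
  rw [← cancel_epi ((DTen.LTen₂ R).map (Prod.mkHom (DerivedCategory.Q.map (qE ▷ H)) (𝟙 (DerivedCategory.Q.obj P))))]
  -- the right hand side
  have hR : (DTen.LTen₂ R).map (Prod.mkHom (DerivedCategory.Q.map (qE ▷ H)) (𝟙 (DerivedCategory.Q.obj P))) ≫
      (DTen.ε R).app (E ⊗ H, P) ≫ DerivedCategory.Q.map (α_ E H P).hom =
      (DTen.ε R).app (E₁ ⊗ H, P) ≫ DerivedCategory.Q.map (α_ E₁ H P).hom ≫ DerivedCategory.Q.map (qE ▷ (H ⊗ P)) := by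
    have e := (DTen.εRight R P).naturality (qE ▷ H)
    dsimp [DTen.εRight] at e
    rw [reassoc_of% e]
    refine congrArg (_ ≫ ·) ?_
    rw [← Functor.map_comp, ← Functor.map_comp]
    exact congrArg _ (associator_naturality_left qE H P)
  rw [reassoc_of% hR, jF_baseCmp, ← Functor.map_comp]
  -- the left hand side
  have hn := (DTen.resFactors φ).hom.naturality (DTen.extTenCxIso φ H P).inv
  have hPF := (DTen.resPF φ).naturality (Prod.mkHom ((DTen.baseCmp φ).app H) ((DTen.baseCmp φ).app P))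
  dsimp at hn hPF
  rw [← Functor.map_comp_assoc (DRing.restrictD φ), Category.assoc, hinv, Functor.map_comp, Functor.map_comp]
  simp only [Category.assoc]
  rw [← reassoc_of% hPF]
  erw [← Functor.map_comp_assoc, ← Functor.map_comp_assoc]
  simp only [prod_comp, Prod.mkHom, Category.id_comp]
  erw [DTen.baseCmp_fac]
  rw [hn]
  have hB : (DRing.restrictD φ).map ((DTen.ε R').app (a, b)) ≫ (DTen.resFactors φ).hom.app (a ⊗ b) =
      (DTen.resβB φ).app (a, b) := rfl
  have hfac := DTen.resPF_fac φ (a, b)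
  have hA : (DTen.resβA φ).app (a, b) = (DTen.LTen₂ R).map
      (Prod.mkHom ((DTen.resFactors φ).hom.app a) ((DTen.resFactors φ).hom.app b)) ≫
        (DTen.ε R).app ((DTen.resCx φ).obj a, (DTen.resCx φ).obj b) ≫
          DerivedCategory.Q.map (DTen.resTenCx φ a b) := rfl
  erw [reassoc_of% hB, reassoc_of% hfac, hA]
  simp only [Category.assoc]
  erw [← Functor.map_comp_assoc]
  have hF := jF_baseCmp φ qE p H hH
  simp only [prod_comp, Prod.mkHom, DTen.baseγ, Category.assoc]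
  erw [hF, Iso.inv_hom_id_app]
  erw [Category.comp_id]
  have e := (DTen.ε R).naturality (Prod.mkHom (eY φ p H) ((DTen.unitCx φ).app P))
  dsimp at e
  erw [reassoc_of% e]
  refine congrArg (_ ≫ ·) ?_
  simp only [← Functor.map_comp, Category.assoc]
  exact congrArg _ (eY_assoc φ p H P)

omit [QuasiIso p] in
/-- The projection isomorphism is multiplicative. -/
theorem j_mul (H P : DRing.Cx R) [P.IsKProjective] :
    (DTen.LTen₂ R).map (Prod.mkHom (j φ qE p hE H) ((DTen.baseAdj φ).unit.app (DerivedCategory.Q.obj P))) ≫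
      (DTen.resPF φ).app ((DTen.LBase φ).obj (DerivedCategory.Q.obj H), (DTen.LBase φ).obj (DerivedCategory.Q.obj P)) ≫
        (DRing.restrictD φ).map (inv (DTenProj.μ φ (DerivedCategory.Q.obj H) (DerivedCategory.Q.obj P)) ≫
          (DTen.LBase φ).map ((DTen.ε R).app (H, P))) =
      (DTen.ε R).app (E ⊗ H, P) ≫ DerivedCategory.Q.map (α_ E H P).hom ≫ j φ qE p hE (H ⊗ P) := by
  let H₁ := (KProjRes.res R).obj H
  let q : H₁ ⟶ H := (KProjRes.aug R).app H
  have : H₁.IsKProjective := KProjRes.isKProjective_res R H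
  have hHP : DRing.IsKFlat R (H₁ ⊗ P) :=
    DTenRing.isKFlat_tensor (KFlat.isKFlat_res H) (KFlat.isKFlat_of_isKProjective P)
  have := isIso_E_aug hE H
  have h1 : IsIso ((DTen.LTen₂ R).map (Prod.mkHom (DerivedCategory.Q.map (E ◁ q)) (𝟙 (DerivedCategory.Q.obj P)))) :=
    ((DTen.LTen₂ R).mapIso ((asIso (DerivedCategory.Q.map (E ◁ q))).prod (Iso.refl _))).isIso_hom
  rw [← cancel_epi ((DTen.LTen₂ R).map (Prod.mkHom (DerivedCategory.Q.map (E ◁ q)) (𝟙 (DerivedCategory.Q.obj P))))]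
  -- the right hand side
  have hR : (DTen.LTen₂ R).map (Prod.mkHom (DerivedCategory.Q.map (E ◁ q)) (𝟙 (DerivedCategory.Q.obj P))) ≫
      (DTen.ε R).app (E ⊗ H, P) ≫ DerivedCategory.Q.map (α_ E H P).hom =
      (DTen.ε R).app (E ⊗ H₁, P) ≫ DerivedCategory.Q.map (α_ E H₁ P).hom ≫ DerivedCategory.Q.map (E ◁ (q ▷ P)) := by
    have e := (DTen.εRight R P).naturality (E ◁ q)
    dsimp [DTen.εRight] at e
    rw [reassoc_of% e]
    refine congrArg (_ ≫ ·) ?_
    rw [← Functor.map_comp, ← Functor.map_comp]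
    exact congrArg _ (associator_naturality_middle E q P)
  rw [reassoc_of% hR, j_naturality, j_eq φ qE p hE (H₁ ⊗ P) hHP,
    ← reassoc_of% (jF_mul φ qE p H₁ P (KFlat.isKFlat_res H) hHP), ← j_eq φ qE p hE H₁ (KFlat.isKFlat_res H)]
  -- the left hand side
  erw [← Functor.map_comp_assoc]
  simp only [prod_comp, Prod.mkHom, Category.id_comp]
  rw [j_naturality]
  have hμ := DTenProj.μ_naturality φ (DerivedCategory.Q.map q) (𝟙 (DerivedCategory.Q.obj P))
  have hε := (DTen.εRight R P).naturality q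
  dsimp [DTen.εRight] at hε
  have hPF := (DTen.resPF φ).naturality
    (Prod.mkHom ((DTen.LBase φ).map (DerivedCategory.Q.map q)) (𝟙 ((DTen.LBase φ).obj (DerivedCategory.Q.obj P))))
  dsimp at hPF
  rw [CategoryTheory.Functor.map_id (DTen.LBase φ)] at hμ
  have hμ' : (DTen.LTen₂ R').map (Prod.mkHom ((DTen.LBase φ).map (DerivedCategory.Q.map q)) (𝟙 _)) ≫
      inv (DTenProj.μ φ (DerivedCategory.Q.obj H) (DerivedCategory.Q.obj P)) =
      inv (DTenProj.μ φ (DerivedCategory.Q.obj H₁) (DerivedCategory.Q.obj P)) ≫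
        (DTen.LBase φ).map ((DTen.LTen₂ R).map (Prod.mkHom (DerivedCategory.Q.map q) (𝟙 _))) := by
    rw [IsIso.comp_inv_eq, Category.assoc, IsIso.eq_inv_comp]
    exact hμ.symm
  rw [show ((j φ qE p hE H₁ ≫ (DRing.restrictD φ).map ((DTen.LBase φ).map (DerivedCategory.Q.map q)),
      (DTen.baseAdj φ).unit.app (DerivedCategory.Q.obj P)) : (_ ⟶ _) × (_ ⟶ _)) =
      Prod.mkHom (j φ qE p hE H₁) ((DTen.baseAdj φ).unit.app (DerivedCategory.Q.obj P)) ≫
        Prod.mkHom ((DRing.restrictD φ).map ((DTen.LBase φ).map (DerivedCategory.Q.map q)))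
          ((DRing.restrictD φ).map (𝟙 ((DTen.LBase φ).obj (DerivedCategory.Q.obj P)))) from
      Prod.ext rfl ((congrArg (_ ≫ ·) ((DRing.restrictD φ).map_id _)).trans (Category.comp_id _)).symm]
  erw [Functor.map_comp_assoc]
  refine congrArg (_ ≫ ·) ?_
  erw [reassoc_of% hPF]
  refine congrArg (_ ≫ ·) ?_
  simp only [← Functor.map_comp]
  refine congrArg _ ?_
  erw [reassoc_of% hμ']
  simp only [← Functor.map_comp, Category.assoc]
  exact congrArg (fun t => _ ≫ (DTen.LBase φ).map t) hε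

variable [DTen.HasRHom R] [DTen.HasRHom R']

omit [QuasiIso qE] [QuasiIso p] in
theorem bc_ev (K M : Dual.D R) [IsIso (DTen.rhomBC φ K ((DTen.LBase φ).obj M))] :
    (DTen.LTen₂ R').map (Prod.mkHom (DTen.bcRHom φ K M) (𝟙 ((DTen.LBase φ).obj K))) ≫
      DTen.ev ((DTen.LBase φ).obj K) ((DTen.LBase φ).obj M) =
      inv (DTenProj.μ φ ((DTen.RHomR R K).obj M) K) ≫ (DTen.LBase φ).map (DTen.ev K M) := by
  rw [IsIso.eq_inv_comp]
  apply ((DTen.baseAdj φ).homEquiv _ _).injective
  rw [DTenProj.μ, ← Adjunction.homEquiv_naturality_right_symm, Equiv.apply_symm_apply,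
    (DTen.baseAdj φ).homEquiv_unit, (DTen.baseAdj φ).unit_naturality, DTenProj.fη, Functor.map_comp]
  have hPF := (DTen.resPF φ).naturality (Prod.mkHom (DTen.bcRHom φ K M) (𝟙 ((DTen.LBase φ).obj K)))
  dsimp at hPF
  simp only [Category.assoc]
  erw [← reassoc_of% hPF, ← Functor.map_comp_assoc]
  simp only [prod_comp, Prod.mkHom]
  erw [DTen.bcRHom_fac, CategoryTheory.Functor.map_id, Category.comp_id]
  have hev : (DTen.tensorRightD R K).map ((DTen.RHomR R K).map ((DTen.baseAdj φ).unit.app M)) ≫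
      DTen.ev K ((DRing.restrictD φ).obj ((DTen.LBase φ).obj M)) =
      DTen.ev K M ≫ (DTen.baseAdj φ).unit.app M :=
    (DTen.rhomAdj R K).counit.naturality ((DTen.baseAdj φ).unit.app M)
  refine Eq.trans ?_ hev
  have hf := DTen.rhomBC_fac φ K ((DTen.LBase φ).obj M)
  refine Eq.trans ?_ (congrArg ((DTen.LTen₂ R).map (Prod.mkHom ((DTen.RHomR R K).map ((DTen.baseAdj φ).unit.app M) ≫
    inv (DTen.rhomBC φ K ((DTen.LBase φ).obj M))) (𝟙 K)) ≫ ·) hf).symm |>.trans ?_
  rotate_left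
  · erw [← Functor.map_comp_assoc]
    simp only [prod_comp, Prod.mkHom, Category.assoc, IsIso.inv_hom_id, Category.comp_id]
    rfl
  rw [DTen.rhomBCCore]
  erw [← Functor.map_comp_assoc]
  simp only [prod_comp, Prod.mkHom, Category.comp_id, Category.id_comp]
  try rfl

include qE p in
/-- The criterion: `bcRHom` is an isomorphism as soon as the evaluation on complexes is. -/
theorem isIso_bcRHom_rep (P X : DRing.Cx R) [P.IsKProjective] (K M : Dual.D R) (eK : DerivedCategory.Q.obj P ≅ K)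
    (eM : DerivedCategory.Q.obj X ≅ M) [IsIso (DTen.rhomBC φ K ((DTen.LBase φ).obj M))] (hE : DRing.IsKFlat R E)
    (h : IsIso (HomCxFinite.evalTenCx E P X)) : IsIso (DTen.bcRHom φ K M) := by
  let H := DRing.homCx P X
  let B := DTen.bcRHom φ K M
  let θ' : DerivedCategory.Q.obj H ⟶ (DTen.RHomR R K).obj M :=
    RHom.θ P X ≫ DTen.RHomMap eK.inv (DerivedCategory.Q.obj X) ≫ (DTen.RHomR R K).map eM.hom
  have hR : ∀ Y : Dual.D R, IsIso (DTen.RHomMap eK.inv Y) := fun Y =>
    (((DTen.RHom R).mapIso eK.symm.op).app Y).isIso_hom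
  have := RHom.isIso_θ P X
  have := RHom.isIso_θ P (E ⊗ X)
  have := isIso_j φ qE p hE H
  have := isIso_j φ qE p hE X
  have hT : ∀ (Z : Dual.D R) (g : Z ⟶ (DTen.RHomR R (DerivedCategory.Q.obj P)).obj (DerivedCategory.Q.obj X))
      (a : Z ⟶ (DTen.RHomR R K).obj M),
      a = g ≫ DTen.RHomMap eK.inv _ ≫ (DTen.RHomR R K).map eM.hom →
      (DTen.LTen₂ R).map (Prod.mkHom a eK.hom) ≫ DTen.ev K M =
        (DTen.LTen₂ R).map (Prod.mkHom g (𝟙 _)) ≫ DTen.ev (DerivedCategory.Q.obj P) (DerivedCategory.Q.obj X) ≫ eM.hom := by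
    intro Z g a ha
    subst ha
    have e2 : (DTen.tensorRightD R K).map ((DTen.RHomR R K).map eM.hom) ≫ DTen.ev K M =
        DTen.ev K (DerivedCategory.Q.obj X) ≫ eM.hom := (DTen.rhomAdj R K).counit.naturality eM.hom
    rw [show (DTen.LTen₂ R).map (Prod.mkHom (g ≫ DTen.RHomMap eK.inv _ ≫ (DTen.RHomR R K).map eM.hom) eK.hom) =
      (DTen.LTen₂ R).map (Prod.mkHom g eK.hom) ≫
        (DTen.LTen₂ R).map (Prod.mkHom (DTen.RHomMap eK.inv _) (𝟙 K)) ≫
        (DTen.LTen₂ R).map (Prod.mkHom ((DTen.RHomR R K).map eM.hom) (𝟙 K)) by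
        erw [← Functor.map_comp, ← Functor.map_comp]
        simp only [prod_comp, Prod.mkHom, Category.comp_id]]
    simp only [Category.assoc]
    erw [e2, reassoc_of% (DTen.RHom_map_ev (A := R) eK.inv (DerivedCategory.Q.obj X)), ← Functor.map_comp_assoc]
    simp only [prod_comp, Prod.mkHom, Category.comp_id, Iso.hom_inv_id]
  have hθ' : (DTen.LTen₂ R).map (Prod.mkHom θ' eK.hom) ≫ DTen.ev K M =
      (DTen.ε R).app (H, P) ≫ DerivedCategory.Q.map (HomCxFinite.ev P X) ≫ eM.hom := by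
    rw [hT _ (RHom.θ P X) θ' rfl]
    have e : (DTen.LTen₂ R).map (Prod.mkHom (RHom.θ P X) (𝟙 (DerivedCategory.Q.obj P))) ≫
        DTen.ev (DerivedCategory.Q.obj P) (DerivedCategory.Q.obj X) =
        (DTen.ε R).app (H, P) ≫ DerivedCategory.Q.map ((HomCx.adjunction P).counit.app X) :=
      ((DTen.rhomAdj R (DerivedCategory.Q.obj P)).homEquiv_counit _ _ (RHom.θ P X)).symm.trans
        ((DTen.rhomHomEquiv _ _ _).symm_apply_apply _)
    rw [← ev_eq_counit] at e
    exact (Category.assoc _ _ _).symm.trans ((congrArg (· ≫ eM.hom) e).trans (Category.assoc _ _ _))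
  -- the comparison
  have key : j φ qE p hE H ≫ (DRing.restrictD φ).map ((DTen.LBase φ).map θ' ≫ B) ≫
        DTen.rhomBC φ K ((DTen.LBase φ).obj M) =
      DerivedCategory.Q.map (HomCxFinite.evalTenCx E P X) ≫ RHom.θ P (E ⊗ X) ≫
        DTen.RHomMap eK.inv _ ≫ (DTen.RHomR R K).map
          (j φ qE p hE X ≫ (DRing.restrictD φ).map ((DTen.LBase φ).map eM.hom)) := by
    apply EvalHom.rhom_ext
    show (DTen.tensorRightD R K).map _ ≫ _ = (DTen.tensorRightD R K).map _ ≫ _
    rw [Functor.map_comp, Functor.map_comp, Category.assoc, Category.assoc]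
    erw [DTen.rhomBC_fac]
    try simp only [Category.assoc]
    have h1 : IsIso ((DTen.LTen₂ R).map (Prod.mkHom (𝟙 (DerivedCategory.Q.obj (E ⊗ H))) eK.hom)) :=
      ((DTen.LTen₂ R).mapIso ((Iso.refl _).prod eK)).isIso_hom
    rw [← cancel_epi ((DTen.LTen₂ R).map (Prod.mkHom (𝟙 (DerivedCategory.Q.obj (E ⊗ H))) eK.hom))]
    -- left
    have hL : (DTen.LTen₂ R').map (Prod.mkHom ((DTen.LBase φ).map θ' ≫ B) ((DTen.LBase φ).map eK.hom)) ≫
        DTen.ev ((DTen.LBase φ).obj K) ((DTen.LBase φ).obj M) =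
        inv (DTenProj.μ φ (DerivedCategory.Q.obj H) (DerivedCategory.Q.obj P)) ≫
          (DTen.LBase φ).map ((DTen.ε R).app (H, P) ≫ DerivedCategory.Q.map (HomCxFinite.ev P X) ≫ eM.hom) := by
      rw [show (DTen.LTen₂ R').map (Prod.mkHom ((DTen.LBase φ).map θ' ≫ B) ((DTen.LBase φ).map eK.hom)) =
        (DTen.LTen₂ R').map (Prod.mkHom ((DTen.LBase φ).map θ') ((DTen.LBase φ).map eK.hom)) ≫
          (DTen.LTen₂ R').map (Prod.mkHom B (𝟙 _)) by
          rw [← Functor.map_comp]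
          simp only [prod_comp, Prod.mkHom, Category.comp_id],
        Category.assoc, bc_ev φ K M, ← hθ', Functor.map_comp (DTen.LBase φ) ((DTen.LTen₂ R).map _) _, ← Category.assoc,
        ← Category.assoc]
      refine congrArg (· ≫ _) ?_
      rw [IsIso.comp_inv_eq, Category.assoc, IsIso.eq_inv_comp]
      exact (DTenProj.μ_naturality φ θ' eK.hom).symm
    rw [DTen.rhomBCCore]
    have hc : (DTen.LTen₂ R).map (Prod.mkHom (𝟙 (DerivedCategory.Q.obj (E ⊗ H))) eK.hom) ≫
        ((DTen.tensorRightD R K).map (j φ qE p hE H) ≫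
          (DTen.tensorRightD R K).map ((DRing.restrictD φ).map ((DTen.LBase φ).map θ' ≫ B))) ≫
        (DTen.LTen₂ R).map (Prod.mkHom (𝟙 _) ((DTen.baseAdj φ).unit.app K)) =
        (DTen.LTen₂ R).map (Prod.mkHom (j φ qE p hE H ≫ (DRing.restrictD φ).map ((DTen.LBase φ).map θ' ≫ B))
          (eK.hom ≫ (DTen.baseAdj φ).unit.app K)) := by
      rw [← Functor.map_comp (DTen.tensorRightD R K)]
      show (DTen.LTen₂ R).map _ ≫ (DTen.LTen₂ R).map (Prod.mkHom _ (𝟙 K)) ≫ _ = _
      rw [← Functor.map_comp, ← Functor.map_comp]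
      simp only [prod_comp, Prod.mkHom, Category.id_comp, Category.comp_id]
    have hLm : (DTen.LTen₂ R).map (Prod.mkHom (j φ qE p hE H ≫ (DRing.restrictD φ).map ((DTen.LBase φ).map θ' ≫ B))
          (eK.hom ≫ (DTen.baseAdj φ).unit.app K)) =
        (DTen.LTen₂ R).map (Prod.mkHom (j φ qE p hE H) ((DTen.baseAdj φ).unit.app (DerivedCategory.Q.obj P))) ≫
          (DTen.LTen₂ R).map (Prod.mkHom ((DRing.restrictD φ).map ((DTen.LBase φ).map θ' ≫ B))
            ((DRing.restrictD φ).map ((DTen.LBase φ).map eK.hom))) := by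
      rw [← Functor.map_comp]
      simp only [prod_comp, Prod.mkHom]
      refine congrArg _ (Prod.ext rfl ?_)
      exact (DTen.baseAdj φ).unit.naturality eK.hom
    have hPF := (DTen.resPF φ).naturality
      (Prod.mkHom ((DTen.LBase φ).map θ' ≫ B) ((DTen.LBase φ).map eK.hom))
    dsimp at hPF
    simp only [Category.assoc] at hc
    erw [reassoc_of% hc, hLm, Category.assoc, reassoc_of% hPF, ← Functor.map_comp (DRing.restrictD φ), hL]
    rw [Functor.map_comp (DTen.LBase φ) ((DTen.ε R).app (H, P)), ← Category.assoc (inv _),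
      Functor.map_comp (DRing.restrictD φ)]
    erw [reassoc_of% (j_mul φ qE p hE H P)]
    rw [Functor.map_comp (DTen.LBase φ), Functor.map_comp (DRing.restrictD φ)]
    rw [← reassoc_of% (j_naturality φ qE p hE (HomCxFinite.ev P X))]
    -- right
    have hg : DerivedCategory.Q.map (HomCxFinite.evalTenCx E P X) ≫ RHom.θ P (E ⊗ X) = DTen.rhomHomEquiv _ _ _
        ((DTen.ε R).app (E ⊗ H, P) ≫ DerivedCategory.Q.map ((α_ E H P).hom ≫ E ◁ HomCxFinite.ev P X)) := by
      rw [RHom.map_comp_θ, HomCxFinite.evalTenCx, Equiv.symm_apply_apply]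
    have e2 : (DTen.tensorRightD R K).map ((DTen.RHomR R K).map
        (j φ qE p hE X ≫ (DRing.restrictD φ).map ((DTen.LBase φ).map eM.hom))) ≫ DTen.ev K _ =
        DTen.ev K _ ≫ j φ qE p hE X ≫ (DRing.restrictD φ).map ((DTen.LBase φ).map eM.hom) :=
      (DTen.rhomAdj R K).counit.naturality _
    rw [Functor.map_comp (DTen.tensorRightD R K), Functor.map_comp (DTen.tensorRightD R K),
      Functor.map_comp (DTen.tensorRightD R K)]
    simp only [Category.assoc]
    erw [e2, reassoc_of% (DTen.RHom_map_ev (A := R) eK.inv _), ← Functor.map_comp_assoc, ← Functor.map_comp_assoc,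
      ← Functor.map_comp_assoc]
    simp only [prod_comp, Prod.mkHom, Category.id_comp, Category.comp_id, Iso.hom_inv_id]
    rw [hg]
    have e3 := ((DTen.rhomAdj R (DerivedCategory.Q.obj P)).homEquiv_counit _ _
      (DTen.rhomHomEquiv _ _ _ ((DTen.ε R).app (E ⊗ H, P) ≫
        DerivedCategory.Q.map ((α_ E H P).hom ≫ E ◁ HomCxFinite.ev P X)))).symm.trans
      ((DTen.rhomHomEquiv _ _ _).symm_apply_apply _)
    rw [← Functor.map_comp_assoc]
    simp only [prod_comp, Prod.mkHom, Category.id_comp, Category.comp_id, Iso.hom_inv_id]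
    erw [reassoc_of% e3]
  have hK : IsIso (j φ qE p hE H ≫ (DRing.restrictD φ).map ((DTen.LBase φ).map θ' ≫ B) ≫
      DTen.rhomBC φ K ((DTen.LBase φ).obj M)) := by
    rw [key]
    infer_instance
  have h1 := IsIso.of_isIso_comp_left (j φ qE p hE H) ((DRing.restrictD φ).map ((DTen.LBase φ).map θ' ≫ B) ≫
      DTen.rhomBC φ K ((DTen.LBase φ).obj M))
  have h2 := IsIso.of_isIso_comp_right ((DRing.restrictD φ).map ((DTen.LBase φ).map θ' ≫ B))
      (DTen.rhomBC φ K ((DTen.LBase φ).obj M))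
  have h3 := RelHom.isIso_of_isIso_restrictD φ _ h2
  have : IsIso θ' := IsIso.comp_isIso' inferInstance (IsIso.comp_isIso' (hR _) inferInstance)
  exact IsIso.of_isIso_comp_left ((DTen.LBase φ).map θ') B

end Derived

namespace Finitary

open HomCxFinite CochainComplex CochainComplex.HomComplex Groth.Agent.Lib.DR.HomCx

variable {A : Type u} [CommRing A]

/-- `evalTenCx` is an isomorphism for degreewise finite projective `P` when only finitely many
degrees of `P` contribute in each degree. -/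
theorem isIso_evalTenCx_of_finitary (E P L : DRing.Cx A)
    (hP : ∀ i, Module.Finite A (P.X i) ∧ Module.Projective A (P.X i))
    (hS : ∀ n, ∃ S : Finset ℤ, ∀ p, p ∉ S →
      IsZero (P.X p) ∨ ∀ i, IsZero (E.X i) ∨ IsZero (L.X (p + n - i))) :
    IsIso (evalTenCx E P L) := by
  classical
  refine @HomologicalComplex.Hom.isIso_of_components _ _ _ _ _ _ _ _ fun n => ?_
  obtain ⟨S, hS⟩ := hS n
  have hb := fun p => (have := (hP p).1; have := (hP p).2; exists_dual_basis (A := A) (P.X p))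
  choose N v f hf using hb
  refine bijective_evalTenCx E P L n (∑ p ∈ S, ∑ s : Fin (N p),
    lift₁ E P L (f p s) n (p + n) ∘ₗ (LinearMap.applyₗ (v p s)) ∘ₗ lv p (p + n) rfl) ?_ ?_
  · intro i j hij x z w hw
    obtain rfl : j = n - i := by lia
    simp only [LinearMap.coe_sum, Finset.sum_apply, LinearMap.comp_apply, LinearMap.applyₗ_apply_apply]
    have hs : ∀ p (s : Fin (N p)), lift₁ E P L (f p s) n (p + n) (lv p (p + n) rfl w (v p s)) =
        inclH E P L i (n - i) n hij (x ⊗ₜ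
          rankOne P L (f p s) (p + (n - i)) (n - i) (lv p (p + (n - i)) rfl z (v p s))) := fun p s => by
      rw [hw, evL_incl E P L i (n - i) n p (p + n) (p + (n - i)) hij rfl rfl x z (v p s), lift₁_incl]
      rfl
    simp only [hs, ← map_sum, ← TensorProduct.tmul_sum]
    by_cases hE : IsZero (E.X i)
    · have := ModuleCat.subsingleton_of_isZero hE
      rw [Subsingleton.elim x 0, TensorProduct.zero_tmul, TensorProduct.zero_tmul]
    refine congrArg (fun w : Cochain P L (n - i) => inclH E P L i (n - i) n hij (x ⊗ₜ w))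
      (lv_ext fun p' q' h => LinearMap.ext fun k => ?_)
    simp only [map_sum, LinearMap.coe_sum, Finset.sum_apply]
    obtain rfl : q' = p' + (n - i) := h.symm
    by_cases hp : p' ∈ S
    · refine (Finset.sum_eq_single p' (fun l _ hl => Finset.sum_eq_zero fun s _ =>
          rankOne_apply_ne P L _ _ _ _ _ h hl.symm _ _) (fun h => absurd hp h)).trans ?_
      simp only [rankOne_apply _ _ _ _ _ h]
      conv_rhs => rw [← hf p' k, map_sum]
      simp only [map_smul]
    · rcases hS p' hp with h0 | h0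
      · have := ModuleCat.subsingleton_of_isZero h0
        obtain rfl : k = 0 := Subsingleton.elim _ _
        simp
      · have h1 := (h0 i).resolve_left hE
        rw [show p' + n - i = p' + (n - i) by lia] at h1
        have := ModuleCat.subsingleton_of_isZero h1
        exact Subsingleton.elim _ _
  · intro z p k
    simp only [LinearMap.coe_sum, Finset.sum_apply, LinearMap.comp_apply, LinearMap.applyₗ_apply_apply, map_sum]
    by_cases hp : p ∈ S
    · refine (Finset.sum_eq_single p (fun l _ hl => Finset.sum_eq_zero fun s _ =>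
        evL_lift₁_ne E P L _ n hl.symm _ k) (fun h => absurd hp h)).trans ?_
      simp only [evL_lift₁]
      conv_rhs => rw [← hf p k, map_sum]
      simp only [map_smul]
    · rcases hS p hp with h0 | h0
      · have := ModuleCat.subsingleton_of_isZero h0
        obtain rfl : k = 0 := Subsingleton.elim _ _
        simp
      · have h0' : ∀ w : (tens E L).X (p + n), w = 0 := fun w => by
          induction w using induction with
          | zero => rfl
          | add a b ha hb => rw [ha, hb, add_zero]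
          | inc i q hiq t =>
            obtain rfl : q = p + n - i := by lia
            rcases h0 i with h1 | h1 <;>
              [ (have := ModuleCat.subsingleton_of_isZero h1);
                (have := ModuleCat.subsingleton_of_isZero h1) ] <;>
              rw [Subsingleton.elim t 0, map_zero]
        exact (h0' _).trans (h0' _).symm

end Finitary

end Groth.Agent.Lib.DR.BcRHom
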