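import Groth.Agent.Lib.DerCat.HocolimQ
import Groth.Agent.Lib.DerCat.KInjExists
import Groth.Agent.Lib.DerCat.KInjSmall
import Groth.Agent.Lib.DerCat.Compact
import Groth.Prelude.Def_DRing2
import Mathlib.Algebra.Category.ModuleCat.AB
import Mathlib.Algebra.Category.ModuleCat.Colimits

/-!
# Direct sums in `D(R)` and telescopes
-/

universe u t

open CategoryTheory CategoryTheory.Limits CategoryTheory.Pretriangulated

attribute [local instance] HasDerivedCategory.standard

namespace Groth.Agent.Lib.DR.CountSum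

variable (R : Type u) [CommRing R]

instance isLeftAdjoint_Qh : (DerivedCategory.Qh (C := ModuleCat.{u} R)).IsLeftAdjoint :=
  Groth.Agent.Lib.DerivedOX.RightDerived.isLeftAdjoint_Qh (A := ModuleCat.{u} R)
    Groth.Agent.Lib.DerCat.KInjExists.hasKInjRes

theorem hasColimitsOfShape_D (J : Type t) [HasColimitsOfShape (Discrete J) (ModuleCat.{u} R)] :
    HasColimitsOfShape (Discrete J) (Dual.D R) := by
  have := Groth.Agent.Lib.DerCat.HocolimQ.preservesColimitsOfShape_Q (A := ModuleCat.{u} R) J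
  refine ⟨fun G => ?_⟩
  let B : J → DRing.Cx R := fun j => DerivedCategory.Q.objPreimage (G.obj ⟨j⟩)
  let e : G ≅ Discrete.functor B ⋙ DerivedCategory.Q :=
    Discrete.natIso fun j => (DerivedCategory.Q.objObjPreimageIso (G.obj j)).symm
  exact hasColimit_of_iso e

instance (J : Type u) : HasColimitsOfShape (Discrete (ULift.{u + 1} J)) (ModuleCat.{u} R) :=
  hasColimitsOfShape_of_equivalence (Discrete.equivalence Equiv.ulift.symm)

instance (J : Type u) : HasColimitsOfShape (Discrete (ULift.{u + 1} J)) (Dual.D R) :=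
  hasColimitsOfShape_D R _

instance : HasColimitsOfShape (Discrete (ULift.{u + 1} ℕ)) (ModuleCat.{u} R) :=
  hasColimitsOfShape_of_equivalence
    (Discrete.equivalence ((Equiv.ulift.{u, 0} (α := ℕ)).trans Equiv.ulift.{u + 1, 0}.symm))

instance : HasColimitsOfShape (Discrete (ULift.{u + 1} ℕ)) (Dual.D R) := hasColimitsOfShape_D R _

instance : HasColimitsOfShape (Discrete ℕ) (Dual.D R) := hasColimitsOfShape_D R _

instance : HasExactColimitsOfShape ℕ (ModuleCat.{u} R) :=
  Groth.Agent.Lib.DerCat.KInjSmall.hasExactColimitsNat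

variable {R}

/-- Maps into countable direct sums are finite sums of maps into summands. -/
def FinSum (K : Dual.D R) : Prop :=
  ∀ (E : ℕ → Dual.D R) (h : K ⟶ ∐ E),
    ∃ (N : ℕ) (g : ∀ n, K ⟶ E n), h = ∑ n ∈ Finset.range N, g n ≫ Sigma.ι E n

theorem finSum_of_bijective {K : Dual.D R}
    (hK : ∀ (E : ℕ → Dual.D R) [HasCoproduct fun i : ULift.{u + 1} ℕ => E i.down],
      Function.Bijective (CohDer.homSumToHomCoprod K (fun i : ULift.{u + 1} ℕ => E i.down))) :
    FinSum K := fun E h => by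
  classical
  let E' : ULift.{u + 1} ℕ → Dual.D R := fun k => E k.down
  let a : (∐ E) ⟶ ∐ E' := Sigma.desc fun n => Sigma.ι E' ⟨n⟩
  let b : (∐ E') ⟶ ∐ E := Sigma.desc fun k => Sigma.ι E k.down
  have hab : a ≫ b = 𝟙 _ := Sigma.hom_ext _ _ fun n => by simp [a, b, E']
  obtain ⟨z, hz⟩ := (hK E).2 (h ≫ a)
  obtain ⟨N, hN⟩ := ((DFinsupp.support z).image ULift.down).exists_nat_subset_range
  refine ⟨N, fun n => z ⟨n⟩, ?_⟩
  have : h = (h ≫ a) ≫ b := by rw [Category.assoc, hab, Category.comp_id]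
  rw [this, ← hz]
  conv_lhs => rw [← DirectSum.sum_support_of z, map_sum, Preadditive.sum_comp]
  rw [← Finset.sum_subset hN fun n _ hn => ?_, Finset.sum_image (fun x _ y _ e => ULift.ext x y e)]
  · refine Finset.sum_congr rfl fun k _ => ?_
    rw [Groth.Agent.Lib.DerCat.Compact.homSum_of, Category.assoc, Sigma.ι_desc]
  · have : z ⟨n⟩ = 0 := by
      by_contra hne
      exact hn (Finset.mem_image.2 ⟨⟨n⟩, DFinsupp.mem_support_toFun z ⟨n⟩ |>.2 hne, rfl⟩)
    simp only [this, zero_comp]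

theorem FinSum.shift {K : Dual.D R} (hK : FinSum K) (a b : ℤ) (hab : a + b = 0) : FinSum (K⟦a⟧) :=
  fun E h => by
  classical
  let adj : shiftFunctor (Dual.D R) a ⊣ shiftFunctor (Dual.D R) b :=
    (shiftEquiv' (Dual.D R) a b hab).toAdjunction
  let G : Dual.D R ⥤ Dual.D R := shiftFunctor (Dual.D R) b
  let i : ∐ (fun n => G.obj (E n)) ≅ G.obj (∐ E) := (PreservesCoproduct.iso G E).symm
  obtain ⟨N, g, hg⟩ := hK (fun n => G.obj (E n)) ((adj.homEquiv K (∐ E) h) ≫ i.inv)
  refine ⟨N, fun n => (adj.homEquiv K (E n)).symm (g n), ?_⟩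
  apply (adj.homEquiv K (∐ E)).injective
  have h1 : adj.homEquiv K (∐ E) h = (adj.homEquiv K (∐ E) h ≫ i.inv) ≫ i.hom :=
    ((Category.assoc _ _ _).trans ((congrArg (_ ≫ ·) i.inv_hom_id).trans (Category.comp_id _))).symm
  rw [h1, hg, Preadditive.sum_comp]
  change _ = adj.homAddEquiv K (∐ E) _
  rw [map_sum]
  refine Finset.sum_congr rfl fun n _ => ?_
  change _ = adj.homEquiv K (∐ E) _
  rw [Adjunction.homEquiv_naturality_right, Equiv.apply_symm_apply, Category.assoc]
  congr 1
  simp [i, G, PreservesCoproduct.inv_hom]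

section Telescope

variable (F : ℕ ⥤ DRing.Cx R)

/-- The stages in the derived category. -/
noncomputable abbrev st (n : ℕ) : Dual.D R := DerivedCategory.Q.obj (F.obj n)

/-- One minus the shift. -/
noncomputable abbrev tel : (∐ st F) ⟶ ∐ st F :=
  𝟙 _ - DerLim.shiftMap (st F) fun n => DerivedCategory.Q.map (F.map (homOfLE (Nat.le_succ n)))

/-- The partial sums up to a stage. -/
noncomputable def psum (N : ℕ) : (∐ st F) ⟶ st F N :=
  Sigma.desc fun k => if h : k ≤ N then DerivedCategory.Q.map (F.map (homOfLE h)) else 0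

/-- The projection to a summand. -/
noncomputable def proj (N : ℕ) : (∐ st F) ⟶ st F N :=
  Sigma.desc fun k => if h : k = N then eqToHom (congrArg (st F) h) else 0

theorem tel_psum (N : ℕ) : tel F ≫ psum F N = proj F N := by
  refine Sigma.hom_ext _ _ fun k => ?_
  rw [← Category.assoc, tel, Preadditive.comp_sub, Category.comp_id, DerLim.shiftMap, Sigma.ι_desc,
    Preadditive.sub_comp, Category.assoc, psum, Sigma.ι_desc, Sigma.ι_desc, proj, Sigma.ι_desc]
  rcases lt_trichotomy k N with h | h | h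
  · rw [dif_pos h.le, dif_pos (show k + 1 ≤ N by omega), dif_neg h.ne, ← Functor.map_comp,
      ← Functor.map_comp, homOfLE_comp, sub_self]
  · subst h
    rw [dif_pos le_rfl, dif_neg (show ¬ k + 1 ≤ k by omega), dif_pos rfl, comp_zero, sub_zero,
      eqToHom_refl, show (homOfLE (le_refl k) : k ⟶ k) = 𝟙 k from rfl, CategoryTheory.Functor.map_id,
      CategoryTheory.Functor.map_id]
  · rw [dif_neg (show ¬ k ≤ N by omega), dif_neg (show ¬ k + 1 ≤ N by omega), dif_neg h.ne', comp_zero,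
      sub_zero]

theorem psum_ι (c : Cocone F) {K : Dual.D R} (N : ℕ) (g : ∀ n, K ⟶ st F n) :
    (∑ n ∈ Finset.range N, g n ≫ Sigma.ι (st F) n) ≫ psum F N ≫ DerivedCategory.Q.map (c.ι.app N) =
      (∑ n ∈ Finset.range N, g n ≫ Sigma.ι (st F) n) ≫ Sigma.desc fun n => DerivedCategory.Q.map (c.ι.app n) := by
  rw [Preadditive.sum_comp, Preadditive.sum_comp]
  refine Finset.sum_congr rfl fun n hn => ?_
  have h : n ≤ N := (Finset.mem_range.1 hn).le
  rw [Category.assoc, Category.assoc, psum, Sigma.ι_desc_assoc, dif_pos h, ← Functor.map_comp, c.w,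
    Sigma.ι_desc]

theorem eq_zero_of_comp_tel {K : Dual.D R} (hK : FinSum K) (h : K ⟶ ∐ st F) (hh : h ≫ tel F = 0) :
    h = 0 := by
  classical
  obtain ⟨N, g, hg⟩ := hK _ h
  have hp : ∀ m, h ≫ proj F m = 0 := fun m => by rw [← tel_psum, reassoc_of% hh, zero_comp]
  have hm : ∀ m ∈ Finset.range N, g m = 0 := fun m hm => by
    have := hp m
    rw [hg, Preadditive.sum_comp] at this
    refine Eq.trans ?_ this
    rw [Finset.sum_eq_single m (fun n _ hn => by simp [proj, hn]) (fun h => absurd hm h)]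
    simp [proj]
  rw [hg, Finset.sum_eq_zero fun n hn => by rw [hm n hn, zero_comp]]

theorem main {K : Dual.D R} (hK : FinSum K) (c : Cocone F) (hc : IsColimit c) :
    (∀ x : K ⟶ DRing.toD c.pt, ∃ (n : ℕ) (y : K ⟶ DRing.toD (F.obj n)),
        y ≫ DerivedCategory.Q.map (c.ι.app n) = x) ∧
      (∀ (n : ℕ) (y : K ⟶ DRing.toD (F.obj n)), y ≫ DerivedCategory.Q.map (c.ι.app n) = 0 →
        ∃ (m : ℕ) (h : n ≤ m), y ≫ DerivedCategory.Q.map (F.map (homOfLE h)) = 0) := by
  obtain ⟨δ, hT⟩ := Groth.Agent.Lib.DerCat.HocolimQ.isHocolim (A := ModuleCat.{u} R) F c hc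
  constructor
  · intro x
    have hδ : x ≫ δ = 0 := by
      have h1 : (x ≫ δ) ≫ (tel F)⟦(1 : ℤ)⟧' = 0 := by
        rw [Category.assoc]
        exact (congrArg (x ≫ ·) (comp_distTriang_mor_zero₃₁ _ hT)).trans comp_zero
      let adj : shiftFunctor (Dual.D R) (-1 : ℤ) ⊣ shiftFunctor (Dual.D R) (1 : ℤ) :=
        (shiftEquiv' (Dual.D R) (-1 : ℤ) 1 (by omega)).toAdjunction
      have h2 : (adj.homEquiv K (∐ st F)).symm (x ≫ δ) = 0 := by
        refine eq_zero_of_comp_tel F (hK.shift (-1) 1 (by omega)) _ ?_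
        rw [← Adjunction.homEquiv_naturality_right_symm]
        refine (congrArg _ h1).trans ?_
        exact (adj.homAddEquiv K (∐ st F)).symm.map_zero
      exact ((adj.homAddEquiv K (∐ st F)).symm.map_eq_zero_iff).1 h2
    obtain ⟨h, hh⟩ : ∃ h : K ⟶ ∐ st F, x = h ≫ Sigma.desc (fun k => DerivedCategory.Q.map (c.ι.app k)) :=
      Triangle.coyoneda_exact₃ _ hT x hδ
    obtain ⟨N, g, hg⟩ := hK _ h
    refine ⟨N, h ≫ psum F N, ?_⟩
    refine (Category.assoc _ _ _).trans ?_
    rw [hg, psum_ι, ← hg]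
    exact hh.symm
  · intro n y hy
    have h0 : (y ≫ Sigma.ι (st F) n) ≫ Sigma.desc (fun k => DerivedCategory.Q.map (c.ι.app k)) = 0 := by
      rw [Category.assoc, Sigma.ι_desc]
      exact hy
    obtain ⟨h, hh⟩ : ∃ h : K ⟶ ∐ st F, y ≫ Sigma.ι (st F) n = h ≫ tel F :=
      Triangle.coyoneda_exact₂ _ hT _ h0
    obtain ⟨N, g, hg⟩ := hK _ h
    refine ⟨max n N, le_max_left _ _, ?_⟩
    have := congrArg (· ≫ psum F (max n N)) hh
    simp only [Category.assoc, tel_psum] at this
    rw [psum, Sigma.ι_desc, dif_pos (le_max_left n N)] at this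
    rw [this, hg, Preadditive.sum_comp]
    exact Finset.sum_eq_zero fun k hk => by
      have : k ≠ max n N := by
        have := Finset.mem_range.1 hk
        omega
      simp [proj, this]

end Telescope

end Groth.Agent.Lib.DR.CountSum
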