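import Groth.Agent.Lib.DR.Perfect
import Groth.Agent.Lib.FlatCx.Elem
import Mathlib.Algebra.Homology.Double

/-!
# Objects with cohomology in degrees `-1` and `0`
-/

universe u

open CategoryTheory CategoryTheory.Limits CategoryTheory.Pretriangulated
open Groth.Agent.Lib.DR.Basic Groth.Agent.Lib.DR.FiniteComplex Groth.Agent.Lib.DR.PseudoCoherent
open Groth.Agent.Lib.DR.Representative Groth.Agent.Lib.FlatCx.Elem

attribute [local instance] HasDerivedCategory.standard

namespace Groth.Agent.Lib.DR.TwoTerm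

variable {A : Type u} [CommRing A]

local notation "H^" => DerivedCategory.homologyFunctor (ModuleCat _)
local notation "sgl" => DerivedCategory.singleFunctor (ModuleCat _)

/-! ### t-structure -/

/-- If some cone of `α` is `≤ n` then precomposition with `α` is injective on maps to objects
`≥ m > n`. -/
lemma eq_zero_of_coneLE {X Y Z : Dual.D A} {α : X ⟶ Y} {n m : ℤ} (hα : ConeLE α n) (hZ : Z.IsGE m)
    (hnm : n < m) (u : Y ⟶ Z) (h : α ≫ u = 0) : u = 0 := by
  obtain ⟨C, g, k, hd, hC⟩ := hα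
  obtain ⟨u', hu'⟩ := Triangle.yoneda_exact₂ _ hd u h
  rw [hu', hom_eq_zero_of_isLE_of_isGE u' hnm hC hZ]
  exact comp_zero

/-- A morphism from `≤ n` to `≥ n` killed by `H^n` is zero. -/
lemma eq_zero_of_homologyMap_eq_zero {X Y : Dual.D A} {n : ℤ} (hX : X.IsLE n) (hY : Y.IsGE n)
    (f : X ⟶ Y) (h : (DerivedCategory.homologyFunctor (ModuleCat.{u} A) n).map f = 0) : f = 0 := by
  obtain ⟨P, M, p, g, k, hd, hP, -, hiso⟩ := exists_peel_top X n hX
  obtain ⟨f', hf'⟩ : ∃ f' : (DerivedCategory.singleFunctor (ModuleCat.{u} A) n).obj M ⟶ Y,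
      f = g ≫ f' := Triangle.yoneda_exact₂ _ hd f
    (hom_eq_zero_of_isLE_of_isGE _ (show n - 1 < n by lia) hP hY)
  let F := DerivedCategory.homologyFunctor (ModuleCat.{u} A) n
  have : Epi (F.map g) :=
    (DerivedCategory.HomologySequence.epi_homologyMap_mor₂_iff _ hd n (n + 1) rfl).2
      ((DerivedCategory.isZero_of_isLE P (n - 1) (n + 1) (by lia)).eq_of_tgt _ _)
  have h2 : F.map f' = 0 := by
    rw [← cancel_epi (F.map g), comp_zero, ← F.map_comp]
    exact (congrArg F.map hf').symm.trans h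
  obtain ⟨P', R, i, q, k', hd', hP', hR⟩ := exists_trunc Y n (n + 1) rfl
  have hP'' : P'.IsGE n :=
    isGE_obj₁ _ hd' n hY ((DerivedCategory.isGE_iff _ _).2 fun j hj =>
      DerivedCategory.isZero_of_isGE R (n + 1) j (by lia))
  obtain ⟨N, ⟨e⟩⟩ := DerivedCategory.exists_iso_singleFunctor_obj_of_isGE_of_isLE P' n
  obtain ⟨f'', hf''⟩ : ∃ f'' : (DerivedCategory.singleFunctor (ModuleCat.{u} A) n).obj M ⟶ P',
      f' = f'' ≫ i := Triangle.coyoneda_exact₂ _ hd' f'
    (hom_eq_zero_of_isLE_of_isGE _ (show n < n + 1 by lia) inferInstance hR)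
  have : Mono (F.map i) :=
    (DerivedCategory.HomologySequence.mono_homologyMap_mor₁_iff _ hd' (n - 1) n (by lia)).2
      ((DerivedCategory.isZero_of_isGE R (n + 1) (n - 1) (by lia)).eq_of_src _ _)
  have h3 : F.map f'' = 0 := by
    rw [← cancel_mono (F.map i), zero_comp, ← F.map_comp]
    exact (congrArg F.map hf'').symm.trans h2
  obtain ⟨ψ, hψ⟩ := (DerivedCategory.singleFunctor (ModuleCat.{u} A) n).map_surjective (f'' ≫ e.hom)
  have h4 : ψ = 0 := by
    let iso := DerivedCategory.singleFunctorCompHomologyFunctorIso (ModuleCat.{u} A) n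
    have hn := iso.hom.naturality ψ
    have : ((DerivedCategory.singleFunctor (ModuleCat.{u} A) n) ⋙ F).map ψ = 0 :=
      (congrArg F.map hψ).trans (by rw [F.map_comp, h3, zero_comp])
    rw [this, zero_comp] at hn
    rw [← cancel_epi (iso.hom.app M), comp_zero]
    exact hn.symm
  have h5 : f'' = 0 := by
    rw [← cancel_mono e.hom, zero_comp, ← hψ, h4, Functor.map_zero]
  rw [hf', hf'', h5]
  simp

lemma isLE_of_outside {K : Dual.D A} (h : ∀ i : ℤ, i ≠ -1 → i ≠ 0 → Subsingleton (Dual.HD A K i)) :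
    K.IsLE 0 :=
  (isLE_iff_subsingleton K 0).2 fun i hi => h i (by lia) (by lia)

lemma isGE_of_outside {K : Dual.D A} (h : ∀ i : ℤ, i ≠ -1 → i ≠ 0 → Subsingleton (Dual.HD A K i)) :
    K.IsGE (-1) :=
  (isGE_iff_subsingleton K (-1)).2 fun i hi => h i (by lia) (by lia)

lemma coneLE_of_outside {K K' : Dual.D A} (α : K ⟶ K')
    (hK : ∀ i : ℤ, i ≠ -1 → i ≠ 0 → Subsingleton (Dual.HD A K i))
    (hK' : ∀ i : ℤ, i ≠ -1 → i ≠ 0 → Subsingleton (Dual.HD A K' i))
    (h0 : IsIso ((DerivedCategory.homologyFunctor (ModuleCat.{u} A) 0).map α))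
    (h1 : Epi ((DerivedCategory.homologyFunctor (ModuleCat.{u} A) (-1)).map α)) : ConeLE α (-2) := by
  rw [coneLE_iff]
  refine ⟨fun i hi => ?_, h1⟩
  by_cases hi0 : i = 0
  · subst hi0; exact h0
  · have := hK i (by lia) hi0
    have := hK' i (by lia) hi0
    exact ⟨0, (ModuleCat.isZero_of_subsingleton _).eq_of_src _ _,
      (ModuleCat.isZero_of_subsingleton _).eq_of_src _ _⟩

/-! ### Two-term complexes -/

/-- A homotopy concentrated in one spot. -/
lemma nonempty_homotopy_zero {M K : DRing.Cx A} (φ : M ⟶ K) (i j : ℤ) (hij : i + 1 = j)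
    (h : M.X j ⟶ K.X i) (hj : φ.f j = h ≫ K.d i j) (hi : φ.f i = M.d i j ≫ h)
    (hz : ∀ k, k ≠ i → k ≠ j → φ.f k = 0) : Nonempty (Homotopy φ 0) := by
  let hom : ∀ a b, (ComplexShape.up ℤ).Rel b a → (M.X a ⟶ K.X b) := fun a b _ =>
    if hab : a = j ∧ b = i then
      (M.XIsoOfEq hab.1).hom ≫ h ≫ (K.XIsoOfEq hab.2).inv else 0
  refine ⟨(Homotopy.ofEq ?_).trans (Homotopy.nullHomotopy' hom)⟩
  ext1 k
  rw [Homotopy.nullHomotopicMap'_f (k₂ := k - 1) (k₁ := k) (k₀ := k + 1) (show k - 1 + 1 = k by lia)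
    (show k + 1 = k + 1 from rfl)]
  by_cases hk : k = j
  · subst hk
    obtain rfl : i = k - 1 := by lia
    simp [hom, hj, HomologicalComplex.XIsoOfEq]
  · by_cases hk' : k = i
    · subst hk'
      obtain rfl : j = k + 1 := by lia
      simp [hom, hi, HomologicalComplex.XIsoOfEq]
    · have h1 : ¬ (k + 1 = j ∧ k = i) := fun h' => hk' h'.2
      have h2 : ¬ (k = j ∧ k - 1 = i) := fun h' => hk h'.1
      simp [hom, h1, h2, hz k hk' hk]

lemma Q_map_eq_zero {M K : DRing.Cx A} (φ : M ⟶ K) (i j : ℤ) (hij : i + 1 = j)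
    (h : M.X j ⟶ K.X i) (hj : φ.f j = h ≫ K.d i j) (hi : φ.f i = M.d i j ≫ h)
    (hz : ∀ k, k ≠ i → k ≠ j → φ.f k = 0) : DerivedCategory.Q.map φ = 0 := by
  obtain ⟨H⟩ := nonempty_homotopy_zero φ i j hij h hj hi hz
  have h0 := HomotopyCategory.eq_of_homotopy _ _ H
  rw [← cancel_epi ((DerivedCategory.quotientCompQhIso (ModuleCat.{u} A)).hom.app M), comp_zero,
    ← DerivedCategory.quotientCompQhIso_hom_naturality, h0]
  simp

/-- Chain maps between complexes living in degrees `≤ 0`, resp. `≥ -1`. -/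
lemma exists_hom_of_two {M K : DRing.Cx A} (hM : ∀ i : ℤ, 0 < i → IsZero (M.X i))
    (f₁ : M.X (-1) ⟶ K.X (-1)) (f₀ : M.X 0 ⟶ K.X 0)
    (hc : f₁ ≫ K.d (-1) 0 = M.d (-1) 0 ≫ f₀) (hd : M.d (-2) (-1) ≫ f₁ = 0)
    (he : f₀ ≫ K.d 0 1 = 0) :
    ∃ φ : M ⟶ K, φ.f (-1) = f₁ ∧ φ.f 0 = f₀ := by
  refine ⟨{
    f := fun i => if h1 : i = -1 then (M.XIsoOfEq h1).hom ≫ f₁ ≫ (K.XIsoOfEq h1).inv
      else if h0 : i = 0 then (M.XIsoOfEq h0).hom ≫ f₀ ≫ (K.XIsoOfEq h0).inv else 0
    comm' := ?_ }, ?_, ?_⟩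
  · intro i j hij
    change i + 1 = j at hij
    subst hij
    by_cases h1 : i = -1
    · subst h1
      simpa [HomologicalComplex.XIsoOfEq] using hc
    · by_cases h0 : 0 ≤ i
      · have hz := hM (i + 1) (by lia)
        have h1' : ¬ (i + 1 = -1) := by lia
        have h0' : ¬ (i + 1 = 0) := by lia
        by_cases hi : i = 0
        · subst hi
          simp [h1', h0', hz.eq_of_tgt (M.d 0 (0 + 1)) 0, HomologicalComplex.XIsoOfEq]
          exact he
        · simp [h1', h0', h1, hi]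
      · have hi : ¬ i = 0 := by lia
        by_cases h2 : i + 1 = -1
        · obtain rfl : i = -2 := by lia
          simpa [h1, hi, HomologicalComplex.XIsoOfEq] using hd.symm
        · have hi' : ¬ i + 1 = 0 := by lia
          simp [h1, hi, h2, hi']
  · simp [HomologicalComplex.XIsoOfEq]
  · simp [HomologicalComplex.XIsoOfEq]

/-- A two-term complex in degrees `-1, 0`. -/
noncomputable def two {X Y : ModuleCat.{u} A} (f : X ⟶ Y) : DRing.Cx A :=
  HomologicalComplex.double f (show (ComplexShape.up ℤ).Rel (-1) 0 from by simp)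

lemma isZero_two {X Y : ModuleCat.{u} A} (f : X ⟶ Y) (i : ℤ) (hi : i < -1 ∨ 0 < i) :
    IsZero ((two f).X i) :=
  HomologicalComplex.isZero_double_X _ _ i (by lia) (by lia)

/-- Degree `-1` of `two f`. -/
noncomputable def twoXIso₀ {X Y : ModuleCat.{u} A} (f : X ⟶ Y) : (two f).X (-1) ≅ X :=
  HomologicalComplex.doubleXIso₀ f _

/-- Degree `0` of `two f`. -/
noncomputable def twoXIso₁ {X Y : ModuleCat.{u} A} (f : X ⟶ Y) : (two f).X 0 ≅ Y :=
  HomologicalComplex.doubleXIso₁ f _ (by lia)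

lemma two_d {X Y : ModuleCat.{u} A} (f : X ⟶ Y) :
    (two f).d (-1) 0 = (twoXIso₀ f).hom ≫ f ≫ (twoXIso₁ f).inv :=
  HomologicalComplex.double_d f _ (by lia)

lemma two_d_zero {X Y : ModuleCat.{u} A} (f : X ⟶ Y) : (two f).d 0 1 = 0 :=
  (isZero_two f 1 (Or.inr (by lia))).eq_of_tgt _ _

lemma isKProjective_two {X Y : ModuleCat.{u} A} (f : X ⟶ Y) (hX : proj A X) (hY : proj A Y) :
    (two f).IsKProjective := by
  refine isKProjective_of_bounds projective_of_proj (b := 0) (fun i hi => isZero_two f i (Or.inr hi))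
    fun i => ?_
  by_cases h1 : i = -1
  · subst h1; exact good_proj.iso (twoXIso₀ f).symm hX
  by_cases h0 : i = 0
  · subst h0; exact good_proj.iso (twoXIso₁ f).symm hY
  exact good_proj.zero (isZero_two f i (by lia))

section Bijective

variable {M K : DRing.Cx A} (hM : ∀ i : ℤ, 0 < i → IsZero (M.X i))
  (hM0 : Module.Projective A (M.X 0)) (hK : ∀ i : ℤ, i ≤ -2 → IsZero (K.X i))

include hM in
lemma exists_two_resolution :
    ∃ (F : ModuleCat.{u} A) (π : F ⟶ M.X (-1)) (s : two (π ≫ M.d (-1) 0) ⟶ M), proj A F ∧ Epi π ∧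
      s.f (-1) = (twoXIso₀ _).hom ≫ π ∧ s.f 0 = (twoXIso₁ _).hom := by
  obtain ⟨F, π, hF, hπ⟩ := exists_free_cover' (M.X (-1))
  obtain ⟨s, h1, h0⟩ := exists_hom_of_two (M := two (π ≫ M.d (-1) 0)) (K := M)
    (fun i hi => isZero_two _ i (Or.inr hi))
    ((twoXIso₀ _).hom ≫ π) (twoXIso₁ _).hom
    (by rw [two_d, Category.assoc, Category.assoc, Category.assoc, Iso.inv_hom_id, Category.comp_id])
    ((isZero_two _ (-2) (Or.inl (by lia))).eq_of_src _ _)
    ((hM 1 (by lia)).eq_of_tgt _ _)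
  exact ⟨F, π, s, proj_of_free _ hF, hπ, h1, h0⟩

include hM in
lemma coneLE_resolution {F : ModuleCat.{u} A} (π : F ⟶ M.X (-1)) [Epi π]
    (s : two (π ≫ M.d (-1) 0) ⟶ M) (h1 : s.f (-1) = (twoXIso₀ _).hom ≫ π)
    (h0 : s.f 0 = (twoXIso₁ _).hom) : ConeLE (DerivedCategory.Q.map s) (-2) := by
  have hd : ∀ y, (M.d (-1) 0) (π y) =
      (twoXIso₁ (π ≫ M.d (-1) 0)).hom ((two (π ≫ M.d (-1) 0)).d (-1) 0 ((twoXIso₀ _).inv y)) := by
    intro y
    rw [two_d]
    simp
  have hπ := (ModuleCat.epi_iff_surjective π).1 inferInstance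
  have e : ∀ i, (DerivedCategory.homologyFunctor (ModuleCat.{u} A) i).map (DerivedCategory.Q.map s) =
      (homologyQIso (two (π ≫ M.d (-1) 0)) i).hom ≫ HomologicalComplex.homologyMap s i ≫
        (homologyQIso M i).inv := fun i => by
    rw [← Category.assoc, Iso.eq_comp_inv]
    exact (DerivedCategory.homologyFunctorFactors (ModuleCat.{u} A) i).hom.naturality s
  rw [coneLE_iff]
  refine ⟨fun i hi => ?_, ?_⟩
  · rw [e]
    suffices IsIso (HomologicalComplex.homologyMap s i) by infer_instance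
    rw [ConcreteCategory.isIso_iff_bijective]
    by_cases hi0 : i = 0
    · subst hi0
      refine ⟨(injective_homologyMap_iff s (i := -1) (k := 1) (by simp) (by simp)).2 fun z _ y hy => ?_,
        (surjective_homologyMap_iff s (i := -1) (k := 1) (by simp) (by simp)).2 fun z' _ => ?_⟩
      · obtain ⟨w, rfl⟩ := hπ y
        refine ⟨(twoXIso₀ _).inv w, ?_⟩
        apply (twoXIso₁ (π ≫ M.d (-1) 0)).toLinearEquiv.injective
        exact (hd w).symm.trans (hy.trans (by rw [h0]; rfl))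
      · refine ⟨(twoXIso₁ _).inv z', 0, ?_, by rw [h0, map_zero, add_zero]; simp⟩
        rw [two_d_zero]; rfl
    · have z1 : IsZero ((two (π ≫ M.d (-1) 0)).X i) := isZero_two _ i (Or.inr (by lia))
      have z2 := hM i (by lia)
      have := ModuleCat.subsingleton_of_isZero z1
      have := ModuleCat.subsingleton_of_isZero z2
      exact ⟨(injective_homologyMap_iff s (i := i - 1) (k := i + 1) (by simp) (by simp)).2
          fun z _ y _ => ⟨0, Subsingleton.elim _ _⟩,
        (surjective_homologyMap_iff s (i := i - 1) (k := i + 1) (by simp) (by simp)).2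
          fun z' _ => ⟨0, 0, by simp, Subsingleton.elim _ _⟩⟩
  · show Epi ((DerivedCategory.homologyFunctor (ModuleCat.{u} A) (-1)).map (DerivedCategory.Q.map s))
    rw [e]
    suffices Epi (HomologicalComplex.homologyMap s (-1)) by infer_instance
    rw [ModuleCat.epi_iff_surjective]
    refine (surjective_homologyMap_iff s (i := -2) (k := 0) (by simp) (by simp)).2 fun z' hz' => ?_
    obtain ⟨w, rfl⟩ := hπ z'
    refine ⟨(twoXIso₀ _).inv w, 0, ?_, by rw [h1, map_zero, add_zero]; simp⟩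
    apply (twoXIso₁ (π ≫ M.d (-1) 0)).toLinearEquiv.injective
    rw [map_zero]
    exact (hd w).symm.trans hz'

include hM hM0 hK in
/-- A chain map vanishing in the derived category is homotopic to zero. -/
theorem nonempty_homotopy_of_Q_map_eq_zero (φ : M ⟶ K) (hφ : DerivedCategory.Q.map φ = 0) :
    Nonempty (Homotopy φ 0) := by
  obtain ⟨F, π, s, hF, hπ, h1, h0⟩ := exists_two_resolution hM
  have := isKProjective_two (π ≫ M.d (-1) 0) hF hM0
  obtain ⟨H⟩ := nonempty_homotopy_of_Q_map_eq (φ := s ≫ φ) (ψ := 0)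
    (by rw [Functor.map_comp, hφ, comp_zero, Functor.map_zero])
  have e0 := H.comm 0
  have e1 := H.comm (-1)
  rw [dNext_eq H.hom (show (ComplexShape.up ℤ).Rel 0 1 from by simp),
    prevD_eq H.hom (show (ComplexShape.up ℤ).Rel (-1) 0 from by simp), two_d_zero, zero_comp, zero_add,
    HomologicalComplex.zero_f, add_zero, HomologicalComplex.comp_f, h0] at e0
  rw [dNext_eq H.hom (show (ComplexShape.up ℤ).Rel (-1) 0 from by simp),
    prevD_eq H.hom (show (ComplexShape.up ℤ).Rel (-2) (-1) from by simp),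
    (hK (-2) le_rfl).eq_of_tgt (H.hom (-1) (-2)) 0, zero_comp, add_zero,
    HomologicalComplex.zero_f, add_zero, HomologicalComplex.comp_f, h1, two_d] at e1
  let h : M.X 0 ⟶ K.X (-1) := (twoXIso₁ (π ≫ M.d (-1) 0)).inv ≫ H.hom 0 (-1)
  refine nonempty_homotopy_zero φ (-1) 0 (by lia) h ?_ ?_ fun k hk hk' => ?_
  · simp only [h, Category.assoc]
    rw [← e0, Iso.inv_hom_id_assoc]
  · simp only [Category.assoc] at e1
    rw [← cancel_epi π, ← cancel_epi (twoXIso₀ (π ≫ M.d (-1) 0)).hom]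
    exact e1
  · by_cases hk0 : 0 < k
    · exact (hM k hk0).eq_of_src _ _
    · exact (hK k (by lia)).eq_of_tgt _ _

include hM hM0 hK in
/-- Every morphism in the derived category is a chain map. -/
theorem exists_Q_map_eq' (ξ : DerivedCategory.Q.obj M ⟶ DerivedCategory.Q.obj K) :
    ∃ φ : M ⟶ K, DerivedCategory.Q.map φ = ξ := by
  obtain ⟨F, π, s, hF, hπ, h1, h0⟩ := exists_two_resolution hM
  have := isKProjective_two (π ≫ M.d (-1) 0) hF hM0
  obtain ⟨g, hg⟩ := exists_Q_map_eq (DerivedCategory.Q.map s ≫ ξ)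
  let g₁ : F ⟶ K.X (-1) := (twoXIso₀ _).inv ≫ g.f (-1)
  let T := kernel (π ≫ cokernel.π (M.d (-2) (-1)))
  let ι : T ⟶ F := kernel.ι _
  obtain ⟨F', ν, hF', hν⟩ := exists_free_cover' T
  have : Projective F' := projective_of_proj _ (proj_of_free _ hF')
  let S := ShortComplex.mk (M.d (-2) (-1)) (cokernel.π (M.d (-2) (-1))) (cokernel.condition _)
  have hS : S.Exact := ShortComplex.exact_cokernel _
  have hk : (ν ≫ ι ≫ π) ≫ S.g = 0 := by
    simp [S, ι, T]
  obtain ⟨l, hl⟩ : ∃ l : F' ⟶ M.X (-2), l ≫ M.d (-2) (-1) = ν ≫ ι ≫ π :=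
    ⟨hS.liftFromProjective _ hk, hS.liftFromProjective_comp _ hk⟩
  let t : (HomologicalComplex.single (ModuleCat.{u} A) (ComplexShape.up ℤ) (-1)).obj F' ⟶
      two (π ≫ M.d (-1) 0) :=
    HomologicalComplex.mkHomFromSingle (ν ≫ ι ≫ (twoXIso₀ _).inv) fun k hk => by
      obtain rfl : k = 0 := by simp at hk; lia
      rw [two_d]
      have : (l ≫ M.d (-2) (-1)) ≫ M.d (-1) 0 = 0 := by simp
      rw [hl] at this
      simp only [Category.assoc] at this
      simp [reassoc_of% this]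
  have hts : DerivedCategory.Q.map (t ≫ s) = 0 := by
    refine Q_map_eq_zero (t ≫ s) (-2) (-1) (by lia)
      ((HomologicalComplex.singleObjXSelf _ _ _).hom ≫ l) ?_ ?_ ?_
    · simp [t, h1, hl]
    · exact (HomologicalComplex.isZero_single_obj_X _ _ _ _ (by lia)).eq_of_src _ _
    · exact fun k _ hk => (HomologicalComplex.isZero_single_obj_X _ _ _ _ hk).eq_of_src _ _
  have : CochainComplex.IsKProjective
      ((HomologicalComplex.single (ModuleCat.{u} A) (ComplexShape.up ℤ) (-1)).obj F') :=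
    isKProjective_of_bounds projective_of_proj (b := -1)
      (fun i hi => HomologicalComplex.isZero_single_obj_X _ _ _ _ (by lia)) fun i => by
      by_cases hi : i = -1
      · subst hi
        exact good_proj.iso (HomologicalComplex.singleObjXSelf _ _ _).symm (proj_of_free _ hF')
      · exact good_proj.zero (HomologicalComplex.isZero_single_obj_X _ _ _ _ hi)
  obtain ⟨H⟩ := nonempty_homotopy_of_Q_map_eq (φ := t ≫ g) (ψ := 0) (by
    rw [Functor.map_comp, hg, ← Category.assoc, ← Functor.map_comp, hts, zero_comp, Functor.map_zero])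
  have e1 := H.comm (-1)
  rw [dNext_eq H.hom (show (ComplexShape.up ℤ).Rel (-1) 0 from by simp),
    prevD_eq H.hom (show (ComplexShape.up ℤ).Rel (-2) (-1) from by simp),
    (hK (-2) le_rfl).eq_of_tgt (H.hom (-1) (-2)) 0, zero_comp, add_zero,
    HomologicalComplex.zero_f, add_zero,
    (HomologicalComplex.isZero_single_obj_X (ComplexShape.up ℤ) (-1) F' 0 (by lia)).eq_of_src
      (H.hom 0 (-1)) 0, comp_zero] at e1
  have hg₁ : ι ≫ g₁ = 0 := by
    rw [← cancel_epi ν, comp_zero,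
      ← cancel_epi (HomologicalComplex.singleObjXSelf (ComplexShape.up ℤ) (-1) F').hom, comp_zero]
    simpa [t, g₁] using e1
  have hker : kernel.ι π ≫ g₁ = 0 := by
    rw [← kernel.lift_ι (π ≫ cokernel.π (M.d (-2) (-1))) (kernel.ι π) (by simp), Category.assoc,
      show kernel.ι (π ≫ cokernel.π (M.d (-2) (-1))) ≫ g₁ = 0 from hg₁, comp_zero]
  let f₁ : M.X (-1) ⟶ K.X (-1) := Abelian.epiDesc π g₁ hker
  have hf₁ : π ≫ f₁ = g₁ := Abelian.comp_epiDesc π g₁ hker
  have hdf : M.d (-2) (-1) ≫ f₁ = 0 := by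
    obtain ⟨F'', p, hF'', hp⟩ := exists_free_cover' (M.X (-2))
    have : Projective F'' := projective_of_proj _ (proj_of_free _ hF'')
    let m := Projective.factorThru (p ≫ M.d (-2) (-1)) π
    have hm : m ≫ π = p ≫ M.d (-2) (-1) := Projective.factorThru_comp _ _
    have hmT : m ≫ g₁ = 0 := by
      rw [← kernel.lift_ι (π ≫ cokernel.π (M.d (-2) (-1))) m (by rw [← Category.assoc, hm]; simp),
        Category.assoc, show kernel.ι (π ≫ cokernel.π (M.d (-2) (-1))) ≫ g₁ = 0 from hg₁, comp_zero]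
    rw [← cancel_epi p, comp_zero, ← Category.assoc, ← hm, Category.assoc, hf₁, hmT]
  have hc : f₁ ≫ K.d (-1) 0 = M.d (-1) 0 ≫ (twoXIso₁ (π ≫ M.d (-1) 0)).inv ≫ g.f 0 := by
    rw [← cancel_epi π, ← Category.assoc, hf₁]
    simp only [g₁, Category.assoc, g.comm, two_d]
    simp
  obtain ⟨φ, hφ1, hφ0⟩ := exists_hom_of_two hM f₁ _ hc hdf
    (by rw [Category.assoc, g.comm, two_d_zero]; simp)
  refine ⟨φ, ?_⟩
  have hsφ : s ≫ φ = g := by
    refine HomologicalComplex.from_double_hom_ext ?_ ?_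
    · rw [HomologicalComplex.comp_f, h1, hφ1, Category.assoc, hf₁]
      simp [g₁]
      try rfl
    · rw [HomologicalComplex.comp_f, h0, hφ0, Iso.hom_inv_id_assoc]
  rw [← sub_eq_zero]
  refine eq_zero_of_coneLE (coneLE_resolution hM π s h1 h0)
    (isGE_Q_of_isZero K (-1) fun i hi => hK i (by lia)) (by lia) _ ?_
  rw [Preadditive.comp_sub, ← Functor.map_comp, hsφ, hg, sub_self]

end Bijective

/-- An object with cohomology in degrees `-1, 0` has a two-term representative with projective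
degree-zero term. -/
theorem exists_twoTerm (K : Dual.D A) (hle : K.IsLE 0) (hge : K.IsGE (-1)) :
    ∃ E : DRing.Cx A, (∀ i : ℤ, i < -1 ∨ 0 < i → IsZero (E.X i)) ∧ Module.Projective A (E.X 0) ∧
      Nonempty (DerivedCategory.Q.obj E ≅ K) := by
  obtain ⟨M, hM, hp, ⟨e⟩⟩ := ba_proj hle
  let dd : cokernel (M.d (-2) (-1)) ⟶ M.X 0 := cokernel.desc _ (M.d (-1) 0) (M.d_comp_d _ _ _)
  obtain ⟨ψ, h1, h0⟩ := exists_hom_of_two (M := M) (K := two dd) hM
    (cokernel.π _ ≫ (twoXIso₀ dd).inv) (twoXIso₁ dd).inv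
    (by rw [two_d]; simp [dd]) (by simp) (by rw [two_d_zero]; simp)
  refine ⟨two dd, isZero_two dd, good_proj.iso (twoXIso₁ dd).symm (hp 0), ?_⟩
  suffices IsIso (DerivedCategory.Q.map ψ) from ⟨(asIso (DerivedCategory.Q.map ψ)).symm ≪≫ e⟩
  rw [DerivedCategory.isIso_Q_map_iff_quasiIso, quasiIso_iff]
  intro i
  rw [quasiIsoAt_iff_isIso_homologyMap, ConcreteCategory.isIso_iff_bijective]
  have hπ := (ModuleCat.epi_iff_surjective (cokernel.π (M.d (-2) (-1)))).1 inferInstance
  have h0' := ψ.comm (-1) 0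
  by_cases hi1 : i = -1
  · subst hi1
    refine ⟨(injective_homologyMap_iff ψ (i := -2) (k := 0) (by simp) (by simp)).2 fun z _ y hy => ?_,
      (surjective_homologyMap_iff ψ (i := -2) (k := 0) (by simp) (by simp)).2 fun z' hz' => ?_⟩
    · have hy0 : y = 0 := by
        have := ModuleCat.subsingleton_of_isZero (isZero_two dd (-2) (Or.inl (by lia)))
        exact Subsingleton.elim _ _
      rw [hy0, map_zero, h1] at hy
      have hz : cokernel.π (M.d (-2) (-1)) z = 0 := by
        apply (twoXIso₀ dd).toLinearEquiv.symm.injective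
        rw [map_zero]
        exact hy.symm
      exact (ShortComplex.moduleCat_exact_iff _).1 (ShortComplex.exact_cokernel (M.d (-2) (-1))) z hz
    · obtain ⟨x, hx⟩ := hπ ((twoXIso₀ dd).hom z')
      have hx' : ψ.f (-1) x = z' := by
        rw [h1]; simp [hx]
      refine ⟨x, 0, ?_, by rw [hx', map_zero, add_zero]⟩
      apply (twoXIso₁ dd).toLinearEquiv.symm.injective
      rw [map_zero]
      refine Eq.trans ?_ hz'
      rw [← hx', ← CategoryTheory.comp_apply, h0', CategoryTheory.comp_apply, h0]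
      rfl
  by_cases hi0 : i = 0
  · subst hi0
    refine ⟨(injective_homologyMap_iff ψ (i := -1) (k := 1) (by simp) (by simp)).2 fun z _ y hy => ?_,
      (surjective_homologyMap_iff ψ (i := -1) (k := 1) (by simp) (by simp)).2 fun z' _ => ?_⟩
    · obtain ⟨x, hx⟩ := hπ ((twoXIso₀ dd).hom y)
      refine ⟨x, ?_⟩
      apply (twoXIso₁ dd).toLinearEquiv.symm.injective
      have hy' : y = ψ.f (-1) x := by rw [h1]; simp [hx]
      rw [hy', ← CategoryTheory.comp_apply, ψ.comm, CategoryTheory.comp_apply, h0] at hy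
      exact hy
    · refine ⟨(twoXIso₁ dd).hom z', 0, ?_, by rw [h0, map_zero, add_zero]; simp⟩
      rw [(hM 1 (by lia)).eq_of_tgt (M.d 0 1) 0]; rfl
  have hz2 := isZero_two dd i (by lia)
  have hz1 : IsZero (M.homology i) := by
    by_cases hi : 0 < i
    · exact (M.exactAt_iff_isZero_homology i).1 (HomologicalComplex.ExactAt.of_isZero (hM i hi))
    · have := isGE_of_iso' e.symm hge
      exact (DerivedCategory.isZero_of_isGE (DerivedCategory.Q.obj M) (-1) i (by lia)).of_iso
        (homologyQIso M i).symm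
  have hz3 : IsZero ((two dd).homology i) :=
    ((two dd).exactAt_iff_isZero_homology i).1 (HomologicalComplex.ExactAt.of_isZero hz2)
  have := ModuleCat.subsingleton_of_isZero hz1
  have := ModuleCat.subsingleton_of_isZero hz3
  exact ⟨fun a b _ => Subsingleton.elim a b, fun b => ⟨0, Subsingleton.elim _ _⟩⟩

end Groth.Agent.Lib.DR.TwoTerm
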