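import Groth.Agent.Lib.DR.RelHom
import Groth.Agent.Lib.DR.TwoTerm
import Groth.Agent.Lib.DR.ExactPush
import Groth.Agent.Lib.DR.RHom
import Mathlib.RingTheory.PicardGroup
import Mathlib.LinearAlgebra.TensorProduct.Quotient
import Mathlib.Algebra.Homology.DerivedCategory.ShortExact

/-!
# `RHom(A, R)` for a quotient of `R` by an invertible ideal
-/

universe u

open CategoryTheory CategoryTheory.Limits MonoidalCategory CochainComplex CochainComplex.HomComplex
open Groth.Agent.Lib.TensorCx.Basic Groth.Agent.Lib.DR.HomCx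
open scoped TensorProduct

attribute [local instance] HasDerivedCategory.standard

set_option backward.isDefEq.respectTransparency false

namespace Groth.Agent.Lib.DR.RelHomInv

variable {R A : Type u} [CommRing R] [CommRing A] (φ : R →+* A)

theorem quasiIso_to_single (K : DRing.Cx R) (i j : ℤ) (hij : i + 1 = j)
    (hK : ∀ l, l ≠ i → l ≠ j → IsZero (K.X l)) (hinj : Function.Injective (K.d i j).hom)
    {Q : ModuleCat.{u} R} (f : K.X j ⟶ Q) (hf : Function.Surjective f.hom)
    (hex : ∀ z, f.hom z = 0 ↔ ∃ y, (K.d i j).hom y = z) :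
    Nonempty (DerivedCategory.Q.obj K ≅ (DerivedCategory.singleFunctor (ModuleCat.{u} R) j).obj Q) := by
  let F : K ⟶ (HomologicalComplex.single (ModuleCat.{u} R) (ComplexShape.up ℤ) j).obj Q :=
    HomologicalComplex.mkHomToSingle f fun l (hl : l + 1 = j) => by
      obtain rfl : l = i := by lia
      exact ModuleCat.hom_ext (LinearMap.ext fun y => (hex _).2 ⟨y, rfl⟩)
  let s := HomologicalComplex.singleObjXSelf (ComplexShape.up ℤ) j Q
  have hFj : ∀ z, F.f j z = s.inv (f z) := fun z =>
    ConcreteCategory.congr_hom (HomologicalComplex.mkHomToSingle_f f _) z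
  have hF : QuasiIso F := by
    rw [quasiIso_iff]
    intro l
    rw [quasiIsoAt_iff_isIso_homologyMap, ConcreteCategory.isIso_iff_bijective]
    have hprev : (ComplexShape.up ℤ).prev l = l - 1 := (ComplexShape.up ℤ).prev_eq' (by simp)
    have hnext : (ComplexShape.up ℤ).next l = l + 1 := (ComplexShape.up ℤ).next_eq' (by simp)
    by_cases hlj : l = j
    · subst hlj
      refine ⟨(FlatCx.Elem.injective_homologyMap_iff F hprev hnext).2 fun z _ y hy => ?_,
        (FlatCx.Elem.surjective_homologyMap_iff F hprev hnext).2 fun z' _ => ?_⟩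
      · have h0 : f.hom z = 0 := by
          rw [HomologicalComplex.single_obj_d, hFj] at hy
          apply s.symm.toLinearEquiv.injective
          rw [map_zero]
          exact hy.symm.trans rfl
        obtain rfl : i = l - 1 := by lia
        exact (hex z).1 h0
      · obtain ⟨z, hz⟩ := hf (s.hom z')
        refine ⟨z, 0, ?_, ?_⟩
        · rw [(hK (l + 1) (by lia) (by lia)).eq_of_tgt (K.d l (l + 1)) 0]
          rfl
        · rw [map_zero, add_zero, hFj]
          exact (congrArg s.inv hz).trans (ConcreteCategory.congr_hom s.hom_inv_id z')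
    · have := ModuleCat.subsingleton_of_isZero
        (HomologicalComplex.isZero_single_obj_X (ComplexShape.up ℤ) j Q l hlj)
      refine ⟨(FlatCx.Elem.injective_homologyMap_iff F hprev hnext).2 fun z hz _ _ => ⟨0, ?_⟩,
        (FlatCx.Elem.surjective_homologyMap_iff F hprev hnext).2 fun z' _ =>
          ⟨0, 0, map_zero _, Subsingleton.elim _ _⟩⟩
      rw [map_zero]
      by_cases hli : l = i
      · subst hli
        apply hinj
        rw [map_zero]
        obtain rfl : j = l + 1 := by lia
        exact hz.symm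
      · have := ModuleCat.subsingleton_of_isZero (hK l hli hlj)
        exact Subsingleton.elim _ _
  have := DTenBasic.isIso_Q_map F hF
  exact ⟨asIso (DerivedCategory.Q.map F) ≪≫
    ((DerivedCategory.singleFunctorIsoCompQ (ModuleCat.{u} R) j).app Q).symm⟩

/-- `R` in degree zero. -/
noncomputable abbrev R₀ (R : Type u) [CommRing R] : DRing.Cx R :=
  (HomologicalComplex.single (ModuleCat.{u} R) (ComplexShape.up ℤ) 0).obj (ModuleCat.of R R)

/-- Cochains to `R` are functionals. -/
noncomputable def dual (P : DRing.Cx R) (n p : ℤ) (h : p + n = 0) :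
    (DRing.homCx P (R₀ R)).X n →ₗ[R] (P.X p →ₗ[R] R) :=
  (LinearMap.llcomp R (P.X p) _ _
    (HomologicalComplex.singleObjXSelf (ComplexShape.up ℤ) 0 (ModuleCat.of R R)).toLinearEquiv.toLinearMap).comp
      (lv p 0 h)

theorem bijective_dual (P : DRing.Cx R) (n p : ℤ) (h : p + n = 0) : Function.Bijective (dual P n p h) := by
  let s := (HomologicalComplex.singleObjXSelf (ComplexShape.up ℤ) 0 (ModuleCat.of R R)).toLinearEquiv
  refine ⟨(injective_iff_map_eq_zero _).2 fun (z : Cochain P (R₀ R) n) hz => lv_ext fun p' q' hpq => ?_, fun f => ?_⟩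
  · refine LinearMap.ext fun x => ?_
    by_cases hq : q' = 0
    · subst hq
      obtain rfl : p' = p := by lia
      apply s.injective
      have e := LinearMap.congr_fun hz x
      refine e.trans ?_
      simp
    · have := ModuleCat.subsingleton_of_isZero
        (HomologicalComplex.isZero_single_obj_X (ComplexShape.up ℤ) 0 (ModuleCat.of R R) q' hq)
      exact Subsingleton.elim _ _
  · let g : P.X p ⟶ (R₀ R).X 0 := ModuleCat.ofHom (s.symm.toLinearMap ∘ₗ f)
    refine ⟨(Cochain.single g n : Cochain P (R₀ R) n), ?_⟩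
    refine LinearMap.ext fun x => ?_
    show s (((Cochain.single g n : Cochain P (R₀ R) n).v p 0 h).hom x) = f x
    rw [Cochain.single_v]
    exact s.apply_symm_apply _

theorem isZero_homCx_X (P : DRing.Cx R) (n p : ℤ) (h : p + n = 0) (hp : IsZero (P.X p)) :
    IsZero ((DRing.homCx P (R₀ R)).X n) := by
  have := ModuleCat.subsingleton_of_isZero hp
  have : Subsingleton ((DRing.homCx P (R₀ R)).X n) := (bijective_dual P n p h).1.subsingleton
  exact ModuleCat.isZero_of_subsingleton _

theorem dual_d (P : DRing.Cx R) (z : (DRing.homCx P (R₀ R)).X 0) (x : P.X (-1)) :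
    dual P 1 (-1) (by lia) ((DRing.homCx P (R₀ R)).d 0 1 z) x = -dual P 0 0 (by lia) z (P.d (-1) 0 x) := by
  show (HomologicalComplex.singleObjXSelf (ComplexShape.up ℤ) 0 (ModuleCat.of R R)).toLinearEquiv
    (lv (-1) 0 (by lia) (δ_hom R P (R₀ R) 0 1 z) x) = _
  rw [lv_d (by lia) z (-1) 0 (-1) 0 (by lia) (by lia) (by lia), HomologicalComplex.single_obj_d, Int.negOnePow_one,
    Units.val_neg, Units.val_one, neg_smul, one_smul]
  simp [dual]
  rfl

/-- Restriction of a module in degree zero is perfect as soon as it has a two-term resolution. -/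
theorem isPerfect_unit (hφ : Function.Surjective φ) [Module.Invertible R (RingHom.ker φ)] :
    DRing.IsPerfect R ((DRing.restrictD φ).obj (DTen.unit A)) := by
  let I := RingHom.ker φ
  let g : ModuleCat.of R R ⟶ (ModuleCat.restrictScalars.{u} φ).obj (ModuleCat.of A A) :=
    ModuleCat.ofHom (Y := (ModuleCat.restrictScalars.{u} φ).obj (ModuleCat.of A A))
      { toFun := fun r => φ r
        map_add' := fun a b => map_add φ a b
        map_smul' := fun r a => map_mul φ r a }
  let S : ShortComplex (ModuleCat.{u} R) := ShortComplex.mk (ModuleCat.ofHom I.subtype) g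
    (ModuleCat.hom_ext (LinearMap.ext fun x => (RingHom.mem_ker (f := φ) (r := (x : R))).1 x.2))
  have hS : S.ShortExact :=
    { exact := (ShortComplex.moduleCat_exact_iff _).2 fun x hx => ⟨⟨x, RingHom.mem_ker.2 hx⟩, rfl⟩
      mono_f := (ModuleCat.mono_iff_injective _).2 Subtype.val_injective
      epi_g := (ModuleCat.epi_iff_surjective _).2 hφ }
  rw [Perfect.pf_iff]
  have h1 : Perfect.Pf ((DerivedCategory.singleFunctor (ModuleCat.{u} R) 0).obj S.X₁) :=
    ⟨0, 0, FiniteComplex.bdd_single PseudoCoherent.good_fproj (P := PseudoCoherent.fproj R)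
      ⟨inferInstanceAs (Module.Finite R I), inferInstanceAs (Module.Projective R I)⟩ 0⟩
  have h2 : Perfect.Pf ((DerivedCategory.singleFunctor (ModuleCat.{u} R) 0).obj S.X₂) :=
    ⟨0, 0, FiniteComplex.bdd_single PseudoCoherent.good_fproj (P := PseudoCoherent.fproj R)
      ⟨inferInstanceAs (Module.Finite R R), inferInstanceAs (Module.Projective R R)⟩ 0⟩
  have h3 := Perfect.pf₃ _ hS.singleTriangle_distinguished h1 h2
  exact h3.of_iso ((ExactPush.mapSingle (ModuleCat.restrictScalars.{u} φ) (ModuleCat.of A A) 0).symm ≪≫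
    (DRing.restrictD φ).mapIso ((DerivedCategory.singleFunctorIsoCompQ (ModuleCat.{u} A) 0).app (ModuleCat.of A A)))

/-- The cokernel of `R ⟶ Hom(I, R)`. -/
noncomputable abbrev coker₁ (I : Ideal R) : ModuleCat.{u} R :=
  ModuleCat.of R (Module.Dual R I ⧸ LinearMap.range I.subtype.dualMap)

theorem range_dualMap (I : Ideal R) [Module.Invertible R I] :
    LinearMap.range I.subtype.dualMap = I • (⊤ : Submodule R (Module.Dual R I)) := by
  refine le_antisymm ?_ (Submodule.smul_le.2 fun i hi f _ => ⟨f ⟨i, hi⟩ • LinearMap.id, LinearMap.ext fun j => ?_⟩)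
  · have key : ∀ t : Module.Dual R I ⊗[R] I,
        Module.Invertible.linearEquiv R I t • I.subtype ∈ I • (⊤ : Submodule R (Module.Dual R I)) := by
      intro t
      induction t using TensorProduct.induction_on with
      | zero => simp
      | add a b ha hb => rw [map_add, add_smul]; exact add_mem ha hb
      | tmul f i =>
        have e : f i • I.subtype = (i : R) • f := LinearMap.ext fun j => by
          show f i * (j : R) = (i : R) * f j
          rw [mul_comm (f i), ← smul_eq_mul (j : R), ← smul_eq_mul (i : R), ← map_smul, ← map_smul]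
          exact congrArg f (Subtype.ext (mul_comm (j : R) (i : R)))
        rw [show Module.Invertible.linearEquiv R I (f ⊗ₜ i) = f i from rfl, e]
        exact Submodule.smul_mem_smul i.2 trivial
    rintro _ ⟨g, rfl⟩
    have h1 := key ((Module.Invertible.linearEquiv R I).symm 1)
    rw [LinearEquiv.apply_symm_apply, one_smul] at h1
    have e : I.subtype.dualMap g = g 1 • I.subtype := LinearMap.ext fun j => by
      show g (j : R) = g 1 * (j : R)
      rw [mul_comm, ← smul_eq_mul, ← map_smul, smul_eq_mul, mul_one]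
    rw [e]
    exact Submodule.smul_mem _ _ h1
  · show f ⟨i, hi⟩ • (j : R) = i • f j
    rw [smul_eq_mul, mul_comm, ← smul_eq_mul, ← map_smul, ← map_smul]
    exact congrArg f (Subtype.ext (mul_comm (j : R) i))

theorem injective_dualMap (I : Ideal R) [Module.Invertible R I] : Function.Injective I.subtype.dualMap := by
  intro f g h
  refine LinearMap.ext fun r => ?_
  have h1 : f 1 = g 1 := by
    refine eq_of_smul_eq_smul (α := I) fun i => Subtype.ext ?_
    have e : f (i : R) = g (i : R) := LinearMap.congr_fun h i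
    rw [show (i : R) = (i : R) • 1 from (mul_one _).symm, map_smul, map_smul] at e
    show f 1 * (i : R) = g 1 * (i : R)
    rw [mul_comm, mul_comm (g 1)]
    exact e
  rw [show r = r • 1 from (mul_one r).symm, map_smul, map_smul, h1]

/-- The dual of the resolution `I ⟶ R`. -/
theorem nonempty_dual_two_iso (I : Ideal R) [Module.Invertible R I] :
    Nonempty (DerivedCategory.Q.obj (DRing.homCx (TwoTerm.two (ModuleCat.ofHom I.subtype)) (R₀ R)) ≅
      (DerivedCategory.singleFunctor (ModuleCat.{u} R) 1).obj (coker₁ I)) := by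
  let P := TwoTerm.two (ModuleCat.ofHom I.subtype)
  let k := (TwoTerm.twoXIso₀ (ModuleCat.ofHom I.subtype)).toLinearEquiv
  let k₁ := (TwoTerm.twoXIso₁ (ModuleCat.ofHom I.subtype)).toLinearEquiv
  let e₁ : (DRing.homCx P (R₀ R)).X 1 ≃ₗ[R] Module.Dual R I :=
    (LinearEquiv.ofBijective _ (bijective_dual P 1 (-1) (by lia))).trans k.symm.dualMap
  let e₀ : (DRing.homCx P (R₀ R)).X 0 ≃ₗ[R] Module.Dual R R :=
    (LinearEquiv.ofBijective _ (bijective_dual P 0 0 (by lia))).trans k₁.symm.dualMap
  have hd : ∀ y, e₁ ((DRing.homCx P (R₀ R)).d 0 1 y) = -I.subtype.dualMap (e₀ y) := fun y =>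
    LinearMap.ext fun i => by
      show dual P 1 (-1) (by lia) ((DRing.homCx P (R₀ R)).d 0 1 y) (k.symm i) = -(dual P 0 0 (by lia) y (k₁.symm (i : R)))
      rw [dual_d]
      refine congrArg (fun t => -(dual P 0 0 (by lia) y t)) ?_
      rw [TwoTerm.two_d]
      show k₁.symm (I.subtype (k (k.symm i))) = _
      rw [LinearEquiv.apply_symm_apply]
      rfl
  refine quasiIso_to_single _ 0 1 (zero_add 1) (fun l h0 h1 => isZero_homCx_X _ l (-l) (by lia)
    (TwoTerm.isZero_two _ (-l) (by lia))) ?_ (Q := coker₁ I)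
    (ModuleCat.ofHom (Submodule.mkQ _ ∘ₗ e₁.toLinearMap)) ((Submodule.mkQ_surjective _).comp e₁.surjective) ?_
  · refine (injective_iff_map_eq_zero _).2 fun y hy => e₀.injective (injective_dualMap I ?_)
    rw [map_zero, map_zero, ← neg_eq_zero, ← hd]
    exact (congrArg e₁ hy).trans (map_zero _)
  · intro z
    show Submodule.Quotient.mk (e₁ z) = 0 ↔ _
    rw [Submodule.Quotient.mk_eq_zero]
    constructor
    · rintro ⟨g, hg⟩
      refine ⟨-(e₀.symm g), e₁.injective ?_⟩
      rw [map_neg]
      refine (map_neg e₁ _).trans ?_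
      rw [hd, neg_neg, LinearEquiv.apply_symm_apply]
      exact hg
    · rintro ⟨y, rfl⟩
      exact ⟨-(e₀ y), by rw [map_neg, hd]⟩

/-- `two I ⟶ res A` is a resolution. -/
theorem exists_two_rep (hφ : Function.Surjective φ) :
    Nonempty (DerivedCategory.Q.obj (TwoTerm.two (ModuleCat.ofHom (RingHom.ker φ).subtype)) ≅
      (DerivedCategory.singleFunctor (ModuleCat.{u} R) 0).obj
        ((ModuleCat.restrictScalars.{u} φ).obj (ModuleCat.of A A))) := by
  let ι : ModuleCat.of R (RingHom.ker φ) ⟶ ModuleCat.of R R := ModuleCat.ofHom (RingHom.ker φ).subtype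
  let g : ModuleCat.of R R ⟶ (ModuleCat.restrictScalars.{u} φ).obj (ModuleCat.of A A) :=
    ModuleCat.ofHom (Y := (ModuleCat.restrictScalars.{u} φ).obj (ModuleCat.of A A))
      { toFun := fun r => φ r
        map_add' := fun a b => map_add φ a b
        map_smul' := fun r a => map_mul φ r a }
  let k := (TwoTerm.twoXIso₀ ι).toLinearEquiv
  let k₁ := (TwoTerm.twoXIso₁ ι).toLinearEquiv
  have hd : ∀ y, (TwoTerm.two ι).d (-1) 0 y = k₁.symm (k y : R) := fun y => by
    rw [TwoTerm.two_d]
    rfl
  refine quasiIso_to_single _ (-1) 0 (by lia) (fun l h0 h1 => TwoTerm.isZero_two _ l (by lia)) ?_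
    ((TwoTerm.twoXIso₁ ι).hom ≫ g) (Function.Surjective.comp (g := g.hom) hφ k₁.surjective) ?_
  · intro y y' h
    apply k.injective
    apply Subtype.ext
    apply k₁.symm.injective
    exact ((hd y).symm.trans h).trans (hd y')
  · intro z
    constructor
    · intro h
      refine ⟨k.symm ⟨k₁ z, RingHom.mem_ker.2 h⟩, ?_⟩
      rw [hd, LinearEquiv.apply_symm_apply]
      exact k₁.symm_apply_apply z
    · rintro ⟨y, rfl⟩
      show φ (k₁ ((TwoTerm.two ι).d (-1) 0 y)) = 0
      rw [hd, LinearEquiv.apply_symm_apply]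
      exact RingHom.mem_ker.1 (k y).2

/-- `res RHom(A, R)` is the cokernel of `R ⟶ Hom(I, R)` in degree one. -/
theorem nonempty_res_RHomRel_unit_iso [DTen.HasRHomRel φ] (hφ : Function.Surjective φ)
    [Module.Invertible R (RingHom.ker φ)] :
    Nonempty ((DRing.restrictD φ).obj ((DTen.RHomRel φ).obj (DTen.unit R)) ≅
      (DerivedCategory.singleFunctor (ModuleCat.{u} R) 1).obj (coker₁ (RingHom.ker φ))) := by
  let P := TwoTerm.two (ModuleCat.ofHom (RingHom.ker φ).subtype)
  have hPK : P.IsKProjective := TwoTerm.isKProjective_two _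
    (inferInstanceAs (Module.Projective R (RingHom.ker φ))) (inferInstanceAs (Module.Projective R R))
  obtain ⟨e⟩ := exists_two_rep φ hφ
  let e' : DerivedCategory.Q.obj P ≅ DerivedCategory.Q.obj ((DTen.resCx φ).obj (𝟙_ (DRing.Cx A))) :=
    e ≪≫ (ExactPush.mapSingle (ModuleCat.restrictScalars.{u} φ) (ModuleCat.of A A) 0).symm ≪≫
      (DRing.restrictD φ).mapIso ((DerivedCategory.singleFunctorIsoCompQ (ModuleCat.{u} A) 0).app (ModuleCat.of A A)) ≪≫
      (DTen.resFactors φ).app (𝟙_ (DRing.Cx A))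
  obtain ⟨p, hp⟩ := Basic.exists_Q_map_eq e'.hom
  have hpq : QuasiIso p := by
    rw [← DerivedCategory.isIso_Q_map_iff_quasiIso, hp]
    infer_instance
  obtain ⟨N, hN, ⟨eN⟩⟩ := DTenBasic.exists_rep ((DTen.RHomRel φ).obj (DTen.unit R))
  obtain ⟨J, η, hJ, hη⟩ := Groth.Agent.Lib.DerCat.KInjExists.hasKInjRes (R₀ R)
  have := DTenBasic.isIso_Q_map η hη
  obtain ⟨χ, hχ⟩ := EvalHom.exists_Q_map_eq_injective
    ((DTen.resFactors φ).inv.app N ≫ ((DTen.relAdj φ).homEquiv _ _).symm
      (eN.hom ≫ (DTen.RHomRel φ).map (DerivedCategory.Q.map η)))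
  have hχ' : RelHom.adjunct φ χ = eN.hom ≫ (DTen.RHomRel φ).map (DerivedCategory.Q.map η) := by
    rw [RelHom.adjunct, hχ, Iso.hom_inv_id_app_assoc, Equiv.apply_symm_apply]
  have h1 : IsIso (DerivedCategory.Q.map (RelHom.Ψ φ p χ)) :=
    (RelHom.isIso_adjunct_iff φ p χ).1 (by rw [hχ']; infer_instance)
  have h2 : IsIso ((DRing.homCxQ P).map η) := RHom.inverts_homCxQ P η hη
  obtain ⟨e2⟩ := nonempty_dual_two_iso (RingHom.ker φ)
  exact ⟨(DRing.restrictD φ).mapIso eN.symm ≪≫ (DTen.resFactors φ).app N ≪≫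
    asIso (DerivedCategory.Q.map (RelHom.Ψ φ p χ)) ≪≫ (asIso ((DRing.homCxQ P).map η)).symm ≪≫ e2⟩

theorem isGE_isLE_of_restrictD (M : Dual.D A) (n : ℤ) (hge : ((DRing.restrictD φ).obj M).IsGE n)
    (hle : ((DRing.restrictD φ).obj M).IsLE n) : M.IsGE n ∧ M.IsLE n := by
  obtain ⟨X, hX, ⟨e⟩⟩ := DTenBasic.exists_rep M
  have key : ∀ i : ℤ, i ≠ n → IsZero ((DerivedCategory.homologyFunctor (ModuleCat.{u} A) i).obj M) := fun i hi => by
    have hz : IsZero ((DerivedCategory.homologyFunctor (ModuleCat.{u} R) i).obj ((DRing.restrictD φ).obj M)) := by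
      rcases lt_or_gt_of_ne hi with h | h
      · exact DerivedCategory.isZero_of_isGE _ n i h
      · exact DerivedCategory.isZero_of_isLE _ n i h
    have hz' : IsZero (((X.sc i).map (ModuleCat.restrictScalars.{u} φ)).homology) :=
      hz.of_iso ((DerivedCategory.homologyFunctor (ModuleCat.{u} R) i).mapIso
        ((DRing.restrictD φ).mapIso e.symm ≪≫ (DTen.resFactors φ).app X) ≪≫
        (DerivedCategory.homologyFunctorFactors (ModuleCat.{u} R) i).app _).symm
    have hz'' : IsZero ((ModuleCat.restrictScalars.{u} φ).obj (X.homology i)) :=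
      hz'.of_iso ((X.sc i).mapHomologyIso (ModuleCat.restrictScalars.{u} φ)).symm
    have : Subsingleton ((ModuleCat.restrictScalars.{u} φ).obj (X.homology i)) :=
      ModuleCat.subsingleton_of_isZero hz''
    have : Subsingleton (X.homology i : Type u) := this
    exact (ModuleCat.isZero_of_subsingleton (X.homology i)).of_iso
      ((DerivedCategory.homologyFunctor (ModuleCat.{u} A) i).mapIso e.symm ≪≫
        (DerivedCategory.homologyFunctorFactors (ModuleCat.{u} A) i).app X)
  exact ⟨(DerivedCategory.isGE_iff _ _).2 fun i hi => key i (by lia),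
    (DerivedCategory.isLE_iff _ _).2 fun i hi => key i (by lia)⟩

/-- The inverse of the conormal module. -/
theorem nonempty_inverse_equiv [Algebra R A] (I : Ideal R) [Module.Invertible R I] (N : Type u) [AddCommGroup N]
    [Module A N] (e : (A ⊗[R] I) ⊗[A] N ≃ₗ[A] A) : Nonempty ((A ⊗[R] Module.Dual R I) ≃ₗ[A] N) := by
  let N' := A ⊗[R] Module.Dual R I
  let e' : (A ⊗[R] I) ⊗[A] N' ≃ₗ[A] A :=
    (TensorProduct.AlgebraTensorModule.distribBaseChange R A I (Module.Dual R I)).symm ≪≫ₗ
      TensorProduct.AlgebraTensorModule.congr (LinearEquiv.refl A A)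
        (TensorProduct.comm R I (Module.Dual R I) ≪≫ₗ Module.Invertible.linearEquiv R I) ≪≫ₗ
      TensorProduct.AlgebraTensorModule.rid R A A
  exact ⟨(TensorProduct.rid A N').symm ≪≫ₗ TensorProduct.congr (LinearEquiv.refl A N') e.symm ≪≫ₗ
    (TensorProduct.assoc A N' (A ⊗[R] I) N).symm ≪≫ₗ
    TensorProduct.congr (TensorProduct.comm A N' (A ⊗[R] I) ≪≫ₗ e') (LinearEquiv.refl A N) ≪≫ₗ
    TensorProduct.lid A N⟩

/-- `RHom(A, -)` for a quotient by an invertible ideal. -/
theorem nonempty_RHomRel_iso [Algebra R A] (hφ : Function.Surjective (algebraMap R A))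
    [Module.Invertible R (RingHom.ker (algebraMap R A))]
    (N : Type u) [AddCommGroup N] [Module A N]
    (e : (A ⊗[R] (RingHom.ker (algebraMap R A))) ⊗[A] N ≃ₗ[A] A)
    [DTen.HasRHomRel (algebraMap R A)] [DTen.HasLTenMix (algebraMap R A)] :
    Nonempty (DTen.RHomRel (algebraMap R A) ≅
      (Functor.curry.obj (DTen.LTenMix (algebraMap R A))).flip.obj ((Dual.inD A N)⟦(-1 : ℤ)⟧)) := by
  let φ := algebraMap R A
  let I := RingHom.ker φ
  obtain ⟨E⟩ := RelHom.nonempty_RHomRel_iso φ (isPerfect_unit φ hφ)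
  obtain ⟨eM⟩ := nonempty_res_RHomRel_unit_iso φ hφ
  let M := (DTen.RHomRel φ).obj (DTen.unit R)
  obtain ⟨hge, hle⟩ := isGE_isLE_of_restrictD φ M 1
    (Basic.isGE_of_iso' eM.symm inferInstance) (Basic.isLE_of_iso' eM.symm inferInstance)
  obtain ⟨N₂, ⟨e₂⟩⟩ := DerivedCategory.exists_iso_singleFunctor_obj_of_isGE_of_isLE M 1
  let a : (ModuleCat.restrictScalars.{u} φ).obj N₂ ≅ coker₁ I :=
    (DerivedCategory.singleFunctor (ModuleCat.{u} R) 1).preimageIso
      ((ExactPush.mapSingle (ModuleCat.restrictScalars.{u} φ) N₂ 1).symm ≪≫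
        (DRing.restrictD φ).mapIso e₂.symm ≪≫ eM)
  obtain ⟨b⟩ := nonempty_inverse_equiv I N e
  let c : coker₁ I ≃ₗ[R] A ⊗[R] Module.Dual R I :=
    Submodule.quotEquivOfEq _ _ (range_dualMap I) ≪≫ₗ (TensorProduct.quotTensorEquivQuotSMul _ I).symm ≪≫ₗ
      TensorProduct.congr (Ideal.quotientKerAlgEquivOfSurjective (f := Algebra.ofId R A) hφ).toLinearEquiv
        (LinearEquiv.refl R _)
  let f : N₂ →+ N := b.toLinearMap.toAddMonoidHom.comp (c.toLinearMap.toAddMonoidHom.comp a.hom.hom.toAddMonoidHom)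
  have hf : ∀ (r : R) (x : N₂), f (φ r • x) = φ r • f x := fun r x => by
    show b (c (a.hom.hom (r • (show (ModuleCat.restrictScalars.{u} φ).obj N₂ from x)))) = _
    rw [map_smul, map_smul, show r • c (a.hom.hom x) = φ r • c (a.hom.hom x) from
      (algebraMap_smul A r (c (a.hom.hom x))).symm, map_smul]
    rfl
  let g : N₂ →ₗ[A] N :=
    { toFun := f
      map_add' := f.map_add
      map_smul' := fun s x => by
        obtain ⟨r, rfl⟩ := hφ s
        exact hf r x }
  have hg : Function.Bijective g := b.bijective.comp (c.bijective.comp a.toLinearEquiv.bijective)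
  let d : M ≅ (Dual.inD A N)⟦(-1 : ℤ)⟧ :=
    e₂ ≪≫ (DerivedCategory.singleFunctor (ModuleCat.{u} A) 1).mapIso
      (LinearEquiv.ofBijective g hg).toModuleIso ≪≫
      (((DerivedCategory.singleFunctors (ModuleCat.{u} A)).shiftIso (-1) 1 0 (by lia)).app (ModuleCat.of A N)).symm
  exact ⟨E ≪≫ (Functor.curry.obj (DTen.LTenMix φ)).flip.mapIso d⟩

end Groth.Agent.Lib.DR.RelHomInv
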