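import Groth.Agent.Lib.DR.SplitTrunc
import Groth.Agent.Lib.DR.FiniteComplex
import Mathlib.Algebra.Category.ModuleCat.FilteredColimits
import Mathlib.CategoryTheory.Limits.Types.Filtered

/-!
# Morphisms from pseudo-coherent objects into filtered colimits
-/

universe u

open CategoryTheory CategoryTheory.Limits Pretriangulated

attribute [local instance] HasDerivedCategory.standard

set_option backward.isDefEq.respectTransparency false

namespace Groth.Agent.Lib.DR.ExtColim

variable {R : Type u} [CommRing R] {J : Type u} [SmallCategory J] [IsFiltered J]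
  {F : J ⥤ ModuleCat.{u} R} {c : Cocone F}

theorem exists_rep (hc : IsColimit c) (x : c.pt) : ∃ (i : J) (y : F.obj i), c.ι.app i y = x :=
  Types.jointly_surjective_of_isColimit (isColimitOfPreserves (forget (ModuleCat.{u} R)) hc) x

theorem exists_eq (hc : IsColimit c) {i : J} (x y : F.obj i) (h : c.ι.app i x = c.ι.app i y) :
    ∃ (k : J) (f : i ⟶ k), F.map f x = F.map f y := by
  obtain ⟨k, f, g, hfg⟩ := (Types.FilteredColimit.isColimit_eq_iff (F := F ⋙ forget (ModuleCat.{u} R))
    (isColimitOfPreserves (forget (ModuleCat.{u} R)) hc) (i := i) (j := i) (xi := x) (xj := y)).1 h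
  refine ⟨IsFiltered.coeq f g, f ≫ IsFiltered.coeqHom f g, ?_⟩
  have h2 := congr_arg (fun z => F.map (IsFiltered.coeqHom f g) z)
    (show F.map f x = F.map g y from hfg)
  simp only [← CategoryTheory.comp_apply, ← F.map_comp] at h2
  rwa [← IsFiltered.coeq_condition f g] at h2

/-- Finitely many elements of one stage that die in the colimit die at a later stage. -/
theorem exists_kill (hc : IsColimit c) (j : J) {s : Set (F.obj j)} (hs : s.Finite)
    (h : ∀ x ∈ s, c.ι.app j x = 0) : ∃ (k : J) (f : j ⟶ k), ∀ x ∈ s, F.map f x = 0 := by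
  induction s, hs using Set.Finite.induction_on with
  | empty => exact ⟨j, 𝟙 j, fun x hx => hx.elim⟩
  | @insert a t _ _ ih =>
    obtain ⟨k, f, hk⟩ := ih fun x hx => h x (Set.mem_insert_of_mem _ hx)
    have ha : c.ι.app k (F.map f a) = c.ι.app k 0 := by
      rw [← CategoryTheory.comp_apply, c.w]
      exact (h a (Set.mem_insert _ _)).trans (map_zero _).symm
    obtain ⟨l, g, hl⟩ := exists_eq hc _ _ ha
    refine ⟨l, f ≫ g, fun x hx => ?_⟩
    rw [F.map_comp, CategoryTheory.comp_apply]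
    rcases Set.mem_insert_iff.1 hx with rfl | hx
    · rw [hl, map_zero]
    · rw [hk x hx, map_zero]

theorem exists_kill_hom (hc : IsColimit c) (P : ModuleCat.{u} R) [Module.Finite R P] {j : J}
    (g : P ⟶ F.obj j) (hg : g ≫ c.ι.app j = 0) : ∃ (k : J) (f : j ⟶ k), g ≫ F.map f = 0 := by
  obtain ⟨s, hs⟩ := (Module.Finite.fg_top : (⊤ : Submodule R P).FG)
  obtain ⟨k, f, hk⟩ := exists_kill hc j (s.finite_toSet.image g.hom) fun x hx => by
    obtain ⟨p, _, rfl⟩ := hx
    exact ConcreteCategory.congr_hom hg p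
  refine ⟨k, f, ModuleCat.hom_ext (LinearMap.ext_on hs fun p hp => ?_)⟩
  exact hk _ ⟨p, hp, rfl⟩

theorem exists_lift (hc : IsColimit c) (P : ModuleCat.{u} R) [Module.Finite R P] [Module.Free R P]
    (g : P ⟶ c.pt) : ∃ (j : J) (g' : P ⟶ F.obj j), g' ≫ c.ι.app j = g := by
  classical
  let b := Module.Free.chooseBasis R P
  choose i y hy using fun t => exists_rep hc (g.hom (b t))
  obtain ⟨j, hj⟩ := IsFiltered.sup_objs_exists (Finset.univ.image i)
  have f : ∀ t, i t ⟶ j := fun t => (hj (Finset.mem_image_of_mem i (Finset.mem_univ t))).some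
  refine ⟨j, ModuleCat.ofHom (b.constr R fun t => F.map (f t) (y t)), ModuleCat.hom_ext (b.ext fun t => ?_)⟩
  show c.ι.app j (b.constr R (fun t => F.map (f t) (y t)) (b t)) = g.hom (b t)
  rw [Module.Basis.constr_basis, ← CategoryTheory.comp_apply, c.w]
  exact hy t

open SplitTrunc

/-- Every morphism from a K-projective complex to `M[-a]` is given by a functional. -/
theorem exists_toK {E : DRing.Cx R} [E.IsKProjective] {K : Dual.D R} (e : DerivedCategory.Q.obj E ≅ K) (a : ℤ)
    {M : ModuleCat.{u} R}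
    (x : K ⟶ (shiftFunctor (Dual.D R) (-a)).obj ((DerivedCategory.singleFunctor (ModuleCat.{u} R) 0).obj M)) :
    ∃ (π : E.X a ⟶ M) (hπ : E.d (a - 1) a ≫ π = 0), toK e a π hπ = x := by
  obtain ⟨φ, hφ⟩ := Basic.exists_Q_map_eq (e.hom ≫ x ≫ (singleIso a M).hom)
  let s := HomologicalComplex.singleObjXSelf (ComplexShape.up ℤ) a M
  have hπ : E.d (a - 1) a ≫ φ.f a ≫ s.hom = 0 := by
    have h0 : φ.f (a - 1) = 0 :=
      (HomologicalComplex.isZero_single_obj_X (ComplexShape.up ℤ) a M (a - 1) (by omega)).eq_of_tgt _ _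
    rw [← Category.assoc, ← φ.comm (a - 1) a, h0, zero_comp, zero_comp]
  refine ⟨φ.f a ≫ s.hom, hπ, ?_⟩
  have : toSingleCx E a (φ.f a ≫ s.hom) hπ = φ := by
    apply HomologicalComplex.to_single_hom_ext
    simp [toSingleCx, HomologicalComplex.mkHomToSingle, s, HomologicalComplex.singleObjXSelf]
  rw [toK, this, hφ, Category.assoc, Category.assoc, Iso.hom_inv_id, Category.comp_id, Iso.inv_hom_id_assoc]

/-- The colimit statement for a complex of finite free modules. -/
theorem colim_cx (hc : IsColimit c) (E : DRing.Cx R) [E.IsKProjective]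
    (hE : ∀ i, Module.Finite R (E.X i) ∧ Module.Free R (E.X i)) (a : ℤ) :
    (∀ x : DerivedCategory.Q.obj E ⟶ (shiftFunctor (Dual.D R) (-a)).obj
        ((DerivedCategory.singleFunctor (ModuleCat.{u} R) 0).obj c.pt),
      ∃ (j : J) (y : DerivedCategory.Q.obj E ⟶ (shiftFunctor (Dual.D R) (-a)).obj
          ((DerivedCategory.singleFunctor (ModuleCat.{u} R) 0).obj (F.obj j))),
        y ≫ (shiftFunctor (Dual.D R) (-a)).map
          ((DerivedCategory.singleFunctor (ModuleCat.{u} R) 0).map (c.ι.app j)) = x) ∧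
    ∀ (j : J) (y : DerivedCategory.Q.obj E ⟶ (shiftFunctor (Dual.D R) (-a)).obj
        ((DerivedCategory.singleFunctor (ModuleCat.{u} R) 0).obj (F.obj j))),
      y ≫ (shiftFunctor (Dual.D R) (-a)).map
          ((DerivedCategory.singleFunctor (ModuleCat.{u} R) 0).map (c.ι.app j)) = 0 →
      ∃ (j' : J) (f : j ⟶ j'), y ≫ (shiftFunctor (Dual.D R) (-a)).map
          ((DerivedCategory.singleFunctor (ModuleCat.{u} R) 0).map (F.map f)) = 0 := by
  have := fun i => (hE i).1
  have := fun i => (hE i).2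
  refine ⟨fun x => ?_, fun j y hy => ?_⟩
  · obtain ⟨π, hπ, rfl⟩ := exists_toK (Iso.refl _) a x
    obtain ⟨j, g, hg⟩ := exists_lift hc (E.X a) π
    obtain ⟨k, f, hk⟩ := exists_kill_hom hc (E.X (a - 1)) (E.d (a - 1) a ≫ g) (by rw [Category.assoc, hg, hπ])
    rw [Category.assoc] at hk
    have hg' : (g ≫ F.map f) ≫ c.ι.app k = π := by rw [Category.assoc, c.w, hg]
    refine ⟨k, toK (Iso.refl _) a (g ≫ F.map f) hk, ?_⟩
    rw [toK_comp (Iso.refl _) a _ hk (c.ι.app k) (by rw [hg', hπ])]
    simp only [hg']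
  · obtain ⟨π, hπ, rfl⟩ := exists_toK (Iso.refl _) a y
    have hπ' : E.d (a - 1) a ≫ π ≫ c.ι.app j = 0 := by rw [← Category.assoc, hπ, zero_comp]
    rw [toK_comp (Iso.refl _) a π hπ (c.ι.app j) hπ', toK_eq_zero_iff] at hy
    obtain ⟨l, hl⟩ := hy
    obtain ⟨j₁, l', hl'⟩ := exists_lift hc (E.X (a + 1)) l
    let m := IsFiltered.max j j₁
    let u := IsFiltered.leftToMax j j₁
    let v := IsFiltered.rightToMax j j₁
    obtain ⟨k, f, hk⟩ := exists_kill_hom hc (E.X a) (π ≫ F.map u - E.d a (a + 1) ≫ l' ≫ F.map v) (by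
      rw [Preadditive.sub_comp, Category.assoc, Category.assoc, Category.assoc, c.w, c.w, hl', ← hl, sub_self])
    rw [Preadditive.sub_comp, sub_eq_zero, Category.assoc, Category.assoc, Category.assoc, ← F.map_comp,
      ← F.map_comp] at hk
    refine ⟨k, u ≫ f, ?_⟩
    rw [toK_comp (Iso.refl _) a π hπ (F.map (u ≫ f)) (by rw [← Category.assoc, hπ, zero_comp]), toK_eq_zero_iff]
    exact ⟨l' ≫ F.map (v ≫ f), hk⟩

end Groth.Agent.Lib.DR.ExtColim
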