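import Mathlib.RingTheory.LocalRing.Module
import Mathlib.Algebra.Module.LocalizedModule.Exact
import Mathlib.RingTheory.Spectrum.Prime.FreeLocus
import Mathlib.LinearAlgebra.TensorProduct.Quotient
import Mathlib.LinearAlgebra.TensorProduct.RightExactness

/-!
# A fibrewise exact complex of finite free modules has projective cokernel
-/

universe u

open TensorProduct

namespace Groth.Agent.Lib.DR.Fibre

variable {R : Type u} [CommRing R]

/-- Exactness after `(R ⧸ I) ⊗ -`, in terms of elements. -/
theorem mem_sup_of_exact (I : Ideal R) {F₀ F₁ F₂ : Type u} [AddCommGroup F₀] [Module R F₀]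
    [AddCommGroup F₁] [Module R F₁] [AddCommGroup F₂] [Module R F₂]
    (d₀ : F₀ →ₗ[R] F₁) (d₁ : F₁ →ₗ[R] F₂)
    (h : Function.Exact (d₀.lTensor (R ⧸ I)) (d₁.lTensor (R ⧸ I)))
    (y : F₁) (hy : d₁ y ∈ I • (⊤ : Submodule R F₂)) :
    y ∈ LinearMap.range d₀ ⊔ I • (⊤ : Submodule R F₁) := by
  have key : ∀ {F : Type u} [AddCommGroup F] [Module R F] (z : F),
      TensorProduct.mk R (R ⧸ I) F 1 z = 0 ↔ z ∈ I • (⊤ : Submodule R F) := fun z => by
    rw [← LinearMap.mem_ker, LinearMap.ker_tensorProductMk]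
  have h0 : d₁.lTensor (R ⧸ I) (1 ⊗ₜ[R] y) = 0 := by
    rw [LinearMap.lTensor_tmul]
    exact (key (d₁ y)).2 hy
  obtain ⟨x, hx⟩ := (h _).1 h0
  obtain ⟨x₀, rfl⟩ := TensorProduct.mk_surjective R F₀ (R ⧸ I) Ideal.Quotient.mk_surjective x
  rw [TensorProduct.mk_apply, LinearMap.lTensor_tmul] at hx
  have h1 : TensorProduct.mk R (R ⧸ I) F₁ 1 (y - d₀ x₀) = 0 := by
    rw [map_sub, TensorProduct.mk_apply, TensorProduct.mk_apply, hx, sub_self]
  rw [← sub_add_cancel y (d₀ x₀), add_comm]
  exact Submodule.add_mem_sup ⟨x₀, rfl⟩ ((key _).1 h1)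

/-- Elements of `m M_m`. -/
theorem exists_mk_of_mem_maximal (m : Ideal R) [m.IsPrime] {F : Type u} [AddCommGroup F] [Module R F]
    (w : LocalizedModule m.primeCompl F)
    (hw : w ∈ IsLocalRing.maximalIdeal (Localization.AtPrime m) • (⊤ : Submodule (Localization.AtPrime m) _)) :
    ∃ (z : F) (t : m.primeCompl), z ∈ m • (⊤ : Submodule R F) ∧ w = LocalizedModule.mk z t := by
  refine Submodule.smul_induction_on hw (fun a ha x _ => ?_) ?_
  · obtain ⟨r, s, rfl⟩ := IsLocalization.exists_mk'_eq m.primeCompl a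
    induction x using LocalizedModule.induction_on with
    | _ x t =>
      refine ⟨r • x, s * t, Submodule.smul_mem_smul
        ((IsLocalization.AtPrime.mk'_mem_maximal_iff (Localization.AtPrime m) m r s).1 ha) trivial, ?_⟩
      rw [← Localization.mk_eq_mk', LocalizedModule.mk_smul_mk]
  · rintro x y ⟨z, t, hz, rfl⟩ ⟨z', t', hz', rfl⟩
    exact ⟨t' • z + t • z', t * t', add_mem (Submodule.smul_of_tower_mem _ _ hz)
      (Submodule.smul_of_tower_mem _ _ hz'), LocalizedModule.mk_add_mk⟩

/-- In that situation the induced map from the localized cokernel stays injective in the residue field. -/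
theorem lTensor_injective_localized (m : Ideal R) [m.IsMaximal] {F₀ F₁ F₂ : Type u} [AddCommGroup F₀] [Module R F₀]
    [AddCommGroup F₁] [Module R F₁] [AddCommGroup F₂] [Module R F₂] [Module.Finite R F₁]
    [Module.Finite R F₂] [Module.Projective R F₂]
    (d₀ : F₀ →ₗ[R] F₁) (d₁ : F₁ →ₗ[R] F₂) (hd : d₁ ∘ₗ d₀ = 0)
    (h : ∀ y : F₁, d₁ y ∈ m • (⊤ : Submodule R F₂) → y ∈ LinearMap.range d₀ ⊔ m • (⊤ : Submodule R F₁)) :
    Function.Injective ((LocalizedModule.map m.primeCompl ((LinearMap.range d₀).liftQ d₁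
        (by rintro - ⟨x, rfl⟩; exact LinearMap.congr_fun hd x))).lTensor
      (IsLocalRing.ResidueField (Localization.AtPrime m))) := by
  let S := m.primeCompl
  let Rm := Localization.AtPrime m
  let f₀ : F₁ ⧸ LinearMap.range d₀ →ₗ[R] F₂ :=
    (LinearMap.range d₀).liftQ d₁ (by rintro - ⟨x, rfl⟩; exact LinearMap.congr_fun hd x)
  let f := LocalizedModule.map S f₀
  rw [injective_iff_map_eq_zero]
  intro z hz
  obtain ⟨q, rfl⟩ := TensorProduct.mk_surjective Rm (LocalizedModule S (F₁ ⧸ LinearMap.range d₀))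
    (IsLocalRing.ResidueField Rm) Ideal.Quotient.mk_surjective z
  rw [TensorProduct.mk_apply, LinearMap.lTensor_tmul] at hz
  have hfq : f q ∈ IsLocalRing.maximalIdeal Rm • (⊤ : Submodule Rm _) := by
    rw [← LinearMap.ker_tensorProductMk, LinearMap.mem_ker]
    exact hz
  obtain ⟨w, t, hw, hfw⟩ := exists_mk_of_mem_maximal m _ hfq
  induction q using LocalizedModule.induction_on with
  | _ q s =>
    obtain ⟨y, rfl⟩ := Submodule.mkQ_surjective _ q
    have e : f (LocalizedModule.mk ((LinearMap.range d₀).mkQ y) s) = LocalizedModule.mk (d₁ y) s :=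
      by simp [f, f₀, IsLocalizedModule.mk_eq_mk', LocalizedModule.map]
    rw [e, LocalizedModule.mk_eq] at hfw
    obtain ⟨v, hv⟩ := hfw
    let c : R := (v : R) * (t : R)
    have hc : c ∈ m.primeCompl := mul_mem v.2 t.2
    have hmem : d₁ (c • y) ∈ m • (⊤ : Submodule R F₂) := by
      rw [map_smul, mul_smul]
      change v • t • d₁ y ∈ _
      rw [hv]
      exact Submodule.smul_of_tower_mem _ _ (Submodule.smul_of_tower_mem _ _ hw)
    obtain ⟨a, ⟨x, rfl⟩, b, hb, hab⟩ := Submodule.mem_sup.1 (h _ hmem)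
    suffices LocalizedModule.mk ((LinearMap.range d₀).mkQ y) s ∈
        IsLocalRing.maximalIdeal Rm • (⊤ : Submodule Rm _) by
      rw [← LinearMap.ker_tensorProductMk, LinearMap.mem_ker] at this
      exact this
    have h2 : LocalizedModule.mk ((LinearMap.range d₀).mkQ y) s =
        (Localization.mk 1 (⟨c, hc⟩ * s) : Rm) • LocalizedModule.mk ((LinearMap.range d₀).mkQ b) 1 := by
      rw [LocalizedModule.mk_smul_mk, one_smul, mul_one, LocalizedModule.mk_eq]
      refine ⟨1, ?_⟩
      have hq : (LinearMap.range d₀).mkQ b = c • (LinearMap.range d₀).mkQ y := by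
        rw [← map_smul, ← hab, map_add]
        rw [show (LinearMap.range d₀).mkQ (d₀ x) = 0 from (Submodule.Quotient.mk_eq_zero _).2 ⟨x, rfl⟩,
          zero_add]
      rw [hq, one_smul, one_smul, mul_comm, mul_smul]
      rfl
    rw [h2]
    apply Submodule.smul_mem
    refine Submodule.smul_induction_on hb (fun r hr x _ => ?_) (fun x x' hx hx' => ?_)
    · have : LocalizedModule.mk ((LinearMap.range d₀).mkQ (r • x)) (1 : S) =
          (algebraMap R Rm r) • LocalizedModule.mk ((LinearMap.range d₀).mkQ x) 1 := by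
        rw [← Localization.mk_one_eq_algebraMap, LocalizedModule.mk_smul_mk, mul_one, map_smul]
      rw [this]
      exact Submodule.smul_mem_smul
        ((IsLocalization.AtPrime.to_map_mem_maximal_iff Rm m r).2 hr) trivial
    · have : LocalizedModule.mk ((LinearMap.range d₀).mkQ (x + x')) (1 : S) =
          LocalizedModule.mk ((LinearMap.range d₀).mkQ x) 1 + LocalizedModule.mk ((LinearMap.range d₀).mkQ x') 1 := by
        rw [LocalizedModule.mk_add_mk, map_add]
        simp
      rw [this]
      exact add_mem hx hx'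


/-- If `F₀ → F₁ → F₂` is exact at `F₁` in the fibre at the maximal ideal `m`, then the localized
cokernel of `F₁ → F₂` is free. -/
theorem free_localized (m : Ideal R) [m.IsMaximal] {F₀ F₁ F₂ : Type u} [AddCommGroup F₀] [Module R F₀]
    [AddCommGroup F₁] [Module R F₁] [AddCommGroup F₂] [Module R F₂] [Module.Finite R F₁]
    [Module.Finite R F₂] [Module.Projective R F₂]
    (d₀ : F₀ →ₗ[R] F₁) (d₁ : F₁ →ₗ[R] F₂) (hd : d₁ ∘ₗ d₀ = 0)
    (h : ∀ y : F₁, d₁ y ∈ m • (⊤ : Submodule R F₂) → y ∈ LinearMap.range d₀ ⊔ m • (⊤ : Submodule R F₁)) :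
    Module.Free (Localization.AtPrime m) (LocalizedModule m.primeCompl (F₂ ⧸ LinearMap.range d₁)) := by
  let S := m.primeCompl
  let Rm := Localization.AtPrime m
  let f₀ : F₁ ⧸ LinearMap.range d₀ →ₗ[R] F₂ :=
    (LinearMap.range d₀).liftQ d₁ (by rintro - ⟨x, rfl⟩; exact LinearMap.congr_fun hd x)
  have hr : LinearMap.range f₀ = LinearMap.range d₁ := Submodule.range_liftQ _ _ _
  let f := LocalizedModule.map S f₀
  let g := LocalizedModule.map S (LinearMap.range d₁).mkQ
  have hex : Function.Exact f g := LocalizedModule.map_exact S _ _ (by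
    rw [LinearMap.exact_iff, Submodule.ker_mkQ, hr])
  have hg : Function.Surjective g :=
    LocalizedModule.map_surjective S _ (Submodule.mkQ_surjective _)
  have : Module.Finite Rm (LocalizedModule S (F₁ ⧸ LinearMap.range d₀)) :=
    Module.Finite.equiv (LocalizedModule.equivTensorProduct S _).symm
  have : Module.Finite Rm (LocalizedModule S F₂) :=
    Module.Finite.equiv (LocalizedModule.equivTensorProduct S _).symm
  have : Module.Projective Rm (LocalizedModule S F₂) :=
    Module.Projective.of_equiv (LocalizedModule.equivTensorProduct S _).symm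
  have : Module.Free Rm (LocalizedModule S F₂) := Module.free_of_flat_of_isLocalRing
  exact Module.free_of_lTensor_residueField_injective f g hg hex (lTensor_injective_localized m d₀ d₁ hd h)

/-- In that situation the complex is exact at `F₁` after localization. -/
theorem injective_localized (m : Ideal R) [m.IsMaximal] {F₀ F₁ F₂ : Type u} [AddCommGroup F₀] [Module R F₀]
    [AddCommGroup F₁] [Module R F₁] [AddCommGroup F₂] [Module R F₂] [Module.Finite R F₁]
    [Module.Finite R F₂] [Module.Projective R F₂]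
    (d₀ : F₀ →ₗ[R] F₁) (d₁ : F₁ →ₗ[R] F₂) (hd : d₁ ∘ₗ d₀ = 0)
    (h : ∀ y : F₁, d₁ y ∈ m • (⊤ : Submodule R F₂) → y ∈ LinearMap.range d₀ ⊔ m • (⊤ : Submodule R F₁)) :
    Function.Injective (LocalizedModule.map m.primeCompl ((LinearMap.range d₀).liftQ d₁
        (by rintro - ⟨x, rfl⟩; exact LinearMap.congr_fun hd x))) := by
  let S := m.primeCompl
  let Rm := Localization.AtPrime m
  have : Module.Finite Rm (LocalizedModule S (F₁ ⧸ LinearMap.range d₀)) :=
    Module.Finite.equiv (LocalizedModule.equivTensorProduct S _).symm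
  have : Module.Finite Rm (LocalizedModule S F₂) :=
    Module.Finite.equiv (LocalizedModule.equivTensorProduct S _).symm
  have : Module.Projective Rm (LocalizedModule S F₂) :=
    Module.Projective.of_equiv (LocalizedModule.equivTensorProduct S _).symm
  have : Module.Free Rm (LocalizedModule S F₂) := Module.free_of_flat_of_isLocalRing
  obtain ⟨l, hl⟩ := (IsLocalRing.split_injective_iff_lTensor_residueField_injective _).2
    (lTensor_injective_localized m d₀ d₁ hd h)
  exact Function.LeftInverse.injective (g := l) (LinearMap.congr_fun hl)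

/-- Exactness follows from fibrewise exactness. -/
theorem exact_of_forall {F₀ F₁ F₂ : Type u} [AddCommGroup F₀] [Module R F₀]
    [AddCommGroup F₁] [Module R F₁] [AddCommGroup F₂] [Module R F₂] [Module.Finite R F₁]
    [Module.Finite R F₂] [Module.Projective R F₂]
    (d₀ : F₀ →ₗ[R] F₁) (d₁ : F₁ →ₗ[R] F₂) (hd : d₁ ∘ₗ d₀ = 0)
    (h : ∀ m : Ideal R, m.IsMaximal → ∀ y : F₁, d₁ y ∈ m • (⊤ : Submodule R F₂) →
      y ∈ LinearMap.range d₀ ⊔ m • (⊤ : Submodule R F₁)) : Function.Exact d₀ d₁ := by
  have hinj : Function.Injective ((LinearMap.range d₀).liftQ d₁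
      (by rintro - ⟨x, rfl⟩; exact LinearMap.congr_fun hd x)) :=
    injective_of_localized_maximal _ fun I hI => injective_localized I d₀ d₁ hd (h I hI)
  rw [LinearMap.exact_iff]
  refine le_antisymm (fun y hy => ?_) (by rintro - ⟨x, rfl⟩; exact LinearMap.congr_fun hd x)
  rw [← Submodule.Quotient.mk_eq_zero]
  exact hinj (by rw [map_zero]; exact hy)

/-- Global form. -/
theorem projective_coker {F₀ F₁ F₂ : Type u} [AddCommGroup F₀] [Module R F₀]
    [AddCommGroup F₁] [Module R F₁] [AddCommGroup F₂] [Module R F₂] [Module.Finite R F₁]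
    [Module.Finite R F₂] [Module.Projective R F₂]
    (d₀ : F₀ →ₗ[R] F₁) (d₁ : F₁ →ₗ[R] F₂) (hd : d₁ ∘ₗ d₀ = 0)
    (h : ∀ m : Ideal R, m.IsMaximal → ∀ y : F₁, d₁ y ∈ m • (⊤ : Submodule R F₂) →
      y ∈ LinearMap.range d₀ ⊔ m • (⊤ : Submodule R F₁)) :
    Module.Projective R (F₂ ⧸ LinearMap.range d₁) := by
  have : Module.FinitePresentation R F₂ := Module.finitePresentation_of_projective R F₂
  have : Module.FinitePresentation R (F₂ ⧸ LinearMap.range d₁) :=
    Module.finitePresentation_of_surjective _ (Submodule.mkQ_surjective _) (by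
      rw [Submodule.ker_mkQ, LinearMap.range_eq_map]
      exact Module.Finite.fg_top.map _)
  exact Module.projective_of_localization_maximal fun I hI => by
    have := free_localized I d₀ d₁ hd (h I hI)
    exact Module.Projective.of_free

end Groth.Agent.Lib.DR.Fibre
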