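import Groth.Agent.Lib.DR.SplitTrunc
import Groth.Agent.Lib.DR.ProjAmp
import Groth.Agent.Lib.Regular45.PDLocal
import Mathlib.RingTheory.Ideal.Height

/-!
# Gaps in cohomology over regular rings of finite dimension
-/

universe u

open CategoryTheory CategoryTheory.Limits Pretriangulated
open Groth.Agent.Lib.DR.Basic Groth.Agent.Lib.DR.PseudoCoherent Groth.Agent.Lib.DR.FiniteComplex
open Groth.Agent.Lib.DR.Perfect Groth.Agent.Lib.DR.ProjAmp
open Groth.Agent.Lib.Regular Groth.Agent.Lib.Regular.PD

attribute [local instance] HasDerivedCategory.standard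

set_option backward.isDefEq.respectTransparency false

namespace Groth.Agent.Lib.DR.GapSplit

variable {A : Type u} [CommRing A]

/-- A regular Noetherian ring of dimension `d` has global dimension at most `d`. -/
theorem hasProjectiveDimensionLT_of_regular [IsNoetherianRing A]
    (hreg : ∀ p : PrimeSpectrum A, IsRegularLocalRing (Localization.AtPrime p.asIdeal)) (d : ℕ)
    (hd : ringKrullDim A = d) (M : ModuleCat.{u} A) : HasProjectiveDimensionLT M (d + 1) := by
  refine H22.GlobalDim.hasProjectiveDimensionLT_of_cyclic d (fun J => ?_) M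
  refine Regular45.PDLocal.pdle_of_localization d (A ⧸ J) fun p => ?_
  have := hreg p
  refine pdle_mono (Serre.pdle_all _) ?_
  have h1 := IsRegularLocalRing.spanFinrank_maximalIdeal (R := Localization.AtPrime p.asIdeal)
  have h2 : ringKrullDim (Localization.AtPrime p.asIdeal) ≤ ringKrullDim A := by
    rw [IsLocalization.AtPrime.ringKrullDim_eq_height p.asIdeal]
    exact Ideal.height_le_ringKrullDim_of_isPrime
  rw [← h1, hd] at h2
  exact_mod_cast h2

/-- In global dimension `d`, objects in `[a, b]` have projective amplitude in `[a - d, b]`. -/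
theorem bdd_proj_of_gl (d : ℕ) (hgl : ∀ M : ModuleCat.{u} A, HasProjectiveDimensionLT M (d + 1))
    (K : Dual.D A) (a b : ℤ) (hge : K.IsGE a) (hle : K.IsLE b) : Bdd (proj A) (a - d) b K := by
  have h1 : ∀ (M : ModuleCat.{u} A), Bdd (proj A) (-(d : ℤ)) 0
      ((DerivedCategory.singleFunctor (ModuleCat.{u} A) 0).obj M) := fun M => by
    have := hgl M
    refine bdd_proj_of_hom (isGE_mono (show DerivedCategory.IsGE ((DerivedCategory.singleFunctor (ModuleCat.{u} A) 0).obj M) 0 from inferInstance) (by lia)) inferInstance fun N => ?_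
    have : Subsingleton (Abelian.Ext.{u} M N (d + 1)) :=
      HasProjectiveDimensionLT.subsingleton M (d + 1) (d + 1) le_rfl N
    exact ((extEquiv ((DerivedCategory.singleFunctor (ModuleCat.{u} A) 0).obj M) N (d + 1 : ℕ)
      (-(d : ℤ) - 1) (by lia)).symm.trans Abelian.Ext.homEquiv.symm).subsingleton
  refine homology_induction (Bdd (proj A) (a - d) b) (fun e h => h.of_iso e)
    (fun h => bdd_zero good_proj h _ _) (fun T hT => Bdd.ext good_proj projective_of_proj T hT) K a b
    hge hle fun i hai hib => ?_
  exact (((h1 _).shift good_proj (-i) (i - d) i (by lia) (by lia)).of_iso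
    (singleShift _ (-i) i 0 (by lia))).mono (by lia) (by lia)

/-- In global dimension `d` there are no maps across a gap of width `d`. -/
theorem hom_eq_zero_of_gl (d : ℕ) (hgl : ∀ M : ModuleCat.{u} A, HasProjectiveDimensionLT M (d + 1))
    {K L : Dual.D A} (a b : ℤ) (hge : K.IsGE a) (hle : K.IsLE b) (hL : L.IsLE (a - d - 1)) (f : K ⟶ L) :
    f = 0 := by
  obtain ⟨E, hE, hp, ⟨e⟩⟩ := bdd_proj_of_gl d hgl K a b hge hle
  have := isKProjective_of_bounds projective_of_proj (fun i hi => hE i (Or.inr hi)) hp
  rw [← cancel_epi e.hom, comp_zero]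
  exact Basic.hom_eq_zero_of_isKProjective (fun i hi => hE i (Or.inl hi)) hL _

end Groth.Agent.Lib.DR.GapSplit
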