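import Groth.Agent.Lib.DR.FibreApp
import Groth.Agent.Lib.DR.GapSplit
import Groth.Agent.Lib.DR.LocalAmp
import Mathlib.RingTheory.LocalRing.ResidueField.Ideal
import Mathlib.LinearAlgebra.TensorProduct.Tower

/-!
# Perfectness from fibres of finite global dimension
-/

universe u

open CategoryTheory CategoryTheory.Limits TensorProduct
open Groth.Agent.Lib.DR
open Groth.Agent.Lib.DR.Basic Groth.Agent.Lib.DR.FiniteComplex Groth.Agent.Lib.DR.PseudoCoherent
open Groth.Agent.Lib.DR.Representative Groth.Agent.Lib.DR.BaseChange Groth.Agent.Lib.DR.TorAmp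
open Groth.Agent.Lib.Regular Groth.Agent.Lib.Regular.PD

attribute [local instance] HasDerivedCategory.standard

set_option backward.isDefEq.respectTransparency false

namespace Groth.Agent.Lib.DR.FibreGl

variable {B C L : Type u} [CommRing B] [CommRing C] [CommRing L]

/-- A regular local ring of dimension `d` has global dimension at most `d`. -/
theorem gl_of_regular [IsRegularLocalRing B] (d : ℕ) (hd : ringKrullDim B = d) (M : ModuleCat.{u} B) :
    HasProjectiveDimensionLT M (d + 1) := by
  refine H22.GlobalDim.hasProjectiveDimensionLT_of_cyclic d (fun J => ?_) M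
  refine pdle_mono (Serre.pdle_all _) ?_
  have h1 := IsRegularLocalRing.spanFinrank_maximalIdeal (R := B)
  rw [hd] at h1
  exact_mod_cast h1.le

/-- Exactness in a field-like quotient of a ring of global dimension `d`. -/
theorem exactAt_comp_of_gl (g : B →+* C) (φ : C →+* L) (d : ℕ)
    (hgl : ∀ M : ModuleCat.{u} C, HasProjectiveDimensionLT M (d + 1))
    (E : DRing.Cx B) (c : ℤ) (hc : ∀ i, c < i → IsZero (E.X i)) (hf : ∀ i, free B (E.X i)) (a b : ℤ)
    (h : ∀ j, (j < a ∨ b < j) → ((ext g).obj E).ExactAt j) (j : ℤ) (hj : j < a - d ∨ b < j) :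
    ((ext (φ.comp g)).obj E).ExactAt j := by
  let F := (ext g).obj E
  have hFz : ∀ i, c < i → IsZero (F.X i) := fun i hi =>
    (ModuleCat.extendScalars.{u, u, u} g).map_isZero (hc i hi)
  have hFf : ∀ i, free C (F.X i) := fun i => ext_free g _ (hf i)
  have : F.IsKProjective := isKProjective_of_bounds projective_of_free' hFz hFf
  have hge : (DerivedCategory.Q.obj F).IsGE a := by
    rw [DerivedCategory.isGE_Q_obj_iff, CochainComplex.isGE_iff]
    exact fun i hi => h i (Or.inl hi)
  have hle : (DerivedCategory.Q.obj F).IsLE b := by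
    rw [DerivedCategory.isLE_Q_obj_iff, CochainComplex.isLE_iff]
    exact fun i hi => h i (Or.inr hi)
  obtain ⟨P, hP, hp, ⟨e⟩⟩ := GapSplit.bdd_proj_of_gl d hgl _ a b hge hle
  obtain ⟨s, hs⟩ := exists_Q_map_eq (E := F) (K := P) e.inv
  have : QuasiIso s := by
    rw [← DerivedCategory.isIso_Q_map_iff_quasiIso, hs]
    exact e.isIso_inv
  have := isIso_ext_map φ s (max c b) (fun i hi => hFz i (by omega)) (fun i hi => hP i (Or.inr (by omega)))
    (fun i => flat_of_free _ (hFf i)) (fun i => flat_of_proj _ (hp i))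
  have h0 : IsZero (((ext φ).obj P).homology j) := by
    rw [← HomologicalComplex.exactAt_iff_isZero_homology]
    exact HomologicalComplex.ExactAt.of_isZero ((ModuleCat.extendScalars.{u, u, u} φ).map_isZero (hP j hj))
  rw [HomologicalComplex.exactAt_iff_isZero_homology]
  refine h0.of_iso (?_ ≪≫ (homologyQIso _ j).symm ≪≫ (DerivedCategory.homologyFunctor _ j).mapIso
    (asIso (DerivedCategory.Q.map ((ext φ).map s))) ≪≫ homologyQIso _ j)
  exact (HomologicalComplex.homologyFunctor _ _ j).mapIso
    ((NatIso.mapHomologicalComplex (ModuleCat.extendScalarsComp g φ) (ComplexShape.up ℤ)).app E)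

/-- Exactness of a base change in terms of tensor products. -/
theorem exactAt_ext_iff [Algebra B C] (E : DRing.Cx B) (i j k : ℤ) (hij : i + 1 = j) (hjk : j + 1 = k) :
    ((ext (algebraMap B C)).obj E).ExactAt j ↔
      Function.Exact ((E.d i j).hom.lTensor C) ((E.d j k).hom.lTensor C) := by
  rw [HomologicalComplex.exactAt_iff' _ i j k (by simp; lia) (by simp; lia),
    ShortComplex.ShortExact.moduleCat_exact_iff_function_exact]
  let e := FlatBC.resEquiv B C
  exact (Function.Exact.iff_of_ladder_linearEquiv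
    (e₁ := TensorProduct.congr e (LinearEquiv.refl B (E.X i)))
    (e₂ := TensorProduct.congr e (LinearEquiv.refl B (E.X j)))
    (e₃ := TensorProduct.congr e (LinearEquiv.refl B (E.X k)))
    (f₁₂ := (E.d i j).hom.lTensor _) (f₂₃ := (E.d j k).hom.lTensor _)
    (TensorProduct.ext' fun _ _ => rfl) (TensorProduct.ext' fun _ _ => rfl)).symm

/-- The element criterion gives exactness of the quotient complex. -/
theorem exactAt_of_mem_sup (J : Ideal B) (E : DRing.Cx B) (i j k : ℤ) (hij : i + 1 = j) (hjk : j + 1 = k)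
    (h : ∀ y : E.X j, (E.d j k).hom y ∈ J • (⊤ : Submodule B (E.X k)) →
      y ∈ LinearMap.range (E.d i j).hom ⊔ J • (⊤ : Submodule B (E.X j))) :
    ((ext (Ideal.Quotient.mk J)).obj E).ExactAt j := by
  refine (exactAt_ext_iff (C := B ⧸ J) E i j k hij hjk).2 fun z => ⟨fun hz => ?_, ?_⟩
  · obtain ⟨y, rfl⟩ := TensorProduct.mk_surjective B (E.X j) (B ⧸ J) Ideal.Quotient.mk_surjective z
    rw [TensorProduct.mk_apply, LinearMap.lTensor_tmul] at hz
    have hy : (E.d j k).hom y ∈ J • (⊤ : Submodule B (E.X k)) := by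
      rw [← LinearMap.ker_tensorProductMk, LinearMap.mem_ker]
      exact hz
    obtain ⟨_, ⟨x, rfl⟩, w, hw, hxw⟩ := Submodule.mem_sup.1 (h y hy)
    rw [← LinearMap.ker_tensorProductMk, LinearMap.mem_ker] at hw
    refine ⟨1 ⊗ₜ[B] x, ?_⟩
    rw [LinearMap.lTensor_tmul, ← hxw, map_add, hw, add_zero, TensorProduct.mk_apply]
  · rintro ⟨w, rfl⟩
    rw [← LinearMap.comp_apply, ← LinearMap.lTensor_comp,
      show (E.d j k).hom ∘ₗ (E.d i j).hom = 0 from congrArg ModuleCat.Hom.hom (E.d_comp_d i j k),
      LinearMap.lTensor_zero, LinearMap.zero_apply]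

/-- `I M` computed before and after restriction of scalars. -/
theorem mem_map_smul_top_iff {A : Type u} [CommRing A] [Algebra A B] (I : Ideal A) (X : ModuleCat.{u} B)
    (x : (ModuleCat.restrictScalars.{u} (algebraMap A B)).obj X) :
    x ∈ I • (⊤ : Submodule A ((ModuleCat.restrictScalars.{u} (algebraMap A B)).obj X)) ↔
      (x : X) ∈ I.map (algebraMap A B) • (⊤ : Submodule B X) := by
  let := Module.compHom X (algebraMap A B)
  have : IsScalarTower A B X := IsScalarTower.of_algebraMap_smul fun r x => rfl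
  have h := Submodule.restrictScalars_map_smul_eq (R := B) I (⊤ : Submodule B X)
  rw [Submodule.restrictScalars_top] at h
  exact (SetLike.ext_iff.1 h x).symm

section Cancel

variable {A : Type u} [CommRing A] [Algebra A B] (k : Type u) [CommRing k] [Algebra A k]

attribute [local instance] Algebra.TensorProduct.rightAlgebra

/-- The commutation, linear over `B`. -/
noncomputable def commB : k ⊗[A] B ≃ₗ[B] B ⊗[A] k :=
  AddEquiv.toLinearEquiv (TensorProduct.comm A k B).toAddEquiv fun b z => by
    change TensorProduct.comm A k B (b • z) = b • TensorProduct.comm A k B z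
    rw [Algebra.smul_def]
    induction z using TensorProduct.induction_on with
    | zero => simp
    | tmul c b' =>
      change TensorProduct.comm A k B ((1 ⊗ₜ[A] b) * (c ⊗ₜ[A] b')) = b • (b' ⊗ₜ[A] c)
      rw [Algebra.TensorProduct.tmul_mul_tmul, one_mul]
      rfl
    | add x y hx hy => rw [mul_add, map_add, map_add, smul_add, hx, hy]

variable (X : Type u) [AddCommGroup X] [Module A X] [Module B X] [IsScalarTower A B X]

/-- `(k ⊗ B) ⊗ X` is `k ⊗ X`. -/
noncomputable def cancel : (k ⊗[A] B) ⊗[B] X ≃+ k ⊗[A] X :=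
  ((TensorProduct.comm B _ _).trans (LinearEquiv.lTensor X (commB k))).toAddEquiv.trans
    ((TensorProduct.AlgebraTensorModule.cancelBaseChange A B B X k).toAddEquiv.trans
      (TensorProduct.comm A X k).toAddEquiv)

variable {k X}

theorem cancel_tmul (c : k) (b : B) (x : X) :
    cancel k X ((c ⊗ₜ[A] b) ⊗ₜ[B] x) = c ⊗ₜ[A] (b • x) := rfl

theorem cancel_natural {Y : Type u} [AddCommGroup Y] [Module A Y] [Module B Y] [IsScalarTower A B Y]
    (f : X →ₗ[B] Y) (z : (k ⊗[A] B) ⊗[B] X) :
    cancel k Y (f.lTensor _ z) = (f.restrictScalars A).lTensor k (cancel k X z) := by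
  induction z using TensorProduct.induction_on with
  | zero => simp
  | tmul w x =>
    induction w using TensorProduct.induction_on with
    | zero => simp
    | tmul c b =>
      rw [LinearMap.lTensor_tmul, cancel_tmul, cancel_tmul, LinearMap.lTensor_tmul,
        LinearMap.restrictScalars_apply, map_smul]
    | add w w' hw hw' => simp only [TensorProduct.add_tmul, map_add, hw, hw']
  | add x y hx hy => simp only [map_add, hx, hy]

variable (k) in
/-- Exactness of a fibre, computed over the base. -/
theorem exactAt_fibre (E : DRing.Cx B) (j : ℤ)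
    (h : ((ext (algebraMap A k)).obj
      (((ModuleCat.restrictScalars.{u} (algebraMap A B)).mapHomologicalComplex (.up ℤ)).obj E)).ExactAt j) :
    ((ext (algebraMap B (k ⊗[A] B))).obj E).ExactAt j := by
  let := fun i : ℤ => Module.compHom (E.X i) (algebraMap A B)
  have : ∀ i : ℤ, IsScalarTower A B (E.X i) := fun i =>
    IsScalarTower.of_algebraMap_smul fun r x => rfl
  rw [exactAt_ext_iff _ (j - 1) j (j + 1) (by omega) rfl] at h ⊢
  intro z
  refine ⟨fun hz => ?_, ?_⟩
  · obtain ⟨w, hw⟩ := (h (cancel k (E.X j) z)).1 (by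
      change ((E.d j (j + 1)).hom.restrictScalars A).lTensor k (cancel k (E.X j) z) = 0
      rw [← cancel_natural, hz, map_zero])
    refine ⟨(cancel k (E.X (j - 1))).symm w, (cancel k (E.X j)).injective ?_⟩
    rw [cancel_natural, AddEquiv.apply_symm_apply]
    exact hw
  · rintro ⟨w, rfl⟩
    rw [← LinearMap.comp_apply, ← LinearMap.lTensor_comp,
      show (E.d j (j + 1)).hom ∘ₗ (E.d (j - 1) j).hom = 0 from
        congrArg ModuleCat.Hom.hom (E.d_comp_d (j - 1) j (j + 1)),
      LinearMap.lTensor_zero, LinearMap.zero_apply]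

end Cancel

/-- Flat amplitude over the base bounds the fibres. -/
theorem exactAt_of_bdd_flat {A : Type u} [CommRing A] (ψ : A →+* L) (R : DRing.Cx A) (c : ℤ)
    (hc : ∀ i, c < i → IsZero (R.X i)) (hR : ∀ i, flat A (R.X i)) {a b : ℤ}
    (h : Bdd (flat A) a b (DerivedCategory.Q.obj R)) (j : ℤ) (hj : j < a ∨ b < j) :
    ((ext ψ).obj R).ExactAt j := by
  obtain ⟨G, hG, hGf, ⟨e⟩⟩ := h
  have hle : (DerivedCategory.Q.obj G).IsLE b := isLE_Q_of_isZero _ b fun i hi => hG i (Or.inr hi)
  obtain ⟨P, hP, hp, ⟨eP⟩⟩ := ba_free hle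
  have : P.IsKProjective := isKProjective_of_bounds projective_of_free' hP hp
  obtain ⟨s, hs⟩ := exists_Q_map_eq (E := P) (K := G) eP.hom
  obtain ⟨t, ht⟩ := exists_Q_map_eq (E := P) (K := R) (eP.hom ≫ e.hom)
  have : QuasiIso s := by
    rw [← DerivedCategory.isIso_Q_map_iff_quasiIso, hs]
    infer_instance
  have : QuasiIso t := by
    rw [← DerivedCategory.isIso_Q_map_iff_quasiIso, ht]
    infer_instance
  have := isIso_ext_map ψ s b hP (fun i hi => hG i (Or.inr hi)) (fun i => flat_of_free _ (hp i)) hGf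
  have := isIso_ext_map ψ t (max b c) (fun i hi => hP i (by omega)) (fun i hi => hc i (by omega))
    (fun i => flat_of_free _ (hp i)) hR
  have h0 : IsZero (((ext ψ).obj G).homology j) := by
    rw [← HomologicalComplex.exactAt_iff_isZero_homology]
    exact HomologicalComplex.ExactAt.of_isZero ((ModuleCat.extendScalars.{u, u, u} ψ).map_isZero (hG j hj))
  rw [HomologicalComplex.exactAt_iff_isZero_homology]
  exact h0.of_iso ((homologyQIso _ j).symm ≪≫ (DerivedCategory.homologyFunctor _ j).mapIso
    ((asIso (DerivedCategory.Q.map ((ext ψ).map t))).symm ≪≫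
      asIso (DerivedCategory.Q.map ((ext ψ).map s))) ≪≫ homologyQIso _ j)

end Groth.Agent.Lib.DR.FibreGl
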