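import Groth.Agent.Lib.DR.SplitTrunc
import Groth.Agent.Lib.DR.FibreApp
import Groth.Agent.Lib.DR.FlatBC
import Mathlib.RingTheory.LocalRing.ResidueField.Ideal
import Mathlib.LinearAlgebra.Charpoly.BaseChange
import Mathlib.LinearAlgebra.Matrix.ToLin

/-!
# Exactness in one fibre gives a splitting on a neighbourhood
-/

universe u

open CategoryTheory CategoryTheory.Limits Pretriangulated TensorProduct

attribute [local instance] HasDerivedCategory.standard

set_option backward.isDefEq.respectTransparency false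

namespace Groth.Agent.Lib.DR.FibreSplit

variable {R : Type u} [CommRing R] (p : Ideal R) [p.IsPrime]

/-- A linear map in the fibre lifts after multiplying by a scalar outside the prime. -/
theorem exists_lift {F F' : Type u} [AddCommGroup F] [Module R F] [AddCommGroup F'] [Module R F']
    [Module.Free R F] [Module.Finite R F] [Module.Free R F'] [Module.Finite R F']
    (s : p.ResidueField ⊗[R] F →ₗ[p.ResidueField] p.ResidueField ⊗[R] F') :
    ∃ (c : R) (σ : F →ₗ[R] F'), c ∉ p ∧ σ.baseChange p.ResidueField = algebraMap R p.ResidueField c • s := by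
  classical
  let κ := p.ResidueField
  let b := Module.Free.chooseBasis R F
  let b' := Module.Free.chooseBasis R F'
  let B := Algebra.TensorProduct.basis κ b
  let B' := Algebra.TensorProduct.basis κ b'
  let M := LinearMap.toMatrix B B' s
  obtain ⟨c₀, hc₀⟩ := IsLocalization.exist_integer_multiples_of_finite (nonZeroDivisors (R ⧸ p))
    (fun ij : Module.Free.ChooseBasisIndex R F' × Module.Free.ChooseBasisIndex R F => M ij.1 ij.2)
  choose N hN using hc₀
  obtain ⟨c, hc⟩ := Ideal.Quotient.mk_surjective (c₀ : R ⧸ p)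
  choose N' hN' using fun ij => Ideal.Quotient.mk_surjective (N ij)
  refine ⟨c, Matrix.toLin b b' (Matrix.of fun i j => N' (i, j)), fun h => ?_, ?_⟩
  · exact nonZeroDivisors.coe_ne_zero c₀ (hc.symm.trans (Ideal.Quotient.eq_zero_iff_mem.2 h))
  · apply (LinearMap.toMatrix B B').injective
    rw [LinearMap.toMatrix_baseChange, LinearMap.toMatrix_toLin, map_smul]
    ext i j
    show algebraMap R κ (N' (i, j)) = algebraMap R κ c * M i j
    rw [IsScalarTower.algebraMap_apply R (R ⧸ p) κ, IsScalarTower.algebraMap_apply R (R ⧸ p) κ c,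
      Ideal.Quotient.algebraMap_eq, hN', hc, hN, Algebra.smul_def]

/-- Contracting maps for a sequence exact at the middle term, over a field. -/
theorem exists_contraction {k V₀ V₁ V₂ : Type*} [Field k] [AddCommGroup V₀] [Module k V₀]
    [AddCommGroup V₁] [Module k V₁] [AddCommGroup V₂] [Module k V₂]
    (d₀ : V₀ →ₗ[k] V₁) (d₁ : V₁ →ₗ[k] V₂) (h : Function.Exact d₀ d₁) :
    ∃ (s₁ : V₂ →ₗ[k] V₁) (s₀ : V₁ →ₗ[k] V₀), s₁ ∘ₗ d₁ + d₀ ∘ₗ s₀ = LinearMap.id := by
  have hker : LinearMap.ker ((LinearMap.ker d₁).liftQ d₁ le_rfl) = ⊥ := Submodule.ker_liftQ_eq_bot _ _ _ le_rfl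
  obtain ⟨l, hl⟩ := LinearMap.exists_leftInverse_of_injective _ hker
  obtain ⟨q, hq⟩ := LinearMap.exists_rightInverse_of_surjective _ (Submodule.range_mkQ (LinearMap.ker d₁))
  obtain ⟨t, ht⟩ := LinearMap.exists_rightInverse_of_surjective d₀.rangeRestrict d₀.range_rangeRestrict
  let s₁ : V₂ →ₗ[k] V₁ := q ∘ₗ l
  have hmem : ∀ x, (LinearMap.id - s₁ ∘ₗ d₁ : V₁ →ₗ[k] V₁) x ∈ LinearMap.range d₀ := fun x => by
    rw [← LinearMap.exact_iff.1 h, ← Submodule.Quotient.mk_eq_zero]
    have h1 : l (d₁ x) = (LinearMap.ker d₁).mkQ x := LinearMap.congr_fun hl ((LinearMap.ker d₁).mkQ x)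
    have h2 : (LinearMap.ker d₁).mkQ (q (l (d₁ x))) = l (d₁ x) := LinearMap.congr_fun hq _
    show (LinearMap.ker d₁).mkQ (x - q (l (d₁ x))) = 0
    rw [map_sub, h2, h1, sub_self]
  refine ⟨s₁, t ∘ₗ (LinearMap.id - s₁ ∘ₗ d₁).codRestrict _ hmem, LinearMap.ext fun x => ?_⟩
  have := congrArg Subtype.val (LinearMap.congr_fun ht ((LinearMap.id - s₁ ∘ₗ d₁).codRestrict _ hmem x))
  exact (congrArg (s₁ (d₁ x) + ·) this).trans (add_sub_cancel (s₁ (d₁ x)) x)

/-- Exactness in the fibre at `p` gives, over `R`, an endomorphism with determinant outside `p` which is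
null-homotopic. -/
theorem exists_homotopy {F₀ F₁ F₂ : Type u} [AddCommGroup F₀] [Module R F₀] [AddCommGroup F₁] [Module R F₁]
    [AddCommGroup F₂] [Module R F₂] [Module.Free R F₀] [Module.Finite R F₀] [Module.Free R F₁] [Module.Finite R F₁]
    [Module.Free R F₂] [Module.Finite R F₂]
    (d₀ : F₀ →ₗ[R] F₁) (d₁ : F₁ →ₗ[R] F₂)
    (h : Function.Exact (d₀.baseChange p.ResidueField) (d₁.baseChange p.ResidueField)) :
    ∃ (σ₁ : F₂ →ₗ[R] F₁) (σ₀ : F₁ →ₗ[R] F₀) (ψ : F₁ →ₗ[R] F₁) (f : R), f ∉ p ∧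
      ψ ∘ₗ (σ₁ ∘ₗ d₁ + d₀ ∘ₗ σ₀) = f • LinearMap.id ∧
      (σ₁ ∘ₗ d₁ + d₀ ∘ₗ σ₀) ∘ₗ ψ = f • LinearMap.id := by
  classical
  obtain ⟨s₁, s₀, hs⟩ := exists_contraction _ _ h
  obtain ⟨c₁, σ₁, hc₁, hσ₁⟩ := exists_lift p s₁
  obtain ⟨c₀, σ₀, hc₀, hσ₀⟩ := exists_lift p s₀
  let φ : F₁ →ₗ[R] F₁ := (c₀ • σ₁) ∘ₗ d₁ + d₀ ∘ₗ (c₁ • σ₀)
  have hφ : φ.baseChange p.ResidueField = algebraMap R p.ResidueField (c₀ * c₁) • LinearMap.id := by
    simp only [φ, LinearMap.baseChange_add, LinearMap.baseChange_comp, LinearMap.baseChange_smul, hσ₁, hσ₀]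
    rw [← hs, ← algebraMap_smul p.ResidueField c₀, ← algebraMap_smul p.ResidueField c₁]
    simp only [smul_add, LinearMap.smul_comp, LinearMap.comp_smul, map_mul, smul_smul, mul_comm]
  have hdet : LinearMap.det φ ∉ p := by
    rw [← Ideal.algebraMap_residueField_eq_zero, ← LinearMap.det_baseChange, hφ, LinearMap.det_smul,
      LinearMap.det_id, mul_one]
    exact pow_ne_zero _ fun h0 => ((Ideal.IsPrime.mul_mem_iff_mem_or_mem inferInstance).1
      (Ideal.algebraMap_residueField_eq_zero.1 h0)).elim hc₀ hc₁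
  let b := Module.Free.chooseBasis R F₁
  let ψ := Matrix.toLin b b (LinearMap.toMatrix b b φ).adjugate
  refine ⟨c₀ • σ₁, c₁ • σ₀, ψ, LinearMap.det φ, hdet, ?_, ?_⟩
  all_goals
    apply (LinearMap.toMatrix b b).injective
    rw [LinearMap.toMatrix_comp b b b, LinearMap.toMatrix_toLin, map_smul, LinearMap.toMatrix_id,
      ← LinearMap.det_toMatrix b φ]
  · exact Matrix.adjugate_mul _
  · exact Matrix.mul_adjugate _

/-- An invertible null-homotopic endomorphism of the middle term gives exactness and a retraction onto the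
image. -/
theorem exact_and_retraction {S : Type u} [CommRing S] {M₀ M₁ M₂ : Type u} [AddCommGroup M₀] [Module S M₀]
    [AddCommGroup M₁] [Module S M₁] [AddCommGroup M₂] [Module S M₂] [Module.Finite S M₁]
    (d₀ : M₀ →ₗ[S] M₁) (d₁ : M₁ →ₗ[S] M₂) (hd : ∀ x, d₁ (d₀ x) = 0)
    (σ₁ : M₂ →ₗ[S] M₁) (σ₀ : M₁ →ₗ[S] M₀) (φ : M₁ ≃ₗ[S] M₁)
    (hφ : ∀ x, φ x = σ₁ (d₁ x) + d₀ (σ₀ x)) :
    Function.Exact d₀ d₁ ∧
      ∃ r : M₂ →ₗ[S] M₂, (∀ y, r y ∈ LinearMap.range d₁) ∧ ∀ x, r (d₁ x) = d₁ x := by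
  let Q := LinearMap.range d₀
  have hQ : Q ≤ Q.comap φ.toLinearMap := by
    rintro _ ⟨x, rfl⟩
    refine ⟨σ₀ (d₀ x), ?_⟩
    show _ = φ (d₀ x)
    rw [hφ, hd, map_zero, zero_add]
  let φQ := Q.mapQ Q φ.toLinearMap hQ
  have hsurj : Function.Surjective φQ := fun y => by
    obtain ⟨y, rfl⟩ := Submodule.mkQ_surjective _ y
    exact ⟨Q.mkQ (φ.symm y), (congrArg Q.mkQ (φ.apply_symm_apply y) :)⟩
  have hinj := OrzechProperty.injective_of_surjective_endomorphism φQ hsurj
  have hback : ∀ x, φ x ∈ Q → x ∈ Q := fun x hx => by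
    rw [← Submodule.Quotient.mk_eq_zero] at hx ⊢
    exact hinj (hx.trans (map_zero φQ).symm)
  refine ⟨fun x => ⟨fun hx => hback x ⟨σ₀ x, ?_⟩, ?_⟩, d₁ ∘ₗ φ.symm.toLinearMap ∘ₗ σ₁, fun y => ⟨_, rfl⟩, fun x => ?_⟩
  · rw [hφ, hx, map_zero, zero_add]
  · rintro ⟨y, rfl⟩
    exact hd y
  · obtain ⟨z, hz⟩ := hback (φ.symm (d₀ (σ₀ x))) (by rw [φ.apply_symm_apply]; exact ⟨_, rfl⟩)
    have h1 : φ.symm (σ₁ (d₁ x)) = x - φ.symm (d₀ (σ₀ x)) := by
      rw [φ.symm_apply_eq, map_sub, φ.apply_symm_apply, hφ, add_sub_cancel_right]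
    show d₁ (φ.symm (σ₁ (d₁ x))) = d₁ x
    rw [h1, map_sub, ← hz, hd, sub_zero]

/-- Extension of scalars turns a scalar endomorphism into a scalar endomorphism. -/
theorem extend_map_smul_id {B : Type u} [CommRing B] [Algebra R B] (r : R) (X : ModuleCat.{u} R)
    (φ : X ⟶ X) (hφ : ∀ x : X, φ.hom x = r • x)
    (z : (ModuleCat.extendScalars.{u, u, u} (algebraMap R B)).obj X) :
    ((ModuleCat.extendScalars.{u, u, u} (algebraMap R B)).map φ).hom z = algebraMap R B r • z := by
  induction z using TensorProduct.induction_on with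
  | zero => exact (map_zero _).trans (smul_zero _).symm
  | tmul c x =>
    refine (ModuleCat.ExtendScalars.map_tmul (algebraMap R B) φ c x).trans ?_
    exact (congrArg (fun y : X => c ⊗ₜ[R] y) (hφ x)).trans (TensorProduct.smul_tmul r c x).symm
  | add x y hx hy => exact (map_add _ x y).trans ((congrArg₂ (· + ·) hx hy).trans (smul_add _ _ _).symm)

/-- Exactness of the fibre complex in one degree propagates to a neighbourhood, with a split image. -/
theorem exists_away {E : DRing.Cx R} (hp : ∀ j, Module.Finite R (E.X j) ∧ Module.Free R (E.X j)) (i : ℤ)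
    (h : ((BaseChange.ext (algebraMap R p.ResidueField)).obj E).ExactAt i) :
    ∃ f : R, f ∉ p ∧
      ((BaseChange.ext (algebraMap R (Localization.Away f))).obj E).ExactAt i ∧
      ∃ r : ((BaseChange.ext (algebraMap R (Localization.Away f))).obj E).X (i + 1) →ₗ[Localization.Away f]
          ((BaseChange.ext (algebraMap R (Localization.Away f))).obj E).X (i + 1),
        (∀ y, r y ∈ LinearMap.range (((BaseChange.ext (algebraMap R (Localization.Away f))).obj E).d i (i + 1)).hom) ∧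
        ∀ x, r ((((BaseChange.ext (algebraMap R (Localization.Away f))).obj E).d i (i + 1)).hom x) =
          (((BaseChange.ext (algebraMap R (Localization.Away f))).obj E).d i (i + 1)).hom x := by
  have := fun j => (hp j).1
  have := fun j => (hp j).2
  have hex : Function.Exact ((E.d (i - 1) i).hom.baseChange p.ResidueField)
      ((E.d i (i + 1)).hom.baseChange p.ResidueField) := by
    rw [HomologicalComplex.exactAt_iff' _ (i - 1) i (i + 1) (by simp) (by simp),
      ShortComplex.ShortExact.moduleCat_exact_iff_function_exact] at h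
    let e := FlatBC.resEquiv R p.ResidueField
    rw [LinearMap.baseChange_eq_ltensor, LinearMap.baseChange_eq_ltensor]
    refine (Function.Exact.iff_of_ladder_linearEquiv
      (e₁ := TensorProduct.congr e (LinearEquiv.refl R (E.X (i - 1))))
      (e₂ := TensorProduct.congr e (LinearEquiv.refl R (E.X i)))
      (e₃ := TensorProduct.congr e (LinearEquiv.refl R (E.X (i + 1))))
      (f₁₂ := (E.d (i - 1) i).hom.lTensor _) (f₂₃ := (E.d i (i + 1)).hom.lTensor _)
      (TensorProduct.ext' fun _ _ => rfl) (TensorProduct.ext' fun _ _ => rfl)).2 h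
  obtain ⟨σ₁, σ₀, ψ, f, hf, hψ, hψ'⟩ := exists_homotopy p _ _ hex
  let Rf := Localization.Away f
  let F := ModuleCat.extendScalars.{u, u, u} (algebraMap R Rf)
  let φC : E.X i ⟶ E.X i := E.d i (i + 1) ≫ ModuleCat.ofHom σ₁ + ModuleCat.ofHom σ₀ ≫ E.d (i - 1) i
  have hu : IsUnit (algebraMap R Rf f) := IsLocalization.Away.algebraMap_isUnit f
  have h1 : ∀ z, (F.map φC).hom ((F.map (ModuleCat.ofHom ψ)).hom z) = algebraMap R Rf f • z := fun z =>
    (ConcreteCategory.congr_hom (F.map_comp (ModuleCat.ofHom ψ) φC) z).symm.trans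
      (extend_map_smul_id f _ _ (fun x => LinearMap.congr_fun hψ' x) z)
  have h2 : ∀ z, (F.map (ModuleCat.ofHom ψ)).hom ((F.map φC).hom z) = algebraMap R Rf f • z := fun z =>
    (ConcreteCategory.congr_hom (F.map_comp φC (ModuleCat.ofHom ψ)) z).symm.trans
      (extend_map_smul_id f _ _ (fun x => LinearMap.congr_fun hψ x) z)
  have hbij : Function.Bijective (F.map φC).hom := by
    constructor
    · intro x y hxy
      have := (h2 x).symm.trans ((congrArg _ hxy).trans (h2 y))
      exact hu.smul_left_cancel.1 this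
    · intro y
      refine ⟨(↑hu.unit⁻¹ : Rf) • (F.map (ModuleCat.ofHom ψ)).hom y, ?_⟩
      rw [map_smul, h1, smul_smul, hu.val_inv_mul, one_smul]
  let E' := (BaseChange.ext (algebraMap R Rf)).obj E
  have : Module.Finite Rf (E'.X i) := (BaseChange.ext_ff (algebraMap R Rf) (E.X i) (hp i)).1
  obtain ⟨hexact, hr⟩ := exact_and_retraction (E'.d (i - 1) i).hom (E'.d i (i + 1)).hom
    (fun x => ConcreteCategory.congr_hom (E'.d_comp_d (i - 1) i (i + 1)) x)
    (F.map (ModuleCat.ofHom σ₁)).hom (F.map (ModuleCat.ofHom σ₀)).hom (LinearEquiv.ofBijective _ hbij) fun x => by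
      show (F.map φC).hom x = _
      simp only [φC, Functor.map_add, Functor.map_comp]
      rfl
  refine ⟨f, hf, ?_, hr⟩
  rw [HomologicalComplex.exactAt_iff' _ (i - 1) i (i + 1) (by simp) (by simp),
    ShortComplex.ShortExact.moduleCat_exact_iff_function_exact]
  exact hexact

end Groth.Agent.Lib.DR.FibreSplit
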