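import Groth.Agent.Lib.DR.TorAmp
import Groth.Agent.Lib.DR.FlatBC
import Mathlib.Algebra.Module.Torsion.Basic
import Mathlib.RingTheory.Localization.Away.Basic

/-!
# Flatness from an open piece and the complementary closed piece
-/

universe u

open CategoryTheory CategoryTheory.Limits TensorProduct
open Groth.Agent.Lib.DR
open Groth.Agent.Lib.DR.Basic Groth.Agent.Lib.DR.FiniteComplex Groth.Agent.Lib.DR.PseudoCoherent
open Groth.Agent.Lib.DR.Representative Groth.Agent.Lib.DR.BaseChange Groth.Agent.Lib.DR.TorAmp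

attribute [local instance] HasDerivedCategory.standard

set_option backward.isDefEq.respectTransparency false

namespace Groth.Agent.Lib.DR.FlatGlue

variable {R : Type u} [CommRing R]

/-- `P ⊗ N` is exact in all negative degrees. -/
def Ex (P : DRing.Cx R) (N : Type u) [AddCommGroup N] [Module R N] : Prop :=
  ∀ i : ℤ, i < 0 →
    Function.Exact ((P.d (i - 1) i).hom.rTensor N) ((P.d i (i + 1)).hom.rTensor N)

variable {P : DRing.Cx R} (hP : ∀ i, flat R (P.X i))
variable {A B C : Type u} [AddCommGroup A] [Module R A] [AddCommGroup B] [Module R B] [AddCommGroup C] [Module R C]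
  (j : A →ₗ[R] B) (q : B →ₗ[R] C) (hj : Function.Injective j) (hjq : Function.Exact j q)
  (hq : Function.Surjective q)

theorem comm_map {X Y : Type u} [AddCommGroup X] [Module R X] [AddCommGroup Y] [Module R Y]
    {A B : Type u} [AddCommGroup A] [Module R A] [AddCommGroup B] [Module R B]
    (d : X →ₗ[R] Y) (j : A →ₗ[R] B) (x : X ⊗[R] A) :
    d.rTensor B (j.lTensor X x) = j.lTensor Y (d.rTensor A x) := by
  rw [← LinearMap.comp_apply, ← LinearMap.comp_apply, LinearMap.rTensor_comp_lTensor,
    LinearMap.lTensor_comp_rTensor]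

theorem dd_zero (P : DRing.Cx R) (N : Type u) [AddCommGroup N] [Module R N] (a b c : ℤ) (x : P.X a ⊗[R] N) :
    (P.d b c).hom.rTensor N ((P.d a b).hom.rTensor N x) = 0 := by
  rw [← LinearMap.comp_apply, ← LinearMap.rTensor_comp, ← ModuleCat.hom_comp, P.d_comp_d,
    ModuleCat.hom_zero, LinearMap.rTensor_zero, LinearMap.zero_apply]

include hP hj hjq hq in
theorem ex_mid (hA : Ex P A) (hC : Ex P C) : Ex P B := by
  intro i hi z
  refine ⟨fun hz => ?_, by rintro ⟨w, rfl⟩; exact dd_zero P B _ _ _ w⟩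
  have : Module.Flat R (P.X (i + 1)) := hP (i + 1)
  obtain ⟨w', hw'⟩ := (hC i hi (q.lTensor _ z)).1 (by rw [comm_map, hz, map_zero])
  obtain ⟨w, rfl⟩ := LinearMap.lTensor_surjective (P.X (i - 1)) hq w'
  obtain ⟨t, ht⟩ := (lTensor_exact (P.X i) hjq hq _).1
    (show q.lTensor _ (z - (P.d (i - 1) i).hom.rTensor B w) = 0 by
      rw [map_sub, ← comm_map, hw', sub_self])
  have h2 : (P.d i (i + 1)).hom.rTensor A t = 0 := by
    apply Module.Flat.lTensor_preserves_injective_linearMap (M := P.X (i + 1)) j hj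
    rw [map_zero, ← comm_map, ht, map_sub, hz, dd_zero, sub_zero]
  obtain ⟨s, hs⟩ := (hA i hi t).1 h2
  exact ⟨w + j.lTensor _ s, by rw [map_add, comm_map, hs, ht, add_sub_cancel]⟩

include hP hj hjq hq in
theorem ex_left (hB : Ex P B) (hC : Ex P C) : Ex P A := by
  intro i hi t
  refine ⟨fun ht => ?_, by rintro ⟨w, rfl⟩; exact dd_zero P A _ _ _ w⟩
  have : Module.Flat R (P.X i) := hP i
  obtain ⟨w, hw⟩ := (hB i hi (j.lTensor _ t)).1 (by rw [comm_map, ht, map_zero])
  have h1 : (P.d (i - 1) i).hom.rTensor C (q.lTensor _ w) = 0 := by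
    rw [comm_map, hw, ← LinearMap.comp_apply, ← LinearMap.lTensor_comp, hjq.linearMap_comp_eq_zero,
      LinearMap.lTensor_zero, LinearMap.zero_apply]
  have h1' := (hC (i - 1) (by omega) (q.lTensor _ w)).1
  rw [sub_add_cancel] at h1'
  obtain ⟨v', hv⟩ := h1' h1
  obtain ⟨v, rfl⟩ := LinearMap.lTensor_surjective (P.X (i - 1 - 1)) hq v'
  obtain ⟨s, hs⟩ := (lTensor_exact (P.X (i - 1)) hjq hq _).1
    (show q.lTensor _ (w - (P.d (i - 1 - 1) (i - 1)).hom.rTensor B v) = 0 by
      rw [map_sub, ← comm_map, hv, sub_self])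
  refine ⟨s, Module.Flat.lTensor_preserves_injective_linearMap (M := P.X i) j hj ?_⟩
  rw [← comm_map, hs, map_sub, hw, dd_zero, sub_zero]

omit j q in
include hP in
/-- An increasing union. -/
theorem ex_of_forall_fg {N : Type u} [AddCommGroup N] [Module R N]
    (h : ∀ S : Submodule R N, S.FG → ∃ T : Submodule R N, S ≤ T ∧ Ex P T) : Ex P N := by
  intro i hi z
  refine ⟨fun hz => ?_, by rintro ⟨w, rfl⟩; exact dd_zero P N _ _ _ w⟩
  have : Module.Flat R (P.X (i + 1)) := hP (i + 1)
  obtain ⟨S, hS, hzS⟩ : ∃ S : Submodule R N, S.FG ∧ z ∈ LinearMap.range (S.subtype.lTensor (P.X i)) := by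
    clear hz
    induction z using TensorProduct.induction_on with
    | zero => exact ⟨⊥, Submodule.fg_bot, zero_mem _⟩
    | tmul p n => exact ⟨Submodule.span R {n}, Submodule.fg_span_singleton n, p ⊗ₜ ⟨n, Submodule.mem_span_singleton_self n⟩, rfl⟩
    | add x y hx hy =>
      obtain ⟨S₁, h₁, a, rfl⟩ := hx
      obtain ⟨S₂, h₂, b, rfl⟩ := hy
      refine ⟨S₁ ⊔ S₂, h₁.sup h₂, add_mem ⟨(Submodule.inclusion le_sup_left).lTensor _ a, ?_⟩
        ⟨(Submodule.inclusion le_sup_right).lTensor _ b, ?_⟩⟩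
      · rw [← LinearMap.comp_apply, ← LinearMap.lTensor_comp, Submodule.subtype_comp_inclusion]
      · rw [← LinearMap.comp_apply, ← LinearMap.lTensor_comp, Submodule.subtype_comp_inclusion]
  obtain ⟨T, hST, hT⟩ := h S hS
  obtain ⟨a, rfl⟩ := hzS
  have hsub : S.subtype.lTensor (P.X i) a = T.subtype.lTensor (P.X i) ((Submodule.inclusion hST).lTensor _ a) := by
    rw [← LinearMap.comp_apply, ← LinearMap.lTensor_comp, Submodule.subtype_comp_inclusion]
  have h2 : (P.d i (i + 1)).hom.rTensor T ((Submodule.inclusion hST).lTensor _ a) = 0 := by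
    apply Module.Flat.lTensor_preserves_injective_linearMap (M := P.X (i + 1)) T.subtype T.injective_subtype
    rw [map_zero, ← comm_map, ← hsub, hz]
  obtain ⟨w, hw⟩ := (hT i hi _).1 h2
  exact ⟨T.subtype.lTensor _ w, by rw [comm_map, hw, ← hsub]⟩

omit j q in
/-- Modules over `S` when `P ⊗ S` is a flat module in degree `0`. -/
theorem ex_of_algebra (S : Type u) [CommRing S] [Algebra R S] [DRing.HasLBaseChange (algebraMap R S)] {b : ℤ}
    (hb : ∀ i, b < i → IsZero (P.X i)) (hP : ∀ i, flat R (P.X i))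
    (h : ∃ (L : Type u) (_ : AddCommGroup L) (_ : Module S L), Module.Flat S L ∧
      Nonempty ((DRing.LBaseChange (algebraMap R S)).obj (DerivedCategory.Q.obj P) ≅ Dual.inD S L))
    (N : Type u) [AddCommGroup N] [Module R N] [Module S N] [IsScalarTower R S N] : Ex P N := by
  obtain ⟨L, _, _, hL, ⟨e⟩⟩ := h
  intro i hi
  let P' := (ext (algebraMap R S)).obj P
  have hP' : ∀ i, flat S (P'.X i) := fun i => ext_flat (algebraMap R S) _ (hP i)
  have hb' : ∀ i, b < i → IsZero (P'.X i) := fun i hi =>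
    (ModuleCat.extendScalars.{u, u, u} (algebraMap R S)).map_isZero (hb i hi)
  have hB : Bdd (flat S) 0 0 (DerivedCategory.Q.obj P') :=
    (bdd_single good_flat (P := flat S) (M := ModuleCat.of S L) hL 0).of_iso
      (((bcFlat (algebraMap R S) P b hb hP).symm ≪≫ e).symm)
  have h0 := exactAt_tens_of_bdd (ModuleCat.of S N) P' hb' hP' hB i hi
  rw [HomologicalComplex.exactAt_iff' _ (i - 1) i (i + 1) (by simp) (by simp),
    ShortComplex.ShortExact.moduleCat_exact_iff_function_exact] at h0
  let c : ∀ k, (P.X k) ⊗[R] N ≃+ (P'.X k) ⊗[S] N := fun k =>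
    (TensorProduct.comm R (P.X k) N).toAddEquiv.trans
      ((TensorProduct.AlgebraTensorModule.cancelBaseChange R S S N (P.X k)).symm.toAddEquiv.trans
        ((TensorProduct.congr (LinearEquiv.refl S N) (FlatBC.extEquiv R S (P.X k)).symm).toAddEquiv.trans
          (TensorProduct.comm S N (P'.X k)).toAddEquiv))
  have hc : ∀ (k l : ℤ) (x : P.X k ⊗[R] N),
      (P'.d k l).hom.rTensor N (c k x) = c l ((P.d k l).hom.rTensor N x) := fun k l x => by
    induction x using TensorProduct.induction_on with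
    | zero => simp
    | tmul p n => rfl
    | add x y hx hy => simp [hx, hy]
  have h0' : Function.Exact ((P'.d (i - 1) i).hom.rTensor N) ((P'.d i (i + 1)).hom.rTensor N) := h0
  intro z
  constructor
  · intro hz
    obtain ⟨w, hw⟩ := (h0' (c i z)).1 (by rw [hc, hz, map_zero])
    refine ⟨(c (i - 1)).symm w, (c i).injective ?_⟩
    rw [← hc, AddEquiv.apply_symm_apply, hw]
  · rintro ⟨w, rfl⟩
    exact dd_zero P N _ _ _ w

omit j q in
/-- Modules killed by `f`, then by a power of `f`, then torsion, then all. -/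
theorem ex_all (f : R) {b : ℤ} (hb : ∀ i, b < i → IsZero (P.X i)) (hP : ∀ i, flat R (P.X i))
    [DRing.HasLBaseChange (algebraMap R (Localization.Away f))]
    [DRing.HasLBaseChange (algebraMap R (R ⧸ Ideal.span ({f} : Set R)))]
    (h₁ : ∃ (L : Type u) (_ : AddCommGroup L) (_ : Module (Localization.Away f) L), Module.Flat (Localization.Away f) L ∧
      Nonempty ((DRing.LBaseChange (algebraMap R (Localization.Away f))).obj (DerivedCategory.Q.obj P) ≅
        Dual.inD (Localization.Away f) L))
    (h₂ : ∃ (L : Type u) (_ : AddCommGroup L) (_ : Module (R ⧸ Ideal.span ({f} : Set R)) L),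
      Module.Flat (R ⧸ Ideal.span ({f} : Set R)) L ∧
      Nonempty ((DRing.LBaseChange (algebraMap R (R ⧸ Ideal.span ({f} : Set R)))).obj (DerivedCategory.Q.obj P) ≅
        Dual.inD (R ⧸ Ideal.span ({f} : Set R)) L))
    (N : Type u) [AddCommGroup N] [Module R N] : Ex P N := by
  have hkill : ∀ (T : Type u) [AddCommGroup T] [Module R T], (∀ x : T, f • x = 0) → Ex P T := fun T _ _ hT => by
    let I := Ideal.span ({f} : Set R)
    have ht : Module.IsTorsionBySet R T (I : Set R) := fun x a => by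
      obtain ⟨r, hr⟩ := Ideal.mem_span_singleton'.1 a.2
      rw [← hr, mul_smul, hT, smul_zero]
    let := ht.module
    have : IsScalarTower R (R ⧸ I) T := ht.isScalarTower
    exact ex_of_algebra (R ⧸ I) hb hP h₂ T
  have hpow : ∀ (n : ℕ) (T : Type u) [AddCommGroup T] [Module R T], (∀ x : T, f ^ n • x = 0) → Ex P T := by
    intro n
    induction n with
    | zero =>
      intro T _ _ hT
      exact hkill T fun x => by rw [show x = 0 by simpa using hT x, smul_zero]
    | succ n ih =>
      intro T _ _ hT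
      let T' := LinearMap.range (LinearMap.lsmul R T f)
      refine ex_mid hP T'.subtype T'.mkQ T'.injective_subtype (LinearMap.exact_subtype_mkQ T')
        T'.mkQ_surjective (ih T' fun x => ?_) (hkill _ fun x => ?_)
      · obtain ⟨y, hy⟩ := x.2
        refine Subtype.ext ?_
        show f ^ n • (x : T) = 0
        rw [← hy, LinearMap.lsmul_apply, smul_smul, ← pow_succ]
        exact hT y
      · obtain ⟨y, rfl⟩ := T'.mkQ_surjective x
        rw [← map_smul]
        exact (Submodule.Quotient.mk_eq_zero T').2 ⟨y, rfl⟩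
  have htor : ∀ (T : Type u) [AddCommGroup T] [Module R T], (∀ x : T, ∃ n : ℕ, f ^ n • x = 0) → Ex P T := by
    intro T _ _ hT
    refine ex_of_forall_fg hP fun S hS => ?_
    obtain ⟨n, hn⟩ : ∃ n : ℕ, ∀ x ∈ S, f ^ n • x = 0 := by
      obtain ⟨s, rfl⟩ := hS
      classical
      choose m hm using hT
      refine ⟨s.sup m, fun x hx => ?_⟩
      induction hx using Submodule.span_induction with
      | mem x hx =>
        obtain ⟨k, hk⟩ := Nat.exists_eq_add_of_le (Finset.le_sup (f := m) hx)
        rw [hk, pow_add, mul_comm, mul_smul, hm, smul_zero]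
      | zero => rw [smul_zero]
      | add x y _ _ hx hy => rw [smul_add, hx, hy, add_zero]
      | smul r x _ hx => rw [smul_comm, hx, smul_zero]
    exact ⟨S, le_rfl, hpow n S fun x => Subtype.ext (hn x x.2)⟩
  let L := LocalizedModule (Submonoid.powers f) N
  let μ : N →ₗ[R] L := LocalizedModule.mkLinearMap (Submonoid.powers f) N
  have hL : Ex P L := ex_of_algebra (Localization.Away f) hb hP h₁ L
  have hK : Ex P (LinearMap.ker μ) := htor _ fun x => by
    obtain ⟨⟨_, n, rfl⟩, hn⟩ := (IsLocalizedModule.eq_zero_iff (Submonoid.powers f) μ).1 x.2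
    exact ⟨n, Subtype.ext hn⟩
  have hQ : Ex P (L ⧸ LinearMap.range μ) := htor _ fun x => by
    obtain ⟨y, rfl⟩ := Submodule.mkQ_surjective _ x
    obtain ⟨⟨m, ⟨_, n, rfl⟩⟩, hm⟩ := IsLocalizedModule.surj (Submonoid.powers f) μ y
    refine ⟨n, ?_⟩
    rw [← map_smul]
    exact (Submodule.Quotient.mk_eq_zero _).2 ⟨m, hm.symm⟩
  refine ex_mid hP (LinearMap.ker μ).subtype μ.rangeRestrict (LinearMap.ker μ).injective_subtype ?_
    μ.surjective_rangeRestrict hK
    (ex_left hP (LinearMap.range μ).subtype (LinearMap.range μ).mkQ (LinearMap.range μ).injective_subtype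
      (LinearMap.exact_subtype_mkQ _) (Submodule.mkQ_surjective _) hL hQ)
  rw [LinearMap.exact_iff, LinearMap.ker_rangeRestrict, Submodule.range_subtype]

end Groth.Agent.Lib.DR.FlatGlue
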