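import Groth.Agent.Lib.DR.KFlat
import Groth.Agent.Lib.SiteKFlat.Trunc
import Mathlib.Algebra.Module.CharacterModule
import Mathlib.RingTheory.TensorProduct.Finite

/-!
# Pure acyclic complexes are K-flat; filtered colimits of acyclic complexes
-/

universe u

open CategoryTheory CategoryTheory.Limits TensorProduct HomologicalComplex
open Groth.Agent.Lib.TensorCx.Basic Groth.Agent.Lib.FlatCx.Elem

namespace Groth.Agent.Lib.DR.KFlatPure

variable {R : Type u} [CommRing R]

set_option backward.isDefEq.respectTransparency false in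
/-- Exactness after tensoring extends from finitely presented modules to all modules. -/
theorem exact_lTensor_of_fp {A B C : Type u} [AddCommGroup A] [Module R A] [AddCommGroup B] [Module R B]
    [AddCommGroup C] [Module R C] (f : A →ₗ[R] B) (g : B →ₗ[R] C) (hgf : g ∘ₗ f = 0)
    (h : ∀ (M : Type u) [AddCommGroup M] [Module R M], Module.FinitePresentation R M →
      Function.Exact (f.lTensor M) (g.lTensor M))
    (M : Type u) [AddCommGroup M] [Module R M] : Function.Exact (f.lTensor M) (g.lTensor M) := by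
  intro x
  refine ⟨fun hx => ?_, ?_⟩
  · classical
    let p : (M →₀ R) →ₗ[R] M := Finsupp.linearCombination R id
    have hp : Function.Surjective p := Finsupp.linearCombination_surjective R Function.surjective_id
    obtain ⟨x', rfl⟩ := LinearMap.rTensor_surjective B hp x
    have h1 : p.rTensor C (g.lTensor (M →₀ R) x') = 0 := by
      rw [← LinearMap.comp_apply, LinearMap.rTensor_comp_lTensor, ← LinearMap.lTensor_comp_rTensor,
        LinearMap.comp_apply, hx]
    have hex : Function.Exact (LinearMap.ker p).subtype p := p.exact_subtype_ker_map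
    obtain ⟨y, hy⟩ := (rTensor_exact (M := LinearMap.ker p) (N := (M →₀ R)) (P := M) C hex hp _).1 h1
    obtain ⟨S, hS, hxS⟩ := TensorProduct.exists_finite_submodule_left_of_setFinite (R := R) {x'}
      (Set.finite_singleton x')
    obtain ⟨N₀, hN₀, hyN⟩ := TensorProduct.exists_finite_submodule_left_of_setFinite (R := R) {y}
      (Set.finite_singleton y)
    let N : Submodule R (M →₀ R) := N₀.map (LinearMap.ker p).subtype
    have hN : N.FG := (Module.Finite.iff_fg.1 hN₀).map _
    obtain ⟨s, hs⟩ := (Module.Finite.iff_fg.1 hS).sup hN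
    let T : Finset M := s.biUnion Finsupp.support
    have hT : S ⊔ N ≤ Finsupp.supported R R (T : Set M) := by
      rw [← hs, Submodule.span_le]
      intro v hv
      rw [SetLike.mem_coe, Finsupp.mem_supported]
      exact Finset.coe_subset.2 (Finset.subset_biUnion_of_mem Finsupp.support hv)
    let FT := (T → R)
    let ι : FT →ₗ[R] (M →₀ R) :=
      Finsupp.lmapDomain R R Subtype.val ∘ₗ (Finsupp.linearEquivFunOnFinite R R T).symm.toLinearMap
    let r : (M →₀ R) →ₗ[R] FT := LinearMap.pi fun t => Finsupp.lapply t.1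
    have hrι : r ∘ₗ ι = LinearMap.id := LinearMap.ext fun w => funext fun t => by
      show Finsupp.mapDomain Subtype.val ((Finsupp.linearEquivFunOnFinite R R T).symm w) t.1 = w t
      rw [Finsupp.mapDomain_apply Subtype.val_injective]
      rfl
    have hιr : ∀ v, v ∈ Finsupp.supported R R (T : Set M) → ι (r v) = v := fun v hv => by
      ext m
      show Finsupp.mapDomain Subtype.val ((Finsupp.linearEquivFunOnFinite R R T).symm (r v)) m = v m
      by_cases hm : m ∈ T
      · rw [show m = (⟨m, hm⟩ : T).1 from rfl, Finsupp.mapDomain_apply Subtype.val_injective]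
        rfl
      · rw [Finsupp.mapDomain_notin_range _ _ (by simpa using hm)]
        exact (Finsupp.notMem_support_iff.1 fun h => hm (hv h)).symm
    have hr : ∀ Z : Type u, ∀ [AddCommGroup Z] [Module R Z], Function.Injective (ι.rTensor Z) := fun Z _ _ =>
      Function.LeftInverse.injective (g := r.rTensor Z) fun z => by
        rw [← LinearMap.comp_apply, ← LinearMap.rTensor_comp, hrι, LinearMap.rTensor_id]
        rfl
    let iS : S →ₗ[R] FT := r ∘ₗ S.subtype
    let iN : N →ₗ[R] FT := r ∘ₗ N.subtype
    have hiS : ι ∘ₗ iS = S.subtype := LinearMap.ext fun v => hιr v.1 (hT (Submodule.mem_sup_left v.2))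
    have hiN : ι ∘ₗ iN = N.subtype := LinearMap.ext fun v => hιr v.1 (hT (Submodule.mem_sup_right v.2))
    obtain ⟨x₀, hx₀⟩ := hxS rfl
    obtain ⟨y₀, hy₀⟩ := hyN rfl
    let x'' := iS.rTensor B x₀
    have hx'' : ι.rTensor B x'' = x' := by
      rw [← hx₀, ← LinearMap.comp_apply, ← LinearMap.rTensor_comp, hiS]
    let N' : Submodule R FT := LinearMap.range iN
    have hN' : N'.FG := by
      have := Module.Finite.iff_fg.2 hN
      exact Module.Finite.iff_fg.1 (Module.Finite.range iN)
    let q := N'.mkQ
    have hM' : Module.FinitePresentation R (FT ⧸ N') := by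
      have : Module.Projective R FT := Module.Projective.of_free
      have : Module.FinitePresentation R FT := Module.finitePresentation_of_projective R FT
      exact Module.finitePresentation_of_surjective q N'.mkQ_surjective (by rwa [Submodule.ker_mkQ])
    let v : N₀ →ₗ[R] N := (LinearMap.ker p).subtype.restrict fun z hz => Submodule.mem_map_of_mem hz
    have h2 : g.lTensor (FT ⧸ N') (q.rTensor B x'') = 0 := by
      have key : g.lTensor FT x'' = iN.rTensor C (v.rTensor C y₀) := by
        apply hr C
        have e1 : ι.rTensor C (g.lTensor FT x'') = g.lTensor (M →₀ R) x' := by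
          rw [← LinearMap.comp_apply, LinearMap.rTensor_comp_lTensor, ← LinearMap.lTensor_comp_rTensor,
            LinearMap.comp_apply, hx'']
        rw [e1, ← hy, ← hy₀]
        simp only [← LinearMap.comp_apply, ← LinearMap.rTensor_comp]
        rw [← LinearMap.comp_assoc, hiN]
        rfl
      rw [← LinearMap.comp_apply, LinearMap.lTensor_comp_rTensor, ← LinearMap.rTensor_comp_lTensor,
        LinearMap.comp_apply, key, ← LinearMap.comp_apply, ← LinearMap.rTensor_comp,
        show q ∘ₗ iN = 0 from LinearMap.ext fun z => (Submodule.Quotient.mk_eq_zero _).2 ⟨z, rfl⟩,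
        LinearMap.rTensor_zero, LinearMap.zero_apply]
    obtain ⟨z, hz⟩ := (h (FT ⧸ N') hM' _).1 h2
    let pbar : (FT ⧸ N') →ₗ[R] M := N'.liftQ (p ∘ₗ ι) (by
      rintro _ ⟨w, rfl⟩
      obtain ⟨w₀, -, hw⟩ := w.2
      rw [LinearMap.mem_ker, LinearMap.comp_apply, ← LinearMap.comp_apply ι, hiN, Submodule.coe_subtype, ← hw]
      exact LinearMap.mem_ker.1 w₀.2)
    refine ⟨pbar.rTensor A z, ?_⟩
    rw [← LinearMap.comp_apply, LinearMap.lTensor_comp_rTensor, ← LinearMap.rTensor_comp_lTensor,
      LinearMap.comp_apply, hz, ← LinearMap.comp_apply, ← LinearMap.rTensor_comp,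
      Submodule.liftQ_mkQ, LinearMap.rTensor_comp, LinearMap.comp_apply, hx'']
  · rintro ⟨y, rfl⟩
    rw [← LinearMap.comp_apply, ← LinearMap.lTensor_comp, hgf, LinearMap.lTensor_zero]
    rfl

/-- Characters of exact sequences extend. -/
theorem exists_dual_eq {A B C : Type u} [AddCommGroup A] [Module R A] [AddCommGroup B] [Module R B]
    [AddCommGroup C] [Module R C] (f : A →ₗ[R] B) (g : B →ₗ[R] C) (hfg : Function.Exact f g)
    (c : CharacterModule B) (hc : ∀ a, c (f a) = 0) : ∃ e : CharacterModule C, ∀ b, e (g b) = c b := by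
  let c' : CharacterModule (B ⧸ LinearMap.ker g) :=
    QuotientAddGroup.lift (LinearMap.ker g).toAddSubgroup c (fun b hb => by
      obtain ⟨a, rfl⟩ := (hfg b).1 (LinearMap.mem_ker.1 hb)
      exact hc a)
  let gb : (B ⧸ LinearMap.ker g) →ₗ[R] C := (LinearMap.ker g).liftQ g le_rfl
  have hinj : Function.Injective gb := LinearMap.ker_eq_bot.1 (Submodule.ker_liftQ_eq_bot _ _ _ le_rfl)
  obtain ⟨e, he⟩ := CharacterModule.dual_surjective_of_injective gb hinj c'
  exact ⟨e, fun b => congr($he (Submodule.Quotient.mk b))⟩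

/-- The dual complex of a pure acyclic complex is contractible. -/
theorem exists_contraction (K : CochainComplex (ModuleCat.{u} R) ℤ)
    (h : ∀ (M : Type u) [AddCommGroup M] [Module R M] (i j k : ℤ), i + 1 = j → j + 1 = k →
      Function.Exact ((K.d i j).hom.lTensor M) ((K.d j k).hom.lTensor M)) :
    ∃ s : ∀ q q' : ℤ, CharacterModule (K.X q) →ₗ[R] CharacterModule (K.X q'),
      ∀ q q' q₀, q + 1 = q' → q₀ + 1 = q → ∀ φ : CharacterModule (K.X q),
        CharacterModule.dual (K.d q q').hom (s q q' φ) + s q₀ q (CharacterModule.dual (K.d q₀ q).hom φ) = φ := by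
  let Z := fun q : ℤ => LinearMap.ker (CharacterModule.dual (K.d (q - 1) q).hom)
  have hσ : ∀ q, ∃ σ' : Z q →ₗ[R] CharacterModule (K.X (q + 1)),
        ∀ z, CharacterModule.dual (K.d q (q + 1)).hom (σ' z) = z.1 := fun q => by
    let c : CharacterModule (Z q ⊗[R] K.X q) := CharacterModule.uncurry (Z q).subtype
    have hc : ∀ a : Z q ⊗[R] K.X (q - 1), c ((K.d (q - 1) q).hom.lTensor (Z q) a) = 0 := fun a => by
      induction a using TensorProduct.induction_on with
      | zero => simp
      | add a b ha hb => rw [map_add, map_add, ha, hb, add_zero]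
      | tmul z a =>
        exact congr($(LinearMap.mem_ker.1 z.2) a)
    obtain ⟨e, he⟩ := exists_dual_eq ((K.d (q - 1) q).hom.lTensor (Z q)) ((K.d q (q + 1)).hom.lTensor (Z q))
      (h (Z q) (q - 1) q (q + 1) (by lia) rfl) c hc
    exact ⟨CharacterModule.curry e, fun z => DFunLike.ext _ _ fun a => he (z ⊗ₜ a)⟩
  choose σ' hσ' using hσ
  have hdd : ∀ (a b c : ℤ) (φ : CharacterModule (K.X c)),
      CharacterModule.dual (K.d a b).hom (CharacterModule.dual (K.d b c).hom φ) = 0 := fun a b c φ =>
    DFunLike.ext _ _ fun x => by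
      show φ (K.d b c (K.d a b x)) = 0
      rw [← ModuleCat.comp_apply, K.d_comp_d]
      exact map_zero φ
  have hσ'' : ∀ q q' q₀ (hq : q + 1 = q') (hq₀ : q₀ + 1 = q),
      ∃ σ : LinearMap.ker (CharacterModule.dual (K.d q₀ q).hom) →ₗ[R] CharacterModule (K.X q'),
        ∀ z, CharacterModule.dual (K.d q q').hom (σ z) = z.1 := fun q q' q₀ hq hq₀ => by
    subst hq
    obtain rfl : q₀ = q - 1 := by lia
    exact ⟨σ' q, hσ' q⟩
  choose σ hσσ using hσ''
  -- `σ ∘ (1 - σ d)`
  let P : ∀ q, CharacterModule (K.X q) →ₗ[R] LinearMap.ker (CharacterModule.dual (K.d (q - 1) q).hom) := fun q =>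
    (LinearMap.id - σ (q - 1) q (q - 1 - 1) (by lia) (by lia) ∘ₗ
      (CharacterModule.dual (K.d (q - 1) q).hom).codRestrict _ (fun φ => LinearMap.mem_ker.2 (hdd _ _ _ φ))).codRestrict _
      fun φ => LinearMap.mem_ker.2 (by
        simp only [LinearMap.sub_apply, LinearMap.id_apply, LinearMap.comp_apply, map_sub, hσσ]
        exact sub_self _)
  refine ⟨fun q q' => if hq : q + 1 = q' then σ q q' (q - 1) hq (by lia) ∘ₗ P q else 0,
    fun q q' q₀ hq hq₀ φ => ?_⟩
  obtain rfl : q₀ = q - 1 := by lia
  simp only [dif_pos hq, dif_pos hq₀, LinearMap.comp_apply, hσσ]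
  have h0 : P (q - 1) (CharacterModule.dual (K.d (q - 1) q).hom φ) =
      ⟨CharacterModule.dual (K.d (q - 1) q).hom φ, LinearMap.mem_ker.2 (hdd _ _ _ φ)⟩ := by
    refine Subtype.ext ?_
    simp only [P, LinearMap.codRestrict_apply, LinearMap.sub_apply, LinearMap.id_apply, LinearMap.comp_apply]
    rw [show (CharacterModule.dual (K.d (q - 1 - 1) (q - 1)).hom).codRestrict _ _
        (CharacterModule.dual (K.d (q - 1) q).hom φ) = 0 from Subtype.ext (hdd _ _ _ φ), map_zero, sub_zero]
  rw [h0]
  simp only [P, LinearMap.codRestrict_apply, LinearMap.sub_apply, LinearMap.id_apply, LinearMap.comp_apply]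
  exact sub_add_cancel _ _

/-- A character of a tensor complex from characters of its summands. -/
theorem exists_char_desc (L K : CochainComplex (ModuleCat.{u} R) ℤ) (m : ℤ)
    (c : ∀ i j : ℤ, i + j = m → CharacterModule (L.X i ⊗[R] K.X j)) :
    ∃ Φ : CharacterModule ((tens L K).X m), ∀ i j h t, Φ (incl L K i j m h t) = c i j h t := by
  let lin : ∀ i j : ℤ, i + j = m → (L.X i ⊗[R] K.X j →ₗ[R] CharacterModule R) := fun i j h =>
    CharacterModule.curry (CharacterModule.dual (TensorProduct.rid R _).toLinearMap (c i j h))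
  let Φ' : (tens L K).X m ⟶ ModuleCat.of R (CharacterModule R) :=
    mapBifunctorDesc (F := MonoidalCategory.curriedTensor (ModuleCat.{u} R)) fun i j h => ModuleCat.ofHom (lin i j h)
  refine ⟨CharacterModule.uncurry Φ'.hom |>.comp ((TensorProduct.rid R _).symm.toLinearMap.toAddMonoidHom),
    fun i j h t => ?_⟩
  have h1 : Φ'.hom (incl L K i j m h t) = lin i j h t :=
    ConcreteCategory.congr_hom (ι_mapBifunctorDesc (K₁ := L) (K₂ := K)
      (F := MonoidalCategory.curriedTensor (ModuleCat.{u} R)) (c := ComplexShape.up ℤ) (j := m) _ i j h) t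
  show Φ'.hom (incl L K i j m h t) (1 : R) = c i j h t
  rw [h1]
  show c i j h ((1 : R) • t) = _
  rw [one_smul]

/-- Tensoring a pure acyclic complex with any complex gives an acyclic complex. -/
theorem acyclic_tens_of_pure (K : CochainComplex (ModuleCat.{u} R) ℤ)
    (h : ∀ (M : Type u) [AddCommGroup M] [Module R M] (i j k : ℤ), i + 1 = j → j + 1 = k →
      Function.Exact ((K.d i j).hom.lTensor M) ((K.d j k).hom.lTensor M))
    (L : CochainComplex (ModuleCat.{u} R) ℤ) (n : ℤ) : IsZero ((tens L K).homology n) := by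
  obtain ⟨s, hs⟩ := exists_contraction K h
  let T := tens L K
  rw [isZero_homology_iff (TensorCx.Vanish.prev_eq (n - 1) n (by lia)) (TensorCx.Vanish.next_eq n (n + 1) rfl)]
  intro x hx
  let W := LinearMap.range (T.d (n - 1) n).hom
  suffices hmem : x ∈ W by exact hmem
  by_contra hne
  obtain ⟨c₀, hc₀⟩ := CharacterModule.exists_character_apply_ne_zero_of_ne_zero
    (a := W.mkQ x) (fun h => hne ((Submodule.Quotient.mk_eq_zero _).1 h))
  let f : CharacterModule (T.X n) := CharacterModule.dual W.mkQ c₀
  have hf : ∀ w, f (T.d (n - 1) n w) = 0 := fun w => by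
    show c₀ (W.mkQ (T.d (n - 1) n w)) = 0
    rw [show W.mkQ (T.d (n - 1) n w) = 0 from (Submodule.Quotient.mk_eq_zero _).2 ⟨w, rfl⟩]
    exact map_zero c₀
  apply hc₀
  show f x = 0
  -- components
  let g : ∀ i j : ℤ, i + j = n → L.X i →ₗ[R] CharacterModule (K.X j) := fun i j hij =>
    CharacterModule.curry (CharacterModule.dual (incl L K i j n hij) f)
  obtain ⟨S, -, hxS⟩ := exists_eq_sum x
  let ε : ℤ → ℤ := fun i => ((i.negOnePow : ℤˣ) : ℤ)
  let c : ∀ i j : ℤ, i + j = n + 1 → CharacterModule (L.X i ⊗[R] K.X j) := fun i j hij =>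
    ε i • CharacterModule.uncurry (s (j - 1) j ∘ₗ g i (j - 1) (by omega))
  have hcast : ∀ i q q' (hq : q + 1 = q') (hi : i + q = n) (hi' : i + q' = n + 1) (l : L.X i) (k : K.X q'),
      c i q' hi' (l ⊗ₜ k) = ε i • s q q' (g i q hi l) k := fun i q q' hq hi hi' l k => by
    obtain rfl : q = q' - 1 := by omega
    rfl
  obtain ⟨Φ, hΦ⟩ := exists_char_desc L K (n + 1) c
  have key : ∀ i j (hij : i + j = n) t, Φ (T.d n (n + 1) (incl L K i j n hij t)) =
      f (incl L K i j n hij t) := by
    intro i j hij t
    induction t using TensorProduct.induction_on with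
    | zero => simp
    | add a b ha hb => simp only [map_add, ha, hb]
    | tmul l k =>
      rw [d_incl L K i j n (i + 1) (j + 1) (n + 1) hij rfl rfl (by omega) (by omega), map_add, map_zsmul,
        hΦ, hΦ, LinearMap.rTensor_tmul, LinearMap.lTensor_tmul,
        hcast (i + 1) (j - 1) j (by omega) (by omega) (by omega) _ _, hcast i j (j + 1) rfl hij (by omega) _ _]
      have hbd : g (i + 1) (j - 1) (by omega) (L.d i (i + 1) l) +
          ε i • CharacterModule.dual (K.d (j - 1) j).hom (g i j hij l) = 0 := by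
        refine DFunLike.ext _ _ fun a => ?_
        have h := hf (incl L K i (j - 1) (n - 1) (by omega) (l ⊗ₜ a))
        rw [d_incl L K i (j - 1) (n - 1) (i + 1) j n _ rfl (by omega) (by omega) hij, map_add, map_zsmul] at h
        exact h
      rw [eq_neg_of_add_eq_zero_left hbd]
      have hε : ε (i + 1) = -ε i := by simp [ε, Int.negOnePow_succ]
      have hεε : ε i * ε i = 1 := by simp [ε, ← Units.val_mul, Int.units_mul_self]
      have hsum := congr($(hs j (j + 1) (j - 1) rfl (by omega) (g i j hij l)) k)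
      have happ : ∀ (φ : CharacterModule (K.X j)) (m : ℤ), (-(m • φ)) k = -(m • φ k) := fun _ _ => rfl
      rw [map_neg, map_zsmul, happ, hε, neg_smul, smul_neg, neg_neg, smul_smul, smul_smul, hεε, one_smul,
        one_smul, add_comm]
      exact hsum
  calc f x = ∑ i ∈ S, f (incl L K i (n - i) n (by omega) (proj L K i (n - i) n x)) := by
        conv_lhs => rw [hxS]
        exact map_sum f _ _
    _ = ∑ i ∈ S, Φ (T.d n (n + 1) (incl L K i (n - i) n (by omega) (proj L K i (n - i) n x))) :=
        Finset.sum_congr rfl fun i _ => (key i (n - i) _ _).symm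
    _ = Φ (T.d n (n + 1) x) := by
        conv_rhs => rw [hxS]
        simp only [map_sum]
    _ = 0 := by rw [hx, map_zero]

/-- Filtered colimits of acyclic complexes are acyclic. -/
theorem acyclic_of_isColimit {J : Type*} [Category J] {A : Type*} [Category A] [Abelian A]
    [HasColimitsOfShape J A] [HasExactColimitsOfShape J A]
    {D : J ⥤ CochainComplex A ℤ} {cc : Cocone D} (hcc : IsColimit cc)
    (hD : ∀ k, (D.obj k).Acyclic) : cc.pt.Acyclic := fun n => by
  rw [exactAt_iff' _ (n - 1) n (n + 1) (by simp) (by simp)]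
  let S : ShortComplex (J ⥤ A) := ShortComplex.mk
    ({ app := fun k => (D.obj k).d (n - 1) n
       naturality := fun k k' f => (D.map f).comm _ _ } :
      D ⋙ eval A (.up ℤ) (n - 1) ⟶ D ⋙ eval A (.up ℤ) n)
    ({ app := fun k => (D.obj k).d n (n + 1)
       naturality := fun k k' f => (D.map f).comm _ _ } :
      D ⋙ eval A (.up ℤ) n ⟶ D ⋙ eval A (.up ℤ) (n + 1))
    (by ext k; exact (D.obj k).d_comp_d _ _ _)
  have hS : S.Exact := by
    rw [ShortComplex.exact_iff_isZero_homology]
    refine Functor.isZero _ fun k => ?_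
    have h := hD k n
    rw [exactAt_iff' _ (n - 1) n (n + 1) (by simp) (by simp)] at h
    have h' : IsZero (S.map ((evaluation J A).obj k)).homology :=
      ShortComplex.exact_iff_isZero_homology _ |>.1 h
    exact h'.of_iso (S.mapHomologyIso ((evaluation J A).obj k)).symm
  haveI : (colim : (J ⥤ A) ⥤ A).Additive :=
    haveI := preservesBinaryBiproducts_of_preservesBinaryCoproducts (colim : (J ⥤ A) ⥤ A)
    Functor.additive_of_preservesBinaryBiproducts _
  have h := hS.map colim
  let e := fun i : ℤ => (colimit.isColimit (D ⋙ eval A (.up ℤ) i)).coconePointUniqueUpToIso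
    (isColimitOfPreserves (eval A (.up ℤ) i) hcc)
  have he : ∀ i k, colimit.ι (D ⋙ eval A (.up ℤ) i) k ≫ (e i).hom = (cc.ι.app k).f i :=
    fun i k => IsColimit.comp_coconePointUniqueUpToIso_hom _ _ k
  have key : ∀ i j (α : D ⋙ eval A (.up ℤ) i ⟶ D ⋙ eval A (.up ℤ) j),
      (∀ k, α.app k = (D.obj k).d i j) → (e i).hom ≫ cc.pt.d i j = colim.map α ≫ (e j).hom := by
    intro i j α hα
    refine colimit.hom_ext fun k => ?_
    refine (Category.assoc _ _ _).symm.trans ((congrArg (· ≫ cc.pt.d i j) (he i k)).trans ?_)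
    refine ((cc.ι.app k).comm i j).trans (Eq.trans ?_ (ι_colimMap_assoc α k _).symm)
    exact (congrArg₂ (· ≫ ·) (hα k) (he j k)).symm
  exact ShortComplex.exact_of_iso (ShortComplex.isoMk (e (n - 1)) (e n) (e (n + 1))
    (key _ _ S.f fun _ => rfl) (key _ _ S.g fun _ => rfl)) h

end Groth.Agent.Lib.DR.KFlatPure
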