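import Groth.Agent.Lib.DR.BaseChange
import Groth.Agent.Lib.DR.Derived

/-!
# Lifting complexes modulo an ideal

Given a quasi-isomorphism `E ⟶ Q / I Q` and termwise lifts of `E`, construct a lift `P` of `E`
with a quasi-isomorphism `P ⟶ Q`.
-/

universe u

open CategoryTheory CategoryTheory.Limits TensorProduct
open Groth.Agent.Lib.DR
open Groth.Agent.Lib.DR.Basic Groth.Agent.Lib.DR.FiniteComplex Groth.Agent.Lib.DR.PseudoCoherent Groth.Agent.Lib.DR.BaseChange

attribute [local instance] HasDerivedCategory.standard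

namespace Groth.Agent.Lib.DR.Lift

variable {R : Type u} [CommRing R]

/-- `π` is a reduction modulo `I`. -/
def Red (I : Ideal R) {M N : Type u} [AddCommGroup M] [Module R M] [AddCommGroup N] [Module R N]
    (π : M →ₗ[R] N) : Prop :=
  Function.Surjective π ∧ LinearMap.ker π = I • ⊤

lemma red_prodMap (I : Ideal R) {M N M' N' : Type u} [AddCommGroup M] [Module R M] [AddCommGroup N]
    [Module R N] [AddCommGroup M'] [Module R M'] [AddCommGroup N'] [Module R N'] {π : M →ₗ[R] N}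
    {π' : M' →ₗ[R] N'} (h : Red I π) (h' : Red I π') : Red I (π.prodMap π') := by
  refine ⟨Function.Surjective.prodMap h.1 h'.1, le_antisymm (fun x hx => ?_) ?_⟩
  · have h1 : x.1 ∈ I • (⊤ : Submodule R M) := h.2 ▸ LinearMap.mem_ker.2 (congrArg Prod.fst hx)
    have h2 : x.2 ∈ I • (⊤ : Submodule R M') := h'.2 ▸ LinearMap.mem_ker.2 (congrArg Prod.snd hx)
    have key : ∀ {L : Type u} [AddCommGroup L] [Module R L] (f : L →ₗ[R] M × M') (y : L),
        y ∈ I • (⊤ : Submodule R L) → f y ∈ I • (⊤ : Submodule R (M × M')) := fun f y hy =>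
      Submodule.smul_top_le_comap_smul_top I f hy
    rw [← Prod.fst_add_snd x]
    exact add_mem (key (LinearMap.inl R M M') _ h1) (key (LinearMap.inr R M M') _ h2)
  · rw [Submodule.smul_le]
    rintro r hr ⟨a, b⟩ -
    have ha : π (r • a) = 0 := LinearMap.mem_ker.1 (h.2 ▸ Submodule.smul_mem_smul hr trivial)
    have hb : π' (r • b) = 0 := LinearMap.mem_ker.1 (h'.2 ▸ Submodule.smul_mem_smul hr trivial)
    exact Prod.ext ha hb

/-- Descending recursion on the integers. -/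
noncomputable def descend {P : ℤ → Sort*} (b : ℤ) (base : ∀ n, b < n → P n)
    (next : ∀ n, P (n + 1) → P n) (n : ℤ) : P n :=
  if h : b < n then base n h else next n (descend b base next (n + 1))
termination_by (b + 1 - n).toNat
decreasing_by lia

lemma descend_of_not {P : ℤ → Sort*} (b : ℤ) (base : ∀ n, b < n → P n)
    (next : ∀ n, P (n + 1) → P n) (n : ℤ) (h : ¬b < n) :
    descend b base next n = next n (descend b base next (n + 1)) := by
  rw [descend, dif_neg h]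

section engine

variable {I : Ideal R} {Q Q' E' : DRing.Cx R} (π : Q ⟶ Q') (g : E' ⟶ Q')
  (X : ℤ → ModuleCat.{u} R) (ρ : ∀ i, X i →ₗ[R] E'.X i)

/-- The differential and comparison map in degree `n`. -/
abbrev Pair (Q : DRing.Cx R) (X : ℤ → ModuleCat.{u} R) (n : ℤ) : Type u :=
  (X n →ₗ[R] X (n + 1)) × (X n →ₗ[R] Q.X n)

/-- The differential of the mapping cone. -/
noncomputable def δ (i n : ℤ) (p : Pair Q X n) : (X n × Q.X i) →ₗ[R] X (n + 1) × Q.X n :=
  (-(p.1 ∘ₗ LinearMap.fst R _ _)).prod (p.2 ∘ₗ LinearMap.fst R _ _ + (Q.d i n).hom ∘ₗ LinearMap.snd R _ _)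

lemma δ_apply (i n : ℤ) (p : Pair Q X n) (c : X n × Q.X i) :
    δ X i n p c = (-p.1 c.1, p.2 c.1 + Q.d i n c.2) := rfl

/-- The cone is exact to the right of degree `n`. -/
def Inv (I : Ideal R) (Pc : ObjectProperty (ModuleCat.{u} R)) (i n : ℤ) (p : Pair Q X n) : Prop :=
  Pc (ModuleCat.of R (LinearMap.ker (δ X i n p))) ∧
  (∀ (e : E'.X n) (q : Q'.X i), E'.d n (n + 1) e = 0 → g.f n e + Q'.d i n q = 0 →
    ∃ c ∈ LinearMap.ker (δ X i n p), ρ n c.1 = e ∧ π.f i c.2 = q) ∧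
  ∀ c : LinearMap.ker (δ X i n p), ρ n c.1.1 = 0 → π.f i c.1.2 = 0 →
    c ∈ I • (⊤ : Submodule R (LinearMap.ker (δ X i n p)))

/-- The data in degree `n` is compatible with the reduction. -/
def Compat (n : ℤ) (p : Pair Q X n) : Prop :=
  (∀ x, ρ (n + 1) (p.1 x) = E'.d n (n + 1) (ρ n x)) ∧ ∀ x, π.f n (p.2 x) = g.f n (ρ n x)

/-- The data in degree `n` is good. -/
def Ok (I : Ideal R) (Pc : ObjectProperty (ModuleCat.{u} R)) (n : ℤ) (p : Pair Q X n) : Prop :=
  Compat π g X ρ n p ∧ ∀ i, i + 1 = n → Inv π g X ρ I Pc i n p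

/-- The data in degree `n` continues that in degree `n + 1` exactly. -/
def Rel (n : ℤ) (p' : Pair Q X (n + 1)) (p : Pair Q X n) : Prop :=
  (∀ i, i + 1 = n → ∀ c, δ X n (n + 1) p' (δ X i n p c) = 0) ∧
  ∀ i, i + 1 = n → ∀ z, δ X n (n + 1) p' z = 0 → ∃ c, δ X i n p c = z

variable (Pc : ObjectProperty (ModuleCat.{u} R))
  (hiso : ∀ {M N : ModuleCat.{u} R}, (M ≅ N) → Pc M → Pc N)
  (h1 : ∀ M : ModuleCat.{u} R, Pc M → Module.Projective R M)
  (h2 : ∀ M N : ModuleCat.{u} R, Pc M → Pc (ModuleCat.of R (M × N)) → Pc N)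
  (h3 : ∀ (M N : ModuleCat.{u} R) (f : M ⟶ N), Pc M → Pc N →
    LinearMap.range f.hom ⊔ I • (⊤ : Submodule R N) = ⊤ → Function.Surjective f.hom)
  (hX : ∀ i, Pc (X i)) (hXQ : ∀ i j : ℤ, i + 1 = j → Pc (ModuleCat.of R (X j × Q.X i)))
  (hπ : ∀ i, Red I (π.f i).hom) (hρ : ∀ i, Red I (ρ i))
  (hex : ∀ i j : ℤ, i + 1 = j → ∀ (e : E'.X (j + 1)) (q : Q'.X j), E'.d (j + 1) (j + 1 + 1) e = 0 →
    g.f (j + 1) e + Q'.d j (j + 1) q = 0 →
    ∃ (e' : E'.X j) (q' : Q'.X i), -E'.d j (j + 1) e' = e ∧ g.f j e' + Q'.d i j q' = q)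

include hiso h1 h2 h3 hX hXQ hπ hρ hex in
theorem step (n : ℤ) (p' : Pair Q X (n + 1)) (hp' : Ok π g X ρ I Pc (n + 1) p') :
    ∃ p : Pair Q X n, Ok π g X ρ I Pc n p ∧ Rel X n p' p := by
  obtain ⟨hc', hinv'⟩ := hp'
  obtain ⟨hZ, hlift, hker⟩ := hinv' n rfl
  let Z := LinearMap.ker (δ X n (n + 1) p')
  let ρC : X (n + 1) × Q.X n →ₗ[R] E'.X (n + 1) × Q'.X n := (ρ (n + 1)).prodMap (π.f n).hom
  -- lift `(-d, g)` into the cycles
  let t : X n →ₗ[R] E'.X (n + 1) × Q'.X n :=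
    (-((E'.d n (n + 1)).hom ∘ₗ ρ n)).prod ((g.f n).hom ∘ₗ ρ n)
  let F : Z →ₗ[R] E'.X (n + 1) × Q'.X n := ρC ∘ₗ Z.subtype
  have ht : ∀ x, t x ∈ LinearMap.range F := fun x => by
    obtain ⟨c, hc, h1, h2⟩ := hlift (-E'.d n (n + 1) (ρ n x)) (g.f n (ρ n x))
      (by rw [map_neg, ← ModuleCat.comp_apply, E'.d_comp_d]; simp)
      (by
        rw [map_neg, ← ModuleCat.comp_apply, ← ModuleCat.comp_apply, ← g.comm]
        exact neg_add_cancel _)
    exact ⟨⟨c, hc⟩, Prod.ext h1 h2⟩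
  have := h1 _ (hX n)
  obtain ⟨s, hs⟩ := Module.projective_lifting_property F.rangeRestrict
    (t.codRestrict (LinearMap.range F) ht) F.surjective_rangeRestrict
  have hs' : ∀ x, ρC (s x).1 = t x := fun x => congrArg Subtype.val (LinearMap.congr_fun hs x)
  let p : Pair Q X n := (-(LinearMap.fst R _ _ ∘ₗ Z.subtype ∘ₗ s), LinearMap.snd R _ _ ∘ₗ Z.subtype ∘ₗ s)
  have hcompat : Compat π g X ρ n p := ⟨fun x => by
      have h := congrArg Prod.fst (hs' x)
      change ρ (n + 1) (s x).1.1 = -E'.d n (n + 1) (ρ n x) at h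
      show ρ (n + 1) (-(s x).1.1) = _
      rw [map_neg, h, neg_neg],
    fun x => congrArg Prod.snd (hs' x)⟩
  have hδ : ∀ i (c : X n × Q.X i), δ X i n p c = (s c.1).1 + (0, Q.d i n c.2) := fun i c => by
    refine Prod.ext ?_ rfl
    show - -(s c.1).1.1 = (s c.1).1.1 + 0
    rw [neg_neg, add_zero]
  have hd0 : ∀ i, i + 1 = n → ∀ c, δ X n (n + 1) p' (δ X i n p c) = 0 := fun i hi c => by
    rw [hδ, map_add, LinearMap.mem_ker.1 (s c.1).2, zero_add, δ_apply]
    simp only [map_zero, neg_zero, zero_add]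
    rw [← ModuleCat.comp_apply, Q.d_comp_d]
    rfl
  let δ' := fun i (hi : i + 1 = n) => (δ X i n p).codRestrict Z fun c => LinearMap.mem_ker.2 (hd0 i hi c)
  have hred : ∀ i (c : X n × Q.X i), ρC (δ X i n p c) =
      (-E'.d n (n + 1) (ρ n c.1), g.f n (ρ n c.1) + Q'.d i n (π.f i c.2)) := fun i c => by
    rw [hδ, map_add, hs']
    refine Prod.ext ?_ ?_
    · show -E'.d n (n + 1) (ρ n c.1) + ρ (n + 1) 0 = _
      rw [map_zero, add_zero]
    · show g.f n (ρ n c.1) + π.f n (Q.d i n c.2) = _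
      rw [← ModuleCat.comp_apply (Q.d i n), ← π.comm, ModuleCat.comp_apply]
  have hsurj : ∀ i (hi : i + 1 = n), Function.Surjective (δ' i hi) := fun i hi => by
    refine h3 _ _ (ModuleCat.ofHom (δ' i hi)) (hXQ i n hi) hZ (top_le_iff.1 fun z _ => ?_)
    have hz : δ X n (n + 1) p' z.1 = 0 := z.2
    rw [δ_apply, Prod.mk_eq_zero] at hz
    obtain ⟨e', q', he, hq⟩ := hex i n hi (ρ (n + 1) z.1.1) (π.f n z.1.2)
      (by rw [← hc'.1, neg_eq_zero.1 hz.1, map_zero])
      (by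
        rw [← hc'.2, ← ModuleCat.comp_apply, π.comm, ModuleCat.comp_apply, ← map_add, hz.2, map_zero])
    obtain ⟨c, hc⟩ := (red_prodMap I (hρ n) (hπ i)).1 (e', q')
    have hce : ρ n c.1 = e' := congrArg Prod.fst hc
    have hcq : π.f i c.2 = q' := congrArg Prod.snd hc
    rw [← add_sub_cancel (δ' i hi c) z]
    refine Submodule.add_mem_sup ⟨c, rfl⟩ ?_
    have h0 : ρC (z - δ' i hi c).1 = 0 := by
      show ρC (z.1 - δ X i n p c) = 0
      rw [map_sub, hred, hce, hcq, he, hq]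
      exact sub_self _
    exact hker _ (congrArg Prod.fst h0) (congrArg Prod.snd h0)
  refine ⟨p, ⟨hcompat, fun i hi => ?_⟩, hd0, fun i hi z hz => ?_⟩
  swap
  · obtain ⟨c, hc⟩ := hsurj i hi ⟨z, hz⟩
    exact ⟨c, congrArg Subtype.val hc⟩
  have hkereq : LinearMap.ker (δ' i hi) = LinearMap.ker (δ X i n p) := LinearMap.ker_codRestrict _ _ _
  have := h1 _ hZ
  obtain ⟨σ, hσ⟩ := Module.projective_lifting_property (δ' i hi) LinearMap.id (hsurj i hi)
  have hσ' : ∀ z, δ' i hi (σ z) = z := fun z => LinearMap.congr_fun hσ z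
  let r : X n × Q.X i →ₗ[R] LinearMap.ker (δ X i n p) :=
    (LinearMap.id - σ ∘ₗ δ' i hi).codRestrict _ fun c => by
      rw [← hkereq]
      simp [hσ']
  have hr : ∀ z : LinearMap.ker (δ X i n p), r z.1 = z := fun z => by
    refine Subtype.ext ?_
    have h : δ' i hi z.1 = 0 := Subtype.ext (LinearMap.mem_ker.1 z.2)
    simp [r, h]
  refine ⟨h2 (ModuleCat.of R Z) _ hZ (hiso (LinearEquiv.toModuleIso
    (LinearEquiv.ofLinearMap ((δ' i hi).prod r) (σ.coprod (LinearMap.ker (δ X i n p)).subtype) ?_ ?_))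
    (hXQ i n hi)), fun e q he hq => ?_, fun c hc1 hc2 => ?_⟩
  · refine LinearMap.ext fun ⟨z, k⟩ => ?_
    have hk : δ' i hi k.1 = 0 := Subtype.ext (LinearMap.mem_ker.1 k.2)
    have hrs : r (σ z) = 0 := Subtype.ext (by simp [r, hσ'])
    refine Prod.ext ?_ ?_
    · show δ' i hi (σ z + k.1) = z
      rw [map_add, hσ', hk, add_zero]
    · show r (σ z + k.1) = k
      rw [map_add, hrs, hr, zero_add]
  · refine LinearMap.ext fun c => ?_
    show σ (δ' i hi c) + (c - σ (δ' i hi c)) = c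
    abel
  · obtain ⟨c, hc⟩ := (red_prodMap I (hρ n) (hπ i)).1 (e, q)
    have hce : ρ n c.1 = e := congrArg Prod.fst hc
    have hcq : π.f i c.2 = q := congrArg Prod.snd hc
    have h0 : ρC (δ X i n p c) = 0 := by
      rw [hred, hce, hcq, he, hq, neg_zero]
      rfl
    have hI : δ' i hi c ∈ I • (⊤ : Submodule R Z) :=
      hker _ (congrArg Prod.fst h0) (congrArg Prod.snd h0)
    rw [← LinearMap.range_eq_top.2 (hsurj i hi), LinearMap.range_eq_map, ← Submodule.map_smul''] at hI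
    obtain ⟨c₀, hc₀, hc₀'⟩ := hI
    rw [← (red_prodMap I (hρ n) (hπ i)).2] at hc₀
    refine ⟨c - c₀, ?_, ?_, ?_⟩
    · rw [← hkereq, LinearMap.mem_ker, map_sub, hc₀', sub_self]
    · rw [Prod.fst_sub, map_sub, hce, show ρ n c₀.1 = 0 from congrArg Prod.fst hc₀, sub_zero]
    · rw [Prod.snd_sub, map_sub, hcq, show π.f i c₀.2 = 0 from congrArg Prod.snd hc₀, sub_zero]
  · have hI : c.1 ∈ I • (⊤ : Submodule R (X n × Q.X i)) := by
      rw [← (red_prodMap I (hρ n) (hπ i)).2]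
      exact Prod.ext hc1 hc2
    have := Submodule.smul_top_le_comap_smul_top I r hI
    rwa [Submodule.mem_comap, hr] at this

include hiso h1 h2 h3 hX hXQ hπ hρ hex in
theorem exists_complex (b : ℤ) (hX0 : ∀ n, b < n → Subsingleton (X n))
    (hQ0 : ∀ n, b < n → Subsingleton (Q.X n)) :
    ∃ (d : ∀ n, X n →ₗ[R] X (n + 1)) (f : ∀ n, X n →ₗ[R] Q.X n),
      (∀ n x, d (n + 1) (d n x) = 0) ∧ (∀ n x, Q.d n (n + 1) (f n x) = f (n + 1) (d n x)) ∧
      (∀ n x, ρ (n + 1) (d n x) = E'.d n (n + 1) (ρ n x)) ∧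
      ∀ i j, i + 1 = j → ∀ (x : X (j + 1)) (q : Q.X j), d (j + 1) x = 0 → f (j + 1) x + Q.d j (j + 1) q = 0 →
        ∃ (x' : X j) (q' : Q.X i), -d j x' = x ∧ f j x' + Q.d i j q' = q := by
  have base : ∀ n, b < n → Ok π g X ρ I Pc n (0 : Pair Q X n) := fun n hn => by
    have := hX0 n hn
    have := hX0 (n + 1) (by lia)
    have := hQ0 n hn
    refine ⟨⟨fun x => ?_, fun x => ?_⟩, fun i hi => ?_⟩
    · rw [Subsingleton.elim x 0]; simp
    · rw [Subsingleton.elim x 0]; simp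
    · have htop : LinearMap.ker (δ X i n (0 : Pair Q X n)) = ⊤ :=
        eq_top_iff.2 fun c _ => LinearMap.mem_ker.2 (Subsingleton.elim _ _)
      refine ⟨?_, fun e q _ _ => ?_, fun c h h' => ?_⟩
      · rw [htop]
        exact hiso (LinearEquiv.toModuleIso (Submodule.topEquiv (R := R) (M := X n × Q.X i)).symm) (hXQ i n hi)
      · obtain ⟨c, hc⟩ := (red_prodMap I (hρ n) (hπ i)).1 (e, q)
        exact ⟨c, htop ▸ trivial, congrArg Prod.fst hc, congrArg Prod.snd hc⟩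
      · have hI : c.1 ∈ I • (⊤ : Submodule R (X n × Q.X i)) := by
          rw [← (red_prodMap I (hρ n) (hπ i)).2]
          exact Prod.ext h h'
        have := Submodule.smul_top_le_comap_smul_top I
          (LinearMap.id.codRestrict (LinearMap.ker (δ X i n (0 : Pair Q X n))) fun x => htop ▸ trivial) hI
        exact this
  let stp := step π g X ρ Pc hiso h1 h2 h3 hX hXQ hπ hρ hex
  have key : ∃ p : ∀ n, Pair Q X n, ∀ n, Ok π g X ρ I Pc n (p n) ∧ Rel X n (p (n + 1)) (p n) := by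
    let P := fun n => {p : Pair Q X n // Ok π g X ρ I Pc n p}
    let nxt : ∀ n, P (n + 1) → P n := fun n p' =>
      ⟨(stp n p'.1 p'.2).choose, (stp n p'.1 p'.2).choose_spec.1⟩
    let q : ∀ n, P n := descend b (fun n h => ⟨0, base n h⟩) nxt
    refine ⟨fun n => (q n).1, fun n => ⟨(q n).2, ?_⟩⟩
    show Rel X n (q (n + 1)).1 (q n).1
    by_cases h : b < n
    · have := hX0 n h
      have := hX0 (n + 1) (by lia)
      have := hX0 (n + 1 + 1) (by lia)
      have := hQ0 n h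
      have := hQ0 (n + 1) (by lia)
      exact ⟨fun i _ c => Subsingleton.elim _ _, fun i _ z _ => ⟨0, Subsingleton.elim _ _⟩⟩
    · rw [show q n = nxt n (q (n + 1)) from descend_of_not b _ _ n h]
      exact (stp n (q (n + 1)).1 (q (n + 1)).2).choose_spec.2
  obtain ⟨p, hp⟩ := key
  refine ⟨fun n => (p n).1, fun n => (p n).2, fun n x => ?_, fun n x => ?_, fun n => (hp n).1.1.1,
    fun i j hij x q hx hq => ?_⟩
  · have h := congrArg Prod.fst ((hp n).2.1 (n - 1) (by lia) (x, 0))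
    simpa [δ_apply] using h
  · have h := congrArg Prod.snd ((hp n).2.1 (n - 1) (by lia) (x, 0))
    simp [δ_apply] at h
    rw [← sub_eq_zero, ← h]
    abel
  · obtain ⟨c, hc⟩ := (hp j).2.2 i hij (x, q) (by rw [δ_apply, hx, hq, neg_zero]; rfl)
    exact ⟨c.1, c.2, congrArg Prod.fst hc, congrArg Prod.snd hc⟩

end engine

open CochainComplex in
/-- The mapping cone is acyclic iff the elementwise condition holds. -/
theorem quasiIso_iff_hex {K L : DRing.Cx R} (φ : K ⟶ L) :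
    QuasiIso φ ↔ ∀ i j : ℤ, i + 1 = j → ∀ (e : K.X (j + 1)) (q : L.X j), K.d (j + 1) (j + 1 + 1) e = 0 →
      φ.f (j + 1) e + L.d j (j + 1) q = 0 →
      ∃ (e' : K.X j) (q' : L.X i), -K.d j (j + 1) e' = e ∧ φ.f j e' + L.d i j q' = q := by
  rw [quasiIso_iff_acyclic]
  let C := mappingCone φ
  let a := fun i j (h : i + 1 = j) => (mappingCone.fst φ).1.v i j h
  let b := fun i => (mappingCone.snd φ).v i i (add_zero i)
  let mk := fun i j (h : i + 1 = j) (e : K.X j) (q : L.X i) =>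
    (mappingCone.inl φ).v j i (by lia) e + (mappingCone.inr φ).f i q
  have had : ∀ i j k (hij : i + 1 = j) (hjk : j + 1 = k) (z : C.X i),
      a j k hjk (C.d i j z) = -K.d j k (a i j hij z) := fun i j k hij hjk z => by
    rw [← ModuleCat.comp_apply, mappingCone.d_fst_v φ i j k hij hjk]
    rfl
  have hbd : ∀ i j (hij : i + 1 = j) (z : C.X i),
      b j (C.d i j z) = φ.f j (a i j hij z) + L.d i j (b i z) := fun i j hij z => by
    rw [← ModuleCat.comp_apply, mappingCone.d_snd_v φ i j hij]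
    rfl
  have hext : ∀ i j (h : i + 1 = j) (z w : C.X i), a i j h z = a i j h w → b i z = b i w → z = w := by
    intro i j h z w h1 h2
    have key : ∀ z : C.X i, z = (mappingCone.inl φ).v j i (by lia) (a i j h z) + (mappingCone.inr φ).f i (b i z) :=
      fun z => (congrArg (fun f : C.X i ⟶ C.X i => f z) (mappingCone.id_X φ i j h)).symm
    rw [key z, key w, h1, h2]
  have hamk : ∀ i j (h : i + 1 = j) e q, a i j h (mk i j h e q) = e := fun i j h e q => by
    simp only [a, mk, map_add, ← ModuleCat.comp_apply, mappingCone.inl_v_fst_v, mappingCone.inr_f_fst_v]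
    simp
  have hbmk : ∀ i j (h : i + 1 = j) e q, b i (mk i j h e q) = q := fun i j h e q => by
    simp only [b, mk, map_add, ← ModuleCat.comp_apply, mappingCone.inl_v_snd_v, mappingCone.inr_f_snd_v]
    simp
  have hx : ∀ j, C.ExactAt j ↔ Function.Exact (C.d (j - 1) j) (C.d j (j + 1)) := fun j => by
    rw [HomologicalComplex.exactAt_iff' _ (j - 1) j (j + 1) (by simp) (by simp),
      ShortComplex.ShortExact.moduleCat_exact_iff_function_exact]
    rfl
  constructor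
  · intro h i j hij e q he hq
    obtain rfl : i = j - 1 := by lia
    obtain ⟨w, hw⟩ := ((hx j).1 (h j) (mk j (j + 1) rfl e q)).1 (hext (j + 1) (j + 1 + 1) rfl _ _
      (by rw [had j (j + 1) (j + 1 + 1) rfl rfl, hamk j (j + 1) rfl, he, neg_zero, map_zero])
      (by rw [hbd j (j + 1) rfl, hamk j (j + 1) rfl, hbmk j (j + 1) rfl, hq, map_zero]))
    refine ⟨a (j - 1) j hij w, b (j - 1) w, ?_, ?_⟩
    · rw [← had (j - 1) j (j + 1) hij rfl, hw, hamk j (j + 1) rfl]
    · rw [← hbd (j - 1) j hij, hw, hbmk j (j + 1) rfl]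
  · refine fun h j => (hx j).2 fun z => ⟨fun hz => ?_, ?_⟩
    · obtain ⟨e', q', he, hq⟩ := h (j - 1) j (by lia) (a j (j + 1) rfl z) (b j z)
        (by rw [← neg_eq_zero, ← had j (j + 1) (j + 1 + 1) rfl rfl, hz, map_zero])
        (by rw [← hbd j (j + 1) rfl, hz, map_zero])
      exact ⟨mk (j - 1) j (by lia) e' q', hext j (j + 1) rfl _ _
        (by rw [had (j - 1) j (j + 1) (by lia) rfl, hamk (j - 1) j (by lia), he])
        (by rw [hbd (j - 1) j (by lia), hamk (j - 1) j (by lia), hbmk (j - 1) j (by lia), hq])⟩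
    · rintro ⟨w, rfl⟩
      rw [← ModuleCat.comp_apply, C.d_comp_d]
      rfl

/-- Reduction of a module. -/
theorem red_one_tmul (I : Ideal R) (M : ModuleCat.{u} R) :
    Red I ((ModuleCat.extendRestrictScalarsAdj.{u} (Ideal.Quotient.mk I)).unit.app M).hom := by
  constructor
  · have h : Function.Surjective (TensorProduct.mk R (R ⧸ I) M 1) :=
      TensorProduct.mk_surjective R M (R ⧸ I) Ideal.Quotient.mk_surjective
    exact h
  · exact Submodule.ext fun x => SetLike.ext_iff.1 (LinearMap.ker_tensorProductMk (Q := M) (I := I)) x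

/-- **Lifting theorem.** -/
theorem exists_lift (I : Ideal R) (Pc : ObjectProperty (ModuleCat.{u} R))
    (hiso : ∀ {M N : ModuleCat.{u} R}, (M ≅ N) → Pc M → Pc N)
    (h1 : ∀ M : ModuleCat.{u} R, Pc M → Module.Projective R M)
    (h2 : ∀ M N : ModuleCat.{u} R, Pc M → Pc (ModuleCat.of R (M × N)) → Pc N)
    (h3 : ∀ (M N : ModuleCat.{u} R) (f : M ⟶ N), Pc M → Pc N →
      LinearMap.range f.hom ⊔ I • (⊤ : Submodule R N) = ⊤ → Function.Surjective f.hom)
    (Q : DRing.Cx R) (E : DRing.Cx (R ⧸ I)) (g : E ⟶ (ext (Ideal.Quotient.mk I)).obj Q) (hg : QuasiIso g)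
    (b : ℤ) (hQ : ∀ i, b < i → IsZero (Q.X i)) (hE : ∀ i, b < i → IsZero (E.X i))
    (X : ℤ → ModuleCat.{u} R) (hX : ∀ i, Pc (X i))
    (hXQ : ∀ i j : ℤ, i + 1 = j → Pc (ModuleCat.of R (X j × Q.X i)))
    (e : ∀ i, TensorProduct R (R ⧸ I) (X i) ≃ₗ[R ⧸ I] E.X i) :
    ∃ (P : DRing.Cx R) (f : P ⟶ Q), QuasiIso f ∧ (∀ i, b < i → IsZero (P.X i)) ∧
      (∀ i, Nonempty (P.X i ≅ X i)) ∧ Nonempty ((ext (Ideal.Quotient.mk I)).obj P ≅ E) := by
  let mk := Ideal.Quotient.mk I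
  let adj := ModuleCat.extendRestrictScalarsAdj.{u} mk
  let res := (ModuleCat.restrictScalars.{u} mk).mapHomologicalComplex (ComplexShape.up ℤ)
  let E' := res.obj E
  let π : Q ⟶ res.obj ((ext mk).obj Q) := (Derived.cxAdj adj).unit.app Q
  let ei : ∀ i, (ModuleCat.extendScalars.{u, u, u} mk).obj (X i) ≅ E.X i := fun i => (e i).toModuleIso
  let ρ : ∀ i, X i →ₗ[R] E'.X i := fun i => (adj.homEquiv (X i) (E.X i) (ei i).hom).hom
  have hρ : ∀ i, Red I (ρ i) := fun i => by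
    have hval : ∀ x, ρ i x = e i ((1 : R ⧸ I) ⊗ₜ[R] x) := fun _ => rfl
    have hk : ∀ x : X i, (1 : R ⧸ I) ⊗ₜ[R] x = 0 ↔ x ∈ I • (⊤ : Submodule R (X i)) :=
      fun x => SetLike.ext_iff.1 (LinearMap.ker_tensorProductMk (Q := X i) (I := I)) x
    refine ⟨fun y => ?_, Submodule.ext fun x => ?_⟩
    · obtain ⟨z, hz⟩ := (e i).surjective y
      obtain ⟨x, hx⟩ := TensorProduct.mk_surjective R (X i) (R ⧸ I) Ideal.Quotient.mk_surjective z
      exact ⟨x, ((hval x).trans (congrArg (e i) hx)).trans hz⟩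
    · rw [LinearMap.mem_ker, hval, ← hk]
      exact (e i).map_eq_zero_iff
  have hπ : ∀ i, Red I (π.f i).hom := fun i => red_one_tmul I (Q.X i)
  have hres : QuasiIso (res.map g) := inferInstance
  have hX0 : ∀ n, b < n → Subsingleton (X n) := fun n hn => by
    have := ModuleCat.subsingleton_of_isZero (hE n hn)
    have h := h3 (X n) (X n) 0 (hX n) (hX n) (top_le_iff.1 fun x _ => Submodule.mem_sup_right (by
      rw [← (hρ n).2]
      exact LinearMap.mem_ker.2 (Subsingleton.elim (α := E.X n) _ _)))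
    exact ⟨fun x y => by
      obtain ⟨_, rfl⟩ := h x
      obtain ⟨_, rfl⟩ := h y
      rfl⟩
  obtain ⟨d, f, hdd, hfd, hρd, hexP⟩ := exists_complex π (res.map g) X ρ Pc hiso h1 h2 h3 hX hXQ hπ hρ
    ((quasiIso_iff_hex _).1 hres) b hX0 fun n hn => ModuleCat.subsingleton_of_isZero (hQ n hn)
  let P : DRing.Cx R := CochainComplex.of X (fun n => ModuleCat.ofHom (d n))
    fun n => ModuleCat.hom_ext (LinearMap.ext (hdd n))
  let F : P ⟶ Q :=
    { f := fun n => ModuleCat.ofHom (f n)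
      comm' := by
        rintro i _ rfl
        simp only [P, CochainComplex.of_d]
        exact ModuleCat.hom_ext (LinearMap.ext (hfd i)) }
  refine ⟨P, F, (quasiIso_iff_hex F).2 fun i j hij x q hx hq => ?_, fun i hi => ?_, fun i => ⟨Iso.refl _⟩,
    ⟨HomologicalComplex.Hom.isoOfComponents ei ?_⟩⟩
  · simp only [P, CochainComplex.of_d] at hx ⊢
    exact hexP i j hij x q hx hq
  · have := hX0 i hi
    exact ModuleCat.isZero_of_subsingleton _
  · rintro i _ rfl
    apply (adj.homEquiv _ _).injective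
    show adj.homEquiv _ _ ((ei i).hom ≫ E.d i (i + 1)) =
      adj.homEquiv _ _ ((ModuleCat.extendScalars.{u, u, u} mk).map (P.d i (i + 1)) ≫ (ei (i + 1)).hom)
    rw [Adjunction.homEquiv_naturality_left, Adjunction.homEquiv_naturality_right]
    simp only [P, CochainComplex.of_d]
    exact ModuleCat.hom_ext (LinearMap.ext fun x => (hρd i x).symm)

/-- Lifting theorem, derived category form. -/
theorem exists_lift_D (I : Ideal R) [DRing.HasLBaseChange (Ideal.Quotient.mk I)]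
    (Pc : ObjectProperty (ModuleCat.{u} R))
    (hiso : ∀ {M N : ModuleCat.{u} R}, (M ≅ N) → Pc M → Pc N)
    (h1 : ∀ M : ModuleCat.{u} R, Pc M → Module.Projective R M)
    (h2 : ∀ M N : ModuleCat.{u} R, Pc M → (Pc (ModuleCat.of R (M × N)) ↔ Pc N))
    (h3 : ∀ (M N : ModuleCat.{u} R) (f : M ⟶ N), Pc M → Pc N →
      LinearMap.range f.hom ⊔ I • (⊤ : Submodule R N) = ⊤ → Function.Surjective f.hom)
    (K : Dual.D R) (Q : DRing.Cx R) (c : ℤ) (hQ : ∀ i, c < i → IsZero (Q.X i)) (hQp : ∀ i, Pc (Q.X i))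
    (eQ : DerivedCategory.Q.obj Q ≅ K)
    (E : DRing.Cx (R ⧸ I)) (b : ℤ) (hE : ∀ i, b < i → IsZero (E.X i))
    (X : ℤ → ModuleCat.{u} R) (hX : ∀ i, Pc (X i))
    (e : ∀ i, TensorProduct R (R ⧸ I) (X i) ≃ₗ[R ⧸ I] E.X i)
    (eE : DerivedCategory.Q.obj E ≅ (DRing.LBaseChange (Ideal.Quotient.mk I)).obj K) :
    ∃ (P : DRing.Cx R) (b' : ℤ), (∀ i, b' < i → IsZero (P.X i)) ∧ (∀ i, Nonempty (P.X i ≅ X i)) ∧
      Nonempty (DerivedCategory.Q.obj P ≅ K) ∧ Nonempty ((ext (Ideal.Quotient.mk I)).obj P ≅ E) := by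
  let mk := Ideal.Quotient.mk I
  have hEp : ∀ i, proj (R ⧸ I) (E.X i) := fun i =>
    good_proj.iso (e i).toModuleIso (ext_proj mk (X i) (h1 _ (hX i)))
  have := isKProjective_of_bounds projective_of_proj hE hEp
  let iso := eE ≪≫ (DRing.LBaseChange mk).mapIso eQ.symm ≪≫
    bcFlat mk Q c hQ fun i => flat_of_proj _ (h1 _ (hQp i))
  obtain ⟨g, hg⟩ := exists_Q_map_eq iso.hom
  have : IsIso (DerivedCategory.Q.map g) := hg ▸ inferInstance
  obtain ⟨P, f, hf, hP, hPX, hPE⟩ := exists_lift I Pc hiso h1 (fun M N hM h => (h2 M N hM).1 h) h3 Q E g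
    ((DerivedCategory.isIso_Q_map_iff_quasiIso (φ := g)).1 this) (max b c)
    (fun i hi => hQ i (by lia)) (fun i hi => hE i (by lia)) X hX
    (fun i j _ => (h2 _ _ (hX j)).2 (hQp i)) e
  have : IsIso (DerivedCategory.Q.map f) := (DerivedCategory.isIso_Q_map_iff_quasiIso (φ := f)).2 hf
  exact ⟨P, max b c, hP, hPX, ⟨asIso (DerivedCategory.Q.map f) ≪≫ eQ⟩, hPE⟩

end Groth.Agent.Lib.DR.Lift
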