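import Groth.Agent.Lib.DR.LTensorCx
import Groth.Agent.Lib.DR.KFlatPure
import Groth.Agent.Lib.DR.Lift

/-!
# K-flat complexes and tor amplitude bounded below
-/

universe u

open CategoryTheory CategoryTheory.Limits TensorProduct HomologicalComplex

attribute [local instance] HasDerivedCategory.standard

namespace Groth.Agent.Lib.DR.KFlatAmp

variable {R : Type u} [CommRing R]

open Groth.Agent.Lib.DR.TorAmp

theorem πTruncGE_f_self (E : DRing.Cx R) (a : ℤ) :
    (E.πTruncGE a).f a = E.pOpcycles a ≫ (E.truncGEXIsoOpcycles a).inv := by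
  have hi : (ComplexShape.embeddingUpIntGE a).f 0 = a := by simp
  dsimp [CochainComplex.πTruncGE, HomologicalComplex.πTruncGE, CochainComplex.truncGEXIsoOpcycles,
    HomologicalComplex.truncGEXIsoOpcycles]
  rw [(ComplexShape.embeddingUpIntGE a).liftExtend_f _ _ hi,
    E.restrictionToTruncGE'_f_eq_iso_hom_pOpcycles_iso_inv (ComplexShape.embeddingUpIntGE a) hi
      (by rw [ComplexShape.boundaryGE_embeddingUpIntGE_iff])]
  simp
  rfl

theorem isIso_πTruncGE_f (E : DRing.Cx R) (a i : ℤ) (h : a < i) : IsIso ((E.πTruncGE a).f i) := by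
  have hi : (ComplexShape.embeddingUpIntGE a).f (i - a).natAbs = i := by
    show a + ((i - a).natAbs : ℤ) = i
    lia
  exact ((ComplexShape.embeddingUpIntGE a).isIso_liftExtend_f_iff _
    (E.restrictionToTruncGE'_hasLift _) hi).2
    (E.isIso_restrictionToTruncGE' _ _ (by
      rw [ComplexShape.boundaryGE_embeddingUpIntGE_iff]
      omega))

/-- A termwise criterion for a map to a complex vanishing below `a` to be a quasi-isomorphism. -/
theorem quasiIso_of_cokernel {K L : DRing.Cx R} (f : K ⟶ L) (a : ℤ)
    (hz : ∀ i, i < a → IsZero (L.X i)) (hex : ∀ i, i < a → K.ExactAt i)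
    (hs : Function.Surjective (f.f a)) (hker : ∀ x, f.f a x = 0 → ∃ y, K.d (a - 1) a y = x)
    (hb : ∀ i, a < i → Function.Bijective (f.f i)) : QuasiIso f := by
  rw [Lift.quasiIso_iff_hex]
  intro i j hij e q he hq
  rcases lt_or_ge j a with hj | hj
  · have := ModuleCat.subsingleton_of_isZero (hz j hj)
    obtain ⟨y, hy⟩ : ∃ y, K.d j (j + 1) y = e := by
      rcases eq_or_lt_of_le (show j + 1 ≤ a by lia) with h | h
      · obtain rfl : j = a - 1 := by lia
        obtain ⟨n, hn⟩ : ∃ n, n = a - 1 + 1 := ⟨_, rfl⟩
        have key : ∀ n, n = a → ∀ x, f.f n x = 0 → ∃ y, K.d (a - 1) n y = x := by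
          rintro n rfl x hx
          exact hker x hx
        refine key _ h e ?_
        rw [Subsingleton.elim q 0, map_zero, add_zero] at hq
        exact hq
      · have hexj := hex (j + 1) h
        rw [exactAt_iff' _ j (j + 1) (j + 1 + 1) (by simp) (by simp),
          ShortComplex.ShortExact.moduleCat_exact_iff_function_exact] at hexj
        exact (hexj e).1 he
    exact ⟨-y, 0, by rw [map_neg, neg_neg, hy], Subsingleton.elim _ _⟩
  · obtain ⟨e', he'⟩ : ∃ e', f.f j e' = q := by
      rcases eq_or_lt_of_le hj with rfl | h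
      · exact hs q
      · exact (hb j h).2 q
    refine ⟨e', 0, ?_, by rw [map_zero, add_zero, he']⟩
    have h0 : f.f (j + 1) (K.d j (j + 1) e' + e) = 0 := by
      rw [map_add, ← ModuleCat.comp_apply, ← f.comm, ModuleCat.comp_apply, he']
      exact (add_comm _ _).trans hq
    have := (hb (j + 1) (by lia)).1 (h0.trans (map_zero _).symm)
    rw [add_eq_zero_iff_neg_eq] at this
    exact this

/-- A complex of flat modules whose tensor products with all modules are exact below `a` maps by a
universal quasi-isomorphism to its truncation. -/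
theorem quasiIso_tens_πTruncGE (E : DRing.Cx R) (a : ℤ)
    (h : ∀ (M : ModuleCat.{u} R) (i : ℤ), i < a → ((tens M).obj E).ExactAt i) (M : ModuleCat.{u} R) :
    QuasiIso ((tens M).map (E.πTruncGE a)) := by
  let f := E.πTruncGE a
  let F := MonoidalCategory.tensorRight M
  have hfs : Function.Surjective (f.f a) := (ModuleCat.epi_iff_surjective _).1
    (inferInstanceAs (Epi ((HomologicalComplex.πTruncGE E (ComplexShape.embeddingUpIntGE a)).f a)))
  have hex : Function.Exact (E.d (a - 1) a).hom (f.f a).hom := by
    have hS : (ShortComplex.mk (E.d (a - 1) a) (f.f a) (by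
        rw [πTruncGE_f_self, d_pOpcycles_assoc, zero_comp])).Exact := by
      refine ShortComplex.exact_of_g_is_cokernel _
        (IsColimit.ofIsoColimit (E.opcyclesIsCokernel (a - 1) a (by simp))
          (Cofork.ext (E.truncGEXIsoOpcycles a).symm ?_))
      simp only [Cofork.π_ofπ, Iso.symm_hom]
      exact (πTruncGE_f_self E a).symm
    rwa [ShortComplex.ShortExact.moduleCat_exact_iff_function_exact] at hS
  refine quasiIso_of_cokernel _ a (fun i hi => F.map_isZero ?_) (h M)
    (LinearMap.rTensor_surjective M hfs) (fun x hx => (rTensor_exact M hex hfs x).1 hx) fun i hi => ?_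
  · exact (E.truncGE a).isZero_of_isStrictlyGE a i hi
  · have := isIso_πTruncGE_f E a i hi
    exact ConcreteCategory.bijective_of_isIso (F.map (f.f i))

/-- A pure acyclic complex is K-flat. -/
theorem isKFlat_of_tens_acyclic (C : DRing.Cx R) (h : ∀ M : ModuleCat.{u} R, ((tens M).obj C).Acyclic) :
    DRing.IsKFlat R C := fun L _ n => KFlatPure.acyclic_tens_of_pure C (fun N _ _ i j k hij hjk => by
  have hj := h (ModuleCat.of R N) j
  rw [exactAt_iff' _ i j k (by simp; lia) (by simp; lia),
    ShortComplex.ShortExact.moduleCat_exact_iff_function_exact] at hj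
  have hj' : Function.Exact ((C.d i j).hom.rTensor N) ((C.d j k).hom.rTensor N) := hj
  exact Function.Exact.of_ladder_linearEquiv_of_exact (e₁ := TensorProduct.comm R _ _)
    (e₂ := TensorProduct.comm R _ _) (e₃ := TensorProduct.comm R _ _)
    (TensorProduct.ext' fun _ _ => rfl) (TensorProduct.ext' fun _ _ => rfl) hj') L n

/-- Universal quasi-isomorphisms preserve K-flatness. -/
theorem isKFlat_of_tens_quasiIso {P E : DRing.Cx R} (f : P ⟶ E)
    (h : ∀ M : ModuleCat.{u} R, QuasiIso ((tens M).map f)) (hP : DRing.IsKFlat R P) :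
    DRing.IsKFlat R E := by
  have hC : DRing.IsKFlat R (CochainComplex.mappingCone f) := isKFlat_of_tens_acyclic _ fun M i =>
    ((BaseChange.quasiIso_iff_acyclic _).1 (h M) i).of_iso
      (CochainComplex.mappingCone.mapHomologicalComplexIso f _).symm
  exact (KFlat.two_of_three_split (CochainComplex.mappingCone.triangleRotateShortComplexSplitting f)).2.2
    hC (KFlatTri.isKFlat_shift hP 1)

end Groth.Agent.Lib.DR.KFlatAmp
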