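import Groth.Agent.Lib.DR.KFlat
import Mathlib.Algebra.Homology.BifunctorShift
import Mathlib.Algebra.Homology.HomotopyCategory.DegreewiseSplit
import Mathlib.Algebra.Homology.HomotopyCategory.ShiftSequence
import Mathlib.Algebra.Homology.HomotopyCategory.Triangulated
import Mathlib.Algebra.Homology.DerivedCategory.Basic

/-!
# K-flat complexes form a triangulated subcategory; factorization
-/

universe u

open CategoryTheory CategoryTheory.Limits CategoryTheory.Pretriangulated HomologicalComplex
open Groth.Agent.Lib.DerivedOX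

attribute [local instance] HasDerivedCategory.standard

namespace Groth.Agent.Lib.DR.KFlatTri

variable {R : Type u} [CommRing R]

lemma exactAt_shift {K : CochainComplex (ModuleCat.{u} R) ℤ} (hK : K.Acyclic) (n : ℤ) : (K⟦n⟧).Acyclic := fun i => by
  rw [exactAt_iff_isZero_homology]
  exact (hK (i + n)).isZero_homology.of_iso
    (((HomologicalComplex.homologyFunctor (ModuleCat.{u} R) (ComplexShape.up ℤ) 0).shiftIso n i (i + n) (by lia)).app K)

theorem isKFlat_shift {K : CochainComplex (ModuleCat.{u} R) ℤ} (h : DRing.IsKFlat R K) (n : ℤ) :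
    DRing.IsKFlat R (K⟦n⟧) := by
  rw [KFlat.isKFlat_iff] at h ⊢
  intro L hL
  exact StalkCx.acyclic_of_iso
    (CochainComplex.mapBifunctorShift₂Iso L K (MonoidalCategory.curriedTensor (ModuleCat.{u} R)) n).symm
    (exactAt_shift (h L hL) n)

theorem isKFlat_shift_iff {K : CochainComplex (ModuleCat.{u} R) ℤ} (n : ℤ) :
    DRing.IsKFlat R (K⟦n⟧) ↔ DRing.IsKFlat R K :=
  ⟨fun h => KFlat.isKFlat_of_iso ((shiftShiftNeg K n)) (isKFlat_shift h (-n)), fun h => isKFlat_shift h n⟩

theorem isKFlat_mappingCone {F G : CochainComplex (ModuleCat.{u} R) ℤ} (φ : F ⟶ G)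
    (hF : DRing.IsKFlat R F) (hG : DRing.IsKFlat R G) : DRing.IsKFlat R (CochainComplex.mappingCone φ) :=
  (KFlat.two_of_three_split (CochainComplex.mappingCone.triangleRotateShortComplexSplitting φ)).2.1 hG
    (isKFlat_shift hF 1)

theorem isKFlat_biprod {F G : CochainComplex (ModuleCat.{u} R) ℤ}
    (hF : DRing.IsKFlat R F) (hG : DRing.IsKFlat R G) : DRing.IsKFlat R (F ⊞ G) := by
  let S : ShortComplex (CochainComplex (ModuleCat.{u} R) ℤ) :=
    ShortComplex.mk (biprod.inl : F ⟶ F ⊞ G) biprod.snd biprod.inl_snd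
  exact (KFlat.two_of_three_split (S := S) fun n =>
    (ShortComplex.Splitting.mk biprod.fst biprod.inr (by simp [S]) (by simp [S])
      (by simp [S, biprod.total]) : S.Splitting).map (eval _ _ n)).2.1 hF hG

/-- K-flatness is invariant under isomorphisms in the homotopy category. -/
theorem isKFlat_of_iso_homotopy {X Y : HomotopyCategory (ModuleCat.{u} R) (.up ℤ)} (e : X ≅ Y)
    (h : DRing.IsKFlat R X.as) : DRing.IsKFlat R Y.as :=
  KFlat.isKFlat_of_homotopyEquiv (HomotopyCategory.homotopyEquivOfIso e) h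

/-- K-flatness on the homotopy category. -/
def KF (X : HomotopyCategory (ModuleCat.{u} R) (.up ℤ)) : Prop := DRing.IsKFlat R X.as

theorem isKFlat_obj₃ (T : Triangle (HomotopyCategory (ModuleCat.{u} R) (.up ℤ)))
    (hT : T ∈ distTriang _) (h₁ : KF T.obj₁) (h₂ : KF T.obj₂) :
    KF T.obj₃ := by
  obtain ⟨f, hf⟩ := (HomotopyCategory.quotient (ModuleCat.{u} R) (.up ℤ)).map_surjective
    (X := T.obj₁.as) (Y := T.obj₂.as) T.mor₁
  obtain ⟨e, -⟩ := exists_iso_of_arrow_iso _ _
    (HomotopyCategory.mappingCone_triangleh_distinguished f) hT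
    (Arrow.isoMk (Iso.refl _) (Iso.refl _) ((Category.id_comp _).trans (hf.symm.trans (Category.comp_id _).symm)))
  exact isKFlat_of_iso_homotopy (Triangle.π₃.mapIso e) (isKFlat_mappingCone f h₁ h₂)

theorem isKFlat_shift_homotopy {X : HomotopyCategory (ModuleCat.{u} R) (.up ℤ)}
    (h : KF X) (n : ℤ) : KF (X⟦n⟧) := by
  obtain ⟨K, rfl⟩ := HomotopyCategory.quotient_obj_surjective X
  exact isKFlat_of_iso_homotopy (((HomotopyCategory.quotient _ _).commShiftIso n).app K) (isKFlat_shift h n)

attribute [local irreducible] KF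

theorem isKFlat_obj₂ (T : Triangle (HomotopyCategory (ModuleCat.{u} R) (.up ℤ)))
    (hT : T ∈ distTriang _) (h₁ : KF T.obj₁) (h₃ : KF T.obj₃) :
    KF T.obj₂ :=
  isKFlat_obj₃ _ (inv_rot_of_distTriang _ hT) (isKFlat_shift_homotopy h₃ _) h₁

theorem isKFlat_obj₁ (T : Triangle (HomotopyCategory (ModuleCat.{u} R) (.up ℤ)))
    (hT : T ∈ distTriang _) (h₂ : KF T.obj₂) (h₃ : KF T.obj₃) :
    KF T.obj₁ :=
  isKFlat_obj₂ _ (inv_rot_of_distTriang _ hT) (isKFlat_shift_homotopy h₃ _) h₂

/-- Every map out of a K-flat complex factors through a K-flat complex quasi-isomorphic to the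
target. -/
theorem exists_factor {K L : CochainComplex (ModuleCat.{u} R) ℤ} (a : K ⟶ L) (hK : DRing.IsKFlat R K) :
    ∃ (N : CochainComplex (ModuleCat.{u} R) ℤ) (b : K ⟶ N) (c : N ⟶ L), DRing.IsKFlat R N ∧ QuasiIso c ∧
      b ≫ c = a ∧ ((∀ n, Module.Flat R (K.X n)) → ∀ n, Module.Flat R (N.X n)) := by
  let P := (KProjRes.res R).obj K
  let Q := (KProjRes.res R).obj L
  let eK : P ⟶ K := (KProjRes.aug R).app K
  let eL : Q ⟶ L := (KProjRes.aug R).app L
  let a' : P ⟶ Q := (KProjRes.res R).map a
  have hnat : a' ≫ eL = eK ≫ a := (KProjRes.aug R).naturality a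
  let φ : P ⟶ K ⊞ Q := biprod.lift eK (-a')
  let N := CochainComplex.mappingCone φ
  let ι := CochainComplex.mappingCone.inr φ
  let c : N ⟶ L := CochainComplex.mappingCone.desc φ 0 (biprod.desc a eL) (by
    rw [CochainComplex.HomComplex.δ_zero, biprod.lift_desc, Preadditive.neg_comp, hnat, add_neg_cancel,
      CochainComplex.HomComplex.Cochain.ofHom_zero])
  have hιc : ι ≫ c = biprod.desc a eL := by
    ext n : 1
    simp [ι, c]
  refine ⟨N, biprod.inl ≫ ι, c, isKFlat_mappingCone φ (KFlat.isKFlat_res K)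
    (isKFlat_biprod hK (KFlat.isKFlat_res L)), ?_, by rw [Category.assoc, hιc, biprod.inl_desc],
    fun hf n => ?_⟩
  · have hQK : IsIso (DerivedCategory.Q.map eK) :=
      (DerivedCategory.isIso_Q_map_iff_quasiIso (φ := eK)).2 (KProjRes.quasiIso_aug R K)
    have hQL : IsIso (DerivedCategory.Q.map eL) :=
      (DerivedCategory.isIso_Q_map_iff_quasiIso (φ := eL)).2 (KProjRes.quasiIso_aug R L)
    let q := DerivedCategory.Q.map φ
    let π := DerivedCategory.Q.map ι
    have hT := DerivedCategory.mappingCone_triangle_distinguished φ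
    have hqπ : q ≫ π = 0 := comp_distTriang_mor_zero₁₂ _ hT
    have hmono : Mono q := by
      have : Mono (q ≫ DerivedCategory.Q.map biprod.fst) := by
        rw [← Functor.map_comp, biprod.lift_fst]
        infer_instance
      exact mono_of_mono q (DerivedCategory.Q.map biprod.fst)
    have hepi : Epi π := Triangle.epi₂ _ hT ((Triangle.mor₃_eq_zero_iff_mono₁ _ hT).2 hmono)
    let ρ : DerivedCategory.Q.obj (K ⊞ Q) ⟶ DerivedCategory.Q.obj Q :=
      DerivedCategory.Q.map biprod.fst ≫ inv (DerivedCategory.Q.map eK) ≫ DerivedCategory.Q.map a' +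
        DerivedCategory.Q.map biprod.snd
    have hqρ : q ≫ ρ = 0 := by
      rw [Preadditive.comp_add, ← Category.assoc, ← Functor.map_comp, ← Functor.map_comp, biprod.lift_fst,
        biprod.lift_snd, IsIso.hom_inv_id_assoc, Functor.map_neg, add_neg_cancel]
    obtain ⟨t, ht⟩ : ∃ t, ρ = π ≫ t := Triangle.yoneda_exact₂ _ hT ρ hqρ
    let j := DerivedCategory.Q.map (biprod.inr : Q ⟶ K ⊞ Q) ≫ π
    have hπ : π = ρ ≫ j := by
      have h1 : DerivedCategory.Q.map eK ≫ DerivedCategory.Q.map (biprod.inl : K ⟶ K ⊞ Q) ≫ π =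
          DerivedCategory.Q.map a' ≫ j := by
        rw [← sub_eq_zero, ← hqπ]
        simp only [j, q, ← Category.assoc, ← Functor.map_comp, ← Preadditive.sub_comp, ← Functor.map_sub]
        congr 2
        simp [φ, biprod.lift_eq]
        abel
      have htot : DerivedCategory.Q.map (biprod.fst : K ⊞ Q ⟶ K) ≫ DerivedCategory.Q.map biprod.inl +
          DerivedCategory.Q.map biprod.snd ≫ DerivedCategory.Q.map biprod.inr = 𝟙 _ := by
        rw [← Functor.map_comp, ← Functor.map_comp, ← Functor.map_add, biprod.total, CategoryTheory.Functor.map_id]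
      rw [Preadditive.add_comp, Category.assoc, Category.assoc, ← h1, IsIso.inv_hom_id_assoc]
      conv_lhs => rw [← Category.id_comp π, ← htot, Preadditive.add_comp, Category.assoc, Category.assoc]
    have hj : j ≫ t = 𝟙 _ := by
      rw [Category.assoc, ← ht, Preadditive.comp_add, ← Category.assoc, ← Functor.map_comp,
        biprod.inr_fst, Functor.map_zero, zero_comp, zero_add, ← Functor.map_comp, biprod.inr_snd]
      exact CategoryTheory.Functor.map_id _ _
    have htj : t ≫ j = 𝟙 _ := by
      rw [← cancel_epi π, ← Category.assoc, ← ht, ← hπ, Category.comp_id]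
    have : IsIso j := ⟨t, hj, htj⟩
    have hc : j ≫ DerivedCategory.Q.map c = DerivedCategory.Q.map eL := by
      rw [Category.assoc, ← Functor.map_comp, hιc, ← Functor.map_comp, biprod.inr_desc]
    have : IsIso (j ≫ DerivedCategory.Q.map c) := hc ▸ hQL
    exact (DerivedCategory.isIso_Q_map_iff_quasiIso (φ := c)).1 (IsIso.of_isIso_comp_left j _)
  · exact BaseChange.good_flat.iso (HomologicalComplex.homotopyCofiber.XIsoBiprod φ n (n + 1) rfl).symm
      (BaseChange.good_flat.biprod (KFlat.flat_of_cof (LeftRes.cof_resolution K) (n + 1))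
        (BaseChange.good_flat.iso (HomologicalComplex.biprodXIso K Q n).symm
          (BaseChange.good_flat.biprod (hf n) (KFlat.flat_of_cof (LeftRes.cof_resolution L) n))))

end Groth.Agent.Lib.DR.KFlatTri
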