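import Groth.Agent.Lib.DR.ProIso
import Groth.Agent.Lib.DR.DTenBasic
import Groth.Agent.Lib.DR.TensorBdd
import Groth.Agent.Lib.Koszul.Cone
import Groth.Prelude.Def_ega3
import Mathlib.RingTheory.Finiteness.Ideal

/-!
# Koszul systems of powers: `K ⊗^L A/I^n` and `K/I^n K` are pro-isomorphic
-/

universe u

open CategoryTheory CategoryTheory.Limits MonoidalCategory Opposite CochainComplex
open Groth.Agent.Lib.TensorCx.Basic Groth.Agent.Lib.Koszul.Cone
open scoped TensorProduct

attribute [local instance] HasDerivedCategory.standard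

namespace Groth.Agent.Lib.DR.KoszulPro

variable {A : Type u} [CommRing A]

/-- A module in degree `0`. -/
noncomputable abbrev sgl : ModuleCat.{u} A ⥤ DRing.Cx A :=
  HomologicalComplex.single (ModuleCat.{u} A) (ComplexShape.up ℤ) 0

/-- `A/J`. -/
noncomputable abbrev quot (J : Ideal A) : ModuleCat.{u} A :=
  ModuleCat.of A (A ⧸ (J • (⊤ : Submodule A A)))

/-- The projection `A/J ⟶ A/J'`. -/
noncomputable def qmap {J J' : Ideal A} (h : J ≤ J') : quot J ⟶ quot J' :=
  ModuleCat.ofHom (Submodule.factor (Submodule.smul_mono_left h))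

theorem qmap_comp {J J' J'' : Ideal A} (h : J ≤ J') (h' : J' ≤ J'') :
    qmap h ≫ qmap h' = qmap (h.trans h') := by
  refine ModuleCat.hom_ext (LinearMap.ext fun x => ?_)
  obtain ⟨x, rfl⟩ := Submodule.mkQ_surjective _ x
  rfl

theorem qmap_self (J : Ideal A) : qmap (le_refl J) = 𝟙 (quot J) := by
  refine ModuleCat.hom_ext (LinearMap.ext fun x => ?_)
  obtain ⟨x, rfl⟩ := Submodule.mkQ_surjective _ x
  rfl

/-- The system `A/J_n` of complexes. -/
noncomputable def sysQ (J : ℕ → Ideal A) (hJ : Antitone J) : ARSys.PS (DRing.Cx A) where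
  obj n := sgl.obj (quot (J n.unop))
  map f := sgl.map (qmap (hJ (leOfHom f.unop)))
  map_id n := by
    rw [qmap_self, CategoryTheory.Functor.map_id]
  map_comp f g := by
    rw [← Functor.map_comp, qmap_comp]

theorem q_square {J J' J'' L : Ideal A} (a : J ≤ J') (b : J' ≤ L) (c : J ≤ J'') (d : J'' ≤ L) :
    sgl.map (qmap a) ≫ sgl.map (qmap b) = sgl.map (qmap c) ≫ sgl.map (qmap d) := by
  rw [← Functor.map_comp, ← Functor.map_comp, qmap_comp, qmap_comp]

/-- The ideals `(f^{n+1} : f ∈ l)`. -/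
def idl : List A → ℕ → Ideal A
  | [], _ => ⊥
  | f :: l, n => idl l n ⊔ Ideal.span {f ^ (n + 1)}

theorem antitone_idl : ∀ l : List A, Antitone (idl l)
  | [] => fun _ _ _ => le_rfl
  | f :: l => fun n m h => sup_le_sup (antitone_idl l h) (Ideal.span_singleton_le_span_singleton.2
      (pow_dvd_pow f (Nat.succ_le_succ h)))

/-- `M ⊗ -` on a morphism. -/
noncomputable abbrev lT (M : Type u) [AddCommGroup M] [Module A M] {X Y : Type u} [AddCommGroup X] [Module A X]
    [AddCommGroup Y] [Module A Y] (g : X →ₗ[A] Y) : M ⊗[A] X →ₗ[A] M ⊗[A] Y := g.lTensor M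

theorem lT_eq (M : Type u) [AddCommGroup M] [Module A M] {X Y Z W : Type u} [AddCommGroup X] [Module A X]
    [AddCommGroup Y] [Module A Y] [AddCommGroup Z] [Module A Z] [AddCommGroup W] [Module A W]
    {g : Y →ₗ[A] Z} {g' : W →ₗ[A] Z} {h : X →ₗ[A] Y} {h' : X →ₗ[A] W}
    (e : ∀ x, g (h x) = g' (h' x)) (x : M ⊗[A] X) : lT M g (lT M h x) = lT M g' (lT M h' x) := by
  rw [← LinearMap.lTensor_comp_apply, ← LinearMap.lTensor_comp_apply]
  exact LinearMap.congr_fun (congrArg (fun φ => φ.lTensor M) (LinearMap.ext e : g ∘ₗ h = g' ∘ₗ h')) x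

theorem eq_zero_of_isZero (M : Type u) [AddCommGroup M] [Module A M] {X : ModuleCat.{u} A} (h : IsZero X)
    (x : M ⊗[A] X) : x = 0 := by
  have := ModuleCat.subsingleton_of_isZero h
  induction x using TensorProduct.induction_on with
  | zero => rfl
  | tmul m z => rw [Subsingleton.elim z 0, TensorProduct.tmul_zero]
  | add a b ha hb => rw [ha, hb, add_zero]

/-- A Koszul system over `A/J_n`. -/
structure IsKos (J : ℕ → Ideal A) (hJ : Antitone J) (K : ARSys.PS (DRing.Cx A)) (π : K ⟶ sysQ J hJ) : Prop where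
  pos : ∀ n q, 0 < q → IsZero ((K.obj (op n)).X q)
  below : ∃ a : ℤ, ∀ n q, q < a → IsZero ((K.obj (op n)).X q)
  fproj : ∀ n q, Module.Finite A ((K.obj (op n)).X q) ∧ Module.Projective A ((K.obj (op n)).X q)
  surj : ∀ (M : Type u) [AddCommGroup M] [Module A M] (n : ℕ),
    Function.Surjective (lT M ((π.app (op n)).f 0).hom)
  ker : ∀ (M : Type u) [AddCommGroup M] [Module A M] (n : ℕ) (x : M ⊗[A] (K.obj (op n)).X 0),
    lT M ((π.app (op n)).f 0).hom x = 0 → ∃ y, lT M ((K.obj (op n)).d (-1) 0).hom y = x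
  pro : ∀ (M : Type u) [AddCommGroup M] [Module A M] [Module.Finite A M] (q : ℤ), q < 0 → ∀ n : ℕ,
    ∃ (m : ℕ) (h : n ≤ m), ∀ x : M ⊗[A] (K.obj (op m)).X q, lT M ((K.obj (op m)).d q (q + 1)).hom x = 0 →
      ∃ w, lT M ((K.obj (op n)).d (q - 1) q).hom w = lT M ((ARSys.tr K h).f q).hom x

theorem isKos_nil : IsKos (idl ([] : List A)) (antitone_idl []) (sysQ _ (antitone_idl [])) (𝟙 _) := by
  have hz : ∀ n (q : ℤ), q ≠ 0 → IsZero (((sysQ _ (antitone_idl ([] : List A))).obj (op n)).X q) := fun n q hq =>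
    HomologicalComplex.isZero_single_obj_X _ _ _ _ hq
  refine ⟨fun n q hq => hz n q (by lia), ⟨0, fun n q hq => hz n q (by lia)⟩, fun n q => ?_,
    fun M _ _ n x => ⟨x, ?_⟩, fun M _ _ n x hx => ⟨0, ?_⟩, fun M _ _ _ q hq n => ⟨n, le_rfl, fun x _ =>
      ⟨0, (map_zero _).trans (eq_zero_of_isZero M (hz n q (by lia)) _).symm⟩⟩⟩
  · by_cases hq : q = 0
    · subst hq
      let e : A ≃ₗ[A] ((sysQ _ (antitone_idl ([] : List A))).obj (op n)).X 0 :=
        (Submodule.quotEquivOfEqBot _ (by simp [idl])).symm.trans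
          (HomologicalComplex.singleObjXSelf (ComplexShape.up ℤ) 0 (quot (idl [] n))).symm.toLinearEquiv
      exact ⟨Module.Finite.equiv e, Module.Projective.of_equiv e⟩
    · have := ModuleCat.subsingleton_of_isZero (hz n q hq)
      exact ⟨inferInstance, inferInstance⟩
  · exact LinearMap.congr_fun (LinearMap.lTensor_id M _) x
  · rw [map_zero]
    exact hx.symm.trans (LinearMap.congr_fun (LinearMap.lTensor_id M _) x)

section Step

variable (f : A) {J : ℕ → Ideal A} {hJ : Antitone J} (K : ARSys.PS (DRing.Cx A))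

/-- Multiplication by `f^(n+1)`. -/
noncomputable abbrev mulF (n : ℕᵒᵖ) : K.obj n ⟶ K.obj n := f ^ (n.unop + 1) • 𝟙 (K.obj n)

theorem mulF_comm {m n : ℕᵒᵖ} (u : m ⟶ n) :
    mulF f K m ≫ K.map u = (f ^ (m.unop - n.unop) • K.map u) ≫ mulF f K n := by
  have := leOfHom u.unop
  rw [Linear.smul_comp, Linear.smul_comp, Linear.comp_smul, Category.id_comp, Category.comp_id, smul_smul,
    ← pow_add]
  congr 2
  omega

theorem map_congr' {K₁ K₂ L₁ L₂ : DRing.Cx A} (φ₁ : K₁ ⟶ L₁) (φ₂ : K₂ ⟶ L₂) {a a' : K₁ ⟶ K₂}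
    {b b' : L₁ ⟶ L₂} (ha : a = a') (hb : b = b') (c : φ₁ ≫ b = a ≫ φ₂) (c' : φ₁ ≫ b' = a' ≫ φ₂) :
    mappingCone.map φ₁ φ₂ a b c = mappingCone.map φ₁ φ₂ a' b' c' := by
  subst ha hb
  rfl

/-- The cones of `f^(n+1)` on the system `K`. -/
noncomputable def next : ARSys.PS (DRing.Cx A) where
  obj n := mappingCone (mulF f K n)
  map {m n} u := mappingCone.map (mulF f K m) (mulF f K n) (f ^ (m.unop - n.unop) • K.map u) (K.map u)
    (mulF_comm f K u)
  map_id n := (map_congr' _ _ (by rw [Nat.sub_self, pow_zero, one_smul, CategoryTheory.Functor.map_id])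
    (K.map_id n) _ _).trans (mappingCone.map_id _)
  map_comp {m n k} u v := by
    rw [← mappingCone.map_comp]
    refine map_congr' _ _ ?_ (K.map_comp u v) _ _
    have := leOfHom u.unop
    have := leOfHom v.unop
    rw [Linear.smul_comp, Linear.comp_smul, smul_smul, ← pow_add, K.map_comp]
    congr 2
    omega

variable {K}

theorem idl_le (n : ℕ) (J : ℕ → Ideal A) : J n ≤ J n ⊔ Ideal.span {f ^ (n + 1)} := le_sup_left

theorem smul_qmap (n : ℕ) : f ^ (n + 1) • qmap (idl_le f n J) = 0 := by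
  refine ModuleCat.hom_ext (LinearMap.ext fun x => ?_)
  obtain ⟨x, rfl⟩ := Submodule.mkQ_surjective _ x
  show f ^ (n + 1) • (Submodule.Quotient.mk x : A ⧸ ((J n ⊔ Ideal.span {f ^ (n + 1)}) • (⊤ : Submodule A A))) = 0
  rw [← Submodule.Quotient.mk_smul, Submodule.Quotient.mk_eq_zero]
  exact Submodule.smul_mem_smul (Ideal.mem_sup_right (Ideal.mem_span_singleton_self _)) trivial

theorem antitone_next (hJ : Antitone J) : Antitone (fun n => J n ⊔ Ideal.span {f ^ (n + 1)}) :=
  fun n m h => sup_le_sup (hJ h) (Ideal.span_singleton_le_span_singleton.2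
    (pow_dvd_pow f (Nat.succ_le_succ h)))

/-- The augmentation followed by the projection to the next quotient. -/
noncomputable def toQ (π : K ⟶ sysQ J hJ) (n : ℕᵒᵖ) :
    K.obj n ⟶ sgl.obj (quot (J n.unop ⊔ Ideal.span {f ^ (n.unop + 1)})) :=
  (π.app n : K.obj n ⟶ sgl.obj (quot (J n.unop))) ≫ sgl.map (qmap (idl_le f n.unop J))

theorem next_desc (π : K ⟶ sysQ J hJ) (n : ℕᵒᵖ) : mulF f K n ≫ toQ f π n = 0 := by
  refine HomologicalComplex.to_single_hom_ext (ModuleCat.hom_ext (LinearMap.ext fun z => ?_))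
  show (toQ f π n).f 0 (f ^ (n.unop + 1) • z) = 0
  rw [map_smul]
  have h1 : ∀ w : (sgl.obj (quot (J n.unop))).X 0,
      f ^ (n.unop + 1) • (sgl.map (qmap (idl_le f n.unop J))).f 0 w = 0 := fun w => by
    rw [HomologicalComplex.single_map_f_self, ← map_smul]
    simp only [ModuleCat.hom_comp, LinearMap.comp_apply, map_smul]
    rw [← map_smul]
    have h2 : ∀ v : quot (J n.unop), f ^ (n.unop + 1) • (qmap (idl_le f n.unop J)).hom v = 0 := fun v =>
      LinearMap.congr_fun (congrArg ModuleCat.Hom.hom (smul_qmap (J := J) f n.unop)) v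
    exact (congrArg _ (h2 _)).trans (map_zero _)
  exact h1 _

/-- The augmentation of the new system, in one degree. -/
noncomputable def nextApp (π : K ⟶ sysQ J hJ) (n : ℕᵒᵖ) :
    mappingCone (mulF f K n) ⟶ sgl.obj (quot (J n.unop ⊔ Ideal.span {f ^ (n.unop + 1)})) :=
  mappingCone.desc (mulF f K n) 0 (toQ f π n) (by
    rw [next_desc, HomComplex.δ_zero, HomComplex.Cochain.ofHom_zero])

theorem nextApp_cmk (π : K ⟶ sysQ J hJ) (n : ℕᵒᵖ) (i : ℤ) (a : (K.obj n).X (i + 1)) (b : (K.obj n).X i) :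
    (nextApp f π n).f i (cmk (mulF f K n) i (i + 1) rfl (a, b)) = (toQ f π n).f i b := by
  simp only [nextApp, cmk, LinearMap.coprod_apply, map_add]
  rw [← ConcreteCategory.comp_apply, ← ConcreteCategory.comp_apply, mappingCone.inl_v_desc_f,
    mappingCone.inr_f_desc_f]
  simp

theorem toQ_naturality (π : K ⟶ sysQ J hJ) {m n : ℕᵒᵖ} (u : m ⟶ n) :
    K.map u ≫ toQ f π n = toQ f π m ≫ sgl.map (qmap (antitone_next f hJ (leOfHom u.unop))) := by
  have e : K.map u ≫ (π.app n : K.obj n ⟶ sgl.obj (quot (J n.unop))) =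
      (π.app m : K.obj m ⟶ sgl.obj (quot (J m.unop))) ≫ sgl.map (qmap (hJ (leOfHom u.unop))) := π.naturality u
  refine (Category.assoc _ _ _).symm.trans ((congrArg (· ≫ _) e).trans ?_)
  refine (Category.assoc _ _ _).trans (Eq.trans ?_ (Category.assoc _ _ _).symm)
  exact congrArg ((π.app m : K.obj m ⟶ sgl.obj (quot (J m.unop))) ≫ ·) (q_square _ _ _ _)

/-- The augmentation of the new system. -/
noncomputable def nextπ (π : K ⟶ sysQ J hJ) :
    next f K ⟶ sysQ _ (antitone_next f hJ) where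
  app n := nextApp f π n
  naturality m n u := by
    refine HomologicalComplex.hom_ext _ _ fun i => ModuleCat.hom_ext (LinearMap.ext fun z => ?_)
    obtain ⟨⟨a, b⟩, rfl⟩ := cmk_surjective (mulF f K m) i (i + 1) rfl z
    show (nextApp f π n).f i ((mappingCone.map (mulF f K m) (mulF f K n) (f ^ (m.unop - n.unop) • K.map u) (K.map u)
        (mulF_comm f K u)).f i (cmk (mulF f K m) i (i + 1) rfl (a, b))) =
      (sgl.map (qmap (antitone_next f hJ (leOfHom u.unop)))).f i
        ((nextApp f π m).f i (cmk (mulF f K m) i (i + 1) rfl (a, b)))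
    rw [map_cmk, nextApp_cmk, nextApp_cmk]
    exact ConcreteCategory.congr_hom (HomologicalComplex.congr_hom (toQ_naturality f π u) i) b

theorem nextπ_cmk (π : K ⟶ sysQ J hJ) (n : ℕ) (a : (K.obj (op n)).X 1) (b : (K.obj (op n)).X 0) :
    ((nextπ f π).app (op n)).f 0 (cmk (mulF f K (op n)) 0 1 rfl (a, b)) =
      (sgl.map (qmap (idl_le f n J))).f 0 ((π.app (op n)).f 0 b) :=
  nextApp_cmk f π (op n) 0 a b

theorem exact_qmap (n : ℕ) :
    Function.Exact (f ^ (n + 1) • (LinearMap.id : quot (J n) →ₗ[A] quot (J n))) (qmap (idl_le f n J)).hom := by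
  intro x
  obtain ⟨x, rfl⟩ := Submodule.mkQ_surjective _ x
  constructor
  · intro hx
    have hx' : x ∈ (J n ⊔ Ideal.span {f ^ (n + 1)}) • (⊤ : Submodule A A) := (Submodule.Quotient.mk_eq_zero _).1 hx
    rw [smul_eq_mul, Ideal.mul_top] at hx'
    obtain ⟨y, hy, z, hz, rfl⟩ := Submodule.mem_sup.1 hx'
    obtain ⟨w, rfl⟩ := Ideal.mem_span_singleton'.1 hz
    refine ⟨Submodule.Quotient.mk w, ?_⟩
    show f ^ (n + 1) • (Submodule.Quotient.mk w : A ⧸ (J n • (⊤ : Submodule A A))) =
      Submodule.Quotient.mk (y + w * f ^ (n + 1))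
    rw [← Submodule.Quotient.mk_smul, Submodule.Quotient.eq,
      show f ^ (n + 1) • w - (y + w * f ^ (n + 1)) = -y by rw [smul_eq_mul]; ring, neg_mem_iff,
      smul_eq_mul, Ideal.mul_top]
    exact hy
  · rintro ⟨y, hy⟩
    obtain ⟨y, rfl⟩ := Submodule.mkQ_surjective _ y
    rw [← hy, LinearMap.smul_apply, LinearMap.id_apply]
    exact (map_smul _ _ _).trans (LinearMap.congr_fun (congrArg ModuleCat.Hom.hom (smul_qmap (J := J) f n)) _)

end Step

set_option maxHeartbeats 1600000 in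
theorem isKos_next [IsNoetherianRing A] (f : A) {J : ℕ → Ideal A} {hJ : Antitone J}
    {K : ARSys.PS (DRing.Cx A)} {π : K ⟶ sysQ J hJ} (h : IsKos J hJ K π) :
    IsKos _ (antitone_next f hJ) (next f K) (nextπ f π) := by
  let F := fun n => mulF f K (op n)
  let i₁ : ∀ n (q q' : ℤ), q + 1 = q' → ((K.obj (op n)).X q' →ₗ[A] (mappingCone (F n)).X q) :=
    fun n q q' e => cmk (F n) q q' e ∘ₗ LinearMap.inl A _ _
  let i₂ : ∀ n (q : ℤ), (K.obj (op n)).X q →ₗ[A] (mappingCone (F n)).X q :=
    fun n q => cmk (F n) q (q + 1) rfl ∘ₗ LinearMap.inr A _ _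
  have hF : ∀ n q (x : (K.obj (op n)).X q), (F n).f q x = f ^ (n + 1) • x := fun n q x => rfl
  have d₁ : ∀ n (p q r : ℤ) (e : p + 1 = q) (e' : q + 1 = r) (x : (K.obj (op n)).X q),
      (mappingCone (F n)).d p q (i₁ n p q e x) =
        i₂ n q (f ^ (n + 1) • x) - i₁ n q r e' ((K.obj (op n)).d q r x) := by
    intro n p q r e e' x
    refine (d_cmk (F n) p q r e e' x 0).trans ?_
    subst e'
    simp only [i₁, i₂, LinearMap.comp_apply, ← map_sub, map_zero, add_zero, hF]
    refine congrArg _ ?_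
    simp
  have d₂ : ∀ n (p q : ℤ) (e : p + 1 = q) (x : (K.obj (op n)).X p),
      (mappingCone (F n)).d p q (i₂ n p x) = i₂ n q ((K.obj (op n)).d p q x) := by
    intro n p q e x
    subst e
    refine (d_cmk (F n) p (p + 1) (p + 1 + 1) rfl rfl 0 x).trans ?_
    simp [i₂]
  have dec : ∀ (M : Type u) [AddCommGroup M] [Module A M] n (q q' : ℤ) (e : q + 1 = q')
      (z : M ⊗[A] (mappingCone (F n)).X q), z = lT M (i₁ n q q' e) (lT M (cfst (F n) q q' e) z) +
        lT M (i₂ n q) (lT M (csnd (F n) q) z) := by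
    intro M _ _ n q q' e z
    subst e
    rw [← LinearMap.lTensor_comp_apply, ← LinearMap.lTensor_comp_apply, ← LinearMap.add_apply,
      ← LinearMap.lTensor_add]
    conv_lhs => rw [← LinearMap.id_apply (R := A) z, ← LinearMap.lTensor_id]
    congr 2
    refine LinearMap.ext fun x => (cmk_coords (F n) q (q + 1) rfl x).symm.trans ?_
    simp only [i₁, i₂, LinearMap.add_apply, LinearMap.comp_apply, ← map_add]
    simp
  refine ⟨?_, ?_, ?_, ?_, ?_, ?_⟩
  · intro n q hq
    have := ModuleCat.subsingleton_of_isZero (h.pos n q hq)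
    have := ModuleCat.subsingleton_of_isZero (h.pos n (q + 1) (by lia))
    have : Subsingleton (((next f K).obj (op n)).X q) := (cmk_surjective (F n) q (q + 1) rfl).subsingleton
    exact ModuleCat.isZero_of_subsingleton _
  · obtain ⟨a, ha⟩ := h.below
    refine ⟨a - 1, fun n q hq => ?_⟩
    have := ModuleCat.subsingleton_of_isZero (ha n q (by lia))
    have := ModuleCat.subsingleton_of_isZero (ha n (q + 1) (by lia))
    have : Subsingleton (((next f K).obj (op n)).X q) := (cmk_surjective (F n) q (q + 1) rfl).subsingleton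
    exact ModuleCat.isZero_of_subsingleton _
  · intro n q
    obtain ⟨h1, h2⟩ := h.fproj n q
    obtain ⟨h1', h2'⟩ := h.fproj n (q + 1)
    let e : ((K.obj (op n)).X (q + 1) × (K.obj (op n)).X q) ≃ₗ[A] (mappingCone (F n)).X q :=
      { cmk (F n) q (q + 1) rfl with
        invFun := fun z => (cfst (F n) q (q + 1) rfl z, csnd (F n) q z)
        left_inv := fun x => Prod.ext (cfst_cmk _ _ _ _ x) (csnd_cmk _ _ _ _ x)
        right_inv := fun z => cmk_coords _ _ _ _ z }
    exact ⟨Module.Finite.equiv e, Module.Projective.of_equiv e⟩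
  · intro M _ _ n y
    obtain ⟨y', hy'⟩ := LinearMap.lTensor_surjective M
      (g := ((sgl.map (qmap (idl_le f n J))).f 0).hom) (by
        intro y
        let e := HomologicalComplex.singleObjXSelf (ComplexShape.up ℤ) 0 (quot (J n))
        let e' := HomologicalComplex.singleObjXSelf (ComplexShape.up ℤ) 0 (quot (J n ⊔ Ideal.span {f ^ (n + 1)}))
        obtain ⟨z, hz⟩ := Submodule.factor_surjective (Submodule.smul_mono_left (idl_le f n J)) (e'.hom y)
        refine ⟨e.inv z, ?_⟩
        rw [HomologicalComplex.single_map_f_self]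
        show e'.inv ((qmap (idl_le f n J)).hom (e.hom (e.inv z))) = y
        rw [← ConcreteCategory.comp_apply e.inv e.hom, e.inv_hom_id]
        show e'.inv ((qmap (idl_le f n J)).hom z) = y
        rw [show (qmap (idl_le f n J)).hom z = e'.hom y from hz, ← ConcreteCategory.comp_apply, e'.hom_inv_id]
        rfl) y
    obtain ⟨x, hx⟩ := h.surj M n y'
    refine ⟨lT M (i₂ n 0) x, ?_⟩
    rw [← hy', ← hx]
    exact lT_eq M (fun z => nextπ_cmk f π n 0 z) x
  · intro M _ _ n x hx
    have ha0 : ∀ u : M ⊗[A] (K.obj (op n)).X 1, u = 0 := eq_zero_of_isZero M (h.pos n 1 one_pos)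
    have hxd := dec M n 0 1 rfl x
    rw [ha0 (lT M (cfst (F n) 0 1 rfl) x), map_zero, zero_add] at hxd
    obtain ⟨b, rfl⟩ : ∃ b, x = lT M (i₂ n 0) b := ⟨_, hxd⟩
    let e := HomologicalComplex.singleObjXSelf (ComplexShape.up ℤ) 0 (quot (J n))
    let e' := HomologicalComplex.singleObjXSelf (ComplexShape.up ℤ) 0 (quot (J n ⊔ Ideal.span {f ^ (n + 1)}))
    let π₀ : (K.obj (op n)).X 0 →ₗ[A] quot (J n) := e.hom.hom ∘ₗ ((π.app (op n)).f 0).hom
    have hinj : Function.Injective (lT M e.hom.hom) := (LinearEquiv.lTensor M e.toLinearEquiv).injective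
    have hsurj : Function.Surjective (lT M π₀) := fun z => by
      obtain ⟨u, hu⟩ := h.surj M n (lT M e.inv.hom z)
      refine ⟨u, (LinearMap.lTensor_comp_apply M _ _ u).trans ((congrArg _ hu).trans ?_)⟩
      refine ((LinearMap.lTensor_comp_apply M e.hom.hom e.inv.hom z).symm).trans ?_
      exact LinearMap.congr_fun ((congrArg (fun φ => φ.lTensor M)
        (congrArg ModuleCat.Hom.hom e.inv_hom_id)).trans (LinearMap.lTensor_id M _)) z
    have h0 : lT M (qmap (idl_le f n J)).hom (lT M π₀ b) = 0 := by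
      have h1 := lT_eq M (g := (qmap (idl_le f n J)).hom) (h := π₀) (g' := e'.hom.hom)
        (h' := (((nextπ f π).app (op n)).f 0).hom ∘ₗ i₂ n 0) (fun z => by
          refine Eq.trans ?_ (congrArg e'.hom (nextπ_cmk f π n 0 z).symm)
          rw [HomologicalComplex.single_map_f_self]
          show _ = e'.hom (e'.inv ((qmap (idl_le f n J)).hom (π₀ z)))
          exact (ConcreteCategory.congr_hom e'.inv_hom_id _).symm) b
      exact h1.trans ((congrArg _ ((LinearMap.lTensor_comp_apply M _ _ b).trans hx)).trans (map_zero _))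
    obtain ⟨z, hz⟩ := (lTensor_exact M (exact_qmap f n)
      (Submodule.factor_surjective (Submodule.smul_mono_left (idl_le f n J))) _).1 h0
    obtain ⟨c, hc⟩ := hsurj z
    have hker : lT M ((π.app (op n)).f 0).hom (b - f ^ (n + 1) • c) = 0 := by
      refine hinj ?_
      refine (LinearMap.lTensor_comp_apply M e.hom.hom ((π.app (op n)).f 0).hom _).symm.trans
        (Eq.trans ?_ (map_zero (lT M e.hom.hom)).symm)
      show lT M π₀ (b - f ^ (n + 1) • c) = 0
      rw [map_sub, map_smul, hc, ← hz, LinearMap.lTensor_smul, LinearMap.lTensor_id]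
      exact sub_self _
    obtain ⟨y, hy⟩ := h.ker M n _ hker
    refine ⟨lT M (i₁ n (-1) 0 rfl) c + lT M (i₂ n (-1)) y, ?_⟩
    show lT M ((mappingCone (F n)).d (-1) 0).hom _ = lT M (i₂ n 0) b
    rw [map_add, lT_eq M (g := ((mappingCone (F n)).d (-1) 0).hom) (h := i₂ n (-1)) (g' := i₂ n 0)
      (h' := ((K.obj (op n)).d (-1) 0).hom) (d₂ n (-1) 0 rfl) y, hy]
    have h4 : lT M ((mappingCone (F n)).d (-1) 0).hom (lT M (i₁ n (-1) 0 rfl) c) =
        lT M (i₂ n 0) (f ^ (n + 1) • c) := by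
      rw [← LinearMap.lTensor_comp_apply,
        show ((mappingCone (F n)).d (-1) 0).hom ∘ₗ i₁ n (-1) 0 rfl =
          f ^ (n + 1) • i₂ n 0 - i₁ n 0 1 rfl ∘ₗ ((K.obj (op n)).d 0 1).hom from LinearMap.ext fun z => by
            refine (d₁ n (-1) 0 1 rfl rfl z).trans ?_
            rw [map_smul]
            rfl,
        LinearMap.lTensor_sub, LinearMap.sub_apply, LinearMap.lTensor_smul, LinearMap.lTensor_comp_apply,
        ha0 (lT M ((K.obj (op n)).d 0 1).hom c), map_zero, sub_zero, map_smul]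
      rfl
    rw [h4, ← map_add, add_sub_cancel]
  · intro M _ _ _ q hq n
    obtain ⟨n₁, hn₁, e₁⟩ := h.pro M q hq n
    have key : ∃ (m : ℕ) (hm : n₁ ≤ m), ∀ (a : M ⊗[A] (K.obj (op m)).X (q + 1)) (b : M ⊗[A] (K.obj (op m)).X q),
        lT M ((K.obj (op m)).d (q + 1) (q + 1 + 1)).hom a = 0 →
        f ^ (m + 1) • a + lT M ((K.obj (op m)).d q (q + 1)).hom b = 0 →
        ∃ w, lT M ((K.obj (op n₁)).d q (q + 1)).hom w =
          f ^ (m - n₁) • lT M ((ARSys.tr K hm).f (q + 1)).hom a := by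
      by_cases hq1 : q + 1 < 0
      · obtain ⟨m, hm, e⟩ := h.pro M (q + 1) hq1 n₁
        refine ⟨m, hm, fun a b ha _ => ?_⟩
        obtain ⟨w, hw⟩ : ∃ w : M ⊗[A] (K.obj (op n₁)).X q, lT M ((K.obj (op n₁)).d q (q + 1)).hom w =
            lT M ((ARSys.tr K hm).f (q + 1)).hom a := by
          have := e a ha
          revert this
          generalize hr : q + 1 - 1 = r
          obtain rfl : r = q := by lia
          exact id
        exact ⟨f ^ (m - n₁) • w, by rw [map_smul, hw]⟩
      · obtain rfl : q = -1 := by lia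
        let S₀ := ((sysQ J hJ).obj (op n₁)).X 0
        have : Module.Finite A S₀ := Module.Finite.equiv
          (HomologicalComplex.singleObjXSelf (ComplexShape.up ℤ) 0 (quot (J n₁))).symm.toLinearEquiv
        let N := M ⊗[A] S₀
        have : IsNoetherian A N := isNoetherian_of_isNoetherianRing_of_finite A N
        obtain ⟨c, hc⟩ := monotone_stabilizes_iff_noetherian.2 this
          ⟨fun k => LinearMap.ker (f ^ k • LinearMap.id : N →ₗ[A] N), fun i j hij y hy => by
            simp only [LinearMap.mem_ker, LinearMap.smul_apply, LinearMap.id_apply] at hy ⊢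
            rw [← Nat.sub_add_cancel hij, pow_add, mul_smul, hy, smul_zero]⟩
        refine ⟨n₁ + c, Nat.le_add_right _ _, fun a b _ hab => ?_⟩
        let m := n₁ + c
        let y : N := lT M ((π.app (op n₁)).f 0).hom (lT M ((ARSys.tr K (Nat.le_add_right n₁ c)).f 0).hom a)
        have hy : f ^ (m + 1) • y = 0 := by
          have h1 : f ^ (m + 1) • lT M ((π.app (op m)).f 0).hom a = 0 := by
            have h2 := congrArg (lT M ((π.app (op m)).f 0).hom) hab
            rw [map_zero, map_add, map_smul,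
              lT_eq M (g := ((π.app (op m)).f 0).hom) (h := ((K.obj (op m)).d (-1) (-1 + 1)).hom)
                (g' := (((sysQ J hJ).obj (op m)).d (-1) 0).hom) (h' := ((π.app (op m)).f (-1)).hom)
                (fun z => (f_d (π.app (op m)) (-1) 0 z).symm)] at h2
            have hz : ∀ u : M ⊗[A] ((sysQ J hJ).obj (op m)).X (-1),
                lT M (((sysQ J hJ).obj (op m)).d (-1) 0).hom u = 0 := fun u => by
              rw [eq_zero_of_isZero M (X := ((sysQ J hJ).obj (op m)).X (-1))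
                (HomologicalComplex.isZero_single_obj_X _ _ _ _ (by decide)) u]
              exact map_zero _
            rw [hz, add_zero] at h2
            exact h2
          have h3 := lT_eq M (g := ((π.app (op n₁)).f 0).hom)
            (h := ((ARSys.tr K (Nat.le_add_right n₁ c)).f 0).hom)
            (g' := ((ARSys.tr (sysQ J hJ) (Nat.le_add_right n₁ c)).f 0).hom) (h' := ((π.app (op m)).f 0).hom)
            (fun z => ConcreteCategory.congr_hom
              (HomologicalComplex.congr_hom (ProIso.tr_naturality π (Nat.le_add_right n₁ c)) 0) z) a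
          show f ^ (m + 1) • lT M _ (lT M _ a) = 0
          rw [h3, ← map_smul, h1, map_zero]
        have hy' : f ^ c • y = 0 := by
          have hm1 : y ∈ LinearMap.ker (f ^ (m + 1) • LinearMap.id : N →ₗ[A] N) := hy
          have e := hc (m + 1) (by omega)
          change LinearMap.ker (f ^ c • LinearMap.id : N →ₗ[A] N) =
            LinearMap.ker (f ^ (m + 1) • LinearMap.id : N →ₗ[A] N) at e
          rw [← e] at hm1
          exact hm1
        refine (h.ker M n₁ (f ^ (n₁ + c - n₁) • lT M ((ARSys.tr K (Nat.le_add_right n₁ c)).f 0).hom a) ?_)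
        rw [map_smul, Nat.add_sub_cancel_left]
        exact hy'
    obtain ⟨m, hm, key⟩ := key
    refine ⟨m, hn₁.trans hm, fun x hx => ?_⟩
    obtain ⟨a, b, rfl⟩ : ∃ a b, x = lT M (i₁ m q (q + 1) rfl) a + lT M (i₂ m q) b := ⟨_, _, dec M m q (q + 1) rfl x⟩
    have hd1 : ∀ n (p q r : ℤ) (e : p + 1 = q) (e' : q + 1 = r) (u : M ⊗[A] (K.obj (op n)).X q),
        lT M ((mappingCone (F n)).d p q).hom (lT M (i₁ n p q e) u) =
          lT M (i₂ n q) (f ^ (n + 1) • u) - lT M (i₁ n q r e') (lT M ((K.obj (op n)).d q r).hom u) := by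
      intro n p q r e e' u
      rw [← LinearMap.lTensor_comp_apply,
        show ((mappingCone (F n)).d p q).hom ∘ₗ i₁ n p q e =
          f ^ (n + 1) • i₂ n q - i₁ n q r e' ∘ₗ ((K.obj (op n)).d q r).hom from LinearMap.ext fun z => by
            refine (d₁ n p q r e e' z).trans ?_
            rw [map_smul]
            rfl,
        LinearMap.lTensor_sub, LinearMap.sub_apply, LinearMap.lTensor_smul, LinearMap.lTensor_comp_apply, map_smul]
      rfl
    have hd2 : ∀ n (p q : ℤ) (e : p + 1 = q) (u : M ⊗[A] (K.obj (op n)).X p),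
        lT M ((mappingCone (F n)).d p q).hom (lT M (i₂ n p) u) =
          lT M (i₂ n q) (lT M ((K.obj (op n)).d p q).hom u) :=
      fun n p q e u => lT_eq M (d₂ n p q e) u
    have pr₁ : ∀ n (q q' : ℤ) (e : q + 1 = q') (u : M ⊗[A] (K.obj (op n)).X q') (v : M ⊗[A] (K.obj (op n)).X q),
        lT M (cfst (F n) q q' e) (lT M (i₁ n q q' e) u + lT M (i₂ n q) v) = u ∧
          lT M (csnd (F n) q) (lT M (i₁ n q q' e) u + lT M (i₂ n q) v) = v := by
      intro n q q' e u v
      subst e
      constructor <;> rw [map_add, ← LinearMap.lTensor_comp_apply, ← LinearMap.lTensor_comp_apply]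
      · rw [show cfst (F n) q (q + 1) rfl ∘ₗ i₁ n q (q + 1) rfl = LinearMap.id from
          LinearMap.ext fun z => cfst_cmk (F n) q (q + 1) rfl (z, 0),
          show cfst (F n) q (q + 1) rfl ∘ₗ i₂ n q = 0 from
          LinearMap.ext fun z => cfst_cmk (F n) q (q + 1) rfl (0, z)]
        simp
      · rw [show csnd (F n) q ∘ₗ i₁ n q (q + 1) rfl = 0 from
          LinearMap.ext fun z => csnd_cmk (F n) q (q + 1) rfl (z, 0),
          show csnd (F n) q ∘ₗ i₂ n q = LinearMap.id from
          LinearMap.ext fun z => csnd_cmk (F n) q (q + 1) rfl (0, z)]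
        simp
    have hx' : lT M ((mappingCone (F m)).d q (q + 1)).hom (lT M (i₁ m q (q + 1) rfl) a + lT M (i₂ m q) b) = 0 := hx
    rw [map_add, hd1 m q (q + 1) (q + 1 + 1) rfl rfl, hd2 m q (q + 1) rfl] at hx'
    have hx'' : lT M (i₁ m (q + 1) (q + 1 + 1) rfl) (-lT M ((K.obj (op m)).d (q + 1) (q + 1 + 1)).hom a) +
        lT M (i₂ m (q + 1)) (f ^ (m + 1) • a + lT M ((K.obj (op m)).d q (q + 1)).hom b) = 0 := by
      rw [← hx', map_neg, map_add]
      abel
    have hx1 := (pr₁ m (q + 1) (q + 1 + 1) rfl (-lT M ((K.obj (op m)).d (q + 1) (q + 1 + 1)).hom a)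
      (f ^ (m + 1) • a + lT M ((K.obj (op m)).d q (q + 1)).hom b))
    rw [hx'', map_zero, map_zero] at hx1
    have ha : lT M ((K.obj (op m)).d (q + 1) (q + 1 + 1)).hom a = 0 := neg_eq_zero.1 hx1.1.symm
    obtain ⟨w, hw⟩ := key a b ha hx1.2.symm
    let b' := lT M ((ARSys.tr K hm).f q).hom b + f ^ (n₁ + 1) • w
    have hb' : lT M ((K.obj (op n₁)).d q (q + 1)).hom b' = 0 := by
      rw [map_add, map_smul, hw, lT_eq M (g := ((K.obj (op n₁)).d q (q + 1)).hom)
        (h := ((ARSys.tr K hm).f q).hom) (g' := ((ARSys.tr K hm).f (q + 1)).hom)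
        (h' := ((K.obj (op m)).d q (q + 1)).hom) (fun z => f_d (ARSys.tr K hm) q (q + 1) z),
        smul_smul, ← pow_add, show n₁ + 1 + (m - n₁) = m + 1 by omega, ← map_smul, ← map_add]
      exact (congrArg _ ((add_comm _ _).trans hx1.2.symm)).trans (map_zero _)
    obtain ⟨v, hv⟩ := e₁ b' hb'
    let w' := -(f ^ (n₁ - n) • lT M ((ARSys.tr K hn₁).f q).hom w)
    refine ⟨lT M (i₁ n (q - 1) q (by lia)) w' + lT M (i₂ n (q - 1)) v, ?_⟩
    let tm : (mappingCone (F m)).X q →ₗ[A] (mappingCone (F n)).X q :=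
      ((mappingCone.map (F m) (F n) (f ^ (m - n) • ARSys.tr K (hn₁.trans hm)) (ARSys.tr K (hn₁.trans hm))
        (mulF_comm f K _)).f q).hom
    show lT M ((mappingCone (F n)).d (q - 1) q).hom _ = lT M tm (lT M (i₁ m q (q + 1) rfl) a + lT M (i₂ m q) b)
    rw [map_add, hd1 n (q - 1) q (q + 1) (by lia) rfl, hd2 n (q - 1) q (by lia), hv, map_add (lT M tm)]
    have t₁ : ∀ u, lT M tm (lT M (i₁ m q (q + 1) rfl) u) =
        lT M (i₁ n q (q + 1) rfl) (f ^ (m - n) • lT M ((ARSys.tr K (hn₁.trans hm)).f (q + 1)).hom u) := fun u => by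
      rw [← LinearMap.smul_apply, ← LinearMap.lTensor_smul]
      refine lT_eq M (fun z => ?_) u
      refine (map_cmk (F m) (F n) _ _ (mulF_comm f K _) q (q + 1) rfl z 0).trans ?_
      rw [map_zero]
      rfl
    have t₂ : ∀ u, lT M tm (lT M (i₂ m q) u) =
        lT M (i₂ n q) (lT M ((ARSys.tr K (hn₁.trans hm)).f q).hom u) := fun u => by
      refine lT_eq M (fun z => ?_) u
      refine (map_cmk (F m) (F n) _ _ (mulF_comm f K _) q (q + 1) rfl 0 z).trans ?_
      rw [map_zero]
      rfl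
    have ttr : ∀ (i : ℤ) u, lT M ((ARSys.tr K hn₁).f i).hom (lT M ((ARSys.tr K hm).f i).hom u) =
        lT M ((ARSys.tr K (hn₁.trans hm)).f i).hom u := fun i u => by
      rw [← LinearMap.lTensor_comp_apply]
      exact LinearMap.congr_fun (congrArg (fun φ => φ.lTensor M) (congrArg ModuleCat.Hom.hom
        (HomologicalComplex.congr_hom (ProIso.tr_comp K hn₁ hm) i))) u
    rw [t₁, t₂]
    have hdw : lT M ((K.obj (op n)).d q (q + 1)).hom w' =
        -(f ^ (m - n) • lT M ((ARSys.tr K (hn₁.trans hm)).f (q + 1)).hom a) := by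
      rw [map_neg, map_smul, lT_eq M (g := ((K.obj (op n)).d q (q + 1)).hom)
        (h := ((ARSys.tr K hn₁).f q).hom) (g' := ((ARSys.tr K hn₁).f (q + 1)).hom)
        (h' := ((K.obj (op n₁)).d q (q + 1)).hom) (fun z => f_d (ARSys.tr K hn₁) q (q + 1) z), hw, map_smul,
        smul_smul, ← pow_add, ttr, show n₁ - n + (m - n₁) = m - n by omega]
    have hb2 : lT M ((ARSys.tr K hn₁).f q).hom b' + f ^ (n + 1) • w' =
        lT M ((ARSys.tr K (hn₁.trans hm)).f q).hom b := by
      rw [map_add, ttr, map_smul, smul_neg, smul_smul, ← pow_add, show n + 1 + (n₁ - n) = n₁ + 1 by omega,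
        add_neg_cancel_right]
    rw [hdw, map_neg, sub_neg_eq_add, ← hb2]
    simp only [map_add]
    abel

theorem exists_kos [IsNoetherianRing A] : ∀ l : List A,
    ∃ (K : ARSys.PS (DRing.Cx A)) (π : K ⟶ sysQ (idl l) (antitone_idl l)), IsKos (idl l) (antitone_idl l) K π
  | [] => ⟨_, _, isKos_nil⟩
  | f :: l =>
    let ⟨_, _, h⟩ := exists_kos l
    ⟨_, _, isKos_next f h⟩

end Groth.Agent.Lib.DR.KoszulPro
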