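import Groth.Agent.Lib.DR.KoszulPro

/-!
# `K ⊗^L A/I^n ⟶ K/I^n K` is a pro-isomorphism for bounded complexes of finite modules
-/

universe u

open CategoryTheory CategoryTheory.Limits MonoidalCategory Opposite CochainComplex
open Groth.Agent.Lib.TensorCx.Basic Groth.Agent.Lib.Koszul.Cone Groth.Agent.Lib.DR.KoszulPro
open scoped TensorProduct

attribute [local instance] HasDerivedCategory.standard

set_option maxHeartbeats 800000

namespace Groth.Agent.Lib.DR.KoszulProLTen

variable {A : Type u} [CommRing A]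

theorem negOnePow_smul_smul {M : Type*} [AddCommGroup M] (t : ℤ) (x : M) :
    (((t.negOnePow : ℤˣ) : ℤ)) • (((t.negOnePow : ℤˣ) : ℤ)) • x = x := by
  rw [smul_smul, ← Units.val_mul, Int.units_mul_self]
  exact one_smul _ x

theorem eq_zero_of_isZero_left (X : Type u) [AddCommGroup X] [Module A X] {M : ModuleCat.{u} A} (h : IsZero M)
    (x : M ⊗[A] X) : x = 0 := by
  have := ModuleCat.subsingleton_of_isZero h
  induction x using TensorProduct.induction_on with
  | zero => rfl
  | tmul m z => rw [Subsingleton.elim m 0, TensorProduct.zero_tmul]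
  | add a b ha hb => rw [ha, hb, add_zero]

theorem lT_tr_comp (M : Type u) [AddCommGroup M] [Module A M] (P : ARSys.PS (DRing.Cx A)) {n m k : ℕ}
    (h : n ≤ m) (h' : m ≤ k) (q : ℤ) (x : M ⊗[A] (P.obj (op k)).X q) :
    lT M ((ARSys.tr P h).f q).hom (lT M ((ARSys.tr P h').f q).hom x) =
      lT M ((ARSys.tr P (h.trans h')).f q).hom x := by
  rw [← LinearMap.lTensor_comp_apply]
  exact LinearMap.congr_fun (congrArg (fun φ => φ.lTensor M) (congrArg ModuleCat.Hom.hom
    (HomologicalComplex.congr_hom (ProIso.tr_comp P h h') q))) x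

theorem mapR_tr_comp (K : DRing.Cx A) (P : ARSys.PS (DRing.Cx A)) {n m k : ℕ}
    (h : n ≤ m) (h' : m ≤ k) (q : ℤ) (x : (tens K (P.obj (op k))).X q) :
    (mapR K (ARSys.tr P h)).f q ((mapR K (ARSys.tr P h')).f q x) = (mapR K (ARSys.tr P (h.trans h'))).f q x :=
  ext_proj fun i j _ => by rw [proj_mapR, proj_mapR, proj_mapR, lT_tr_comp]

variable {J : ℕ → Ideal A} {hJ : Antitone J} {P : ARSys.PS (DRing.Cx A)} {π : P ⟶ sysQ J hJ}

theorem stair (K : DRing.Cx A) (b₀ : ℤ) (hK : ∀ i, b₀ < i → IsZero (K.X i))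
    (hKf : ∀ i, Module.Finite A (K.X i)) (h : IsKos J hJ P π) :
    ∀ (d : ℕ) (p₀ : ℤ), p₀ + d = b₀ + 1 → ∀ (j j' : ℤ), j' + 1 = j → ∀ n : ℕ, ∃ (m : ℕ) (hm : n ≤ m),
      ∀ a : (tens K (P.obj (op m))).X j, (tens K (P.obj (op m))).d j (j + 1) a = 0 →
        (mapR K (π.app (op m))).f j a = 0 → (∀ p, p < p₀ → proj K (P.obj (op m)) p (j - p) j a = 0) →
        ∃ w : (tens K (P.obj (op n))).X j', (mapR K (π.app (op n))).f j' w = 0 ∧
          (tens K (P.obj (op n))).d j' j w = (mapR K (ARSys.tr P hm)).f j a := by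
  intro d
  induction d with
  | zero =>
    intro p₀ hp₀ j j' hj n
    refine ⟨n, le_rfl, fun a _ _ hlow => ⟨0, map_zero _, ?_⟩⟩
    have : a = 0 := ext_proj fun p q hpq => by
      obtain rfl : q = j - p := by lia
      rw [map_zero]
      by_cases hp : p < p₀
      · exact hlow p hp
      · exact eq_zero_of_isZero_left _ (hK p (by lia)) _
    rw [this, map_zero, map_zero]
  | succ d ih =>
    intro p₀ hp₀ j j' hj n
    obtain ⟨n₁, hn₁, e₁⟩ := ih (p₀ + 1) (by lia) j j' hj n
    let M := K.X p₀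
    let q := j - p₀
    have := hKf p₀
    have key : ∃ (m : ℕ) (hm : n₁ ≤ m), ∀ y : M ⊗[A] (P.obj (op m)).X q,
        lT M ((P.obj (op m)).d q (q + 1)).hom y = 0 → lT M ((π.app (op m)).f q).hom y = 0 →
        ∃ v : M ⊗[A] (P.obj (op n₁)).X (q - 1), lT M ((π.app (op n₁)).f (q - 1)).hom v = 0 ∧
          lT M ((P.obj (op n₁)).d (q - 1) q).hom v = lT M ((ARSys.tr P hm).f q).hom y := by
      rcases lt_trichotomy q 0 with hq | hq | hq
      · obtain ⟨m, hm, e⟩ := h.pro M q hq n₁
        refine ⟨m, hm, fun y hy _ => ?_⟩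
        obtain ⟨v, hv⟩ := e y hy
        exact ⟨v, eq_zero_of_isZero M (X := ((sysQ J hJ).obj (op n₁)).X (q - 1))
          (HomologicalComplex.isZero_single_obj_X _ _ _ _ (by lia)) _, hv⟩
      · refine ⟨n₁, le_rfl, ?_⟩
        generalize q = q₀ at hq ⊢
        subst hq
        intro y _ hy
        have htr : lT M ((π.app (op n₁)).f 0).hom (lT M ((ARSys.tr P (le_refl n₁)).f 0).hom y) = 0 := by
          rw [lT_eq M (g := ((π.app (op n₁)).f 0).hom) (h := ((ARSys.tr P (le_refl n₁)).f 0).hom)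
            (g' := ((ARSys.tr (sysQ J hJ) (le_refl n₁)).f 0).hom) (h' := ((π.app (op n₁)).f 0).hom)
            (fun z => ConcreteCategory.congr_hom
              (HomologicalComplex.congr_hom (ProIso.tr_naturality π (le_refl n₁)) 0) z) y, hy, map_zero]
        obtain ⟨v, hv⟩ := h.ker M n₁ _ htr
        exact ⟨v, eq_zero_of_isZero M (X := ((sysQ J hJ).obj (op n₁)).X (-1))
          (HomologicalComplex.isZero_single_obj_X _ _ _ _ (by decide)) _, hv⟩
      · refine ⟨n₁, le_rfl, fun y _ _ => ⟨0, map_zero _, ?_⟩⟩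
        rw [map_zero]
        exact (eq_zero_of_isZero M (h.pos n₁ q hq) _).symm
    obtain ⟨m, hm, key⟩ := key
    refine ⟨m, hn₁.trans hm, fun a ha hφ hlow => ?_⟩
    have hy : lT M ((P.obj (op m)).d q (q + 1)).hom (proj K (P.obj (op m)) p₀ q j a) = 0 := by
      have e := proj_d K (P.obj (op m)) (p₀ - 1) p₀ q (q + 1) j (j + 1) (by lia) rfl (by lia) rfl a
      rw [ha, map_zero, show q + 1 = j - (p₀ - 1) by lia, hlow (p₀ - 1) (by lia), map_zero, zero_add,
        show j - (p₀ - 1) = q + 1 by lia] at e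
      have e' := congrArg (fun t => (((p₀.negOnePow : ℤˣ) : ℤ)) • t) e
      simp only [smul_zero, negOnePow_smul_smul] at e'
      exact e'.symm
    have hπy : lT M ((π.app (op m)).f q).hom (proj K (P.obj (op m)) p₀ q j a) = 0 := by
      have e := proj_mapR (L := K) (π.app (op m)) p₀ q j a
      rw [hφ, map_zero] at e
      exact e.symm
    obtain ⟨v, hv0, hv⟩ := key _ hy hπy
    let W : (tens K (P.obj (op n₁))).X j' :=
      (((p₀.negOnePow : ℤˣ) : ℤ)) • incl K (P.obj (op n₁)) p₀ (q - 1) j' (by lia) v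
    let a' := (mapR K (ARSys.tr P hm)).f j a - (tens K (P.obj (op n₁))).d j' j W
    have hdW : ∀ p, p ≤ p₀ → proj K (P.obj (op n₁)) p (j - p) j ((tens K (P.obj (op n₁))).d j' j W) =
        proj K (P.obj (op n₁)) p (j - p) j
          (incl K (P.obj (op n₁)) p₀ q j (by lia) (lT M ((ARSys.tr P hm).f q).hom
            (proj K (P.obj (op m)) p₀ q j a))) := by
      intro p hp
      rw [map_zsmul, d_incl K (P.obj (op n₁)) p₀ (q - 1) j' (p₀ + 1) q j (by lia) rfl (by lia) (by lia) (by lia) v,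
        smul_add, negOnePow_smul_smul, map_add, map_zsmul,
        proj_incl_ne K (P.obj (op n₁)) _ _ _ _ _ _ (fun e => by lia), smul_zero, zero_add, ← hv]
      try rfl
    have hlow' : ∀ p, p < p₀ + 1 → proj K (P.obj (op n₁)) p (j - p) j a' = 0 := fun p hp => by
      rw [map_sub, hdW p (by lia), proj_mapR, sub_eq_zero]
      by_cases hp0 : p = p₀
      · subst hp0
        exact (proj_incl _ _ _ _ _ _ _).symm
      · rw [hlow p (by lia), map_zero, proj_incl_ne K (P.obj (op n₁)) _ _ _ _ _ _ (fun e => hp0 e.1.symm)]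
    have hφW : (mapR K (π.app (op n₁))).f j' W = 0 := by
      rw [map_zsmul, mapR_incl]
      rw [show (((π.app (op n₁)).f (q - 1)).hom.lTensor (K.X p₀)) v = 0 from hv0, map_zero, smul_zero]
    have hφa' : (mapR K (π.app (op n₁))).f j a' = 0 := by
      rw [map_sub, ← f_d (mapR K (π.app (op n₁))) j' j W, hφW, map_zero, sub_zero]
      refine ext_proj fun i k _ => ?_
      rw [proj_mapR, proj_mapR, map_zero, lT_eq (K.X i) (g := ((π.app (op n₁)).f k).hom)
        (h := ((ARSys.tr P hm).f k).hom) (g' := ((ARSys.tr (sysQ J hJ) hm).f k).hom) (h' := ((π.app (op m)).f k).hom)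
        (fun z => ConcreteCategory.congr_hom
          (HomologicalComplex.congr_hom (ProIso.tr_naturality π hm) k) z)]
      have e := proj_mapR (L := K) (π.app (op m)) i k j a
      rw [hφ, map_zero] at e
      exact (congrArg _ e.symm).trans (map_zero _)
    have hda' : (tens K (P.obj (op n₁))).d j (j + 1) a' = 0 := by
      rw [map_sub, d_d, sub_zero, f_d (mapR K (ARSys.tr P hm)) j (j + 1) a, ha, map_zero]
    obtain ⟨w, hw0, hw⟩ := e₁ a' hda' hφa' hlow'
    refine ⟨w + (mapR K (ARSys.tr P hn₁)).f j' W, ?_, ?_⟩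
    · rw [map_add, hw0, zero_add]
      refine ext_proj fun i k _ => ?_
      rw [proj_mapR, proj_mapR, map_zero, lT_eq (K.X i) (g := ((π.app (op n)).f k).hom)
        (h := ((ARSys.tr P hn₁).f k).hom) (g' := ((ARSys.tr (sysQ J hJ) hn₁).f k).hom) (h' := ((π.app (op n₁)).f k).hom)
        (fun z => ConcreteCategory.congr_hom
          (HomologicalComplex.congr_hom (ProIso.tr_naturality π hn₁) k) z)]
      have e := proj_mapR (L := K) (π.app (op n₁)) i k j' W
      rw [hφW, map_zero] at e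
      exact (congrArg _ e.symm).trans (map_zero _)
    · rw [map_add, hw, f_d (mapR K (ARSys.tr P hn₁)) j' j W, ← map_add, sub_add_cancel, mapR_tr_comp]

theorem isProIso_tensor (K : DRing.Cx A) (a₀ b₀ : ℤ) (hK : DRing.VanishesOutside K a₀ b₀)
    (hKf : ∀ i, Module.Finite A (K.X i)) (h : IsKos J hJ P π) :
    DerCA.IsProIso (Functor.whiskerRight (Functor.whiskerRight π (tensorLeft K)) DerivedCategory.Q) := by
  let φ : ∀ n : ℕ, tens K (P.obj (op n)) ⟶ tens K ((sysQ J hJ).obj (op n)) := fun n => mapR K (π.app (op n))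
  obtain ⟨aP, haP⟩ := h.below
  refine ProIso.isProIso_of_cones (Functor.whiskerRight π (tensorLeft K)) (a₀ + min aP 0 - 1) b₀ ?_ ?_
  · intro n i hi
    have h1 : IsZero ((tens K (P.obj (op n))).X (i + 1)) := by
      rcases hi with hi | hi
      · exact TensorBdd.isZero_tens_below K _ (fun p hp => hK p (Or.inl hp)) (fun q hq => haP n q hq) _ (by omega)
      · exact TensorBdd.isZero_tens_above K _ (fun p hp => hK p (Or.inr hp)) (fun q hq => h.pos n q hq) _ (by omega)
    have hS : ∀ q : ℤ, q ≠ 0 → IsZero (((sysQ J hJ).obj (op n)).X q) := fun q hq =>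
      HomologicalComplex.isZero_single_obj_X _ _ _ _ hq
    have h2 : IsZero ((tens K ((sysQ J hJ).obj (op n))).X i) := by
      rcases hi with hi | hi
      · exact TensorBdd.isZero_tens_below K _ (fun p hp => hK p (Or.inl hp)) (a' := 0) (fun q hq => hS q (by omega)) _ (by omega)
      · exact TensorBdd.isZero_tens_above K _ (fun p hp => hK p (Or.inr hp)) (b' := 0) (fun q hq => hS q (by omega)) _ (by omega)
    have := ModuleCat.subsingleton_of_isZero h1
    have := ModuleCat.subsingleton_of_isZero h2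
    have h3 : Subsingleton ((CochainComplex.mappingCone (φ n)).X i) := (cmk_surjective (φ n) i (i + 1) rfl).subsingleton
    exact @ModuleCat.isZero_of_subsingleton _ _ ((CochainComplex.mappingCone (φ n)).X i) h3
  · intro i n
    let p₀ := min a₀ (b₀ + 1)
    obtain ⟨m, hm, e⟩ := stair K b₀ (fun p hp => hK p (Or.inr hp)) hKf h (b₀ + 1 - p₀).toNat p₀ (by omega)
      (i + 1) i rfl n
    refine ⟨m, hm, fun z hz => ?_⟩
    let z' : (CochainComplex.mappingCone (φ m)).X i := z
    obtain ⟨⟨a, b⟩, hab⟩ := cmk_surjective (φ m) i (i + 1) rfl z'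
    have hz' : (CochainComplex.mappingCone (φ m)).d i (i + 1) (cmk (φ m) i (i + 1) rfl (a, b)) = 0 := by
      rw [hab]
      exact hz
    obtain ⟨ha, hb⟩ := (d_eq_zero_iff (φ m) i (i + 1) rfl a b).1 hz'
    obtain ⟨c, hc⟩ := h.surj (K.X i) m (proj K ((sysQ J hJ).obj (op m)) i 0 i b)
    let C := incl K (P.obj (op m)) i 0 i (add_zero i) c
    have hC : (φ m).f i C = b := by
      refine (mapR_incl (L := K) (π.app (op m)) i 0 i (add_zero i) c).trans ?_
      rw [show ((π.app (op m)).f 0).hom.lTensor (K.X i) c = _ from hc]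
      refine ext_proj fun p q hpq => ?_
      by_cases hp : p = i
      · subst hp
        obtain rfl : q = 0 := by lia
        exact proj_incl _ _ _ _ _ _ _
      · exact (eq_zero_of_isZero (K.X p) (X := ((sysQ J hJ).obj (op m)).X q)
          (HomologicalComplex.isZero_single_obj_X _ _ _ _ (by lia)) _).trans
          (eq_zero_of_isZero (K.X p) (X := ((sysQ J hJ).obj (op m)).X q)
          (HomologicalComplex.isZero_single_obj_X _ _ _ _ (by lia)) _).symm
    let a' := a + (tens K (P.obj (op m))).d i (i + 1) C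
    obtain ⟨w, hw0, hw⟩ := e a' (by rw [map_add, d_d, add_zero]; exact ha)
      (by
        refine (map_add _ _ _).trans ?_
        refine (congrArg ((φ m).f (i + 1) a + ·) ((f_d (φ m) i (i + 1) C).symm.trans (congrArg _ hC))).trans ?_
        exact hb)
      (fun p hp => eq_zero_of_isZero_left _ (hK p (Or.inl (by omega))) _)
    let W := -w + (mapR K (ARSys.tr P hm)).f i C
    have hsq : φ m ≫ mapR K (ARSys.tr (sysQ J hJ) hm) = mapR K (ARSys.tr P hm) ≫ φ n := by
      rw [← mapR_comp, ← mapR_comp, ProIso.tr_naturality π hm]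
    refine ⟨cmk (φ n) (i - 1) i (by lia) (W, 0), ?_⟩
    show (CochainComplex.mappingCone (φ n)).d (i - 1) i (cmk (φ n) (i - 1) i (by lia) (W, 0)) =
      (CochainComplex.mappingCone.map (φ m) (φ n) (mapR K (ARSys.tr P hm)) (mapR K (ARSys.tr (sysQ J hJ) hm)) hsq).f i z'
    rw [d_cmk (φ n) (i - 1) i (i + 1) (by lia) rfl, ← hab, map_cmk]
    refine congrArg _ (Prod.ext ?_ ?_)
    · show -(tens K (P.obj (op n))).d i (i + 1) W = _
      rw [map_add, map_neg, hw, f_d, map_add]
      show _ = (mapR K (ARSys.tr P hm)).f (i + 1) a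
      abel
    · show (φ n).f i W + (tens K ((sysQ J hJ).obj (op n))).d (i - 1) i 0 = _
      rw [map_zero, add_zero, map_add, map_neg, show (φ n).f i w = 0 from hw0, neg_zero, zero_add,
        ← ConcreteCategory.comp_apply ((mapR K (ARSys.tr P hm)).f i) ((φ n).f i), ← HomologicalComplex.comp_f, ← hsq,
        HomologicalComplex.comp_f, ConcreteCategory.comp_apply, hC]

/-- Applying a functor preserves pro-isomorphisms. -/
theorem isProIso_whiskerRight {C : Type*} [Category C] {D : Type*} [Category D] {X Y : ARSys.PS C} {a : X ⟶ Y}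
    (h : DerCA.IsProIso a) (F : C ⥤ D) : DerCA.IsProIso (Functor.whiskerRight a F) := fun n => by
  obtain ⟨m, hm, b, h₁, h₂⟩ := h n
  exact ⟨m, hm, F.map b, (F.map_comp _ _).symm.trans (congrArg F.map h₁), (F.map_comp _ _).symm.trans (congrArg F.map h₂)⟩

theorem isProIso_π [IsNoetherianRing A] (h : IsKos J hJ P π) :
    DerCA.IsProIso (Functor.whiskerRight π DerivedCategory.Q) := by
  have h1 : ∀ i : ℤ, Module.Finite A ((𝟙_ (DRing.Cx A)).X i) := fun i => by
    by_cases hi : i = 0
    · subst hi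
      exact Module.Finite.equiv
        (HomologicalComplex.singleObjXSelf (ComplexShape.up ℤ) 0 (ModuleCat.of A A)).symm.toLinearEquiv
    · have : Subsingleton ((𝟙_ (DRing.Cx A)).X i) := ModuleCat.subsingleton_of_isZero
        (HomologicalComplex.isZero_single_obj_X (ComplexShape.up ℤ) 0 (ModuleCat.of A A) i hi)
      exact inferInstance
  have h2 := isProIso_tensor (𝟙_ (DRing.Cx A)) 0 0 (fun i hi =>
    HomologicalComplex.isZero_single_obj_X (ComplexShape.up ℤ) 0 (ModuleCat.of A A) i (by omega)) h1 h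
  let αP : (P ⋙ tensorLeft (𝟙_ (DRing.Cx A))) ⋙ DerivedCategory.Q ≅ P ⋙ DerivedCategory.Q :=
    NatIso.ofComponents (fun k => DerivedCategory.Q.mapIso (λ_ (P.obj k))) fun f => by
      refine (DerivedCategory.Q.map_comp _ _).symm.trans (Eq.trans ?_ (DerivedCategory.Q.map_comp _ _))
      exact congrArg _ (leftUnitor_naturality (P.map f))
  let αS : (sysQ J hJ ⋙ tensorLeft (𝟙_ (DRing.Cx A))) ⋙ DerivedCategory.Q ≅ sysQ J hJ ⋙ DerivedCategory.Q :=
    NatIso.ofComponents (fun k => DerivedCategory.Q.mapIso (λ_ ((sysQ J hJ).obj k))) fun f => by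
      refine (DerivedCategory.Q.map_comp _ _).symm.trans (Eq.trans ?_ (DerivedCategory.Q.map_comp _ _))
      exact congrArg _ (leftUnitor_naturality ((sysQ J hJ).map f))
  refine ProIso.isProIso_of_comp (ProIso.isProIso_of_isIso αP.hom) ?_
  have e : αP.hom ≫ Functor.whiskerRight π DerivedCategory.Q =
      Functor.whiskerRight (Functor.whiskerRight π (tensorLeft (𝟙_ (DRing.Cx A)))) DerivedCategory.Q ≫ αS.hom := by
    ext k : 2
    refine (DerivedCategory.Q.map_comp _ _).symm.trans (Eq.trans ?_ (DerivedCategory.Q.map_comp _ _))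
    exact congrArg _ (leftUnitor_naturality (π.app k)).symm
  rw [e]
  exact ProIso.isProIso_comp h2 (ProIso.isProIso_of_isIso αS.hom)

theorem isProIso_ε_sysQ [IsNoetherianRing A] [DTen.HasLTen A] (K : DRing.Cx A) (a₀ b₀ : ℤ)
    (hK : DRing.VanishesOutside K a₀ b₀) (hKf : ∀ i, Module.Finite A (K.X i)) (h : IsKos J hJ P π) :
    DerCA.IsProIso (Functor.whiskerLeft (sysQ J hJ) (DTen.εLeft A K)) := by
  let F := (DTen.LTen A).obj (DerivedCategory.Q.obj K)
  refine ProIso.isProIso_of_comp (a := Functor.whiskerRight π (DerivedCategory.Q ⋙ F))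
    (isProIso_whiskerRight (isProIso_π h) F) ?_
  have e : Functor.whiskerRight π (DerivedCategory.Q ⋙ F) ≫ Functor.whiskerLeft (sysQ J hJ) (DTen.εLeft A K) =
      Functor.whiskerLeft P (DTen.εLeft A K) ≫ Functor.whiskerRight π (tensorLeft K ⋙ DerivedCategory.Q) := by
    ext k : 2
    exact (DTen.εLeft A K).naturality (π.app k)
  rw [e]
  have : IsIso (Functor.whiskerLeft P (DTen.εLeft A K)) := by
    have : ∀ k, IsIso ((Functor.whiskerLeft P (DTen.εLeft A K)).app k) := fun k => by
      have : (P.obj k).IsStrictlyLE 0 :=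
        (CochainComplex.isStrictlyLE_iff _ _).2 fun i hi => h.pos k.unop i hi
      have : ∀ i, Projective ((P.obj k).X i) := fun i =>
        have := (h.fproj k.unop i).2
        (IsProjective.iff_projective (R := A) ((P.obj k).X i)).1 this
      have := CochainComplex.isKProjective_of_projective (P.obj k) 0
      exact DTenBasic.isIso_ε_right K (P.obj k)
    exact NatIso.isIso_of_isIso_app _
  exact ProIso.isProIso_comp (ProIso.isProIso_of_isIso _) (isProIso_tensor K a₀ b₀ hK hKf h)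

theorem idl_le_pow (I : Ideal A) : ∀ (l : List A), (∀ f ∈ l, f ∈ I) → ∀ n, idl l n ≤ I ^ (n + 1)
  | [], _, _ => bot_le
  | f :: l, h, n => sup_le (idl_le_pow I l (fun g hg => h g (List.mem_cons_of_mem _ hg)) n)
      ((Ideal.span_singleton_le_iff_mem _).2 (Ideal.pow_mem_pow (h f (List.mem_cons_self ..)) _))

theorem pow_mem_idl : ∀ (l : List A) (f : A), f ∈ l → ∀ n, f ^ (n + 1) ∈ idl l n
  | [], _, h, _ => absurd h (List.not_mem_nil)
  | g :: l, f, h, n => by
    rcases List.mem_cons.1 h with rfl | h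
    · exact Ideal.mem_sup_right (Ideal.mem_span_singleton_self _)
    · exact Ideal.mem_sup_left (pow_mem_idl l f h n)

theorem adicSystem_map (I : Ideal A) {n l : ℕ} (h : n ≤ l) :
    ARSys.tr (CohIII.adicSystem I (ModuleCat.of A A)) h =
      qmap (J := I ^ (l + 1)) (J' := I ^ (n + 1)) (Ideal.pow_le_pow_right (by omega)) := by
  induction l, h using Nat.le_induction with
  | base => exact ((CohIII.adicSystem I (ModuleCat.of A A)).map_id _).trans (qmap_self _).symm
  | succ l hl ih =>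
    rw [← ProIso.tr_comp _ hl (Nat.le_succ l), ih]
    rw [show ARSys.tr (CohIII.adicSystem I (ModuleCat.of A A)) (Nat.le_succ l) =
      qmap (J := I ^ (l + 1 + 1)) (J' := I ^ (l + 1)) (Ideal.pow_le_pow_right (by omega)) from
      Functor.ofOpSequence_map_homOfLE_succ _ l]
    exact qmap_comp _ _

theorem map3 {C : Type*} [Category C] {D : Type*} [Category D] (F : C ⥤ D) {a b c d : C} {p : a ⟶ b}
    {t : b ⟶ c} {q : c ⟶ d} {g : a ⟶ d} (e : p ≫ t ≫ q = g) : F.map p ≫ F.map t ≫ F.map q = F.map g := by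
  rw [← F.map_comp, ← F.map_comp, e]

theorem tr_sysQ (J : ℕ → Ideal A) (hJ : Antitone J) {n m : ℕ} (h : n ≤ m) :
    ARSys.tr (sysQ J hJ) h = sgl.map (qmap (hJ h)) := rfl

theorem q3 {J₀ J₁ J₂ J₃ : Ideal A} (a : J₀ ≤ J₁) (b : J₁ ≤ J₂) (c : J₂ ≤ J₃) (d : J₀ ≤ J₃)
    (t : sgl.obj (quot J₁) ⟶ sgl.obj (quot J₂)) (ht : t = sgl.map (qmap b)) :
    sgl.map (qmap a) ≫ t ≫ sgl.map (qmap c) = sgl.map (qmap d) := by
  subst ht
  rw [← Functor.map_comp, ← Functor.map_comp, qmap_comp, qmap_comp]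

theorem isProIso_adic [IsNoetherianRing A] [DTen.HasLTen A] (I : Ideal A) (K : DRing.Cx A) (a₀ b₀ : ℤ)
    (hK : DRing.VanishesOutside K a₀ b₀) (hKf : ∀ i, Module.Finite A (K.X i)) :
    DerCA.IsProIso (Functor.whiskerLeft
      (CohIII.adicSystem I (ModuleCat.of A A) ⋙ HomologicalComplex.single (ModuleCat.{u} A) (ComplexShape.up ℤ) 0)
      (DTen.εLeft A K)) := by
  obtain ⟨s, hs⟩ : I.FG := IsNoetherian.noetherian I
  obtain ⟨P, π, h⟩ := exists_kos s.toList
  have hl : ∀ f ∈ s.toList, f ∈ I := fun f hf => hs ▸ Ideal.subset_span (Finset.mem_toList.1 hf)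
  let G := CohIII.adicSystem I (ModuleCat.of A A) ⋙ HomologicalComplex.single (ModuleCat.{u} A) (ComplexShape.up ℤ) 0
  have hG : ∀ {n l : ℕ} (hnl : n ≤ l), ARSys.tr G hnl =
      sgl.map (qmap (J := I ^ (l + 1)) (J' := I ^ (n + 1)) (Ideal.pow_le_pow_right (by omega))) :=
    fun hnl => congrArg sgl.map (adicSystem_map I hnl)
  refine ProIso.isProIso_of_cofinal (isProIso_ε_sysQ K a₀ b₀ hK hKf h) fun n => ?_
  let S := sysQ (idl s.toList) (antitone_idl s.toList)
  let q : S.obj (op n) ⟶ G.obj (op n) := sgl.map (qmap (idl_le_pow I s.toList hl n))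
  refine ⟨n, (DerivedCategory.Q ⋙ (DTen.LTen A).obj (DerivedCategory.Q.obj K)).map q,
    (tensorLeft K ⋙ DerivedCategory.Q).map q, (DTen.εLeft A K).naturality q, fun m hm => ?_⟩
  have hrad : I ≤ (idl s.toList m).radical := by
    rw [← hs]
    exact Ideal.span_le.2 fun f hf => ⟨m + 1, pow_mem_idl _ f (Finset.mem_toList.2 hf) m⟩
  obtain ⟨N, hN⟩ := Ideal.exists_pow_le_of_le_radical_of_fg hrad (IsNoetherian.noetherian I)
  have hle : I ^ (max n N + 1) ≤ idl s.toList m := (Ideal.pow_le_pow_right (by omega)).trans hN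
  let p : G.obj (op (max n N)) ⟶ S.obj (op m) := sgl.map (qmap hle)
  have e : p ≫ ARSys.tr S hm ≫ q = ARSys.tr G (le_max_left n N) := by
    refine Eq.trans ?_ (hG (le_max_left n N)).symm
    exact q3 (J₀ := I ^ (max n N + 1)) (J₁ := idl s.toList m) (J₂ := idl s.toList n) (J₃ := I ^ (n + 1))
      hle (antitone_idl s.toList hm) (idl_le_pow I s.toList hl n) (Ideal.pow_le_pow_right (by omega))
      (ARSys.tr S hm) (tr_sysQ _ _ hm)
  refine ⟨max n N, le_max_left _ _, (DerivedCategory.Q ⋙ (DTen.LTen A).obj (DerivedCategory.Q.obj K)).map p,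
    (tensorLeft K ⋙ DerivedCategory.Q).map p, hm, ((DTen.εLeft A K).naturality p).symm, ?_, ?_⟩
  · exact map3 (DerivedCategory.Q ⋙ (DTen.LTen A).obj (DerivedCategory.Q.obj K)) e
  · exact map3 (tensorLeft K ⋙ DerivedCategory.Q) e

end Groth.Agent.Lib.DR.KoszulProLTen
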