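import Groth.Agent.Lib.Koszul.Tensor
import Groth.Agent.Lib.TensorCx.Basic
import Groth.Agent.Lib.DerivedOX.Bifunctor
import Groth.Agent.Lib.DR.DTenBasic
import Mathlib.LinearAlgebra.Pi

/-!
# Tensor products of Koszul complexes
-/

set_option linter.style.haveILetI false
set_option linter.unusedSimpArgs false

universe u

open CategoryTheory CategoryTheory.Limits MonoidalCategory TensorProduct HomologicalComplex
open RingTheory.Sequence

attribute [local instance] HasDerivedCategory.standard

namespace Groth.Agent.Lib.DR.KoszulTensor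

open Groth.Agent.Lib.Koszul.SmulCone Groth.Agent.Lib.Koszul.Cone Groth.Agent.Lib.Koszul.Basic

variable {A : Type u} [CommRing A]

/-- The unit complex. -/
noncomputable abbrev one (A : Type u) [CommRing A] : DRing.Cx A := sgl (ModuleCat.of A A)

/-- The generator in degree zero. -/
noncomputable def gen0 : (one A).X 0 :=
  (singleObjXSelf (ComplexShape.up ℤ) 0 (ModuleCat.of A A)).inv (1 : A)

/-- The coordinate in degree zero. -/
noncomputable def coord : (one A).X 0 →ₗ[A] A :=
  (singleObjXSelf (ComplexShape.up ℤ) 0 (ModuleCat.of A A)).hom.hom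

theorem coord_gen0 : coord (A := A) gen0 = 1 :=
  Iso.inv_hom_id_apply (singleObjXSelf (ComplexShape.up ℤ) 0 (ModuleCat.of A A)) (1 : A)

theorem eq_coord_smul (y : (one A).X 0) : y = coord y • gen0 := by
  have h := Iso.hom_inv_id_apply (singleObjXSelf (ComplexShape.up ℤ) 0 (ModuleCat.of A A)) y
  refine h.symm.trans ?_
  rw [gen0, ← map_smul, smul_eq_mul, mul_one]
  rfl

theorem subsingleton_X {M : ModuleCat.{u} A} {i : ℤ} (h : i ≠ 0) : Subsingleton ((sgl M).X i) :=
  ModuleCat.isZero_iff_subsingleton.1 (isZero_single_obj_X (ComplexShape.up ℤ) 0 M i h)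

section Cone

variable (x : A) (C : DRing.Cx A)

/-- The generator in degree `-1`. -/
noncomputable def e1 : (smulCone x (one A)).X (-1) :=
  cmk (x • 𝟙 (one A)) (-1) 0 rfl (gen0, 0)

/-- The generator in degree `0`. -/
noncomputable def e0 : (smulCone x (one A)).X 0 :=
  cmk (x • 𝟙 (one A)) 0 1 rfl (0, gen0)

theorem d_e1 : (smulCone x (one A)).d (-1) 0 (e1 x) = x • e0 x := by
  rw [e1, d_cmk _ (-1) 0 1 rfl rfl, e0, ← map_smul, Prod.smul_mk, smul_zero]
  congr 1
  refine Prod.ext ?_ ?_
  · haveI : Subsingleton ((one A).X 1) := subsingleton_X (by omega)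
    exact Subsingleton.elim _ _
  · show _ + _ = _
    rw [map_smul_id, map_zero, add_zero]

theorem d_e0 (j : ℤ) (hj : (0 : ℤ) + 1 = j) : (smulCone x (one A)).d 0 j (e0 x) = 0 := by
  subst hj
  refine Groth.Agent.Lib.Koszul.Cone.ext (x • 𝟙 (one A)) (j := 2) (by norm_num) ?_ ?_
  · haveI : Subsingleton ((one A).X 2) := subsingleton_X (by omega)
    exact Subsingleton.elim _ _
  · haveI : Subsingleton ((one A).X (0 + 1)) := subsingleton_X (by omega)
    exact Subsingleton.elim _ _

open Groth.Agent.Lib.TensorCx.Basic in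
/-- The comparison map in degree `n`. -/
noncomputable def coneMap (n : ℤ) :
    (smulCone x C).X n →ₗ[A] (tens (smulCone x (one A)) C).X n :=
  incl (smulCone x (one A)) C (-1) (n + 1) n (by omega) ∘ₗ
      TensorProduct.mk A _ _ (e1 x) ∘ₗ cfst (x • 𝟙 C) n (n + 1) rfl +
    incl (smulCone x (one A)) C 0 n n (zero_add n) ∘ₗ
      TensorProduct.mk A _ _ (e0 x) ∘ₗ csnd (x • 𝟙 C) n

open Groth.Agent.Lib.TensorCx.Basic in
theorem coneMap_cmk (n : ℤ) (a : C.X (n + 1)) (b : C.X n) :
    coneMap x C n (cmk (x • 𝟙 C) n (n + 1) rfl (a, b)) =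
      incl (smulCone x (one A)) C (-1) (n + 1) n (by omega) (e1 x ⊗ₜ a) +
        incl (smulCone x (one A)) C 0 n n (zero_add n) (e0 x ⊗ₜ b) := by
  simp only [coneMap, LinearMap.add_apply, LinearMap.comp_apply, cfst_cmk, csnd_cmk]
  rfl

open Groth.Agent.Lib.TensorCx.Basic in
theorem coneMap_d (n m : ℤ) (hm : n + 1 = m) (z : (smulCone x C).X n) :
    (tens (smulCone x (one A)) C).d n m (coneMap x C n z) =
      coneMap x C m ((smulCone x C).d n m z) := by
  subst hm
  obtain ⟨⟨a, b⟩, rfl⟩ := cmk_surjective (x • 𝟙 C) n (n + 1) rfl z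
  rw [d_cmk _ n (n + 1) (n + 1 + 1) rfl rfl, coneMap_cmk, coneMap_cmk, map_add,
    d_incl _ _ (-1) (n + 1) n 0 (n + 1 + 1) (n + 1) (by omega) rfl rfl (by omega) (by omega),
    d_incl _ _ 0 n n 1 (n + 1) (n + 1) (zero_add n) rfl rfl (by omega) (by omega)]
  simp only [LinearMap.rTensor_tmul, LinearMap.lTensor_tmul, d_e1, d_e0 x 1 rfl, zero_tmul, map_zero,
    zero_add, map_smul_id, tmul_add, tmul_smul, smul_tmul, tmul_neg, map_add, map_neg, map_smul,
    Int.negOnePow_neg, Int.negOnePow_one, Int.negOnePow_zero, Units.val_neg, Units.val_one,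
    neg_smul, one_smul]
  abel

open Groth.Agent.Lib.TensorCx.Basic in
theorem coneMap_bijective (n : ℤ) : Function.Bijective (coneMap x C n) := by
  constructor
  · rw [injective_iff_map_eq_zero]
    intro z hz
    obtain ⟨⟨a, b⟩, rfl⟩ := cmk_surjective (x • 𝟙 C) n (n + 1) rfl z
    rw [coneMap_cmk] at hz
    have h1 := congrArg (proj (smulCone x (one A)) C (-1) (n + 1) n) hz
    have h0 := congrArg (proj (smulCone x (one A)) C 0 n n) hz
    rw [map_add, proj_incl, proj_incl_ne _ _ _ _ _ _ _ _ (by omega), add_zero, map_zero] at h1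
    rw [map_add, proj_incl, proj_incl_ne _ _ _ _ _ _ _ _ (by omega), zero_add, map_zero] at h0
    have ha := congrArg (fun w => TensorProduct.lid A _
      ((coord ∘ₗ cfst (x • 𝟙 (one A)) (-1) 0 rfl).rTensor (C.X (n + 1)) w)) h1
    have hb := congrArg (fun w => TensorProduct.lid A _
      ((coord ∘ₗ csnd (x • 𝟙 (one A)) 0).rTensor (C.X n) w)) h0
    simp only [LinearMap.rTensor_tmul, LinearMap.comp_apply, e1, e0, cfst_cmk, csnd_cmk, coord_gen0,
      lid_tmul, one_smul, map_zero] at ha hb
    rw [ha, hb]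
    exact map_zero _
  · intro w
    induction w using Groth.Agent.Lib.TensorCx.Basic.induction with
    | zero => exact ⟨0, map_zero _⟩
    | add u v hu hv =>
      obtain ⟨u', rfl⟩ := hu
      obtain ⟨v', rfl⟩ := hv
      exact ⟨u' + v', map_add _ _ _⟩
    | inc i j hij y =>
      induction y using TensorProduct.induction_on with
      | zero => exact ⟨0, by simp⟩
      | add u v hu hv =>
        obtain ⟨u', hu'⟩ := hu
        obtain ⟨v', hv'⟩ := hv
        exact ⟨u' + v', by rw [map_add, map_add, hu', hv']⟩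
      | tmul e c =>
        rcases eq_or_ne i (-1) with rfl | h1
        · obtain rfl : j = n + 1 := by omega
          obtain ⟨⟨a', b'⟩, rfl⟩ := cmk_surjective (x • 𝟙 (one A)) (-1) 0 rfl e
          haveI : Subsingleton ((one A).X (-1)) := subsingleton_X (by omega)
          refine ⟨cmk (x • 𝟙 C) n (n + 1) rfl (coord a' • c, 0), ?_⟩
          rw [coneMap_cmk, tmul_zero, map_zero, add_zero, ← smul_tmul, e1, ← map_smul, Prod.smul_mk,
            ← eq_coord_smul, Subsingleton.elim b' (coord a' • 0)]
        · rcases eq_or_ne i 0 with rfl | h0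
          · obtain rfl : j = n := by omega
            obtain ⟨⟨a', b'⟩, rfl⟩ := cmk_surjective (x • 𝟙 (one A)) 0 1 rfl e
            haveI : Subsingleton ((one A).X 1) := subsingleton_X (by omega)
            refine ⟨cmk (x • 𝟙 C) j (j + 1) rfl (0, coord b' • c), ?_⟩
            rw [coneMap_cmk, tmul_zero, map_zero, zero_add, ← smul_tmul, e0, ← map_smul, Prod.smul_mk,
              ← eq_coord_smul, Subsingleton.elim a' (coord b' • 0)]
          · obtain ⟨⟨a', b'⟩, rfl⟩ := cmk_surjective (x • 𝟙 (one A)) i (i + 1) rfl e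
            haveI : Subsingleton ((one A).X i) := subsingleton_X h0
            haveI : Subsingleton ((one A).X (i + 1)) := subsingleton_X (by omega)
            rw [Subsingleton.elim a' 0, Subsingleton.elim b' 0, Prod.mk_zero_zero, map_zero, zero_tmul,
              map_zero]
            exact ⟨0, map_zero _⟩

/-- `cone(x) ⊗ C` is the cone of `x` on `C`. -/
noncomputable def coneIso : smulCone x C ≅ smulCone x (one A) ⊗ C :=
  HomologicalComplex.Hom.isoOfComponents
    (fun n => (LinearEquiv.ofBijective (coneMap x C n) (coneMap_bijective x C n)).toModuleIso)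
    (fun n m hm => by
      ext z
      exact coneMap_d x C n m hm z)

end Cone

/-- `K(l) ⊗ C` is the Koszul complex on `C`. -/
noncomputable def tensorIso : ∀ (l : List A) (C : DRing.Cx A), koszulOn (one A) l ⊗ C ≅ koszulOn C l
  | [], C => show one A ⊗ C ≅ C from λ_ C
  | f :: l, C =>
    whiskerRightIso (coneIso f (koszulOn (one A) l)) C ≪≫ α_ _ _ _ ≪≫
      whiskerLeftIso _ (tensorIso l C) ≪≫ (coneIso f (koszulOn C l)).symm

section Zero

variable (M : ModuleCat.{u} A)

/-- With scalars killing `M` the differentials vanish and the terms are free over `M`. -/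
theorem zero_struct : ∀ l : List A, (∀ f ∈ l, ∀ m : M, f • m = 0) →
    (∀ i j, (koszulOn (sgl M) l).d i j = 0) ∧
      (∀ j, 0 < j → Subsingleton ((koszulOn (sgl M) l).X j)) ∧
        ∀ q : ℕ, Nonempty ((koszulOn (sgl M) l).X (-(q : ℤ)) ≃ₗ[A] (Fin (l.length.choose q) → M)) := by
  intro l
  induction l with
  | nil =>
    intro _
    refine ⟨fun i j => ?_, fun j hj => subsingleton_X (by omega), fun q => ?_⟩
    · exact single_obj_d _ _ _ _ _
    · cases q with
      | zero =>
        exact ⟨(singleObjXSelf (ComplexShape.up ℤ) 0 M).toLinearEquiv ≪≫ₗ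
          (LinearEquiv.funUnique (Fin 1) A M).symm⟩
      | succ q =>
        haveI : Subsingleton ((koszulOn (sgl M) ([] : List A)).X (-((q + 1 : ℕ) : ℤ))) :=
          subsingleton_X (by push_cast; omega)
        haveI : IsEmpty (Fin (([] : List A).length.choose (q + 1))) := by
          simp only [List.length_nil, Nat.choose_zero_succ]; infer_instance
        exact ⟨LinearEquiv.ofSubsingleton _ _⟩
  | cons f l ih =>
    intro hl
    obtain ⟨hd, hpos, hX⟩ := ih fun g hg => hl g (List.mem_cons_of_mem _ hg)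
    set C := koszulOn (sgl M) l with hC
    let φ := f • 𝟙 C
    have hkill : ∀ (j : ℤ) (y : C.X j), f • y = 0 := by
      intro j y
      rcases lt_or_ge 0 j with h | h
      · haveI := hpos j h
        exact Subsingleton.elim _ _
      · obtain ⟨q, rfl⟩ : ∃ q : ℕ, j = -(q : ℤ) := ⟨j.natAbs, by omega⟩
        apply (hX q).some.injective
        rw [map_smul, map_zero]
        exact funext fun _ => hl f List.mem_cons_self _
    let E : ∀ i j : ℤ, i + 1 = j → ((smulCone f C).X i ≃ₗ[A] C.X j × C.X i) := fun i j h =>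
      { toFun := fun z => (cfst φ i j h z, csnd φ i z)
        map_add' := fun z z' => by simp
        map_smul' := fun a z => by simp
        invFun := cmk φ i j h
        left_inv := cmk_coords φ i j h
        right_inv := fun w => Prod.ext (cfst_cmk φ i j h w) (csnd_cmk φ i j h w) }
    refine ⟨fun i j => ?_, fun j hj => ?_, fun q => ?_⟩
    · by_cases h : i + 1 = j
      · ext z
        obtain ⟨⟨a, b⟩, rfl⟩ := cmk_surjective φ i j h z
        show (CochainComplex.mappingCone φ).d i j _ = _
        rw [d_cmk φ i j (j + 1) h rfl, map_smul_id, hkill, hd, hd]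
        simp only [ModuleCat.hom_zero, LinearMap.zero_apply, neg_zero, add_zero, Prod.mk_zero_zero, map_zero]
        all_goals rfl
      · exact (smulCone f C).shape i j h
    · haveI := hpos j hj
      haveI := hpos (j + 1) (by omega)
      exact (E j (j + 1) rfl).toEquiv.subsingleton
    · cases q with
      | zero =>
        haveI := hpos 1 one_pos
        haveI : Unique (C.X 1) := uniqueOfSubsingleton 0
        exact ⟨E (-(0 : ℕ) : ℤ) 1 (by norm_num) ≪≫ₗ LinearEquiv.uniqueProd ≪≫ₗ (hX 0).some ≪≫ₗ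
          LinearEquiv.funCongrLeft A M (finCongr (by simp))⟩
      | succ q =>
        exact ⟨E (-((q + 1 : ℕ) : ℤ)) (-(q : ℤ)) (by push_cast; ring) ≪≫ₗ
          (hX q).some.prodCongr (hX (q + 1)).some ≪≫ₗ
          (LinearEquiv.sumArrowLequivProdArrow _ _ A M).symm ≪≫ₗ
          LinearEquiv.funCongrLeft A M ((finCongr (by rw [List.length_cons, Nat.choose_succ_succ])).trans
            finSumFinEquiv.symm)⟩

theorem nonempty_homology_zero_struct (l : List A) (hl : ∀ f ∈ l, ∀ m : M, f • m = 0) (q : ℕ) :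
    Nonempty ((koszulOn (sgl M) l).homology (-(q : ℤ)) ≃ₗ[A] (Fin (l.length.choose q) → M)) := by
  obtain ⟨hd, -, hX⟩ := zero_struct M l hl
  exact ⟨(ShortComplex.LeftHomologyData.ofZeros ((koszulOn (sgl M) l).sc (-(q : ℤ))) (hd _ _)
    (hd _ _)).homologyIso.toLinearEquiv ≪≫ₗ (hX q).some⟩

end Zero

/-- A weakly regular Koszul complex resolves the quotient. -/
theorem exists_qis (M : ModuleCat.{u} A) (l : List A) (h : IsWeaklyRegular M l) :
    ∃ (Q : ModuleCat.{u} A) (π : koszulOn (sgl M) l ⟶ sgl Q), QuasiIso π ∧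
      Nonempty (Q ≃ₗ[A] (M ⧸ (Ideal.ofList l • ⊤ : Submodule A M))) := by
  have key : ∀ (l : List A) (M : ModuleCat.{u} A), IsWeaklyRegular M l →
      ∃ (Q : ModuleCat.{u} A) (π : koszulOn (sgl M) l ⟶ sgl Q), QuasiIso π := by
    intro l
    induction l with
    | nil => exact fun M _ => ⟨M, 𝟙 _, inferInstanceAs (QuasiIso (𝟙 _))⟩
    | cons f l ih =>
      intro M h
      rw [isWeaklyRegular_cons_iff] at h
      haveI := quasiIso_coneToQuot M f h.1
      haveI := quasiIso_koszulOnMap (coneToQuot M f) l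
      obtain ⟨Q, π, hπ⟩ := ih (ModuleCat.of A (QuotSMulTop f M)) h.2
      exact ⟨Q, (innerIso (sgl M) f l).hom ≫ koszulOnMap (coneToQuot M f) l ≫ π, inferInstance⟩
  obtain ⟨Q, π, hπ⟩ := key l M h
  exact ⟨Q, π, hπ, ⟨(sglHomologyEquiv Q).symm ≪≫ₗ
    (isoOfQuasiIsoAt π 0).toLinearEquiv.symm ≪≫ₗ (Koszul.Basic.nonempty_homology_zero M l).some⟩⟩

section Loc

/-- The complex of a module tensored in degree zero. -/
noncomputable def sglTensorIso (S : ModuleCat.{u} A) (X : DRing.Cx A) :
    ((MonoidalCategory.tensorLeft S).mapHomologicalComplex (ComplexShape.up ℤ)).obj X ≅ sgl S ⊗ X :=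
  HomologicalComplex.Hom.isoOfComponents
    (fun n => @asIso _ _ _ _ _ (DerivedOX.Bifunctor.isIso_singleHom₁
      (curriedTensor (ModuleCat.{u} A)) S 0 X n n (zero_add n)))
    (fun n m hm => by
      refine (DerivedOX.Bifunctor.singleHom₁_d (curriedTensor (ModuleCat.{u} A)) S 0 X n m n m
        (zero_add n) (zero_add m) hm).trans ?_
      simp
      rfl)

end Loc

end Groth.Agent.Lib.DR.KoszulTensor
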