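import Mathlib.CategoryTheory.Functor.Derived.LeftDerived
import Mathlib.CategoryTheory.Localization.Predicate

/-!
# Left derived functors from a resolution functor
-/

universe v₁ v₂ v₃ u₁ u₂ u₃

open CategoryTheory CategoryTheory.Functor

namespace Groth.Agent.Lib.DR.LeftDerived

variable {C : Type u₁} [Category.{v₁} C] {D : Type u₂} [Category.{v₂} D] {H : Type u₃}
  [Category.{v₃} H] (L : C ⥤ D) (W : MorphismProperty C) [L.IsLocalization W] (G : C ⥤ H)
  (R : C ⥤ C) (η : R ⟶ 𝟭 C)

/-- Resolution data for `G`: `η` is in `W`, `R ⋙ G` inverts `W`, and resolved objects are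
`G`-acyclic. -/
structure ResData : Prop where
  mem : ∀ X, W (η.app X)
  inverts : W.IsInvertedBy (R ⋙ G)
  idem : ∀ X, IsIso (G.map (η.app (R.obj X)))

variable {L W G R η} (h : ResData W G R η)

/-- The derived functor defined by the resolution. -/
noncomputable def derived : D ⥤ H := Localization.lift (R ⋙ G) h.inverts L

/-- Its factorization. -/
noncomputable def derivedFac : L ⋙ derived (L := L) h ≅ R ⋙ G :=
  Localization.fac (R ⋙ G) h.inverts L

/-- The counit. -/
noncomputable def counit : L ⋙ derived (L := L) h ⟶ G :=
  (derivedFac h).hom ≫ whiskerRight η G ≫ G.leftUnitor.hom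

lemma counit_app (X : C) :
    (counit (L := L) h).app X = (derivedFac h).hom.app X ≫ G.map (η.app X) := by
  simp [counit]

/-- The candidate lift. -/
noncomputable def liftCore (E : D ⥤ H) (β : L ⋙ E ⟶ G) : L ⋙ E ⟶ L ⋙ derived (L := L) h :=
  haveI : ∀ X, IsIso (E.map (L.map (η.app X))) := fun X => by
    have := Localization.inverts L W _ (h.mem X)
    infer_instance
  haveI : ∀ X, IsIso (G.map (η.app (R.obj X))) := h.idem
  { app := fun X => inv (E.map (L.map (η.app X))) ≫ β.app (R.obj X) ≫
      inv (G.map (η.app (R.obj X))) ≫ G.map (R.map (η.app X)) ≫ (derivedFac h).inv.app X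
    naturality := fun {X Y} f => by
      have e₁ : E.map (L.map f) ≫ inv (E.map (L.map (η.app Y))) =
          inv (E.map (L.map (η.app X))) ≫ E.map (L.map (R.map f)) := by
        rw [IsIso.eq_inv_comp, ← Category.assoc, IsIso.comp_inv_eq, ← E.map_comp, ← L.map_comp,
          ← E.map_comp, ← L.map_comp, η.naturality]
        rfl
      have e₂ := β.naturality (R.map f)
      have e₃ : G.map (R.map f) ≫ inv (G.map (η.app (R.obj Y))) =
          inv (G.map (η.app (R.obj X))) ≫ G.map (R.map (R.map f)) := by
        rw [IsIso.eq_inv_comp, ← Category.assoc, IsIso.comp_inv_eq, ← G.map_comp, ← G.map_comp,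
          η.naturality]
        rfl
      have e₄ : R.map (R.map f) ≫ R.map (η.app Y) = R.map (η.app X) ≫ R.map f := by
        rw [← R.map_comp, ← R.map_comp, η.naturality]
        rfl
      have e₅ := (derivedFac (L := L) h).inv.naturality f
      simp only [Functor.comp_map, Functor.comp_obj] at e₂ e₅ ⊢
      rw [reassoc_of% e₁, reassoc_of% e₂, reassoc_of% e₃, ← G.map_comp_assoc (R.map (R.map f)), e₄,
        G.map_comp_assoc, e₅]
      simp only [Category.assoc] }

lemma liftCore_fac (E : D ⥤ H) (β : L ⋙ E ⟶ G) : liftCore h E β ≫ counit h = β := by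
  have : ∀ X, IsIso (G.map (η.app (R.obj X))) := h.idem
  ext X
  have : IsIso (E.map (L.map (η.app X))) := by
    have := Localization.inverts L W _ (h.mem X)
    infer_instance
  have e₁ : R.map (η.app X) ≫ η.app X = η.app (R.obj X) ≫ η.app X := η.naturality (η.app X)
  have e₂ := β.naturality (η.app X)
  simp only [Functor.comp_map, Functor.comp_obj] at e₂
  simp only [liftCore, NatTrans.comp_app, counit_app, Category.assoc, Iso.inv_hom_id_app_assoc]
  rw [← G.map_comp, e₁, G.map_comp, IsIso.inv_hom_id_assoc, IsIso.inv_comp_eq]
  exact e₂.symm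

lemma ext_core (E : D ⥤ H) (m m' : L ⋙ E ⟶ L ⋙ derived (L := L) h)
    (hm : m ≫ counit h = m' ≫ counit h) : m = m' := by
  ext X
  have : ∀ X, IsIso (G.map (η.app (R.obj X))) := h.idem
  have : IsIso (E.map (L.map (η.app X))) := by
    have := Localization.inverts L W _ (h.mem X)
    infer_instance
  have : IsIso ((counit (L := L) h).app (R.obj X)) := by
    rw [counit_app]
    infer_instance
  have e := congr_app hm (R.obj X)
  simp only [NatTrans.comp_app, cancel_mono] at e
  rw [← cancel_epi (E.map (L.map (η.app X)))]
  exact ((m.naturality (η.app X)).trans (congrArg (· ≫ _) e)).trans (m'.naturality (η.app X)).symm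

include h in
/-- The functor defined by the resolution is the left derived functor. -/
theorem isLeftDerivedFunctor : (derived h).IsLeftDerivedFunctor (counit (L := L) h) W where
  isRightKanExtension := ⟨⟨Limits.IsTerminal.ofUniqueHom (fun E =>
      CostructuredArrow.homMk
        (Localization.liftNatTrans L W _ _ E.left (derived h) (liftCore h E.left E.hom)) <| by
          ext X
          have := congr_app (liftCore_fac h E.left E.hom) X
          change (Localization.liftNatTrans L W _ _ E.left (derived h)
            (liftCore h E.left E.hom)).app (L.obj X) ≫ (counit h).app X = _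
          simpa [Localization.Lifting.iso] using this)
      (fun E m => CostructuredArrow.hom_ext _ _ <| Localization.natTrans_ext L W fun X => by
        refine congr_app (ext_core h E.left (whiskerLeft L m.left) (whiskerLeft L _) ?_) X
        refine (CostructuredArrow.w m).trans (CostructuredArrow.w _).symm)⟩⟩

section

variable [G.HasLeftDerivedFunctor W]

include h in
/-- The total left derived functor agrees with `G` at objects whose resolution map `G` inverts. -/
theorem isIso_totalLeftDerivedCounit_app (X : C) (hX : IsIso (G.map (η.app X))) :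
    IsIso ((G.totalLeftDerivedCounit L W).app X) := by
  have := isLeftDerivedFunctor (L := L) h
  let e := leftDerivedNatIso (G.totalLeftDerived L W) (derived h) (G.totalLeftDerivedCounit L W)
    (counit h) W (Iso.refl G)
  have : (G.totalLeftDerivedCounit L W).app X = e.hom.app (L.obj X) ≫ (counit h).app X :=
    ((leftDerivedNatTrans_app (G.totalLeftDerived L W) (derived h) (G.totalLeftDerivedCounit L W)
      (counit h) W (𝟙 G) X).trans (Category.comp_id _)).symm
  rw [this, counit_app]
  infer_instance

end

end Groth.Agent.Lib.DR.LeftDerived
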