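import Groth.Agent.Lib.DR.RegSub
import Mathlib.Algebra.Module.LocalizedModule.Basic
import Mathlib.Algebra.Module.FinitePresentation
import Mathlib.LinearAlgebra.ExteriorPower.Basis
import Mathlib.LinearAlgebra.TensorProduct.Quotient
import Mathlib.Algebra.Algebra.RestrictScalars
import Mathlib.RingTheory.Localization.AtPrime.Basic

/-!
# Linear maps bijective up to elements outside a prime
-/

set_option linter.unusedSimpArgs false
set_option maxSynthPendingDepth 3
set_option linter.style.longLine false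

universe u

open TensorProduct RingTheory.Sequence

namespace Groth.Agent.Lib.DR.LocBij

variable {A : Type u} [CommRing A]

/-- `φ` becomes bijective on localizing at `S`. -/
structure IsLocBij (S : Submonoid A) {X Y : Type u} [AddCommGroup X] [Module A X] [AddCommGroup Y]
    [Module A Y] (φ : X →ₗ[A] Y) : Prop where
  surj : ∀ y, ∃ x, ∃ s ∈ S, φ x = s • y
  inj : ∀ x, φ x = 0 → ∃ s ∈ S, s • x = 0

variable {S : Submonoid A} {X Y Z : Type u} [AddCommGroup X] [Module A X] [AddCommGroup Y]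
  [Module A Y] [AddCommGroup Z] [Module A Z]

theorem of_equiv (e : X ≃ₗ[A] Y) : IsLocBij S e.toLinearMap :=
  ⟨fun y => ⟨e.symm y, 1, S.one_mem, by simp⟩, fun x hx => ⟨1, S.one_mem, by simpa using hx⟩⟩

theorem comp {φ : X →ₗ[A] Y} {ψ : Y →ₗ[A] Z} (hψ : IsLocBij S ψ) (hφ : IsLocBij S φ) :
    IsLocBij S (ψ ∘ₗ φ) := by
  constructor
  · intro z
    obtain ⟨y, s, hs, hy⟩ := hψ.surj z
    obtain ⟨x, t, ht, hx⟩ := hφ.surj y
    exact ⟨x, t * s, S.mul_mem ht hs, by rw [LinearMap.comp_apply, hx, map_smul, hy, mul_smul]⟩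
  · intro x hx
    obtain ⟨s, hs, h1⟩ := hψ.inj (φ x) hx
    obtain ⟨t, ht, h2⟩ := hφ.inj (s • x) (by rw [map_smul, h1])
    exact ⟨t * s, S.mul_mem ht hs, by rw [mul_smul, h2]⟩

theorem prodMap {X' Y' : Type u} [AddCommGroup X'] [Module A X'] [AddCommGroup Y'] [Module A Y']
    {φ : X →ₗ[A] Y} {ψ : X' →ₗ[A] Y'} (hφ : IsLocBij S φ) (hψ : IsLocBij S ψ) :
    IsLocBij S (φ.prodMap ψ) := by
  constructor
  · rintro ⟨y, y'⟩
    obtain ⟨x, s, hs, hx⟩ := hφ.surj y
    obtain ⟨x', t, ht, hx'⟩ := hψ.surj y'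
    refine ⟨(t • x, s • x'), s * t, S.mul_mem hs ht, Prod.ext ?_ ?_⟩
    · simp [hx, ← mul_smul, mul_comm s t]
    · simp [hx', ← mul_smul]
  · rintro ⟨x, x'⟩ h
    obtain ⟨s, hs, h1⟩ := hφ.inj x (congrArg Prod.fst h)
    obtain ⟨t, ht, h2⟩ := hψ.inj x' (congrArg Prod.snd h)
    refine ⟨s * t, S.mul_mem hs ht, Prod.ext ?_ ?_⟩
    · simp [mul_comm s t, mul_smul, h1]
    · simp [mul_smul, h2]

/-- A map bijective up to scalars induces a bijection of localizations. -/
theorem bijective_map {φ : X →ₗ[A] Y} (h : IsLocBij S φ) :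
    Function.Bijective (IsLocalizedModule.map S (LocalizedModule.mkLinearMap S X)
      (LocalizedModule.mkLinearMap S Y) φ) := by
  constructor
  · rw [injective_iff_map_eq_zero]
    intro z hz
    obtain ⟨⟨x, s⟩, rfl⟩ := IsLocalizedModule.mk'_surjective S (LocalizedModule.mkLinearMap S X) z
    simp only [Function.uncurry_apply_pair, IsLocalizedModule.map_mk', IsLocalizedModule.mk'_eq_zero'] at hz
    obtain ⟨t, ht⟩ := hz
    obtain ⟨u, hu, hu'⟩ := h.inj ((t : A) • x) (by rw [map_smul]; exact ht)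
    exact (IsLocalizedModule.mk'_eq_zero' (LocalizedModule.mkLinearMap S X) s).2
      ⟨⟨u * t, S.mul_mem hu t.2⟩, show (u * (t : A)) • x = 0 by rw [mul_smul, hu']⟩
  · intro z
    obtain ⟨⟨y, s⟩, rfl⟩ := IsLocalizedModule.mk'_surjective S (LocalizedModule.mkLinearMap S Y) z
    obtain ⟨x, t, ht, hx⟩ := h.surj y
    refine ⟨IsLocalizedModule.mk' (LocalizedModule.mkLinearMap S X) x (⟨t, ht⟩ * s), ?_⟩
    simp only [Function.uncurry_apply_pair, IsLocalizedModule.map_mk', hx]
    exact IsLocalizedModule.mk'_cancel_left (LocalizedModule.mkLinearMap S Y) y ⟨t, ht⟩ s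

/-- The induced equivalence of localizations. -/
theorem nonempty_equiv {φ : X →ₗ[A] Y} (h : IsLocBij S φ) :
    Nonempty (LocalizedModule S X ≃ₗ[A] LocalizedModule S Y) :=
  ⟨LinearEquiv.ofBijective _ (bijective_map h)⟩

theorem exists_uniform [Module.Finite A X] (D : X →ₗ[A] Z) (hD : ∀ x, ∃ t ∈ S, t • D x = 0) :
    ∃ t ∈ S, t • D = 0 := by
  classical
  obtain ⟨σ, hσ⟩ := (Module.finite_def.1 ‹Module.Finite A X›)
  choose t ht ht' using hD
  refine ⟨∏ x ∈ σ, t x, S.prod_mem (fun x _ => ht x), ?_⟩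
  refine LinearMap.ext_on hσ fun x hx => ?_
  rw [LinearMap.smul_apply, ← Finset.prod_erase_mul σ t hx, mul_smul, ht', smul_zero, LinearMap.zero_apply]

/-- An inverse up to one scalar. -/
theorem exists_inverse [Module.Finite A X] [Module.FinitePresentation A Y] {φ : X →ₗ[A] Y}
    (h : IsLocBij S φ) :
    ∃ (ψ : Y →ₗ[A] X), ∃ s ∈ S, φ ∘ₗ ψ = s • LinearMap.id ∧ ψ ∘ₗ φ = s • LinearMap.id := by
  let e := LinearEquiv.ofBijective _ (bijective_map h)
  obtain ⟨g, ⟨s, hs⟩, hg⟩ := Module.FinitePresentation.exists_lift_of_isLocalizedModule S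
    (LocalizedModule.mkLinearMap S X) (e.symm.toLinearMap ∘ₗ LocalizedModule.mkLinearMap S Y)
  have hY : ∀ y, ∃ t ∈ S, t • (φ ∘ₗ g - s • (LinearMap.id : Y →ₗ[A] Y) : Y →ₗ[A] Y) y = 0 := by
    intro y
    have h1 := congrArg e (LinearMap.congr_fun hg y)
    simp only [Submonoid.mk_smul, LinearMap.comp_apply, LinearMap.smul_apply, map_smul,
      LinearEquiv.coe_coe, LinearEquiv.apply_symm_apply] at h1
    have h2 : LocalizedModule.mkLinearMap S Y (φ (g y)) = LocalizedModule.mkLinearMap S Y (s • y) := by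
      rw [map_smul, ← h1]
      exact (IsLocalizedModule.map_apply S (LocalizedModule.mkLinearMap S X)
        (LocalizedModule.mkLinearMap S Y) φ (g y)).symm
    obtain ⟨t, ht⟩ := IsLocalizedModule.exists_of_eq (S := S) h2
    exact ⟨t, t.2, by
      rw [LinearMap.sub_apply, smul_sub, sub_eq_zero]; exact ht⟩
  obtain ⟨t, ht, ht'⟩ := exists_uniform _ hY
  have hX : ∀ x, ∃ v ∈ S, v • (t • (g ∘ₗ φ - s • (LinearMap.id : X →ₗ[A] X)) : X →ₗ[A] X) x = 0 := by
    intro x
    refine h.inj _ ?_
    have := LinearMap.congr_fun ht' (φ x)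
    simpa only [LinearMap.smul_apply, LinearMap.sub_apply, LinearMap.comp_apply, LinearMap.id_apply,
      map_smul, map_sub, LinearMap.zero_apply] using this
  obtain ⟨v, hv, hv'⟩ := exists_uniform _ hX
  refine ⟨(v * t) • g, v * t * s, S.mul_mem (S.mul_mem hv ht) hs, ?_, ?_⟩
  · rw [← sub_eq_zero, LinearMap.comp_smul, mul_smul _ s, ← smul_sub, mul_smul, ht', smul_zero]
  · rw [← sub_eq_zero, LinearMap.smul_comp, mul_smul _ s, ← smul_sub, mul_smul, hv']

section Conormal

variable (p : Ideal A) [p.IsPrime]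

/-- The classes of `f` in `A/J ⊗ I`. -/
noncomputable def conMap (J I : Ideal A) {n : ℕ} (f : Fin n → A) (hf : ∀ i, f i ∈ I) :
    (Fin n → A ⧸ J) →ₗ[A] (A ⧸ J) ⊗[A] I :=
  LinearMap.lsum A (fun _ : Fin n => A ⧸ J) A fun i => (TensorProduct.mk A (A ⧸ J) I).flip ⟨f i, hf i⟩

theorem conMap_apply (J I : Ideal A) {n : ℕ} (f : Fin n → A) (hf : ∀ i, f i ∈ I) (y : Fin n → A ⧸ J) :
    conMap J I f hf y = ∑ i, y i ⊗ₜ[A] (⟨f i, hf i⟩ : I) := by
  simp [conMap]

theorem isLocBij_conMap (J I : Ideal A) (hIJ : I ≤ J) {n : ℕ} (f : Fin n → A) (hf : ∀ i, f i ∈ I)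
    (hgen : ∀ x ∈ I, ∃ s ∈ p.primeCompl, s * x ∈ Ideal.span (Set.range f))
    (hreg : IsWeaklyRegular (Localization.AtPrime p)
      (List.ofFn fun i => algebraMap A (Localization.AtPrime p) (f i))) :
    IsLocBij p.primeCompl (conMap J I f hf) := by
  have hgen' : ∀ x : I, ∃ s ∈ p.primeCompl, ∃ c : Fin n → A, ∑ i, c i * f i = s * x := by
    intro x
    obtain ⟨s, hs, h⟩ := hgen x x.2
    obtain ⟨c, hc⟩ := (Submodule.mem_span_range_iff_exists_fun _).1 h
    exact ⟨s, hs, c, hc⟩
  constructor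
  · intro y
    induction y using TensorProduct.induction_on with
    | zero => exact ⟨0, 1, one_mem _, by simp⟩
    | tmul b x =>
      obtain ⟨s, hs, c, hc⟩ := hgen' x
      refine ⟨fun i => c i • b, s, hs, ?_⟩
      rw [conMap_apply, ← tmul_smul]
      simp only [smul_tmul]
      rw [← tmul_sum]
      congr 1
      apply Subtype.ext
      simpa [Submodule.coe_sum] using hc
    | add y y' h h' =>
      obtain ⟨x, s, hs, hx⟩ := h
      obtain ⟨x', s', hs', hx'⟩ := h'
      refine ⟨s' • x + s • x', s * s', mul_mem hs hs', ?_⟩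
      rw [map_add, map_smul, map_smul, hx, hx', smul_add, ← mul_smul, ← mul_smul, mul_comm s' s]
  · intro y hy
    choose a ha using fun i => Ideal.Quotient.mk_surjective (y i)
    let z : I := ∑ i, a i • (⟨f i, hf i⟩ : I)
    have hz : (1 : A ⧸ J) ⊗ₜ[A] z = 0 := by
      rw [← hy, conMap_apply, tmul_sum]
      refine Finset.sum_congr rfl fun i _ => ?_
      rw [← smul_tmul, ← ha i, ← Ideal.Quotient.algebraMap_eq, Algebra.algebraMap_eq_smul_one]
    have hz' : z ∈ (J • ⊤ : Submodule A I) := by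
      have := congrArg (TensorProduct.quotTensorEquivQuotSMul I J) hz
      rw [map_zero, show (1 : A ⧸ J) = Ideal.Quotient.mk J 1 from rfl,
        TensorProduct.quotTensorEquivQuotSMul_mk_tmul, one_smul] at this
      exact (Submodule.Quotient.mk_eq_zero _).1 this
    have key : ∀ w ∈ (J • ⊤ : Submodule A I), ∃ s ∈ p.primeCompl, ∃ b : Fin n → A,
        (∀ i, b i ∈ J) ∧ ∑ i, b i * f i = s * w := by
      intro w hw
      refine Submodule.smul_induction_on hw (fun j hj x _ => ?_) ?_
      · obtain ⟨s, hs, c, hc⟩ := hgen' x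
        refine ⟨s, hs, fun i => j * c i, fun i => Ideal.mul_mem_right _ _ hj, ?_⟩
        simp only [mul_assoc, ← Finset.mul_sum, hc, Submodule.coe_smul, smul_eq_mul]
        ring
      · rintro w w' ⟨s, hs, b, hb, hw⟩ ⟨s', hs', b', hb', hw'⟩
        refine ⟨s * s', mul_mem hs hs', fun i => s' * b i + s * b' i,
          fun i => add_mem (Ideal.mul_mem_left _ _ (hb i)) (Ideal.mul_mem_left _ _ (hb' i)), ?_⟩
        simp only [add_mul, Finset.sum_add_distrib, mul_assoc, ← Finset.mul_sum, hw, hw',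
          Submodule.coe_add]
        ring
    obtain ⟨s, hs, b, hb, hsum⟩ := key z hz'
    have hzc : (z : A) = ∑ i, a i * f i := by simp [z]
    have hrel : ∑ i, algebraMap A (Localization.AtPrime p) (s * a i - b i) *
        algebraMap A (Localization.AtPrime p) (f i) = 0 := by
      simp only [← map_mul, ← map_sum, sub_mul, Finset.sum_sub_distrib, mul_assoc, ← Finset.mul_sum]
      rw [← hzc, hsum, sub_self, map_zero]
    have hmem := RegSub.mem_of_relation n _ hreg _ hrel
    have ht : ∀ i, ∃ t ∈ p.primeCompl, t * (s * a i) ∈ J := by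
      intro i
      have h2 : algebraMap A (Localization.AtPrime p) (s * a i - b i) ∈
          J.map (algebraMap A (Localization.AtPrime p)) :=
        (Ideal.span_le.2 (Set.range_subset_iff.2 fun j => Ideal.mem_map_of_mem _ (hIJ (hf j)))) (hmem i)
      obtain ⟨t, ht, h3⟩ := (IsLocalization.algebraMap_mem_map_algebraMap_iff p.primeCompl _ _ _).1 h2
      refine ⟨t, ht, ?_⟩
      have : t * (s * a i) = t * (s * a i - b i) + t * b i := by ring
      rw [this]
      exact add_mem h3 (Ideal.mul_mem_left _ _ (hb i))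
    choose t ht ht' using ht
    refine ⟨(∏ i, t i) * s, mul_mem (Submonoid.prod_mem _ fun i _ => ht i) hs, funext fun i => ?_⟩
    classical
    rw [Pi.smul_apply, Pi.zero_apply, ← ha i, ← Finset.prod_erase_mul _ t (Finset.mem_univ i),
      ← Ideal.Quotient.mk_eq_mk, ← Submodule.Quotient.mk_smul, Submodule.Quotient.mk_eq_zero,
      smul_eq_mul, mul_assoc, mul_assoc]
    exact Ideal.mul_mem_left _ _ (ht' i)

end Conormal

section Kernel

variable {B : Type u} [CommRing B] [Algebra A B] [Module B X] [Module B Y] [IsScalarTower A B X]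
  [IsScalarTower A B Y]

/-- The kernel of a map that is, up to scalars, a coordinate projection. -/
theorem exists_ker {V W : Type u} [AddCommGroup V] [Module A V] [AddCommGroup W] [Module A W]
    [Module.Finite A W] [Module.FinitePresentation A Y] (T : X →ₗ[B] Y) (ez : V →ₗ[A] X)
    (eh : W →ₗ[A] X) (he : IsLocBij S (ez.coprod eh))
    (hh : IsLocBij S (T.restrictScalars A ∘ₗ eh)) :
    ∃ φ : V →ₗ[A] LinearMap.ker T, IsLocBij S φ := by
  obtain ⟨ψ, s, hs, h1, h2⟩ := exists_inverse hh
  have hT : ∀ v, s • ez v - eh (ψ (T (ez v))) ∈ LinearMap.ker T := fun v => by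
    rw [LinearMap.mem_ker, map_sub, LinearMap.map_smul_of_tower, sub_eq_zero]
    exact (LinearMap.congr_fun h1 (T (ez v))).symm
  let φ : V →ₗ[A] LinearMap.ker T :=
    { toFun := fun v => ⟨_, hT v⟩
      map_add' := fun v v' => Subtype.ext (by
        simp only [map_add, smul_add, Submodule.coe_add]
        abel)
      map_smul' := fun a v => Subtype.ext (by
        simp only [map_smul, LinearMap.map_smul_of_tower, RingHom.id_apply, Submodule.coe_smul_of_tower,
          smul_sub, smul_comm s a]) }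
  refine ⟨φ, ⟨fun k => ?_, fun v hv => ?_⟩⟩
  · obtain ⟨⟨v, w⟩, t, ht, hk⟩ := he.surj (k : X)
    rw [LinearMap.coprod_apply] at hk
    have h3 : T (ez v) = - T (eh w) := by
      rw [eq_neg_iff_add_eq_zero, ← map_add, hk, LinearMap.map_smul_of_tower, LinearMap.mem_ker.1 k.2,
        smul_zero]
    have h4 : ψ (T (ez v)) = - (s • w) := by
      rw [h3, map_neg]
      exact congrArg Neg.neg (LinearMap.congr_fun h2 w)
    refine ⟨v, s * t, S.mul_mem hs ht, Subtype.ext ?_⟩
    show s • ez v - eh (ψ (T (ez v))) = ((s * t) • k : LinearMap.ker T).1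
    rw [h4, map_neg, map_smul, sub_neg_eq_add, ← smul_add, hk, ← mul_smul]
    rfl
  · have h3 : (ez.coprod eh) (s • v, -ψ (T (ez v))) = 0 := by
      rw [LinearMap.coprod_apply, map_smul, map_neg, ← sub_eq_add_neg]
      exact congrArg Subtype.val hv
    obtain ⟨t, ht, h4⟩ := he.inj _ h3
    exact ⟨t * s, S.mul_mem ht hs, by rw [mul_smul]; exact congrArg Prod.fst h4⟩

end Kernel

section Exterior

variable (B : Type u) [CommRing B] [Algebra A B]

/-- A `B`-linear map between restrictions of scalars. -/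
def rsMap {U V : Type u} [AddCommGroup U] [Module B U] [AddCommGroup V] [Module B V] (g : U →ₗ[B] V) :
    RestrictScalars A B U →ₗ[A] RestrictScalars A B V where
  toFun := g
  map_add' := g.map_add
  map_smul' a x := g.map_smul (algebraMap A B a) x

theorem map_smul_id {U : Type u} [AddCommGroup U] [Module B U] (b : B) (q : ℕ) :
    exteriorPower.map q (b • (LinearMap.id : U →ₗ[B] U)) = b ^ q • LinearMap.id := by
  rw [Submodule.linearMap_eq_iff_of_span_eq_top _ _ (exteriorPower.ιMulti_span B q U)]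
  rintro ⟨_, v, rfl⟩
  simp only [exteriorPower.map_apply_ιMulti, LinearMap.smul_apply, LinearMap.id_apply]
  rw [show (⇑(b • (LinearMap.id : U →ₗ[B] U)) ∘ v) = fun i => b • v i from rfl,
    AlternatingMap.map_smul_univ]
  simp


set_option backward.isDefEq.respectTransparency false in
theorem isLocBij_exteriorPower (hB : Function.Surjective (algebraMap A B)) {U V : Type u}
    [AddCommGroup U] [Module B U] [Module A U] [IsScalarTower A B U] [AddCommGroup V] [Module B V]
    [Module A V] [IsScalarTower A B V] [Module.Finite A U] [Module.FinitePresentation A V]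
    (φ : U →ₗ[B] V) (h : IsLocBij S (φ.restrictScalars A)) (q : ℕ) :
    IsLocBij S (rsMap B (A := A) (exteriorPower.map q φ)) := by
  obtain ⟨ψ₀, s, hs, h1, h2⟩ := exists_inverse h
  let ψ : V →ₗ[B] U := LinearMap.extendScalarsOfSurjective hB ψ₀
  have k1 : φ ∘ₗ ψ = algebraMap A B s • LinearMap.id := LinearMap.ext fun x =>
    (LinearMap.congr_fun h1 x).trans (algebraMap_smul B s x).symm
  have k2 : ψ ∘ₗ φ = algebraMap A B s • LinearMap.id := LinearMap.ext fun x =>
    (LinearMap.congr_fun h2 x).trans (algebraMap_smul B s x).symm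
  have m1 := congrArg (exteriorPower.map q) k1
  have m2 := congrArg (exteriorPower.map q) k2
  rw [map_smul_id, exteriorPower.map_comp] at m1 m2
  constructor
  · intro y
    refine ⟨(exteriorPower.map q ψ y : ↥(⋀[B]^q U)), s ^ q, S.pow_mem hs q, ?_⟩
    refine (LinearMap.congr_fun m1 y).trans ?_
    rw [← map_pow]
    rfl
  · intro x hx
    refine ⟨s ^ q, S.pow_mem hs q, ?_⟩
    have h3 := LinearMap.congr_fun m2 x
    rw [LinearMap.comp_apply, show exteriorPower.map q φ x = 0 from hx, map_zero, ← map_pow] at h3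
    exact h3.symm

/-- The exterior power of a free module, as an `A`-module. -/
theorem nonempty_exteriorPower_equiv (r q : ℕ) :
    Nonempty (RestrictScalars A B ↥(⋀[B]^q (Fin r → B)) ≃ₗ[A] (Fin (r.choose q) → B)) := by
  let b := (Pi.basisFun B (Fin r)).exteriorPower q
  let e : Set.powersetCard (Fin r) q ≃ Fin (r.choose q) :=
    Finite.equivFinOfCardEq (by rw [Set.powersetCard.card, Nat.card_fin])
  let E := (b.reindex e).equivFun
  exact ⟨{ E with
    map_smul' := fun a x => (E.map_smul (algebraMap A B a) x).trans (algebraMap_smul B a (E x)) }⟩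

end Exterior

end Groth.Agent.Lib.DR.LocBij
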