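import Groth.Agent.Lib.DR.DComp.CechHom
import Groth.Agent.Lib.DR.DComp.HomCompletion
import Groth.Agent.Lib.DR.DComp.TensorSingle
import Groth.Agent.Lib.DR.RHomRes
import Groth.Agent.Lib.DR.RHom
import Groth.Agent.Lib.RGamma.GM
import Groth.Agent.Lib.RGamma.BaseChangeCoh
import Groth.Agent.Lib.DMod.LocalDuality
import Groth.Agent.Lib.DMod.Devissage

/-!
# `RHom(RΓ_I K, -)` is the completion of `RHom(K, -)`; `RΓ_m ω ≅ E`
-/

universe u

open CategoryTheory CategoryTheory.Limits Pretriangulated MonoidalCategory HomologicalComplex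
open Groth.Agent.Lib.RGamma Groth.Agent.Lib.DR.DComp

attribute [local instance] HasDerivedCategory.standard

set_option backward.isDefEq.respectTransparency false

namespace Groth.Agent.Lib.DR.LocalDualityCompletion

variable {A : Type u} [CommRing A] {I : Ideal A}

theorem pBij_fst {g : A} (hg : g ∈ I) (C : DRing.Cx A) :
    PBij I (DerivedCategory.Q.map
      (CochainComplex.mappingCocone.fst (DerCA.locCxUnit (Submonoid.powers g) C))) := by
  obtain ⟨j, h, hσ⟩ := exists_cocone_ses (DerCA.locCxUnit (Submonoid.powers g) C)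
  have hS := HomologicalComplex.shortExact_of_degreewise_shortExact _ fun n => (hσ n).some.shortExact
  have hT := rot_of_distTriang _ (DerivedCategory.triangleOfSES_distinguished hS)
  refine pBij_of_triangle _ hT (Perp.shift ?_ 1)
  exact perp_of_bijective g hg _ fun i => ExtCech.smul_bijective_loc_self g (C.X (i + -1))

theorem pBij_aug : ∀ fs : List A, (∀ f ∈ fs, f ∈ I) →
    PBij I (DerivedCategory.Q.map (ExtCech.aug (ModuleCat.of A A) fs))
  | [], _ => by
    haveI : IsIso (ExtCech.aug (ModuleCat.of A A) ([] : List A)) := inferInstanceAs (IsIso (𝟙 _))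
    exact DComp.pBij_of_isIso _
  | g :: fs, h => by
    show PBij I (DerivedCategory.Q.map (CochainComplex.mappingCocone.fst
      (DerCA.locCxUnit (Submonoid.powers g) (cech fs)) ≫ ExtCech.aug (ModuleCat.of A A) fs))
    rw [Functor.map_comp]
    exact pBij_comp (pBij_fst (h g List.mem_cons_self) (cech fs))
      (pBij_aug fs fun f hf => h f (List.mem_cons_of_mem _ hf))

theorem hTors_cech_tensor {fs : List A} {f : A} (hf : f ∈ fs) (P : DRing.Cx A) (hP : DRing.IsKFlat A P) :
    HTors f (cech fs ⊗ P) := by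
  let B := ModuleCat.of A (Localization.Away f)
  let S : DRing.Cx A := (single (ModuleCat.{u} A) (.up ℤ) 0).obj B
  let C := cech fs ⊗ P
  have h1 : ((S ⊗ cech fs) ⊗ P).Acyclic := (KFlat.isKFlat_iff P).1 hP _ (acyclic_away_tensor_cech hf)
  let e : (TorAmp.tens B).obj C ≅ (S ⊗ cech fs) ⊗ P :=
    tensSingleIso B C ≪≫ DTen.braidCx C S ≪≫ (α_ S (cech fs) P).symm
  intro i a
  haveI : Module.Flat A B := IsLocalization.flat (Localization.Away f) (Submonoid.powers f)
  haveI : PreservesFiniteLimits (tensorRight B) :=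
    preservesFiniteLimits_of_natIso (BraidedCategory.tensorLeftIsoTensorRight B)
  have hz : IsZero ((tensorRight B).obj (C.homology i)) :=
    ((HomologicalComplex.exactAt_iff_isZero_homology _ _).1 ((h1 i).of_iso e.symm)).of_iso
      ((C.sc i).mapHomologyIso (tensorRight B)).symm
  haveI := ModuleCat.subsingleton_of_isZero hz
  haveI hloc : IsLocalizedModule (Submonoid.powers f)
      (TensorProduct.mk A (Localization.Away f) (C.homology i) 1) := inferInstance
  have h0 : TensorProduct.mk A (Localization.Away f) (C.homology i) 1 a = 0 := by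
    apply (TensorProduct.comm A (Localization.Away f) (C.homology i)).injective
    exact @Subsingleton.elim ((tensorRight B).obj (C.homology i) : Type u) _ _ _
  obtain ⟨⟨_, n, rfl⟩, hn⟩ := (IsLocalizedModule.eq_zero_iff (Submonoid.powers f) _).1 h0
  exact ⟨n, hn⟩

/-- The hom complex out of a tensor product. -/
noncomputable def homTensorIso (Pc P : DRing.Cx A) :
    DRing.homCxFunctor (Pc ⊗ P) ≅ DRing.homCxFunctor P ⋙ DRing.homCxFunctor Pc :=
  (HomCx.adjunction (Pc ⊗ P)).rightAdjointUniq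
    (((HomCx.adjunction Pc).comp (HomCx.adjunction P)).ofNatIsoLeft (tensorRightTensor Pc P).symm)

theorem ide_eq_span : ∀ l : List A, ide l = Ideal.span {x : A | x ∈ l}
  | [] => by simp [ide]
  | f :: l => by
    rw [ide, ide_eq_span l, ← Ideal.span_union]
    congr 1
    ext x; simp

variable [IsNoetherianRing A] (I) [DRing.HasRgammaI I] [DRing.HasDerivedCompletion I]

/-- `RHom(RΓ_I K, X)` is the completion of `RHom(K, X)`. -/
theorem nonempty_RHom_RgammaI_iso (K G : DRing.Cx A) [DRing.HasRHomCx K] [DRing.HasRHomCx G]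
    (hG : DRing.toD G ≅ (DRing.RgammaI I).obj (DRing.toD K)) (X : Dual.D A) :
    Nonempty ((DRing.RHomCx G).obj X ≅
      ((DRing.derivedCompletion I).obj ((DRing.RHomCx K).obj X)).obj) := by
  obtain ⟨fs, hfs⟩ := exists_ide_eq (IsNoetherian.noetherian I)
  rw [ide_eq_span] at hfs
  let C := cech fs
  let Pc := (KProjRes.res A).obj C
  let qc : Pc ⟶ C := (KProjRes.aug A).app C
  haveI : Pc.IsKProjective := KProjRes.isKProjective_res A C
  haveI : QuasiIso qc := KProjRes.quasiIso_aug A C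
  let P := (KProjRes.res A).obj K
  let q : P ⟶ K := (KProjRes.aug A).app K
  haveI : P.IsKProjective := KProjRes.isKProjective_res A K
  haveI : QuasiIso q := KProjRes.quasiIso_aug A K
  have hPf : DRing.IsKFlat A P := KFlat.isKFlat_of_isKProjective P
  haveI := DTenBasic.isIso_Q_map q ‹_›
  have hmem : ∀ f ∈ fs, f ∈ I := fun f hf => hfs ▸ Ideal.subset_span hf
  let g : DerivedCategory.Q.obj (C ⊗ P) ⟶ DRing.toD K :=
    DerivedCategory.Q.map (ExtCech.aug (ModuleCat.of A A) fs ▷ P) ≫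
      DerivedCategory.Q.map (λ_ P).hom ≫ DerivedCategory.Q.map q
  have hg : PBij I g :=
    pBij_comp (pBij_tensor hPf _ (pBij_aug fs hmem)) (pBij_comp (DComp.pBij_of_isIso _) (DComp.pBij_of_isIso _))
  obtain ⟨eG⟩ := nonempty_iso_RgammaI_of_pBij I g hg
    (isPowerTorsion_of_hTors (IsNoetherian.noetherian I) fs (by rw [ide_eq_span, hfs]; exact Ideal.le_radical)
      (C ⊗ P) (fun f hf => hTors_cech_tensor hf P hPf) (Iso.refl _))
  haveI := RHom.isKProjective_tensor Pc P
  have : IsIso (DerivedCategory.Q.map (qc ▷ P)) :=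
    DTenBasic.isIso_Q_map _ (KFlat.quasiIso_tensor_of_isKFlat hPf qc)
  let eP : DerivedCategory.Q.obj (Pc ⊗ P) ≅ DRing.toD G :=
    asIso (DerivedCategory.Q.map (qc ▷ P)) ≪≫ eG ≪≫ hG.symm
  obtain ⟨r, hr⟩ := Basic.exists_Q_map_eq eP.hom
  haveI : QuasiIso r := by
    rw [← DerivedCategory.isIso_Q_map_iff_quasiIso, hr]
    infer_instance
  obtain ⟨eRG⟩ := RHomRes.nonempty_RHomCx_iso_homD r
  obtain ⟨eRK⟩ := RHomRes.nonempty_RHomCx_iso_homD q
  obtain ⟨J, hJ, -, ⟨eX⟩⟩ := RGamma.exists_rep X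
  let H := DRing.homCx P J
  haveI : CochainComplex.IsKInjective H := isKInjective_homCx hPf J
  haveI := RHomRes.isIso_precomp qc H
  let eRH : (DRing.RHomCx K).obj X ≅ DerivedCategory.Q.obj H :=
    eRK.app X ≪≫ (homD P).mapIso eX ≪≫ (homDIso P).app J
  let eRC : (DRing.RHomCx G).obj X ≅ DerivedCategory.Q.obj (DRing.homCx C H) :=
    eRG.app X ≪≫ (homD (Pc ⊗ P)).mapIso eX ≪≫ (homDIso (Pc ⊗ P)).app J ≪≫
      DerivedCategory.Q.mapIso ((homTensorIso Pc P).app J) ≪≫
      (asIso (DerivedCategory.Q.map ((RHomRes.precomp qc).app H))).symm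
  let η : (DRing.RHomCx K).obj X ⟶ DerivedCategory.Q.obj (DRing.homCx C H) :=
    (eRH ≪≫ DerivedCategory.Q.mapIso (homUnitIso.app H)).hom ≫
      DerivedCategory.Q.map ((RHomRes.precomp
        (show C ⟶ 𝟙_ (DRing.Cx A) from ExtCech.aug (ModuleCat.of A A) fs)).app H)
  have hη : PBij I η := pBij_comp (DComp.pBij_of_isIso _) (pBij_precomp_aug H fs hmem)
  obtain ⟨e', -⟩ := exists_iso_of_pBij
    (pBij_toDerivedCompletion' (I := I) ((DRing.RHomCx K).obj X)) hη
    (isDerivedComplete_completion (I := I) _) (isDerivedComplete_homCx_cech fs I hfs H)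
  exact ⟨eRC ≪≫ e'.symm⟩

omit [DRing.HasRgammaI I] in
/-- `RHom(K, X^)` is the completion of `RHom(K, X)`. -/
theorem nonempty_RHom_completion_iso (K : DRing.Cx A) [DRing.HasRHomCx K] (X : Dual.D A) :
    Nonempty ((DRing.RHomCx K).obj ((DRing.derivedCompletion I).obj X).obj ≅
      ((DRing.derivedCompletion I).obj ((DRing.RHomCx K).obj X)).obj) := by
  let P := (KProjRes.res A).obj K
  let q : P ⟶ K := (KProjRes.aug A).app K
  haveI : P.IsKProjective := KProjRes.isKProjective_res A K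
  haveI : QuasiIso q := KProjRes.quasiIso_aug A K
  obtain ⟨e⟩ := RHomRes.nonempty_RHomCx_iso_homD q
  have hη : PBij I ((e.app X).hom ≫ (homD P).map (DRing.toDerivedCompletion I X)) :=
    pBij_comp (DComp.pBij_of_isIso _) (pBij_homD_map P (IsNoetherian.noetherian I)
      (pBij_toDerivedCompletion' (I := I) X) (isDerivedComplete_completion (I := I) X))
  obtain ⟨e', -⟩ := exists_iso_of_pBij
    (pBij_toDerivedCompletion' (I := I) ((DRing.RHomCx K).obj X)) hη
    (isDerivedComplete_completion (I := I) _)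
    (isDerivedComplete_homD P (isDerivedComplete_completion (I := I) X))
  exact ⟨e.app _ ≪≫ e'.symm⟩

/-- Local duality in completed form. -/
theorem nonempty_completion_RHom_iso (K G : DRing.Cx A) [DRing.HasRHomCx K] [DRing.HasRHomCx G]
    (hG : DRing.toD G ≅ (DRing.RgammaI I).obj (DRing.toD K)) (X : Dual.D A) :
    Nonempty (((DRing.derivedCompletion I).obj ((DRing.RHomCx K).obj X)).obj ≅
      (DRing.RHomCx G).obj ((DRing.RgammaI I).obj X)) := by
  obtain ⟨a⟩ := nonempty_RHom_RgammaI_iso I K G hG ((DRing.RgammaI I).obj X)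
  obtain ⟨b⟩ := nonempty_RHom_completion_iso I K ((DRing.RgammaI I).obj X)
  obtain ⟨c⟩ := nonempty_RHom_completion_iso I K X
  haveI := isIso_completion_map_ε (I := I) X
  exact ⟨c.symm ≪≫ (DRing.RHomCx K).mapIso ((ObjectProperty.ι _).mapIso
    (asIso ((DRing.derivedCompletion I).map ((DRing.RgammaIε I).app X)))).symm ≪≫ b ≪≫ a.symm⟩

/-- `RΓ_m ω ≅ E`. -/
theorem nonempty_RgammaI_dualizing [IsLocalRing A] [DRing.HasRgammaI (IsLocalRing.maximalIdeal A)]
    {ω : Dual.D A} (hω : Dual.IsDualizing A ω) (hn : Dual.IsNormalized A ω) (E : Type u) [AddCommGroup E]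
    [Module A E] (f : IsLocalRing.ResidueField A →ₗ[A] E) (hf : InjHull.IsInjectiveHull f) :
    Nonempty ((DRing.RgammaI (IsLocalRing.maximalIdeal A)).obj ω ≅ Dual.inD A E) := by
  let 𝔪 := IsLocalRing.maximalIdeal A
  let T := (DRing.RgammaI 𝔪).obj ω
  obtain ⟨a, b, hab⟩ := hω.finite_injective_dimension
  have hHD : ∀ j, j < a ∨ b < j → Subsingleton (Dual.HD A ω j) := fun j hj => by
    have := hab A j hj
    exact (DMod.Basic.homUnitShiftEquiv ω j).symm.toEquiv.subsingleton
  have hd := fun i => DMod.LocalDuality.nonempty_hdi_equiv hω hn hf ω hω.finite_cohomology a b hHD i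
  have h0 : ∀ i, i ≠ 0 → IsZero ((DerivedCategory.homologyFunctor (ModuleCat.{u} A) i).obj T) := fun i hi => by
    obtain ⟨e₁⟩ := nonempty_HD_RgammaI_equiv 𝔪 ω i
    obtain ⟨e₂⟩ := hd i
    have := hω.ext_self_subsingleton (-i) (by omega)
    exact ModuleCat.isZero_iff_subsingleton.2 (e₁.trans e₂).toEquiv.subsingleton
  haveI : T.IsGE 0 := (DerivedCategory.isGE_iff _ _).2 fun i hi => h0 i (by omega)
  haveI : T.IsLE 0 := (DerivedCategory.isLE_iff _ _).2 fun i hi => h0 i (by omega)
  obtain ⟨eT⟩ := DMod.Devissage.exists_iso_inD_shift T 0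
  obtain ⟨e₁⟩ := nonempty_HD_RgammaI_equiv 𝔪 ω 0
  obtain ⟨e⟩ := hd 0
  let e0 : A ≃ₗ[A] (ω ⟶ ω) :=
    LinearEquiv.ofBijective (LinearMap.toSpanSingleton A (ω ⟶ ω) (𝟙 ω)) hω.toEnd_bijective
  let e3 : A ≃ₗ[A] (ω ⟶ ω⟦(-(0 : ℤ))⟧) := e0.trans
    (CategoryTheory.Linear.homCongr A (CategoryTheory.Iso.refl _)
      ((shiftFunctorZero' (Dual.D A) (-(0 : ℤ)) (by simp)).app ω).symm)
  let eE : Dual.HD A T 0 ≃ₗ[A] E :=
    e₁.trans (e.trans ((LinearEquiv.congrLeft E A e3.symm).trans (LinearMap.ringLmapEquivSelf A A E)))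
  exact ⟨eT ≪≫ (shiftFunctorZero' (Dual.D A) (-(0 : ℤ)) (by simp)).app _ ≪≫
    (DerivedCategory.singleFunctor _ 0).mapIso eE.toModuleIso⟩

end Groth.Agent.Lib.DR.LocalDualityCompletion
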