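import Groth.Agent.Lib.DR.FlatBC
import Mathlib.CategoryTheory.Limits.ConcreteCategory.Basic
import Mathlib.Algebra.Category.Ring.FilteredColimits
import Mathlib.Algebra.Category.Ring.Colimits
import Mathlib.LinearAlgebra.Matrix.ToLin
import Mathlib.Order.Interval.Finset.Basic
import Mathlib.Data.Int.Interval

/-!
# Perfect complexes descend along filtered colimits of rings
-/

universe u

open CategoryTheory CategoryTheory.Limits
open Groth.Agent.Lib.DR
open Groth.Agent.Lib.DR.Basic Groth.Agent.Lib.DR.FiniteComplex Groth.Agent.Lib.DR.PseudoCoherent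
open Groth.Agent.Lib.DR.Representative Groth.Agent.Lib.DR.BaseChange
open scoped TensorProduct Matrix

attribute [local instance] HasDerivedCategory.standard

set_option linter.style.haveILetI false
set_option backward.isDefEq.respectTransparency false

namespace Groth.Agent.Lib.DR.PerfDescend

section Finite

variable {J : Type u} [SmallCategory J] [IsFiltered J] (F : J ⥤ CommRingCat.{u}) {c : Cocone F}
  (hc : IsColimit c)

include hc in
/-- Finitely many elements of a filtered colimit come from one stage. -/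
theorem exists_rep {ι : Type} (s : Finset ι) (x : ι → c.pt) :
    ∃ (j : J) (y : ι → F.obj j), ∀ i ∈ s, c.ι.app j (y i) = x i := by
  classical
  induction s using Finset.induction_on with
  | empty =>
    obtain ⟨j⟩ := (IsFiltered.nonempty : Nonempty J)
    exact ⟨j, fun _ => 0, by simp⟩
  | @insert a s ha ih =>
    obtain ⟨j, y, hy⟩ := ih
    obtain ⟨k, g, z, hz⟩ := Concrete.exists_hom_ι_eq_of_isColimit F hc (x a) j
    refine ⟨k, Function.update (fun i => F.map g (y i)) a z, fun i hi => ?_⟩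
    rcases Finset.mem_insert.1 hi with rfl | hi
    · rw [Function.update_self]
      exact hz
    · rw [Function.update_of_ne (show i ≠ a from fun e => ha (e ▸ hi))]
      exact (ConcreteCategory.congr_hom (c.w g) (y i)).trans (hy i hi)

include hc in
/-- Finitely many equations in a filtered colimit hold at one stage. -/
theorem exists_eq {ι : Type} (s : Finset ι) {j : J} (y z : ι → F.obj j)
    (h : ∀ i ∈ s, c.ι.app j (y i) = c.ι.app j (z i)) :
    ∃ (k : J) (g : j ⟶ k), ∀ i ∈ s, F.map g (y i) = F.map g (z i) := by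
  classical
  induction s using Finset.induction_on with
  | empty => exact ⟨j, 𝟙 j, by simp⟩
  | @insert a s ha ih =>
    obtain ⟨k, g, hg⟩ := ih fun i hi => h i (Finset.mem_insert_of_mem hi)
    obtain ⟨l, p, q, hpq⟩ := Concrete.isColimit_exists_of_rep_eq F hc (F.map g (y a)) (F.map g (z a))
      ((ConcreteCategory.congr_hom (c.w g) (y a)).trans ((h a (Finset.mem_insert_self a s)).trans
        (ConcreteCategory.congr_hom (c.w g) (z a)).symm))
    refine ⟨IsFiltered.coeq p q, g ≫ p ≫ IsFiltered.coeqHom p q, fun i hi => ?_⟩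
    have key : ∀ t : F.obj j, F.map (g ≫ p ≫ IsFiltered.coeqHom p q) t =
        F.map (IsFiltered.coeqHom p q) (F.map p (F.map g t)) := fun t => by
      rw [F.map_comp, F.map_comp]
      rfl
    rw [key, key]
    rcases Finset.mem_insert.1 hi with rfl | hi
    · have e : F.map q ≫ F.map (IsFiltered.coeqHom p q) = F.map p ≫ F.map (IsFiltered.coeqHom p q) := by
        rw [← F.map_comp, ← F.map_comp, IsFiltered.coeq_condition]
      exact (congrArg (F.map (IsFiltered.coeqHom p q)) hpq).trans (ConcreteCategory.congr_hom e _)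
    · rw [hg i hi]

end Finite

section MatrixCx

variable {R : Type u} [CommRing R] {N : ℕ} (p D : ℤ → Matrix (Fin N) (Fin N) R)

/-- Matrices defining a complex of finite projectives. -/
structure Data : Prop where
  idem : ∀ i, p i * p i = p i
  left : ∀ i, p (i + 1) * D i = D i
  right : ∀ i, D i * p i = D i
  sq : ∀ i, D (i + 1) * D i = 0

variable {p D} (h : Data p D)

/-- The term of a matrix complex. -/
noncomputable abbrev term (p : ℤ → Matrix (Fin N) (Fin N) R) (i : ℤ) : Submodule R (Fin N → R) :=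
  LinearMap.range (p i).mulVecLin

include h in
theorem mulVec_term {i : ℤ} (x : term p i) : p i *ᵥ x.1 = x.1 := by
  obtain ⟨w, hw⟩ := x.2
  rw [← hw]
  show p i *ᵥ (p i *ᵥ w) = p i *ᵥ w
  rw [Matrix.mulVec_mulVec, h.idem]

include h in
theorem mapsTo (i : ℤ) (x : term p i) : D i *ᵥ x.1 ∈ term p (i + 1) :=
  ⟨D i *ᵥ x.1, by show p (i + 1) *ᵥ (D i *ᵥ x.1) = _; rw [Matrix.mulVec_mulVec, h.left]⟩

/-- The differential of a matrix complex. -/
noncomputable def diff (h : Data p D) (i : ℤ) : term p i →ₗ[R] term p (i + 1) :=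
  ((D i).mulVecLin ∘ₗ (term p i).subtype).codRestrict _ (mapsTo h i)

/-- A matrix complex. -/
noncomputable def cx (h : Data p D) : DRing.Cx R :=
  CochainComplex.of (fun i => ModuleCat.of R (term p i)) (fun i => ModuleCat.ofHom (diff h i)) fun i => by
    refine ModuleCat.hom_ext (LinearMap.ext fun x => Subtype.ext ?_)
    show D (i + 1) *ᵥ (D i *ᵥ x.1) = 0
    rw [Matrix.mulVec_mulVec, h.sq, Matrix.zero_mulVec]

theorem isZero_cx {i : ℤ} (hi : p i = 0) : IsZero ((cx h).X i) := by
  have : Subsingleton (term p i) := subsingleton_of_forall_eq 0 fun ⟨x, w, hw⟩ => Subtype.ext (by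
    subst hw
    show p i *ᵥ w = 0
    rw [hi, Matrix.zero_mulVec])
  exact @ModuleCat.isZero_of_subsingleton _ _ _ this

theorem fproj_cx (i : ℤ) : fproj R ((cx h).X i) := by
  have h1 : (p i).mulVecLin.rangeRestrict ∘ₗ (term p i).subtype = LinearMap.id :=
    LinearMap.ext fun x => Subtype.ext (mulVec_term h x)
  exact ⟨Module.Finite.range _, Module.Projective.of_split _ _ h1⟩

variable {S : Type u} [CommRing S] [Algebra R S] {X : Type u} [AddCommGroup X] [Module S X]
  (i : ℤ) (ι : X →ₗ[S] (Fin N → S)) (π : (Fin N → S) →ₗ[S] X)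
  (hret : π ∘ₗ ι = LinearMap.id) (hp : ∀ v, ι (π v) = ((p i).map (algebraMap R S)) *ᵥ v)

theorem map_mulVec' (M : Matrix (Fin N) (Fin N) R) (x : Fin N → R) :
    (fun a => algebraMap R S ((M *ᵥ x) a)) = M.map (algebraMap R S) *ᵥ fun a => algebraMap R S (x a) :=
  funext fun a => RingHom.map_mulVec (algebraMap R S) M x a

/-- Coefficientwise image of a vector. -/
noncomputable def bcMap : term p i →ₗ[R] (Fin N → S) :=
  ((Algebra.linearMap R S).compLeft (Fin N)) ∘ₗ (term p i).subtype

/-- The comparison of a term with the given module. -/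
noncomputable def toX : S ⊗[R] term p i →ₗ[S] X :=
  π ∘ₗ (bcMap i).liftBaseChange S

/-- The inverse comparison. -/
noncomputable def ofX : X →ₗ[S] S ⊗[R] term p i :=
  (∑ k : Fin N, (LinearMap.proj k : (Fin N → S) →ₗ[S] S).smulRight
    ((1 : S) ⊗ₜ[R] (p i).mulVecLin.rangeRestrict (Pi.single k 1))) ∘ₗ ι

include hp h in
theorem ι_toX (x : term p i) (a : S) :
    ι (toX i π (a ⊗ₜ[R] x)) = a • fun k => algebraMap R S (x.1 k) := by
  simp only [toX, LinearMap.comp_apply, LinearMap.liftBaseChange_tmul, map_smul, hp]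
  refine congrArg (a • ·) ?_
  show (p i).map (algebraMap R S) *ᵥ (fun k => algebraMap R S (x.1 k)) = _
  rw [← map_mulVec', mulVec_term h]

include hp h hret in
/-- The comparison is an equivalence. -/
noncomputable def termEquiv : S ⊗[R] term p i ≃ₗ[S] X :=
  LinearEquiv.ofLinearMap (toX i π) (ofX i ι) (by
    refine LinearMap.ext fun y => ?_
    have e : ∀ k, toX i π ((1 : S) ⊗ₜ[R] (p i).mulVecLin.rangeRestrict (Pi.single k 1)) =
        π ((p i).map (algebraMap R S) *ᵥ Pi.single k 1) := fun k => by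
      simp only [toX, LinearMap.comp_apply, LinearMap.liftBaseChange_tmul, one_smul]
      refine congrArg π (funext fun a => ?_)
      show algebraMap R S ((p i *ᵥ Pi.single k 1) a) = _
      rw [Matrix.mulVec_single_one, Matrix.mulVec_single_one]
      rfl
    simp only [ofX, LinearMap.comp_apply, LinearMap.coe_sum, Finset.sum_apply, LinearMap.smulRight_apply,
      LinearMap.proj_apply, map_sum, map_smul, e, LinearMap.id_apply]
    have hπ : ∀ v, π ((p i).map (algebraMap R S) *ᵥ v) = π v := fun v => by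
      rw [← hp]
      exact LinearMap.congr_fun hret _
    simp only [hπ, ← map_smul, ← map_sum]
    rw [← pi_eq_sum_univ']
    exact LinearMap.congr_fun hret y) (by
    refine TensorProduct.AlgebraTensorModule.ext fun a x => ?_
    simp only [LinearMap.comp_apply, LinearMap.id_apply, ofX, ι_toX h i ι π hp, LinearMap.coe_sum,
      Finset.sum_apply, LinearMap.smulRight_apply, LinearMap.proj_apply, Pi.smul_apply, smul_eq_mul,
      TensorProduct.smul_tmul', mul_one]
    have e : ∀ k, (a * algebraMap R S (x.1 k)) ⊗ₜ[R] (p i).mulVecLin.rangeRestrict (Pi.single k 1) =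
        a ⊗ₜ[R] (x.1 k • (p i).mulVecLin.rangeRestrict (Pi.single k 1)) := fun k => by
      rw [← TensorProduct.smul_tmul, Algebra.smul_def, mul_comm]
    simp only [e, ← TensorProduct.tmul_sum, ← map_smul, ← map_sum]
    rw [← pi_eq_sum_univ']
    refine congrArg (a ⊗ₜ[R] ·) (Subtype.ext ?_)
    exact mulVec_term h x)

end MatrixCx

/-- A matrix complex over `R` is a model of a complex over `S`. -/
theorem nonempty_iso {R : Type u} [CommRing R] {S : Type u} [CommRing S] [Algebra R S] {N : ℕ}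
    {p D : ℤ → Matrix (Fin N) (Fin N) R} (h : Data p D) (E : DRing.Cx S)
    (ι : ∀ i, E.X i →ₗ[S] (Fin N → S)) (π : ∀ i, (Fin N → S) →ₗ[S] E.X i)
    (hret : ∀ i, π i ∘ₗ ι i = LinearMap.id) (hp : ∀ i v, ι i (π i v) = ((p i).map (algebraMap R S)) *ᵥ v)
    (hD : ∀ i v, ι (i + 1) ((E.d i (i + 1)).hom (π i v)) = ((D i).map (algebraMap R S)) *ᵥ v) :
    Nonempty ((ext (algebraMap R S)).obj (cx h) ≅ E) := by
  let e : ∀ i, (ModuleCat.extendScalars.{u, u, u} (algebraMap R S)).obj ((cx h).X i) ≃ₗ[S] E.X i := fun i =>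
    (FlatBC.extEquiv R S (term p i)).trans (termEquiv h i (ι i) (π i) (hret i) (hp i))
  refine ⟨HomologicalComplex.Hom.isoOfComponents (fun i => (e i).toModuleIso) fun i j hij => ?_⟩
  obtain rfl : i + 1 = j := hij
  refine ModuleCat.hom_ext (LinearMap.ext fun z => ?_)
  show (E.d i (i + 1)).hom (e i z) =
    e (i + 1) (((ModuleCat.extendScalars.{u, u, u} (algebraMap R S)).map ((cx h).d i (i + 1))).hom z)
  induction z using TensorProduct.induction_on with
  | zero => simp
  | add x y hx hy =>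
    exact ((congrArg _ (map_add (e i) x y)).trans (map_add _ _ _)).trans ((congrArg₂ (· + ·) hx hy).trans
      (((congrArg (e (i + 1)) (map_add _ x y)).trans (map_add _ _ _)).symm))
  | tmul a x =>
    have hd : (cx h).d i (i + 1) = ModuleCat.ofHom (diff h i) :=
      CochainComplex.of_d (fun i => ModuleCat.of R (term p i)) (fun i => ModuleCat.ofHom (diff h i)) _
    rw [hd]
    apply (LinearMap.congr_fun (hret (i + 1)) _).symm.trans
    refine Eq.trans ?_ (LinearMap.congr_fun (hret (i + 1)) _)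
    refine congrArg (π (i + 1)) ?_
    let a' : S := a
    show ι (i + 1) ((E.d i (i + 1)).hom (toX i (π i) (a' ⊗ₜ[R] x))) =
      ι (i + 1) (toX (i + 1) (π (i + 1)) (a' ⊗ₜ[R] diff h i x))
    rw [ι_toX h (i + 1) (ι (i + 1)) (π (i + 1)) (hp (i + 1))]
    simp only [toX, LinearMap.comp_apply, LinearMap.liftBaseChange_tmul, map_smul, hD]
    refine congrArg (a' • ·) ?_
    exact (map_mulVec' (D i) x.1).symm

variable {J : Type u} [SmallCategory J] [IsFiltered J]

/-- Perfect objects descend. -/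
theorem exists_descend (F : J ⥤ CommRingCat.{u}) (c : Cocone F) (hc : IsColimit c)
    [∀ j : J, DRing.HasLBaseChange (c.ι.app j).hom] (K : Dual.D c.pt) (hK : DRing.IsPerfect c.pt K) :
    ∃ (j : J) (Kj : Dual.D (F.obj j)), DRing.IsPerfect (F.obj j) Kj ∧
      Nonempty ((DRing.LBaseChange (c.ι.app j).hom).obj Kj ≅ K) := by
  classical
  obtain ⟨E, a, b, hE, hp, ⟨eK⟩⟩ := hK
  -- a common ambient free module
  have hg : ∀ i : ℤ, ∃ n : ℕ, ∀ N, n ≤ N →
      ∃ (ι : E.X i →ₗ[c.pt] (Fin N → c.pt)) (π : (Fin N → c.pt) →ₗ[c.pt] E.X i), π ∘ₗ ι = LinearMap.id := by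
    intro i
    obtain ⟨hfin, hproj⟩ := hp i
    obtain ⟨n, f, hf⟩ := Module.Finite.exists_fin' c.pt (E.X i)
    refine ⟨n, fun N hN => ?_⟩
    let π : (Fin N → c.pt) →ₗ[c.pt] E.X i := f ∘ₗ LinearMap.funLeft c.pt c.pt (Fin.castLE hN)
    have hπ : Function.Surjective π := hf.comp
      (LinearMap.funLeft_surjective_of_injective c.pt c.pt _ (Fin.castLE_injective hN))
    obtain ⟨ι, hι⟩ := Module.projective_lifting_property π LinearMap.id hπ
    exact ⟨ι, π, hι⟩
  choose n hn using hg
  let N := (Finset.Icc a b).sup n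
  have hin : ∀ i : ℤ, ∃ (ι : E.X i →ₗ[c.pt] (Fin N → c.pt)) (π : (Fin N → c.pt) →ₗ[c.pt] E.X i),
      π ∘ₗ ι = LinearMap.id := fun i => by
    by_cases hi : i ∈ Finset.Icc a b
    · exact hn i N (Finset.le_sup hi)
    · have := ModuleCat.subsingleton_of_isZero (hE i (by rw [Finset.mem_Icc] at hi; omega))
      exact ⟨0, 0, LinearMap.ext fun x => Subsingleton.elim _ _⟩
  choose ι π hret using hin
  let P : ℤ → Matrix (Fin N) (Fin N) c.pt := fun i => LinearMap.toMatrix' (ι i ∘ₗ π i)
  let Q : ℤ → Matrix (Fin N) (Fin N) c.pt := fun i =>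
    LinearMap.toMatrix' (ι (i + 1) ∘ₗ (E.d i (i + 1)).hom ∘ₗ π i)
  have hr : ∀ i x, π i (ι i x) = x := fun i x => LinearMap.congr_fun (hret i) x
  have hdata : Data P Q := by
    constructor <;> intro i <;> simp only [P, Q, ← LinearMap.toMatrix'_comp]
    · refine congrArg _ (LinearMap.ext fun x => ?_)
      simp [hr]
    · refine congrArg _ (LinearMap.ext fun x => ?_)
      simp [hr]
    · refine congrArg _ (LinearMap.ext fun x => ?_)
      simp [hr]
    · rw [← map_zero (LinearMap.toMatrix' (R := c.pt) (m := Fin N) (n := Fin N))]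
      refine congrArg _ (LinearMap.ext fun x => ?_)
      simp only [LinearMap.comp_apply, hr, LinearMap.zero_apply]
      rw [show (E.d (i + 1) (i + 1 + 1)).hom ((E.d i (i + 1)).hom (π i x)) = 0 from
        ConcreteCategory.congr_hom (E.d_comp_d i (i + 1) (i + 1 + 1)) _, map_zero]
  have hout : ∀ i, i < a ∨ b < i → P i = 0 ∧ Q i = 0 := fun i hi => by
    have := ModuleCat.subsingleton_of_isZero (hE i hi)
    have h0 : π i = 0 := LinearMap.ext fun x => Subsingleton.elim _ _
    simp [P, Q, h0]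
  -- lift the entries
  let s : Finset (ℤ × Fin N × Fin N × Bool) := Finset.Icc a b ×ˢ Finset.univ
  obtain ⟨j, y, hy⟩ := exists_rep F hc s fun t => bif t.2.2.2 then P t.1 t.2.1 t.2.2.1 else Q t.1 t.2.1 t.2.2.1
  let p₀ : ℤ → Matrix (Fin N) (Fin N) (F.obj j) := fun i k l =>
    if i ∈ Finset.Icc a b then y (i, k, l, true) else 0
  let D₀ : ℤ → Matrix (Fin N) (Fin N) (F.obj j) := fun i k l =>
    if i ∈ Finset.Icc a b then y (i, k, l, false) else 0
  have hp₀ : ∀ i, (p₀ i).map (c.ι.app j).hom = P i := fun i => by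
    ext k l
    by_cases hi : i ∈ Finset.Icc a b
    · simp only [Matrix.map_apply, p₀, if_pos hi]
      exact hy (i, k, l, true) (Finset.mem_product.2 ⟨hi, Finset.mem_univ _⟩)
    · simp only [Matrix.map_apply, p₀, if_neg hi, map_zero,
        (hout i (by rw [Finset.mem_Icc] at hi; omega)).1, Matrix.zero_apply]
  have hD₀ : ∀ i, (D₀ i).map (c.ι.app j).hom = Q i := fun i => by
    ext k l
    by_cases hi : i ∈ Finset.Icc a b
    · simp only [Matrix.map_apply, D₀, if_pos hi]
      exact hy (i, k, l, false) (Finset.mem_product.2 ⟨hi, Finset.mem_univ _⟩)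
    · simp only [Matrix.map_apply, D₀, if_neg hi, map_zero,
        (hout i (by rw [Finset.mem_Icc] at hi; omega)).2, Matrix.zero_apply]
  -- the equations
  let u : ℤ × Fin N × Fin N × Fin 4 → F.obj j := fun t =>
    ![p₀ t.1 * p₀ t.1, p₀ (t.1 + 1) * D₀ t.1, D₀ t.1 * p₀ t.1, D₀ (t.1 + 1) * D₀ t.1] t.2.2.2 t.2.1 t.2.2.1
  let v : ℤ × Fin N × Fin N × Fin 4 → F.obj j := fun t =>
    ![p₀ t.1, D₀ t.1, D₀ t.1, 0] t.2.2.2 t.2.1 t.2.2.1
  have hmap : ∀ (M : Fin 4 → Matrix (Fin N) (Fin N) (F.obj j)) (q : Fin 4) (k l : Fin N),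
      c.ι.app j (M q k l) = ((M q).map (c.ι.app j).hom) k l := fun _ _ _ _ => rfl
  obtain ⟨k, g, hg⟩ := exists_eq F hc (Finset.Icc a b ×ˢ (Finset.univ : Finset (Fin N × Fin N × Fin 4))) u v
    fun t _ => by
      obtain ⟨i, m, l, q⟩ := t
      simp only [u, v, hmap]
      refine congrFun (congrFun (?_ : _ = _) m) l
      fin_cases q
      · show (p₀ i * p₀ i).map (c.ι.app j).hom = (p₀ i).map (c.ι.app j).hom
        rw [Matrix.map_mul, hp₀, hdata.idem]
      · show (p₀ (i + 1) * D₀ i).map (c.ι.app j).hom = (D₀ i).map (c.ι.app j).hom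
        rw [Matrix.map_mul, hp₀, hD₀, hdata.left]
      · show (D₀ i * p₀ i).map (c.ι.app j).hom = (D₀ i).map (c.ι.app j).hom
        rw [Matrix.map_mul, hp₀, hD₀, hdata.right]
      · show (D₀ (i + 1) * D₀ i).map (c.ι.app j).hom = (0 : Matrix (Fin N) (Fin N) (F.obj j)).map (c.ι.app j).hom
        rw [Matrix.map_mul, hD₀, hD₀, hdata.sq, Matrix.map_zero _ (map_zero _)]
  let p₁ : ℤ → Matrix (Fin N) (Fin N) (F.obj k) := fun i => (p₀ i).map (F.map g).hom
  let D₁ : ℤ → Matrix (Fin N) (Fin N) (F.obj k) := fun i => (D₀ i).map (F.map g).hom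
  have hz : ∀ i, i ∉ Finset.Icc a b → p₁ i = 0 ∧ D₁ i = 0 := fun i hi => by
    constructor <;> ext m l <;>
      simp only [p₁, D₁, p₀, D₀, Matrix.map_apply, if_neg hi, map_zero, Matrix.zero_apply]
  have heq : ∀ i, i ∈ Finset.Icc a b → ∀ q : Fin 4,
      (![p₀ i * p₀ i, p₀ (i + 1) * D₀ i, D₀ i * p₀ i, D₀ (i + 1) * D₀ i] q).map (F.map g).hom =
        (![p₀ i, D₀ i, D₀ i, 0] q).map (F.map g).hom := fun i hi q => by
    ext m l
    exact hg (i, m, l, q) (Finset.mem_product.2 ⟨hi, Finset.mem_univ _⟩)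
  have h₁ : Data p₁ D₁ := by
    constructor <;> intro i <;> by_cases hi : i ∈ Finset.Icc a b
    · simpa [p₁, Matrix.map_mul] using heq i hi 0
    · simp [(hz i hi).1]
    · simpa [p₁, D₁, Matrix.map_mul] using heq i hi 1
    · simp [(hz i hi).2]
    · simpa [p₁, D₁, Matrix.map_mul] using heq i hi 2
    · simp [(hz i hi).2]
    · simpa [D₁, Matrix.map_mul] using heq i hi 3
    · simp [(hz i hi).2]
  letI : Algebra (F.obj k) c.pt := (c.ι.app k).hom.toAlgebra
  have hcomp : (c.ι.app k).hom.comp (F.map g).hom = (c.ι.app j).hom := congrArg CommRingCat.Hom.hom (c.w g)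
  have hmm : ∀ M : Matrix (Fin N) (Fin N) (F.obj j),
      (M.map (F.map g).hom).map (algebraMap (F.obj k) c.pt) = M.map (c.ι.app j).hom := fun M => by
    rw [Matrix.map_map, ← hcomp]
    rfl
  obtain ⟨e⟩ := nonempty_iso h₁ E ι π hret
    (fun i v => by
      rw [hmm, hp₀, LinearMap.toMatrix'_mulVec]
      rfl)
    (fun i v => by
      rw [hmm, hD₀, LinearMap.toMatrix'_mulVec]
      rfl)
  have hX : ∀ i, i < a ∨ b < i → IsZero ((cx h₁).X i) := fun i hi =>
    isZero_cx h₁ (hz i (by rw [Finset.mem_Icc]; omega)).1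
  refine ⟨k, DerivedCategory.Q.obj (cx h₁), (isPerfect_iff _).2 ⟨a, b, cx h₁, hX, fproj_cx h₁, ⟨Iso.refl _⟩⟩, ⟨?_⟩⟩
  exact bcFlat (c.ι.app k).hom (cx h₁) b (fun i hi => hX i (Or.inr hi))
    (fun i => flat_of_fproj _ (fproj_cx h₁ i)) ≪≫ DerivedCategory.Q.mapIso e ≪≫ eK

end Groth.Agent.Lib.DR.PerfDescend
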