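import Groth.Agent.Lib.DR.Derived
import Groth.Agent.Lib.DR.Basic
import Groth.Agent.Lib.DR.BaseChange
import Groth.Agent.Lib.DR.FlatBC
import Mathlib.Algebra.Polynomial.Eval.Coeff
import Mathlib.RingTheory.TensorProduct.Basic

/-!
# Derived base change of a restricted complex along `R[x] → R`, `x ↦ 0`
-/

universe u

open CategoryTheory CategoryTheory.Limits Pretriangulated TensorProduct Polynomial

attribute [local instance] HasDerivedCategory.standard

set_option backward.isDefEq.respectTransparency false
set_option synthInstance.maxHeartbeats 100000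

namespace Groth.Agent.Lib.DR.PolyEval

variable {R : Type u} [CommRing R]

/-- Extension of scalars of a K-projective complex is K-projective. -/
theorem isKProjective_ext {B : Type u} [CommRing B] (f : R →+* B) (P : DRing.Cx R) [P.IsKProjective] :
    CochainComplex.IsKProjective ((BaseChange.ext f).obj P) where
  nonempty_homotopy_zero {L} φ hL := by
    let adj := ModuleCat.extendRestrictScalarsAdj.{u} f
    let g := (Derived.cxAdj adj).homEquiv _ _ φ
    have hL' : HomologicalComplex.Acyclic (((ModuleCat.restrictScalars.{u} f).mapHomologicalComplex (.up ℤ)).obj L) :=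
      fun n => by
        have h := hL n
        rw [HomologicalComplex.exactAt_iff' _ (n - 1) n (n + 1) (by simp) (by simp)] at h ⊢
        exact h.map (ModuleCat.restrictScalars.{u} f)
    obtain ⟨h⟩ := CochainComplex.IsKProjective.nonempty_homotopy_zero g hL'
    have h' := ((ModuleCat.extendScalars.{u, u, u} f).mapHomotopy h).compRight ((Derived.cxAdj adj).counit.app L)
    rw [Functor.map_zero, Limits.zero_comp] at h'
    exact ⟨(Homotopy.ofEq (((Derived.cxAdj adj).homEquiv_counit _ _ _).symm.trans
      (((Derived.cxAdj adj).homEquiv _ _).symm_apply_apply φ))).symm.trans h'⟩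

/-- The mapping cone of a map of K-projective complexes is K-projective. -/
theorem isKProjective_cone {C : Type*} [Category C] [Abelian C] {K L : CochainComplex C ℤ} (φ : K ⟶ L)
    [hK : K.IsKProjective] [hL : L.IsKProjective] : (CochainComplex.mappingCone φ).IsKProjective :=
  (CochainComplex.isKProjective_iff_leftOrthogonal _).2
    ((HomotopyCategory.subcategoryAcyclic C).leftOrthogonal.ext_of_isTriangulatedClosed₃
      (CochainComplex.mappingCone.triangleh φ)
      (HomotopyCategory.mappingCone_triangleh_distinguished φ)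
      ((CochainComplex.isKProjective_iff_leftOrthogonal _).1 hK)
      ((CochainComplex.isKProjective_iff_leftOrthogonal _).1 hL))

variable (M : Type u) [AddCommGroup M] [Module R M]

/-- Evaluation at zero `R[x] ⊗ M → M`. -/
noncomputable def ev : R[X] ⊗[R] M →ₗ[R] M :=
  (TensorProduct.lid R M).toLinearMap ∘ₗ (Polynomial.lcoeff R 0).rTensor M

/-- Multiplication by `x`. -/
noncomputable def mulX : R[X] ⊗[R] M →ₗ[R] R[X] ⊗[R] M := (LinearMap.mulLeft R (X : R[X])).rTensor M

/-- Division by `x`. -/
noncomputable def dvX : R[X] ⊗[R] M →ₗ[R] R[X] ⊗[R] M :=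
  LinearMap.rTensor M
    { toFun := Polynomial.divX
      map_add' := fun _ _ => Polynomial.divX_add
      map_smul' := fun r p => by simp [Polynomial.smul_eq_C_mul, Polynomial.divX_C_mul] }

theorem dvX_mulX (z : R[X] ⊗[R] M) : dvX M (mulX M z) = z := by
  induction z using TensorProduct.induction_on with
  | zero => simp
  | tmul p m =>
    simp only [dvX, mulX, LinearMap.rTensor_tmul, LinearMap.coe_mk, AddHom.coe_mk, LinearMap.mulLeft_apply]
    congr 1
    ext n
    simp [Polynomial.coeff_divX]
  | add x y hx hy => rw [map_add, map_add, hx, hy]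

theorem decomp (z : R[X] ⊗[R] M) : mulX M (dvX M z) + (1 : R[X]) ⊗ₜ[R] ev M z = z := by
  induction z using TensorProduct.induction_on with
  | zero => simp
  | tmul p m =>
    simp only [dvX, mulX, ev, LinearMap.rTensor_tmul, LinearMap.coe_mk, AddHom.coe_mk, LinearMap.comp_apply,
      LinearEquiv.coe_coe, TensorProduct.lid_tmul, LinearMap.mulLeft_apply, Polynomial.lcoeff_apply]
    rw [← TensorProduct.smul_tmul, ← TensorProduct.add_tmul, Polynomial.smul_eq_C_mul, mul_one,
      Polynomial.X_mul_divX_add]
  | add x y hx hy =>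
    rw [map_add, map_add, map_add, TensorProduct.tmul_add, add_add_add_comm, hx, hy]

theorem exact_mulX_ev : Function.Exact (mulX (R := R) M) (ev (R := R) M) := by
  refine fun z => ⟨fun hz => ⟨dvX M z, ?_⟩, ?_⟩
  · have := decomp M z
    rw [hz, TensorProduct.tmul_zero, add_zero] at this
    exact this
  · rintro ⟨w, rfl⟩
    induction w using TensorProduct.induction_on with
    | zero => simp
    | tmul p m => simp [ev, mulX, Polynomial.mul_coeff_zero]
    | add x y hx hy => rw [map_add, map_add, hx, hy, add_zero]

theorem mulX_eq_smul (z : R[X] ⊗[R] M) : mulX M z = (X : R[X]) • z := by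
  show mulX M z = (((TensorProduct.leftModule : Module R[X] (R[X] ⊗[R] M))).toSMul.smul (X : R[X]) z)
  induction z using TensorProduct.induction_on with
  | zero => exact (map_zero _).trans (@smul_zero _ _ _ (TensorProduct.leftModule : Module R[X] (R[X] ⊗[R] M)).toDistribMulAction.toDistribSMul.toSMulZeroClass _).symm
  | tmul p m => rfl
  | add x y hx hy => rw [map_add, hx, hy]; exact (TensorProduct.leftModule : Module R[X] (R[X] ⊗[R] M)).smul_add _ _ _ |>.symm

theorem ev_surjective : Function.Surjective (ev (R := R) M) := fun m => ⟨1 ⊗ₜ m, by simp [ev]⟩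

variable {M}

/-- Extension of scalars turns multiplication by an element of the kernel into zero. -/
theorem extend_map_smul_eq_zero {A B : Type u} [CommRing A] [CommRing B] (f : A →+* B) (a : A) (ha : f a = 0)
    (N : ModuleCat.{u} A) (φ : N ⟶ N) (hφ : ∀ x : N, φ.hom x = a • x) :
    (ModuleCat.extendScalars.{u, u, u} f).map φ = 0 := by
  refine ModuleCat.hom_ext (LinearMap.ext fun z => ?_)
  induction z using TensorProduct.induction_on with
  | zero => exact map_zero _
  | tmul c x =>
    refine (ModuleCat.ExtendScalars.map_tmul f φ c x).trans ?_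
    refine (congrArg (fun y : N => c ⊗ₜ[A] y) (hφ x)).trans ((TensorProduct.smul_tmul a c x).symm.trans ?_)
    refine (congrArg (fun y => y ⊗ₜ[A] x) (?_ : a • c = 0)).trans (TensorProduct.zero_tmul _ _)
    show f a * (show B from c) = 0
    rw [ha, zero_mul]
  | add x y hx hy => exact (map_add _ x y).trans ((congrArg₂ (· + ·) hx hy).trans (add_zero _))

/-- `R[x] → R`, `x ↦ 0`. -/
noncomputable abbrev e0 : R[X] →+* R := Polynomial.evalRingHom (0 : R)

/-- `R → R[x]`. -/
noncomputable abbrev c0 : R →+* R[X] := algebraMap R R[X]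

/-- `R ⊗_{R[x]} (R[x] ⊗_R -) ≅ id`. -/
noncomputable def extIso :
    ModuleCat.extendScalars.{u, u, u} (c0 (R := R)) ⋙ ModuleCat.extendScalars.{u, u, u} (e0 (R := R)) ≅ 𝟭 _ :=
  (ModuleCat.extendScalarsComp c0 e0).symm ≪≫
    eqToIso (congrArg (fun f : R →+* R => ModuleCat.extendScalars.{u, u, u} f)
      (RingHom.ext fun r => by simp [e0, c0] : e0.comp c0 = RingHom.id R)) ≪≫ ModuleCat.extendScalarsId R

/-- The counit `R[x] ⊗ P → P`. -/
noncomputable def εHom (M : ModuleCat.{u} R) :
    (ModuleCat.extendScalars.{u, u, u} (c0 (R := R))).obj M ⟶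
      (ModuleCat.restrictScalars.{u} (e0 (R := R))).obj M :=
  ModuleCat.ofHom (X := (ModuleCat.extendScalars.{u, u, u} (c0 (R := R))).obj M)
    (Y := (ModuleCat.restrictScalars.{u} (e0 (R := R))).obj M)
    { toFun := fun z => ev (R := R) M (FlatBC.extEquiv R R[X] M z)
      map_add' := fun x y => (congrArg (ev M) (map_add _ x y)).trans (map_add _ _ _)
      map_smul' := fun p z => by
        show ev M (FlatBC.extEquiv R R[X] M (p • z)) = e0 p • ev M (FlatBC.extEquiv R R[X] M z)
        rw [map_smul]
        induction FlatBC.extEquiv R R[X] M z using TensorProduct.induction_on with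
        | zero => simp
        | tmul q m => simp [ev, TensorProduct.smul_tmul', Polynomial.mul_coeff_zero, mul_smul,
            Polynomial.coeff_zero_eq_eval_zero]
        | add x y hx hy => rw [smul_add, map_add, map_add, hx, hy, smul_add] }

theorem εHom_naturality {M N : ModuleCat.{u} R} (g : M ⟶ N) :
    εHom M ≫ (ModuleCat.restrictScalars.{u} (e0 (R := R))).map g =
      (ModuleCat.extendScalars.{u, u, u} (c0 (R := R))).map g ≫ εHom N := by
  refine ModuleCat.hom_ext (LinearMap.ext fun z => ?_)
  show g.hom (ev M (FlatBC.extEquiv R R[X] M z)) =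
    ev N (FlatBC.extEquiv R R[X] N (((ModuleCat.extendScalars.{u, u, u} (c0 (R := R))).map g).hom z))
  induction z using TensorProduct.induction_on with
  | zero => exact ((congrArg g.hom (map_zero (ev M))).trans (map_zero _)).trans (map_zero _).symm
  | tmul p m =>
    show g.hom (Polynomial.coeff p 0 • m) = Polynomial.coeff p 0 • g.hom m
    exact map_smul _ _ _
  | add x y hx hy =>
    simp only [map_add] at *
    exact congrArg₂ (· + ·) hx hy

theorem extEquiv_smul_X (M : ModuleCat.{u} R) (z : (ModuleCat.extendScalars.{u, u, u} (c0 (R := R))).obj M) :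
    FlatBC.extEquiv R R[X] M ((X : R[X]) • z) = mulX (R := R) M (FlatBC.extEquiv R R[X] M z) :=
  (map_smul (FlatBC.extEquiv R R[X] M) (X : R[X]) z).trans (mulX_eq_smul M _).symm

variable (P : DRing.Cx R)

/-- `R[x] ⊗ P`. -/
noncomputable abbrev polyCx : DRing.Cx R[X] := (BaseChange.ext (c0 (R := R))).obj P

/-- The short complex `R[x] ⊗ P → R[x] ⊗ P → P`. -/
noncomputable def polySC : ShortComplex (DRing.Cx R[X]) :=
  ShortComplex.mk ((X : R[X]) • 𝟙 (polyCx P))
    ({ f := fun i => εHom (P.X i)
       comm' := fun i j _ => εHom_naturality (P.d i j) } :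
      polyCx P ⟶ ((ModuleCat.restrictScalars.{u} (e0 (R := R))).mapHomologicalComplex (.up ℤ)).obj P)
    (by
      refine HomologicalComplex.hom_ext _ _ fun i => ModuleCat.hom_ext (LinearMap.ext fun z => ?_)
      show (εHom (P.X i)).hom ((X : R[X]) • z) = 0
      rw [map_smul]
      show (Polynomial.eval (0 : R) (X : R[X])) • (ev (R := R) (P.X i) (FlatBC.extEquiv R R[X] (P.X i) z)) = 0
      simp)

theorem polySC_shortExact : (polySC P).ShortExact :=
  HomologicalComplex.shortExact_of_degreewise_shortExact _ fun i => by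
    let E := FlatBC.extEquiv R R[X] (P.X i)
    have h1 : ∀ z, E (((polySC P).f.f i).hom z) = mulX (R := R) (P.X i) (E z) := fun z =>
      extEquiv_smul_X (P.X i) z
    refine { exact := ?_, mono_f := ?_, epi_g := ?_ }
    · rw [ShortComplex.ShortExact.moduleCat_exact_iff_function_exact]
      refine fun z => ⟨fun hz => ?_, ?_⟩
      · obtain ⟨w, hw⟩ := (exact_mulX_ev (R := R) (P.X i) (E z)).1 hz
        exact ⟨E.symm w, E.injective ((h1 _).trans ((congrArg _ (E.apply_symm_apply w)).trans hw))⟩
      · rintro ⟨w, rfl⟩
        exact ((congrArg (ev (R := R) (P.X i)) (h1 w)).trans ((exact_mulX_ev (R := R) (P.X i)).apply_apply_eq_zero _) :)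
    · refine (ModuleCat.mono_iff_injective _).2 fun a b hab => E.injective ?_
      exact (dvX_mulX _ _).symm.trans ((congrArg (dvX _) (((h1 a).symm.trans (congrArg E hab)).trans (h1 b))).trans
        (dvX_mulX _ _))
    · refine (ModuleCat.epi_iff_surjective _).2 fun m => ?_
      obtain ⟨w, hw⟩ := ev_surjective (R := R) (P.X i) m
      exact ⟨E.symm w, ((congrArg (ev (R := R) (P.X i)) (E.apply_symm_apply w)).trans hw :)⟩

/-- The computation of the derived base change. -/
theorem nonempty_iso [DRing.HasLBaseChange (e0 (R := R))] [P.IsKProjective] :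
    Nonempty ((DRing.LBaseChange (e0 (R := R))).obj
        ((DRing.restrictD (e0 (R := R))).obj (DerivedCategory.Q.obj P)) ≅
      DerivedCategory.Q.obj P ⊞ (shiftFunctor (Dual.D R) (1 : ℤ)).obj (DerivedCategory.Q.obj P)) := by
  let x : polyCx P ⟶ polyCx P := (polySC P).f
  have := isKProjective_ext (c0 (R := R)) P
  have := isKProjective_cone x
  have : QuasiIso (CochainComplex.mappingCone.descShortComplex (polySC P)) :=
    CochainComplex.mappingCone.quasiIso_descShortComplex (polySC_shortExact P)
  let F := ModuleCat.extendScalars.{u, u, u} (e0 (R := R))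
  let Fc := F.mapHomologicalComplex (ComplexShape.up ℤ)
  have hx : Fc.map x = 0 := HomologicalComplex.hom_ext _ _ fun i =>
    extend_map_smul_eq_zero (e0 (R := R)) X (by simp [e0]) _ _ fun z => rfl
  let eE : Fc.obj (polyCx P) ≅ P :=
    HomologicalComplex.Hom.isoOfComponents (fun i => extIso.app (P.X i))
      fun i j _ => (extIso.hom.naturality (P.d i j)).symm
  let T := DerivedCategory.Q.mapTriangle.obj (CochainComplex.mappingCone.triangle (Fc.map x))
  have hT : T ∈ distTriang _ := DerivedCategory.mappingCone_triangle_distinguished _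
  have h1 : T.mor₁ = 0 := by
    show DerivedCategory.Q.map (Fc.map x) = 0
    rw [hx, Functor.map_zero]
  obtain ⟨d, -, -⟩ := exists_iso_binaryBiproduct_of_distTriang T.rotate (rot_of_distTriang _ hT) (by
    show -(shiftFunctor (Dual.D R) (1 : ℤ)).map T.mor₁ = 0
    rw [h1, Functor.map_zero, neg_zero])
  let r : DerivedCategory.Q.obj (CochainComplex.mappingCone x) ≅
      (DRing.restrictD (e0 (R := R))).obj (DerivedCategory.Q.obj P) :=
    asIso (DerivedCategory.Q.map (CochainComplex.mappingCone.descShortComplex (polySC P))) ≪≫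
      ((ModuleCat.restrictScalars.{u} (e0 (R := R))).mapDerivedCategoryFactors.app P).symm
  exact ⟨(DRing.LBaseChange (e0 (R := R))).mapIso r.symm ≪≫
    BaseChange.bc (e0 (R := R)) (CochainComplex.mappingCone x) ≪≫
    DerivedCategory.Q.mapIso (CochainComplex.mappingCone.mapHomologicalComplexIso x F) ≪≫ d ≪≫
    biprod.mapIso (DerivedCategory.Q.mapIso eE) ((shiftFunctor (Dual.D R) (1 : ℤ)).mapIso (DerivedCategory.Q.mapIso eE))⟩

end Groth.Agent.Lib.DR.PolyEval
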