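import Groth.Agent.Lib.DR.KoszulProLTen
import Mathlib.Algebra.Homology.DerivedCategory.ShortExact

/-!
# `I^n M ⟶ M` factors through `I ⊗^L M`
-/

universe u

open CategoryTheory CategoryTheory.Limits CategoryTheory.Pretriangulated MonoidalCategory Opposite
open Groth.Agent.Lib.TensorCx.Basic Groth.Agent.Lib.DR.KoszulPro
open scoped TensorProduct

attribute [local instance] HasDerivedCategory.standard

namespace Groth.Agent.Lib.DR.PowFactor

variable {A : Type u} [CommRing A]

/-- Tensoring with a degreewise flat complex preserves short exact sequences. -/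
theorem shortExact_mapR (L : DRing.Cx A) (hL : ∀ i, Module.Flat A (L.X i))
    {S : ShortComplex (DRing.Cx A)} (hS : S.ShortExact) (w : mapR L S.f ≫ mapR L S.g = 0) :
    (ShortComplex.mk (mapR L S.f) (mapR L S.g) w).ShortExact := by
  refine HomologicalComplex.shortExact_of_degreewise_shortExact _ fun n => ?_
  have hk := fun k => hS.map_of_exact (HomologicalComplex.eval (ModuleCat.{u} A) (ComplexShape.up ℤ) k)
  have hinj : ∀ k, Function.Injective (S.f.f k).hom := fun k => (hk k).moduleCat_injective_f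
  have hsurj : ∀ k, Function.Surjective (S.g.f k).hom := fun k => (hk k).moduleCat_surjective_g
  have hex : ∀ k, Function.Exact (S.f.f k).hom (S.g.f k).hom := fun k =>
    (ShortComplex.ShortExact.moduleCat_exact_iff_function_exact _).1 (hk k).exact
  refine { exact := (ShortComplex.moduleCat_exact_iff _).2 fun x hx => ?_, mono_f := ?_, epi_g := ?_ }
  · obtain ⟨s, hs, hx'⟩ := exists_eq_sum (L := L) x
    have hi : ∀ i, ∃ y, (S.f.f (n - i)).hom.lTensor (L.X i) y = proj L S.X₂ i (n - i) n x := fun i =>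
      (lTensor_exact (L.X i) (hex (n - i)) (hsurj (n - i)) _).1
        ((proj_mapR L S.g i (n - i) n x).symm.trans ((congrArg _ hx).trans (map_zero _)))
    choose y hy using hi
    refine ⟨∑ i ∈ s, incl L S.X₁ i (n - i) n (add_sub_cancel i n) (y i), ?_⟩
    refine (map_sum ((mapR L S.f).f n).hom _ _).trans ?_
    refine (Finset.sum_congr rfl fun i _ => ?_).trans hx'.symm
    rw [mapR_incl, hy]
  · refine (ModuleCat.mono_iff_injective _).2 fun a b h => ext_proj fun i k _ => ?_
    have := hL i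
    refine Module.Flat.lTensor_preserves_injective_linearMap (M := L.X i) _ (hinj k) ?_
    exact (proj_mapR L S.f i k n a).symm.trans ((congrArg _ h).trans (proj_mapR L S.f i k n b))
  · refine (ModuleCat.epi_iff_surjective _).2 fun y => ?_
    induction y using Groth.Agent.Lib.TensorCx.Basic.induction with
    | zero => exact ⟨0, map_zero _⟩
    | add a b ha hb =>
      obtain ⟨a', rfl⟩ := ha
      obtain ⟨b', rfl⟩ := hb
      exact ⟨a' + b', map_add _ _ _⟩
    | inc i j hij z =>
      obtain ⟨z', rfl⟩ := LinearMap.lTensor_surjective (L.X i) (hsurj j) z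
      exact ⟨incl L S.X₂ i j n hij z', mapR_incl L S.g i j n hij z'⟩

/-- `F ⊗ A ≅ F`. -/
noncomputable def rI (F : DRing.Cx A) : F ⊗ 𝟙_ (DRing.Cx A) ≅ F :=
  DTen.braidCx F (𝟙_ (DRing.Cx A)) ≪≫ λ_ F

theorem rI_naturality {F G : DRing.Cx A} (q : F ⟶ G) :
    q ▷ 𝟙_ (DRing.Cx A) ≫ (rI G).hom = (rI F).hom ≫ q := by
  have e := DTen.braidCx_naturality q (𝟙 (𝟙_ (DRing.Cx A)))
  rw [tensorHom_id, id_tensorHom] at e
  simp only [rI, Iso.trans_hom, Category.assoc]
  rw [← Category.assoc, e, Category.assoc, leftUnitor_naturality]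

theorem rI_inv_naturality {F G : DRing.Cx A} (q : F ⟶ G) :
    (rI F).inv ≫ q ▷ 𝟙_ (DRing.Cx A) = q ≫ (rI G).inv := by
  rw [Iso.inv_comp_eq, ← Category.assoc, Iso.eq_comp_inv, rI_naturality]

theorem smul_tens_eq_zero (L X : DRing.Cx A) (a : A) (h : ∀ i (x : X.X i), a • x = 0) (n : ℤ)
    (z : (tens L X).X n) : a • z = 0 := by
  refine ext_proj fun i j _ => ?_
  rw [map_smul, map_zero]
  generalize proj L X i j n z = t
  induction t using TensorProduct.induction_on with
  | zero => exact smul_zero _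
  | tmul k x => rw [← TensorProduct.tmul_smul, h, TensorProduct.tmul_zero]
  | add a' b' ha hb => rw [smul_add, ha, hb, add_zero]

theorem smul_quot_eq_zero (J : Ideal A) (a : A) (ha : a ∈ J) (i : ℤ) (x : (sgl.obj (quot J)).X i) :
    a • x = 0 := by
  by_cases hi : i = 0
  · subst hi
    apply (HomologicalComplex.singleObjXSelf (ComplexShape.up ℤ) 0 (quot J)).toLinearEquiv.injective
    rw [map_zero, map_smul]
    obtain ⟨y, hy⟩ := Submodule.Quotient.mk_surjective _
      ((HomologicalComplex.singleObjXSelf (ComplexShape.up ℤ) 0 (quot J)).toLinearEquiv x)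
    rw [← hy, ← Submodule.Quotient.mk_smul, Submodule.Quotient.mk_eq_zero]
    exact Submodule.smul_mem_smul ha trivial
  · have := ModuleCat.subsingleton_of_isZero
      (HomologicalComplex.isZero_single_obj_X (ComplexShape.up ℤ) 0 (quot J) i hi)
    exact Subsingleton.elim _ _

theorem incl_comp_eq_zero {M : Type u} [AddCommGroup M] [Module A M] (J : Ideal A) {L : DRing.Cx A}
    (φ : sgl.obj (ModuleCat.of A M) ⟶ tens L (sgl.obj (quot J))) :
    sgl.map (ModuleCat.ofHom (J • (⊤ : Submodule A M)).subtype) ≫ φ = 0 := by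
  refine HomologicalComplex.from_single_hom_ext (ModuleCat.hom_ext (LinearMap.ext fun x => ?_))
  have h' : ∀ y, y ∈ J • (⊤ : Submodule A M) →
      φ.f 0 ((HomologicalComplex.singleObjXSelf (ComplexShape.up ℤ) 0 (ModuleCat.of A M)).inv y) = 0 := by
    intro y hy
    refine Submodule.smul_induction_on (p := fun y =>
      φ.f 0 ((HomologicalComplex.singleObjXSelf (ComplexShape.up ℤ) 0 (ModuleCat.of A M)).inv y) = 0) hy
      (fun a ha z _ => ?_) (fun a b ha hb => ?_)
    · rw [map_smul, map_smul]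
      exact smul_tens_eq_zero L _ a (smul_quot_eq_zero J a ha) 0 _
    · rw [map_add, map_add, ha, hb, add_zero]
  have h : ∀ y : ↥(J • (⊤ : Submodule A M)),
      φ.f 0 ((HomologicalComplex.singleObjXSelf (ComplexShape.up ℤ) 0 (ModuleCat.of A M)).inv (y : M)) = 0 :=
    fun y => h' y y.2
  rw [HomologicalComplex.comp_f, HomologicalComplex.single_map_f_self]
  exact h _

/-- The projection `A ⟶ A/J`, as complexes. -/
noncomputable def toQuot (J : Ideal A) : 𝟙_ (DRing.Cx A) ⟶ sgl.obj (quot J) :=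
  sgl.map (ModuleCat.ofHom (Submodule.mkQ _))

theorem toQuot_qmap {J J' : Ideal A} (h : J ≤ J') : toQuot J ≫ sgl.map (qmap h) = toQuot J' :=
  (sgl.map_comp _ _).symm.trans rfl

theorem exists_pow_factor [IsNoetherianRing A] [DTen.HasLTen A] (I : Ideal A) (M : Type u) [AddCommGroup M]
    [Module A M] [Module.Finite A M] :
    ∃ (n : ℕ) (_ : 0 < n)
      (g : DerivedCategory.Q.obj (sgl.obj (ModuleCat.of A ↥(I ^ n • (⊤ : Submodule A M)))) ⟶
        (DTen.LTen₂ A).obj (DerivedCategory.Q.obj (sgl.obj (ModuleCat.of A ↥I)),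
          DerivedCategory.Q.obj (sgl.obj (ModuleCat.of A M)))),
      g ≫ (DTen.LTen₂ A).map (Prod.mkHom (DerivedCategory.Q.map (sgl.map (ModuleCat.ofHom I.subtype)))
          (𝟙 _)) ≫ (DTen.unitL A).app (DerivedCategory.Q.obj (sgl.obj (ModuleCat.of A M))) =
        DerivedCategory.Q.map (sgl.map (ModuleCat.ofHom (I ^ n • (⊤ : Submodule A M)).subtype)) := by
  let M₀ : DRing.Cx A := sgl.obj (ModuleCat.of A M)
  have hMf : ∀ i, Module.Finite A (M₀.X i) := fun i => by
    by_cases hi : i = 0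
    · subst hi
      exact Module.Finite.equiv
        (HomologicalComplex.singleObjXSelf (ComplexShape.up ℤ) 0 (ModuleCat.of A M)).symm.toLinearEquiv
    · have := ModuleCat.subsingleton_of_isZero
        (HomologicalComplex.isZero_single_obj_X (ComplexShape.up ℤ) 0 (ModuleCat.of A M) i hi)
      exact Module.Finite.of_finite
  let G : ARSys.PS (DRing.Cx A) := CohIII.adicSystem I (ModuleCat.of A A) ⋙ sgl
  obtain ⟨m, hm, b, e₁, -⟩ := KoszulProLTen.isProIso_adic I M₀ 0 0
    (fun i hi => HomologicalComplex.isZero_single_obj_X _ _ _ _ (by omega)) hMf 0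
  let F : DRing.Cx A := (KProjRes.res A).obj M₀
  let q : F ⟶ M₀ := (KProjRes.aug A).app M₀
  have hq : IsIso (DerivedCategory.Q.map q) := DTenBasic.isIso_Q_map q (KProjRes.quasiIso_aug A M₀)
  have hFk : DRing.IsKFlat A F := KFlat.isKFlat_res M₀
  let t : G.obj (op m) ⟶ G.obj (op 0) := ARSys.tr G hm
  let E : ∀ X : DRing.Cx A, ((DTen.LTen A).obj (DerivedCategory.Q.obj F)).obj (DerivedCategory.Q.obj X) ⟶
      ((DTen.LTen A).obj (DerivedCategory.Q.obj M₀)).obj (DerivedCategory.Q.obj X) :=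
    fun X => ((DTen.LTen A).map (DerivedCategory.Q.map q)).app (DerivedCategory.Q.obj X)
  have hE : ∀ X, E X ≫ (DTen.εLeft A M₀).app X = (DTen.εLeft A F).app X ≫ DerivedCategory.Q.map (q ▷ X) :=
    fun X => (DTen.εRight A X).naturality q
  have hεF : ∀ X, IsIso ((DTen.εLeft A F).app X) := fun X => DTenBasic.isIso_ε (Or.inl hFk)
  let b' : DerivedCategory.Q.obj (M₀ ⊗ G.obj (op m)) ⟶ DerivedCategory.Q.obj (F ⊗ G.obj (op 0)) :=
    b ≫ inv (E (G.obj (op 0))) ≫ (DTen.εLeft A F).app (G.obj (op 0))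
  have hb' : DerivedCategory.Q.map (q ▷ G.obj (op m)) ≫ b' = DerivedCategory.Q.map (F ◁ t) := by
    rw [← cancel_epi ((DTen.εLeft A F).app (G.obj (op m))), ← Category.assoc, ← hE]
    have e₁' : (DTen.εLeft A M₀).app (G.obj (op m)) ≫ b =
        ((DTen.LTen A).obj (DerivedCategory.Q.obj M₀)).map (DerivedCategory.Q.map t) := e₁
    have e₂ : ((DTen.LTen A).obj (DerivedCategory.Q.obj F)).map (DerivedCategory.Q.map t) ≫ E (G.obj (op 0)) =
        E (G.obj (op m)) ≫ ((DTen.LTen A).obj (DerivedCategory.Q.obj M₀)).map (DerivedCategory.Q.map t) :=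
      ((DTen.LTen A).map (DerivedCategory.Q.map q)).naturality (DerivedCategory.Q.map t)
    have e₃ : ((DTen.LTen A).obj (DerivedCategory.Q.obj F)).map (DerivedCategory.Q.map t) ≫
        (DTen.εLeft A F).app (G.obj (op 0)) =
        (DTen.εLeft A F).app (G.obj (op m)) ≫ DerivedCategory.Q.map (F ◁ t) :=
      (DTen.εLeft A F).naturality t
    simp only [b', Category.assoc]
    rw [reassoc_of% e₁', ← reassoc_of% e₂, IsIso.hom_inv_id_assoc, e₃]
  let incM : sgl.obj (ModuleCat.of A ↥(I ^ (m + 1) • (⊤ : Submodule A M))) ⟶ M₀ :=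
    sgl.map (ModuleCat.ofHom (I ^ (m + 1) • (⊤ : Submodule A M)).subtype)
  have ht : t = sgl.map (qmap (J := I ^ (m + 1)) (J' := I ^ (0 + 1)) (Ideal.pow_le_pow_right (by omega))) :=
    congrArg sgl.map (KoszulProLTen.adicSystem_map I hm)
  let π₀ : 𝟙_ (DRing.Cx A) ⟶ G.obj (op 0) := toQuot (I ^ (0 + 1))
  let πm : 𝟙_ (DRing.Cx A) ⟶ G.obj (op m) := toQuot (I ^ (m + 1))
  have hπ : πm ≫ t = π₀ := by rw [ht]; exact toQuot_qmap _
  let j := DerivedCategory.Q.map incM ≫ inv (DerivedCategory.Q.map q) ≫ DerivedCategory.Q.map (rI F).inv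
  have hj : j ≫ DerivedCategory.Q.map (F ◁ π₀) = 0 := by
    rw [← hπ, whiskerLeft_comp, Functor.map_comp, ← hb', ← Category.assoc (DerivedCategory.Q.map (F ◁ πm)),
      ← Functor.map_comp, whisker_exchange]
    simp only [j, Category.assoc]
    rw [← Functor.map_comp_assoc, ← Category.assoc (rI F).inv, rI_inv_naturality, Category.assoc,
      Functor.map_comp, Category.assoc, IsIso.inv_hom_id_assoc, ← Functor.map_comp_assoc]
    rw [show incM ≫ (rI M₀).inv ≫ M₀ ◁ πm = 0 from incl_comp_eq_zero _ ((rI M₀).inv ≫ M₀ ◁ πm),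
      Functor.map_zero, zero_comp]
  let ιI : sgl.obj (ModuleCat.of A ↥I) ⟶ 𝟙_ (DRing.Cx A) := sgl.map (ModuleCat.ofHom I.subtype)
  have w₀ : ModuleCat.ofHom I.subtype ≫ ModuleCat.ofHom (Submodule.mkQ (I ^ (0 + 1) • (⊤ : Submodule A A))) = 0 := by
    refine ModuleCat.hom_ext (LinearMap.ext fun x => ?_)
    exact (Submodule.Quotient.mk_eq_zero _).2 (by simp; exact x.2)
  have hS₀ : (ShortComplex.mk _ _ w₀).ShortExact :=
    { exact := (ShortComplex.moduleCat_exact_iff _).2 fun x hx => by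
        have hx' : (x : A) ∈ I := by simpa using (Submodule.Quotient.mk_eq_zero _).1 hx
        exact ⟨⟨x, hx'⟩, rfl⟩
      mono_f := (ModuleCat.mono_iff_injective _).2 Subtype.val_injective
      epi_g := (ModuleCat.epi_iff_surjective _).2 (Submodule.mkQ_surjective _) }
  have hS := hS₀.map_of_exact sgl
  have w : mapR F (sgl.map (ModuleCat.ofHom I.subtype)) ≫
      mapR F (sgl.map (ModuleCat.ofHom (Submodule.mkQ (I ^ (0 + 1) • (⊤ : Submodule A A))))) = 0 := by
    rw [← mapR_comp, ← Functor.map_comp, w₀, Functor.map_zero]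
    refine HomologicalComplex.hom_ext _ _ fun n => ModuleCat.hom_ext (LinearMap.ext fun x => ?_)
    exact ext_proj fun i j _ => (proj_mapR _ _ _ _ _ x).trans (by simp)
  have hSF := shortExact_mapR F (fun i => KFlat.flat_of_cof (Groth.Agent.Lib.DerivedOX.LeftRes.cof_resolution M₀) i) hS w
  obtain ⟨g₀, hg₀⟩ := Triangle.coyoneda_exact₂ _ (DerivedCategory.triangleOfSES_distinguished hSF) j hj
  have hg₀' : j = g₀ ≫ DerivedCategory.Q.map (F ◁ ιI) := hg₀
  let IC : DRing.Cx A := sgl.obj (ModuleCat.of A ↥I)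
  have hεI : IsIso ((DTen.ε A).app (IC, F)) := DTenBasic.isIso_ε (Or.inr hFk)
  let gI : DerivedCategory.Q.obj (sgl.obj (ModuleCat.of A ↥(I ^ (m + 1) • (⊤ : Submodule A M)))) ⟶
      DerivedCategory.Q.obj (F ⊗ IC) := g₀
  refine ⟨m + 1, Nat.succ_pos m, gI ≫ DerivedCategory.Q.map (DTen.braidCx F IC).hom ≫ inv ((DTen.ε A).app (IC, F)) ≫
    ((DTen.LTen A).obj (DerivedCategory.Q.obj IC)).map (DerivedCategory.Q.map q), ?_⟩
  have n₁ : ((DTen.LTen A).obj (DerivedCategory.Q.obj IC)).map (DerivedCategory.Q.map q) ≫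
      ((DTen.LTen A).map (DerivedCategory.Q.map ιI)).app (DerivedCategory.Q.obj M₀) =
      ((DTen.LTen A).map (DerivedCategory.Q.map ιI)).app (DerivedCategory.Q.obj F) ≫
        ((DTen.LTen A).obj (DTen.unit A)).map (DerivedCategory.Q.map q) :=
    ((DTen.LTen A).map (DerivedCategory.Q.map ιI)).naturality (DerivedCategory.Q.map q)
  have n₂ : ((DTen.LTen A).obj (DTen.unit A)).map (DerivedCategory.Q.map q) ≫
      (DTen.unitL A).app (DerivedCategory.Q.obj M₀) =
      (DTen.unitL A).app (DerivedCategory.Q.obj F) ≫ DerivedCategory.Q.map q :=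
    (DTen.unitL A).naturality (DerivedCategory.Q.map q)
  have n₃ : ((DTen.LTen A).map (DerivedCategory.Q.map ιI)).app (DerivedCategory.Q.obj F) ≫
      (DTen.ε A).app (𝟙_ (DRing.Cx A), F) = (DTen.ε A).app (IC, F) ≫ DerivedCategory.Q.map (ιI ▷ F) :=
    (DTen.εRight A F).naturality ιI
  have n₄ : (DTen.braidCx F IC).hom ≫ ιI ▷ F = F ◁ ιI ≫ (DTen.braidCx F (𝟙_ (DRing.Cx A))).hom := by
    have e := DTen.braidCx_naturality (𝟙 F) ιI
    rw [id_tensorHom, tensorHom_id] at e
    exact e.symm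
  show (gI ≫ _ ≫ _ ≫ _) ≫ ((DTen.LTen A).map (DerivedCategory.Q.map ιI)).app (DerivedCategory.Q.obj M₀) ≫
    (DTen.unitL A).app (DerivedCategory.Q.obj M₀) = DerivedCategory.Q.map incM
  simp only [Category.assoc]
  have hgI : gI ≫ DerivedCategory.Q.map (F ◁ ιI) = j := hg₀'.symm
  rw [reassoc_of% n₁, n₂, DTen.unitL_app, Category.assoc, reassoc_of% n₃, IsIso.inv_hom_id_assoc,
    ← Functor.map_comp_assoc, n₄, Functor.map_comp, Category.assoc, reassoc_of% hgI]
  simp only [j, Category.assoc]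
  rw [← Functor.map_comp_assoc, ← Functor.map_comp_assoc, Category.assoc,
    show (rI F).inv ≫ (DTen.braidCx F (𝟙_ (DRing.Cx A))).hom ≫ (λ_ F).hom = 𝟙 F from
    (rI F).inv_hom_id, CategoryTheory.Functor.map_id, Category.id_comp, IsIso.inv_hom_id, Category.comp_id]

end Groth.Agent.Lib.DR.PowFactor
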