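import Groth.Agent.Lib.DR.Basic
import Groth.Agent.Lib.FlatCx.Elem
import Groth.Prelude.Def_DTen
import Groth.Prelude.Def_DerCA
import Mathlib.Algebra.Homology.DerivedCategory.FullyFaithful
import Mathlib.CategoryTheory.Triangulated.Rotate

/-!
# Pro-isomorphisms of inverse systems of complexes, detected by cocycles of the cones
-/

universe u v w

open CategoryTheory CategoryTheory.Limits CategoryTheory.Pretriangulated Opposite
open Groth.Agent.Lib.DR.Basic

attribute [local instance] HasDerivedCategory.standard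

namespace Groth.Agent.Lib.DR.ProIso

section General

variable {C : Type w} [Category.{v} C]

theorem tr_comp (X : ARSys.PS C) {n m k : ℕ} (h : n ≤ m) (h' : m ≤ k) :
    ARSys.tr X h' ≫ ARSys.tr X h = ARSys.tr X (h.trans h') :=
  (X.map_comp _ _).symm

theorem tr_naturality {X Y : ARSys.PS C} (a : X ⟶ Y) {n m : ℕ} (h : n ≤ m) :
    ARSys.tr X h ≫ a.app (op n) = a.app (op m) ≫ ARSys.tr Y h :=
  a.naturality _

theorem isProIso_comp {X Y Z : ARSys.PS C} {a : X ⟶ Y} {c : Y ⟶ Z} (ha : DerCA.IsProIso a)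
    (hc : DerCA.IsProIso c) : DerCA.IsProIso (a ≫ c) := fun n => by
  obtain ⟨k, hk, b, h₁, h₂⟩ := ha n
  obtain ⟨m, hm, b', h₁', h₂'⟩ := hc k
  refine ⟨m, hk.trans hm, b' ≫ b, ?_, ?_⟩
  · rw [NatTrans.comp_app, Category.assoc, reassoc_of% h₁', ← reassoc_of% (tr_naturality a hm), h₁, tr_comp]
  · rw [NatTrans.comp_app, Category.assoc, reassoc_of% h₂, tr_naturality c hk, reassoc_of% h₂', tr_comp]

theorem isProIso_of_isIso {X Y : ARSys.PS C} (a : X ⟶ Y) [IsIso a] : DerCA.IsProIso a := fun n =>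
  ⟨n, le_rfl, inv (a.app (op n)), (IsIso.hom_inv_id _).trans (X.map_id _).symm,
    (IsIso.inv_hom_id _).trans (Y.map_id _).symm⟩

theorem isProIso_of_comp {X Y Z : ARSys.PS C} {a : X ⟶ Y} {c : Y ⟶ Z} (ha : DerCA.IsProIso a)
    (hac : DerCA.IsProIso (a ≫ c)) : DerCA.IsProIso c := fun n => by
  obtain ⟨k, hk, b, h₁, h₂⟩ := hac n
  obtain ⟨m, hm, b', h₁', h₂'⟩ := ha k
  refine ⟨m, hk.trans hm, ARSys.tr Z hm ≫ b ≫ a.app (op n), ?_, ?_⟩
  · rw [← reassoc_of% (tr_naturality c hm), ← h₂', Category.assoc,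
      ← Category.assoc (a.app (op k)) (c.app (op k)), ← NatTrans.comp_app, reassoc_of% h₁,
      tr_naturality a hk, reassoc_of% h₂', tr_comp]
  · rw [Category.assoc, Category.assoc, ← NatTrans.comp_app, h₂, tr_comp]

/-- Pro-isomorphisms pass along cofinal comparison maps. -/
theorem isProIso_of_cofinal {X Y X' Y' : ARSys.PS C} {a : X ⟶ Y} {a' : X' ⟶ Y'} (ha : DerCA.IsProIso a')
    (h : ∀ n, ∃ (k : ℕ) (fX : X'.obj (op k) ⟶ X.obj (op n)) (fY : Y'.obj (op k) ⟶ Y.obj (op n)),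
      fX ≫ a.app (op n) = a'.app (op k) ≫ fY ∧
      ∀ m, k ≤ m → ∃ (l : ℕ) (hnl : n ≤ l) (gX : X.obj (op l) ⟶ X'.obj (op m))
        (gY : Y.obj (op l) ⟶ Y'.obj (op m)) (hkm : k ≤ m),
        a.app (op l) ≫ gY = gX ≫ a'.app (op m) ∧
        gX ≫ ARSys.tr X' hkm ≫ fX = ARSys.tr X hnl ∧ gY ≫ ARSys.tr Y' hkm ≫ fY = ARSys.tr Y hnl) :
    DerCA.IsProIso a := fun n => by
  obtain ⟨k, fX, fY, hf, hg⟩ := h n
  obtain ⟨m, hm, b, h₁, h₂⟩ := ha k
  obtain ⟨l, hl, gX, gY, hkm, e, eX, eY⟩ := hg m hm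
  refine ⟨l, hl, gY ≫ b ≫ fX, ?_, ?_⟩
  · rw [reassoc_of% e, reassoc_of% h₁]
    exact eX
  · rw [Category.assoc, Category.assoc, hf, reassoc_of% h₂]
    exact eY

end General

variable {A : Type u} [CommRing A]

/-- A map from an object `≤ j` to an object `≥ j` is detected by `H^j`. -/
theorem eq_zero_of_homology {T Y : Dual.D A} (j : ℤ) (hT : T.IsLE j) (hY : Y.IsGE j) (f : T ⟶ Y)
    (h : (DerivedCategory.homologyFunctor (ModuleCat.{u} A) j).map f = 0) : f = 0 := by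
  obtain ⟨P, R, i, q, k, hd, hP, hR⟩ := exists_trunc T (j - 1) j (by lia)
  have hiq : i ≫ q = 0 := comp_distTriang_mor_zero₁₂ _ hd
  obtain ⟨(g : R ⟶ Y), hg⟩ := Triangle.yoneda_exact₂ _ hd f (hom_eq_zero_of_isLE_of_isGE _ (by lia) hP hY)
  change f = q ≫ g at hg
  have hRle : R.IsLE j := isLE_obj₃ _ hd j (isLE_mono hP (by lia)) hT
  obtain ⟨P', R', i', q', k', hd', hP', hR'⟩ := exists_trunc Y j (j + 1) rfl
  have hP'ge : P'.IsGE j := isGE_obj₁ _ hd' j hY (isGE_mono hR' (by lia))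
  obtain ⟨(g' : R ⟶ P'), hg'⟩ := Triangle.coyoneda_exact₂ _ hd' g (hom_eq_zero_of_isLE_of_isGE _ (by lia) hRle hR')
  change g = g' ≫ i' at hg'
  obtain ⟨M, ⟨eM⟩⟩ := DerivedCategory.exists_iso_singleFunctor_obj_of_isGE_of_isLE R j
  obtain ⟨N, ⟨eN⟩⟩ := DerivedCategory.exists_iso_singleFunctor_obj_of_isGE_of_isLE P' j
  let H := DerivedCategory.homologyFunctor (ModuleCat.{u} A) j
  have hq : Epi (H.map q) := by
    refine (DerivedCategory.HomologySequence.epi_homologyMap_mor₂_iff _ hd j (j + 1) rfl).2 ?_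
    exact (DerivedCategory.isZero_of_isLE P (j - 1) (j + 1) (by lia)).eq_of_tgt _ _
  have hi' : Mono (H.map i') := by
    refine (DerivedCategory.HomologySequence.mono_homologyMap_mor₁_iff _ hd' (j - 1) j (by lia)).2 ?_
    exact (DerivedCategory.isZero_of_isGE R' (j + 1) (j - 1) (by lia)).eq_of_src _ _
  have h0 : H.map g' = 0 := by
    rw [← cancel_epi (H.map q), ← cancel_mono (H.map i'), comp_zero, zero_comp, ← Functor.map_comp,
      ← Functor.map_comp, Category.assoc, ← hg', ← hg]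
    exact h
  obtain ⟨φ, hφ⟩ := (DerivedCategory.singleFunctor (ModuleCat.{u} A) j).map_surjective (eM.inv ≫ g' ≫ eN.hom)
  have hφ0 : φ = 0 := by
    have e := (DerivedCategory.singleFunctorCompHomologyFunctorIso (ModuleCat.{u} A) j).hom.naturality φ
    have e0 : H.map ((DerivedCategory.singleFunctor (ModuleCat.{u} A) j).map φ) = 0 := by
      rw [hφ, Functor.map_comp, Functor.map_comp, h0, zero_comp, comp_zero]
    change H.map _ ≫ _ = _ ≫ φ at e
    rw [e0, zero_comp] at e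
    exact (cancel_epi _).1 (e.symm.trans comp_zero.symm)
  have : g' = 0 := by
    rw [← cancel_epi eM.inv, ← cancel_mono eN.hom, Category.assoc, ← hφ, hφ0, Functor.map_zero, comp_zero,
      zero_comp]
  rw [hg, hg', this, zero_comp, comp_zero]

variable (C : ARSys.PS (DRing.Cx A))

/-- Cocycles become coboundaries lower down in the system. -/
def ProAcyclic : Prop :=
  ∀ (i : ℤ) (n : ℕ), ∃ (m : ℕ) (h : n ≤ m), ∀ z : (C.obj (op m)).X i, (C.obj (op m)).d i (i + 1) z = 0 →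
    ∃ w : (C.obj (op n)).X (i - 1), (C.obj (op n)).d (i - 1) i w = (ARSys.tr C h).f i z

variable {C}

theorem homologyMap_eq_zero {K L : DRing.Cx A} (φ : K ⟶ L) (i : ℤ)
    (h : ∀ z : K.X i, K.d i (i + 1) z = 0 → ∃ w : L.X (i - 1), L.d (i - 1) i w = φ.f i z) :
    HomologicalComplex.homologyMap φ i = 0 := by
  have hnext : (ComplexShape.up ℤ).next i = i + 1 := (ComplexShape.up ℤ).next_eq' (by simp)
  have hprev : (ComplexShape.up ℤ).prev i = i - 1 := (ComplexShape.up ℤ).prev_eq' (by simp)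
  refine ModuleCat.hom_ext (LinearMap.ext fun x => ?_)
  obtain ⟨⟨z, hz⟩, rfl⟩ := FlatCx.Elem.cls_surjective hnext x
  obtain ⟨w, hw⟩ := h z hz
  have hz' : φ.f i z ∈ LinearMap.ker (L.d i (i + 1)).hom := by
    rw [LinearMap.mem_ker, ← hw]
    exact (ConcreteCategory.comp_apply _ _ _).symm.trans (by rw [L.d_comp_d]; rfl)
  refine (FlatCx.Elem.homologyMap_cls φ hnext ⟨z, hz⟩ ⟨_, hz'⟩ rfl).trans ?_
  exact (FlatCx.Elem.cls_eq_zero_iff hprev hnext _).2 ⟨w, hw⟩

/-- A bounded pro-acyclic system has eventually zero transition maps in the derived category. -/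
theorem exists_tr_eq_zero (a b : ℤ) (hC : ∀ n i, (i < a ∨ b < i) → IsZero ((C.obj (op n)).X i))
    (h : ProAcyclic C) (n : ℕ) :
    ∃ (m : ℕ) (h : n ≤ m), DerivedCategory.Q.map (ARSys.tr C h) = 0 := by
  let G := C ⋙ DerivedCategory.Q
  suffices key : ∀ (d : ℕ) (j : ℤ), j = a - 1 + d → ∀ n, ∃ (m : ℕ) (h : n ≤ m),
      ∀ (T : Dual.D A), T.IsLE j → ∀ g : T ⟶ G.obj (op m), g ≫ ARSys.tr G h = 0 by
    by_cases hab : a ≤ b
    · obtain ⟨m, hm, e⟩ := key (b - (a - 1)).toNat b (by omega) n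
      exact ⟨m, hm, (Category.id_comp _).symm.trans
        (e _ (isLE_Q_of_isZero _ b fun i hi => hC m i (Or.inr hi)) (𝟙 _))⟩
    · exact ⟨n, le_rfl, (isLE_Q_of_isZero _ (a - 1) fun i hi => hC n i (by lia)) |> fun hle =>
        hom_eq_zero_of_isLE_of_isGE _ (show a - 1 < a by lia) hle
          (isGE_Q_of_isZero _ a fun i hi => hC n i (Or.inl hi))⟩
  intro d
  induction d with
  | zero => exact fun j hj n => ⟨n, le_rfl, fun T hT g => hom_eq_zero_of_isLE_of_isGE _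
      (show j < a by lia) hT (isGE_Q_of_isZero _ a fun i hi => hC n i (Or.inl hi))⟩
  | succ d ih =>
    intro j hj n
    obtain ⟨n₁, hn₁, e₁⟩ := ih (j - 1) (by lia) n
    obtain ⟨m, hm, e⟩ := h j n₁
    refine ⟨m, hn₁.trans hm, fun T hT g => ?_⟩
    obtain ⟨P, R, i, q, k, hd, hP, hR⟩ := exists_trunc (G.obj (op n₁)) (j - 1) j (by lia)
    have hH : (DerivedCategory.homologyFunctor (ModuleCat.{u} A) j).map (ARSys.tr G hm) = 0 := by
      have e0 := homologyMap_eq_zero _ j e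
      have nat := (DerivedCategory.homologyFunctorFactors (ModuleCat.{u} A) j).hom.naturality (ARSys.tr C hm)
      dsimp at nat
      rw [show (HomologicalComplex.homologyFunctor (ModuleCat.{u} A) (ComplexShape.up ℤ) j).map (ARSys.tr C hm) = 0 from e0, comp_zero] at nat
      exact (cancel_mono ((DerivedCategory.homologyFunctorFactors (ModuleCat.{u} A) j).hom.app _)).1
        (nat.trans zero_comp.symm)
    have h0 : (g ≫ ARSys.tr G hm) ≫ q = 0 := by
      refine eq_zero_of_homology j hT hR _ ?_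
      rw [Functor.map_comp, Functor.map_comp, hH, comp_zero, zero_comp]
    obtain ⟨l, hl⟩ := Triangle.coyoneda_exact₂ _ hd _ h0
    change g ≫ ARSys.tr G hm = l ≫ i at hl
    rw [← tr_comp G hn₁ hm, ← Category.assoc, hl]
    exact (Category.assoc _ _ _).trans ((congrArg (l ≫ ·) (e₁ P hP i)).trans comp_zero)

/-- A map of systems with bounded pro-acyclic cones is a pro-isomorphism in the derived category. -/
theorem isProIso_of_cones {X Y : ARSys.PS (DRing.Cx A)} (φ : X ⟶ Y) (a b : ℤ)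
    (hC : ∀ n i, (i < a ∨ b < i) → IsZero ((CochainComplex.mappingCone (φ.app (op n))).X i))
    (h : ∀ (i : ℤ) (n : ℕ), ∃ (m : ℕ) (h : n ≤ m), ∀ z : (CochainComplex.mappingCone (φ.app (op m))).X i,
      (CochainComplex.mappingCone (φ.app (op m))).d i (i + 1) z = 0 →
      ∃ w : (CochainComplex.mappingCone (φ.app (op n))).X (i - 1),
        (CochainComplex.mappingCone (φ.app (op n))).d (i - 1) i w =
          (CochainComplex.mappingCone.map (φ.app (op m)) (φ.app (op n)) (ARSys.tr X h) (ARSys.tr Y h)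
            (tr_naturality φ h).symm).f i z) :
    DerCA.IsProIso (Functor.whiskerRight φ DerivedCategory.Q) := by
  let C : ARSys.PS (DRing.Cx A) :=
    { obj := fun n => CochainComplex.mappingCone (φ.app n)
      map := fun {m n} f => CochainComplex.mappingCone.map (φ.app m) (φ.app n) (X.map f) (Y.map f)
        (φ.naturality f).symm
      map_id := fun n => by
        simp only [CategoryTheory.Functor.map_id]
        exact CochainComplex.mappingCone.map_id _
      map_comp := fun f g => by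
        simp only [Functor.map_comp]
        exact CochainComplex.mappingCone.map_comp _ _ _ _ _ _ _ _ _ }
  have hz := exists_tr_eq_zero (C := C) a b hC h
  intro n
  obtain ⟨n₁, hn₁, z₁⟩ := hz n
  obtain ⟨m, hm, z⟩ := hz n₁
  let T : ∀ k : ℕ, Triangle (Dual.D A) := fun k =>
    DerivedCategory.Q.mapTriangle.obj (CochainComplex.mappingCone.triangle (φ.app (op k)))
  have hT : ∀ k, T k ∈ distTriang _ := fun k => DerivedCategory.mappingCone_triangle_distinguished _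
  let Φ : ∀ {k l : ℕ} (h : k ≤ l), T l ⟶ T k := fun {k l} h =>
    DerivedCategory.Q.mapTriangle.map (CochainComplex.mappingCone.triangleMap (φ.app (op l)) (φ.app (op k))
      (ARSys.tr X h) (ARSys.tr Y h) (tr_naturality φ h).symm)
  have c₂ : (T m).mor₂ ≫ (Φ hm).hom₃ = (Φ hm).hom₂ ≫ (T n₁).mor₂ := (Φ hm).comm₂
  have h0 : (Φ hm).hom₂ ≫ (T n₁).mor₂ = 0 := by
    rw [← c₂, show (Φ hm).hom₃ = 0 from z, comp_zero]
  obtain ⟨b₀, hb₀⟩ := Triangle.coyoneda_exact₂ _ (hT n₁) _ h0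
  have ha : ∀ {k l : ℕ} (h : k ≤ l), (T l).mor₁ ≫ (Φ h).hom₂ = (Φ h).hom₁ ≫ (T k).mor₁ :=
    fun h => (Φ h).comm₁
  have hdiff : ((T m).mor₁ ≫ b₀ - (Φ hm).hom₁) ≫ (T n₁).mor₁ = 0 := by
    rw [Preadditive.sub_comp, Category.assoc, ← hb₀, ha hm, sub_self]
  obtain ⟨χ, hχ⟩ := Triangle.coyoneda_exact₂ _ (inv_rot_of_distTriang _ (hT n₁)) _ hdiff
  have c₁ : (T n₁).invRotate.mor₁ ≫ (Φ hn₁).hom₁ =
      (shiftFunctor (Dual.D A) (-1 : ℤ)).map (Φ hn₁).hom₃ ≫ (T n).invRotate.mor₁ :=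
    ((invRotate (Dual.D A)).map (Φ hn₁)).comm₁
  have h1 : ((T m).mor₁ ≫ b₀ - (Φ hm).hom₁) ≫ (Φ hn₁).hom₁ = 0 := by
    rw [show (T m).mor₁ ≫ b₀ - (Φ hm).hom₁ = χ ≫ (T n₁).invRotate.mor₁ from hχ]
    refine (Category.assoc χ _ _).trans ((congrArg (χ ≫ ·) c₁).trans ?_)
    rw [show (Φ hn₁).hom₃ = 0 from z₁, Functor.map_zero]
    exact (congrArg (χ ≫ ·) zero_comp).trans comp_zero
  let G := X ⋙ DerivedCategory.Q
  let G' := Y ⋙ DerivedCategory.Q
  refine ⟨m, hn₁.trans hm, b₀ ≫ (Φ hn₁).hom₁, ?_, ?_⟩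
  · rw [Preadditive.sub_comp, sub_eq_zero, Category.assoc] at h1
    exact h1.trans (tr_comp G hn₁ hm)
  · refine Eq.trans ?_ (tr_comp G' hn₁ hm)
    refine (Category.assoc b₀ (Φ hn₁).hom₁ (T n).mor₁).trans ?_
    refine (congrArg (b₀ ≫ ·) (ha hn₁).symm).trans ?_
    refine (Category.assoc b₀ (T n₁).mor₁ (Φ hn₁).hom₂).symm.trans ?_
    exact congrArg (· ≫ (Φ hn₁).hom₂) hb₀.symm

end Groth.Agent.Lib.DR.ProIso
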