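import Groth.Agent.Lib.DR.HomCxFinite
import Groth.Prelude.Def_DTen5
import Groth.Prelude.Def_DTen6

/-!
# The projection formula for complexes
-/

universe u

open CategoryTheory CategoryTheory.Limits MonoidalCategory HomologicalComplex
open Groth.Agent.Lib.TensorCx.Basic
open scoped TensorProduct ChangeOfRings

attribute [local instance] HasDerivedCategory.standard

set_option backward.isDefEq.respectTransparency false

namespace Groth.Agent.Lib.DR.ProjCx

variable {R A : Type u} [CommRing R] [CommRing A] (φ : R →+* A)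

/-- `M ⊗ res N ⟶ res (ext M ⊗ N)`. -/
noncomputable def ζ₀ (M : ModuleCat.{u} R) (N : ModuleCat.{u} A) :
    M ⊗ (DTen.resM φ).obj N ⟶ (DTen.resM φ).obj ((DTen.extM φ).obj M ⊗ N) :=
  (ModuleCat.extendRestrictScalarsAdj.{u} φ).unit.app M ▷ _ ≫ DTen.resTen₀app φ _ _

theorem ζ₀_tmul (M : ModuleCat.{u} R) (N : ModuleCat.{u} A) (m : M) (n : N) :
    (ζ₀ φ M N).hom (m ⊗ₜ[R] (show (DTen.resM φ).obj N from n)) =
      (show (DTen.resM φ).obj ((DTen.extM φ).obj M ⊗ N) from
        (((1 : A) ⊗ₜ[R,φ] m : (DTen.extM φ).obj M) ⊗ₜ[A] n : ((DTen.extM φ).obj M ⊗ N : ModuleCat.{u} A))) := rfl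

theorem bijective_ζ₀ (M : ModuleCat.{u} R) (N : ModuleCat.{u} A) : Function.Bijective (ζ₀ φ M N).hom := by
  let T := M ⊗[R] ((DTen.resM φ).obj N)
  let g₁ : A → M →+ (N →+ T) := fun a =>
    { toFun := fun m =>
        { toFun := fun n => m ⊗ₜ[R] (show (DTen.resM φ).obj N from a • n)
          map_zero' := by
            show m ⊗ₜ[R] (show (DTen.resM φ).obj N from a • (0 : N)) = 0
            rw [smul_zero]
            exact TensorProduct.tmul_zero _ m
          map_add' := fun x y => by
            show m ⊗ₜ[R] (show (DTen.resM φ).obj N from a • (x + y)) = _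
            rw [smul_add]
            exact TensorProduct.tmul_add _ _ _ }
      map_zero' := AddMonoidHom.ext fun n => TensorProduct.zero_tmul _ _
      map_add' := fun x y => AddMonoidHom.ext fun n => TensorProduct.add_tmul _ _ _ }
  let g₂ : (ModuleCat.restrictScalars φ).obj (ModuleCat.of A A) →+ M →+ (N →+ T) :=
    { toFun := g₁
      map_zero' := AddMonoidHom.ext fun m => AddMonoidHom.ext fun n => by
        show m ⊗ₜ[R] (show (DTen.resM φ).obj N from (0 : A) • n) = 0
        rw [zero_smul]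
        exact TensorProduct.tmul_zero _ m
      map_add' := fun x y => AddMonoidHom.ext fun m => AddMonoidHom.ext fun n => by
        show m ⊗ₜ[R] (show (DTen.resM φ).obj N from ((show A from x) + (show A from y)) • n) = _
        rw [add_smul]
        exact TensorProduct.tmul_add _ _ _ }
  let g : (DTen.extM φ).obj M →+ (N →+ T) := TensorProduct.liftAddHom g₂ fun r a m => AddMonoidHom.ext fun n => by
    show m ⊗ₜ[R] (show (DTen.resM φ).obj N from (φ r * (show A from a)) • n) =
      (r • m) ⊗ₜ[R] (show (DTen.resM φ).obj N from (show A from a) • n)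
    rw [mul_smul, TensorProduct.smul_tmul]
    rfl
  let L : (DTen.extM φ).obj M ⊗[A] N →+ T := TensorProduct.liftAddHom g fun a x n => by
    induction x using TensorProduct.induction_on with
    | zero => simp
    | add x y hx hy => rw [smul_add, map_add, map_add, AddMonoidHom.add_apply, AddMonoidHom.add_apply, hx, hy]
    | tmul b m =>
      show m ⊗ₜ[R] (show (DTen.resM φ).obj N from (a * (show A from b)) • n) =
        m ⊗ₜ[R] (show (DTen.resM φ).obj N from (show A from b) • (a • n))
      rw [smul_smul, mul_comm]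
  refine ⟨Function.LeftInverse.injective (g := fun y => L y) fun x => ?_, fun y => ?_⟩
  · induction x using TensorProduct.induction_on with
    | zero => simp
    | add x y hx hy => rw [map_add]; exact (L.map_add _ _).trans (congrArg₂ (· + ·) hx hy)
    | tmul m n =>
      show m ⊗ₜ[R] (show (DTen.resM φ).obj N from (1 : A) • (show N from n)) = m ⊗ₜ[R] n
      rw [one_smul]
  · change (DTen.extM φ).obj M ⊗[A] N at y
    induction y using TensorProduct.induction_on with
    | zero => exact ⟨0, map_zero _⟩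
    | add x y hx hy =>
      obtain ⟨a, ha⟩ := hx
      obtain ⟨b, hb⟩ := hy
      exact ⟨a + b, (map_add _ _ _).trans (congrArg₂ (· + ·) ha hb)⟩
    | tmul e n =>
      induction e using TensorProduct.induction_on with
      | zero => exact ⟨0, by rw [map_zero, TensorProduct.zero_tmul]; try rfl⟩
      | add x y hx hy =>
        obtain ⟨a, ha⟩ := hx
        obtain ⟨b, hb⟩ := hy
        exact ⟨a + b, ((map_add _ _ _).trans (congrArg₂ (· + ·) ha hb)).trans
          (TensorProduct.add_tmul x y n).symm⟩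
      | tmul a m =>
        refine ⟨m ⊗ₜ[R] (show (DTen.resM φ).obj N from (show A from a) • n), ?_⟩
        rw [ζ₀_tmul]
        refine (TensorProduct.tmul_smul (show A from a) _ n).trans ?_
        refine (TensorProduct.smul_tmul' (show A from a) _ n).trans ?_
        rw [ModuleCat.ExtendScalars.smul_tmul, mul_one]
        try rfl

/-- `K ⊗ res N ⟶ res (ext K ⊗ N)`. -/
noncomputable def ζ (K : DRing.Cx R) (N : DRing.Cx A) :
    K ⊗ (DTen.resCx φ).obj N ⟶ (DTen.resCx φ).obj ((DTen.extCx φ).obj K ⊗ N) :=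
  (DTen.unitCx φ).app K ▷ _ ≫ DTen.resTenCx φ _ _

theorem ι_ζ (K : DRing.Cx R) (N : DRing.Cx A) (p q n : ℤ) (h : p + q = n) :
    ιTensorObj K ((DTen.resCx φ).obj N) p q n h ≫ (ζ φ K N).f n =
      ζ₀ φ (K.X p) (N.X q) ≫ (DTen.resM φ).map (ιTensorObj ((DTen.extCx φ).obj K) N p q n h) := by
  change ιTensorObj K ((DTen.resCx φ).obj N) p q n h ≫ (HomologicalComplex.mapBifunctorMap _ _ _ _ ≫ _).f n = _
  rw [HomologicalComplex.comp_f, HomologicalComplex.ι_mapBifunctorMap_assoc]
  refine (congrArg (fun m => _ ≫ _ ≫ m) (DTen.ι_resTenCx φ _ _ p q n h)).trans ?_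
  rw [ζ₀, Category.assoc]
  simp only [HomologicalComplex.id_f, CategoryTheory.Functor.map_id]
  exact congrArg (_ ≫ ·) (Category.id_comp _)

/-- An element in a summand of `res (ext K ⊗ N)`. -/
noncomputable def inclE (K : DRing.Cx R) (N : DRing.Cx A) (p q n : ℤ) (h : p + q = n) :
    ((DTen.extCx φ).obj K).X p ⊗[A] N.X q →ₗ[A] (tens ((DTen.extCx φ).obj K) N).X n :=
  incl ((DTen.extCx φ).obj K) N p q n h

theorem ζ_incl (K : DRing.Cx R) (N : DRing.Cx A) (p q n : ℤ) (h : p + q = n)
    (x : K.X p ⊗[R] ((DTen.resCx φ).obj N).X q) :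
    (ζ φ K N).f n (incl K ((DTen.resCx φ).obj N) p q n h x) =
      inclE φ K N p q n h ((ζ₀ φ (K.X p) (N.X q)).hom x) :=
  ConcreteCategory.congr_hom (ι_ζ φ K N p q n h) x

theorem proj_ζ (K : DRing.Cx R) (N : DRing.Cx A) (p q n : ℤ)
    (x : (tens K ((DTen.resCx φ).obj N)).X n) :
    proj ((DTen.extCx φ).obj K) N p q n ((ζ φ K N).f n x) =
      (ζ₀ φ (K.X p) (N.X q)).hom (proj K ((DTen.resCx φ).obj N) p q n x) := by
  induction x using Groth.Agent.Lib.TensorCx.Basic.induction with
  | zero =>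
    simp only [map_zero]
  | add a b ha hb =>
    simp only [map_add, ha, hb]
  | inc a b hab y =>
    rw [ζ_incl]
    by_cases hc : a = p ∧ b = q
    · obtain ⟨rfl, rfl⟩ := hc
      refine (proj_incl _ _ _ _ _ _ _).trans ?_
      rw [proj_incl]
    · refine (proj_incl_ne _ _ _ _ _ _ _ _ hc _).trans ?_
      rw [proj_incl_ne K _ a b p q n hab hc, map_zero]
      try rfl

theorem isIso_ζ (K : DRing.Cx R) (N : DRing.Cx A) : IsIso (ζ φ K N) := by
  refine @HomologicalComplex.Hom.isIso_of_components _ _ _ _ _ _ _ _ fun n => ?_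
  rw [ConcreteCategory.isIso_iff_bijective]
  refine ⟨fun x y hxy => ext_proj fun p q _ => (bijective_ζ₀ φ (K.X p) (N.X q)).1 ?_, fun y => ?_⟩
  · rw [← proj_ζ, ← proj_ζ, hxy]
  · change (tens ((DTen.extCx φ).obj K) N).X n at y
    induction y using Groth.Agent.Lib.TensorCx.Basic.induction with
    | zero => exact ⟨0, map_zero _⟩
    | add x y hx hy =>
      obtain ⟨a, ha⟩ := hx
      obtain ⟨b, hb⟩ := hy
      exact ⟨a + b, (map_add _ _ _).trans (congrArg₂ (· + ·) ha hb)⟩
    | inc p q hpq z =>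
      obtain ⟨z', hz'⟩ := (bijective_ζ₀ φ (K.X p) (N.X q)).2 z
      refine ⟨incl K ((DTen.resCx φ).obj N) p q n hpq z', ?_⟩
      rw [ζ_incl]
      exact congrArg _ hz'

theorem ζ_naturality {K K' : DRing.Cx R} (f : K ⟶ K') (N : DRing.Cx A) :
    f ▷ (DTen.resCx φ).obj N ≫ ζ φ K' N = ζ φ K N ≫ (DTen.resCx φ).map ((DTen.extCx φ).map f ▷ N) := by
  have e := DTen.resTenCx_naturality φ ((DTen.extCx φ).map f) (𝟙 N)
  rw [CategoryTheory.Functor.map_id, tensorHom_id, tensorHom_id] at e
  rw [ζ, ζ, ← Category.assoc, ← comp_whiskerRight,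
    show f ≫ (DTen.unitCx φ).app K' = (DTen.unitCx φ).app K ≫ (DTen.resCx φ).map ((DTen.extCx φ).map f) from
      (DTen.unitCx φ).naturality f, comp_whiskerRight, Category.assoc, e, Category.assoc]

end Groth.Agent.Lib.DR.ProjCx
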