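import Groth.Agent.Lib.Regular.Adapted
import Groth.Agent.Lib.Regular.Indep
import Mathlib.Data.Fin.Tuple.Basic
import Mathlib.LinearAlgebra.LinearIndependent.Lemmas

/-!
# Regular sequences inside generating families of ideals with regular quotient
-/

universe u

set_option linter.style.haveILetI false

namespace Groth.Agent.Lib.DR.RegSub

open IsLocalRing RingTheory.Sequence Groth.Agent.Lib.Regular
open scoped Pointwise

/-- From any generators of an ideal with regular quotient, a regular sequence with the same span. -/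
theorem exists_subfamily {S : Type u} [CommRing S] [IsRegularLocalRing S] {n : ℕ} (v : Fin n → S)
    (h : Ideal.span (Set.range v) ≠ ⊤ → IsRegularLocalRing (S ⧸ Ideal.span (Set.range v))) :
    ∃ (c : ℕ) (a : Fin c → Fin n), Function.Injective a ∧ IsWeaklyRegular S (List.ofFn (v ∘ a)) ∧
      Ideal.span (Set.range (v ∘ a)) = Ideal.span (Set.range v) := by
  classical
  by_cases hu : ∃ i, IsUnit (v i)
  · obtain ⟨i, hi⟩ := hu
    refine ⟨1, fun _ => i, Function.injective_of_subsingleton _, ?_, ?_⟩
    · rw [List.ofFn_succ, List.ofFn_zero, isWeaklyRegular_singleton_iff]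
      exact hi.isSMulRegular S
    · rw [Ideal.eq_top_of_isUnit_mem _ (Ideal.subset_span (Set.mem_range_self (0 : Fin 1))) hi,
        Ideal.eq_top_of_isUnit_mem _ (Ideal.subset_span (Set.mem_range_self i)) hi]
  push Not at hu
  have hv : ∀ i, v i ∈ maximalIdeal S := fun i => (mem_maximalIdeal _).2 (hu i)
  set I := Ideal.span (Set.range v) with hI
  have hIm : I ≤ maximalIdeal S := Ideal.span_le.2 (Set.range_subset_iff.2 hv)
  haveI : IsRegularLocalRing (S ⧸ I) := h (Quotient.ne_top_of_le_maximalIdeal hIm)
  let w : Fin n → CotangentSpace S := fun i => (maximalIdeal S).toCotangent ⟨v i, hv i⟩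
  obtain ⟨κ, a₀, ha₀, hspan, hli⟩ := exists_linearIndependent' (ResidueField S) w
  haveI : Finite κ := Finite.of_injective a₀ ha₀
  let e : Fin (Nat.card κ) ≃ κ := (Finite.equivFin κ).symm
  let a : Fin (Nat.card κ) → Fin n := a₀ ∘ e
  have hla : LinearIndependent (ResidueField S) (fun i => w (a i)) := hli.comp _ e.injective
  let f : Fin (Nat.card κ) → maximalIdeal S := fun i => ⟨v (a i), hv (a i)⟩
  set I₀ := Ideal.span (Set.range (v ∘ a)) with hI₀
  have h0I : I₀ ≤ I := Ideal.span_mono (Set.range_comp_subset_range a v)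
  obtain ⟨t, ht, hc⟩ := Indep.exists_gens_extend f hla
  have hreg := (Indep.quotient_of_indep f hla).1
  haveI : IsRegularLocalRing (S ⧸ I₀) := hreg
  -- `I` lies in `I₀ + 𝔪²`
  have hle : I ≤ I₀ ⊔ maximalIdeal S ^ 2 := by
    refine Ideal.span_le.2 (Set.range_subset_iff.2 fun i => ?_)
    have hmem : w i ∈ Submodule.span (ResidueField S) (Set.range (w ∘ a)) := by
      rw [show Set.range (w ∘ a) = Set.range (w ∘ a₀) by
        rw [show w ∘ a = (w ∘ a₀) ∘ e from rfl, e.surjective.range_comp]]
      rw [hspan]
      exact Submodule.subset_span ⟨i, rfl⟩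
    obtain ⟨c, hc'⟩ := (Submodule.mem_span_range_iff_exists_fun _).1 hmem
    choose r hr using fun j => residue_surjective (c j)
    have hmk : (maximalIdeal S).toCotangent (∑ j, r j • f j) = (maximalIdeal S).toCotangent ⟨v i, hv i⟩ := by
      rw [map_sum]
      refine Eq.trans ?_ hc'
      refine Finset.sum_congr rfl fun j _ => ?_
      rw [map_smul, ← hr j]
      rfl
    rw [Ideal.toCotangent_eq] at hmk
    have hsum : ((∑ j, r j • f j : maximalIdeal S) : S) ∈ I₀ := by
      rw [Submodule.coe_sum]
      exact Ideal.sum_mem _ fun j _ => Ideal.mul_mem_left _ _ (Ideal.subset_span ⟨j, rfl⟩)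
    refine Submodule.mem_sup.2 ⟨_, hsum, -((∑ j, r j • f j : maximalIdeal S) - v i : S),
      neg_mem hmk, ?_⟩
    abel
  -- the surjection `S / I₀ → S / I` is bijective
  have key : I = I₀ := by
    let π := Ideal.Quotient.mk I₀
    haveI : IsRegularLocalRing ((S ⧸ I₀) ⧸ I.map π) :=
      IsRegularLocalRing.of_ringEquiv (DoubleQuot.quotQuotEquivQuotOfLE h0I).symm
    have hsq : I.map π ≤ maximalIdeal (S ⧸ I₀) ^ 2 := by
      refine (Ideal.map_mono hle).trans ?_
      rw [Ideal.map_sup, Ideal.map_quotient_self, bot_sup_eq, Ideal.map_pow,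
        Quotient.maximalIdeal_quotient]
    have h0 := (Adapted.eq_bot_of_le_sq _ (I.map π) hsq).1
    refine le_antisymm ?_ h0I
    have := Ideal.map_eq_bot_iff_le_ker _ |>.1 h0
    rwa [Ideal.mk_ker] at this
  refine ⟨_, a, ha₀.comp e.injective, ?_, key.symm⟩
  have hgens : Ideal.ofList (List.ofFn (v ∘ a) ++ t.toList) = maximalIdeal S := by
    rw [← ht, Ideal.ofList]
    congr 1
    ext x
    simp [f, List.mem_ofFn]
  have hlen : (List.ofFn (v ∘ a) ++ t.toList).length = (maximalIdeal S).spanFinrank := by
    rw [List.length_append, List.length_ofFn, Finset.length_toList, hc]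
  have := (Quotient.isRegular_of_span_eq_maximalIdeal _ hgens hlen).toIsWeaklyRegular
  exact ((isWeaklyRegular_append_iff S _ _).1 this).1

/-- Relations between the members of a weakly regular sequence have coefficients in its ideal. -/
theorem mem_of_relation {S : Type u} [CommRing S] : ∀ (n : ℕ) (f : Fin n → S),
    IsWeaklyRegular S (List.ofFn f) → ∀ a : Fin n → S, ∑ i, a i * f i = 0 →
      ∀ i, a i ∈ Ideal.span (Set.range f) := by
  intro n
  induction n with
  | zero => exact fun f _ a _ i => i.elim0
  | succ n ih =>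
    intro f hf a hrel
    let g : Fin n → S := fun i => f i.castSucc
    rw [List.ofFn_succ', List.concat_eq_append] at hf
    obtain ⟨hg, hlast⟩ := (isWeaklyRegular_append_iff S _ _).1 hf
    rw [isWeaklyRegular_singleton_iff] at hlast
    have hgI : Ideal.span (Set.range g) ≤ Ideal.span (Set.range f) :=
      Ideal.span_mono (Set.range_comp_subset_range Fin.castSucc f)
    have hset : Ideal.ofList (List.ofFn g) = Ideal.span (Set.range g) := by
      rw [Ideal.ofList]; congr 1; ext x; simp
    have htop : (Ideal.ofList (List.ofFn g) • ⊤ : Submodule S S) = Ideal.span (Set.range g) := by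
      rw [hset]; simp
    rw [Fin.sum_univ_castSucc] at hrel
    have hal : a (Fin.last n) ∈ Ideal.span (Set.range g) := by
      rw [isSMulRegular_quotient_iff_mem_of_smul_mem, htop] at hlast
      refine hlast _ ?_
      rw [smul_eq_mul, mul_comm, eq_neg_of_add_eq_zero_right hrel]
      exact neg_mem (Ideal.sum_mem _ fun i _ => Ideal.mul_mem_left _ _ (Ideal.subset_span ⟨i, rfl⟩))
    obtain ⟨b, hb⟩ := (Submodule.mem_span_range_iff_exists_fun _).1 hal
    have h2 := ih g hg (fun i => a i.castSucc + b i * f (Fin.last n)) (by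
      rw [← hrel, ← hb, Finset.sum_mul, ← Finset.sum_add_distrib]
      exact Finset.sum_congr rfl fun i _ => by simp only [g, smul_eq_mul]; ring)
    intro i
    induction i using Fin.lastCases with
    | last => exact hgI hal
    | cast i =>
      have h3 := hgI (h2 i)
      have h4 : b i * f (Fin.last n) ∈ Ideal.span (Set.range f) :=
        Ideal.mul_mem_left _ _ (Ideal.subset_span ⟨_, rfl⟩)
      simpa using sub_mem h3 h4

end Groth.Agent.Lib.DR.RegSub
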