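import Groth.Agent.Lib.DR.TorBC
import Groth.Agent.Lib.DR.LTensorCx
import Groth.Agent.Lib.DR.TensorBdd
import Groth.Agent.Lib.DR.DTenBasic

/-!
# Relative pseudo-coherence under derived base change along relatively pseudo-coherent algebras
-/

set_option linter.style.haveILetI false

universe u

open CategoryTheory CategoryTheory.Limits CategoryTheory.Pretriangulated MonoidalCategory
open Groth.Agent.Lib.DR Groth.Agent.Lib.DerivedOX
open Groth.Agent.Lib.DR.Basic Groth.Agent.Lib.DR.FiniteComplex Groth.Agent.Lib.DR.PseudoCoherent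
open Groth.Agent.Lib.DR.Representative Groth.Agent.Lib.DR.BaseChange Groth.Agent.Lib.DR.TorAmp
open Groth.Agent.H54.PCRestrict Groth.Agent.H54.RelPC
open scoped TensorProduct

attribute [local instance] HasDerivedCategory.standard

set_option backward.isDefEq.respectTransparency false

namespace Groth.Agent.Lib.DR.RelPCBC

section Core

variable {Q S : Type u} [CommRing Q] [CommRing S] (ρ : Q →+* S) (G : DRing.Cx S)

/-- The class of `G ⊗ E` over the base. -/
noncomputable abbrev Φ (E : DRing.Cx S) : Dual.D Q :=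
  (DRing.restrictD ρ).obj (DerivedCategory.Q.obj (((KFlat.tcx S).obj G).obj E))

theorem exists_triangle {T : ShortComplex (DRing.Cx S)} (hT : T.ShortExact)
    (hp : ∀ i, proj S (T.X₃.X i)) {m : ℤ} :
    (PCn (ff Q) m (Φ ρ G T.X₁) → PCn (ff Q) m (Φ ρ G T.X₃) → PCn (ff Q) m (Φ ρ G T.X₂)) ∧
      (PCn (ff Q) (m + 1) (Φ ρ G T.X₁) → PCn (ff Q) m (Φ ρ G T.X₂) → PCn (ff Q) m (Φ ρ G T.X₃)) := by
  have σ : ∀ n, (T.map (HomologicalComplex.eval _ _ n)).Splitting := fun n => by
    have := projective_of_proj _ (hp n)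
    have : Projective (T.map (HomologicalComplex.eval _ _ n)).X₃ := this
    exact (hT.map_of_exact _).splittingOfProjective
  have hT' : (T.map ((KFlat.tcx S).obj G)).ShortExact :=
    SiteKFlat.Cx.shortExact_of_mono ((KFlat.tcx S).obj G) hT (KFlat.mono_obj_map_of_split σ G)
  have hd := (DRing.restrictD ρ).map_distinguished _ (DerivedCategory.triangleOfSES_distinguished hT')
  exact ⟨fun h₁ h₃ => PCn.ext good_ff projective_of_ff _ hd h₁ h₃,
    fun h₁ h₂ => PCn.cone good_ff projective_of_ff _ hd h₁ h₂⟩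

variable (c' : ℤ) (hG : ∀ i, c' < i → IsZero (G.X i))

include hG in
theorem pcn_of_high {E : DRing.Cx S} (d : ℤ) (hE : ∀ i, d < i → IsZero (E.X i)) {m : ℤ} (h : c' + d < m) :
    PCn (ff Q) m (Φ ρ G E) :=
  pcn_of_isLE good_ff (ExactPush.isLE_map _ (isLE_Q_of_isZero _ (m - 1) fun n hn =>
    TensorBdd.isZero_tens_above G E hG hE n (by omega)))

variable {G} {m : ℤ} (hm : PCn (ff Q) m ((DRing.restrictD ρ).obj (DerivedCategory.Q.obj G)))

include hm in
theorem pcn_single (F : ModuleCat.{u} S) (hF : ff S F) (a : ℤ) (ha : a ≤ 0) :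
    PCn (ff Q) m (Φ ρ G ((HomologicalComplex.single _ (ComplexShape.up ℤ) a).obj F)) := by
  let Fn : ModuleCat.{u} S ⥤ Dual.D Q :=
    HomologicalComplex.single _ (ComplexShape.up ℤ) a ⋙ (KFlat.tcx S).obj G ⋙ DerivedCategory.Q ⋙
      DRing.restrictD ρ
  have hone : PCn (ff Q) m (Fn.obj (𝟙_ (ModuleCat.{u} S))) := by
    let s₀ := (HomologicalComplex.single (ModuleCat.{u} S) (ComplexShape.up ℤ) 0).obj (𝟙_ (ModuleCat.{u} S))
    let e₁ : ((KFlat.tcx S).obj G).obj s₀ ≅ G :=
      DTen.braidCx G s₀ ≪≫ LTensorCx.singleTensorIso _ G ≪≫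
        HomologicalComplex.Hom.isoOfComponents (fun j => ρ_ (G.X j))
          (fun j k _ => (rightUnitor_naturality (G.d j k)).symm)
    let e₂ : (HomologicalComplex.single (ModuleCat.{u} S) (ComplexShape.up ℤ) a).obj (𝟙_ (ModuleCat.{u} S)) ≅
        s₀⟦-a⟧ :=
      ((CochainComplex.singleFunctors (ModuleCat.{u} S)).shiftIso (-a) a 0 (by omega)).symm.app _
    let e₃ : ((KFlat.tcx S).obj G).obj (s₀⟦-a⟧) ≅ G⟦-a⟧ :=
      CochainComplex.mapBifunctorShift₂Iso G s₀ (MonoidalCategory.curriedTensor (ModuleCat.{u} S)) (-a) ≪≫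
        (shiftFunctor (DRing.Cx S) (-a)).mapIso e₁
    have h1 : PCn (ff Q) m (((DRing.restrictD ρ).obj (DerivedCategory.Q.obj G))⟦-a⟧) :=
      (hm.shift good_ff (-a) (m + a) (by omega)).mono (by omega)
    exact h1.of_iso ((((DRing.restrictD ρ).commShiftIso (-a)).app _).symm ≪≫
      (DRing.restrictD ρ).mapIso (((DerivedCategory.Q (C := ModuleCat.{u} S)).commShiftIso (-a)).app G).symm ≪≫
      (DRing.restrictD ρ).mapIso (DerivedCategory.Q.mapIso
        (((KFlat.tcx S).obj G).mapIso e₂ ≪≫ e₃).symm))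
  have hfree : ∀ k : ℕ, PCn (ff Q) m (Fn.obj (ModuleCat.of S (Fin k → S))) := by
    intro k
    induction k with
    | zero =>
      exact (bdd_zero good_ff (Functor.map_isZero Fn (ModuleCat.isZero_of_subsingleton _)) 0 0).pcn _
    | succ k ih =>
      let e : ModuleCat.of S (Fin (k + 1) → S) ≅ ModuleCat.of S S ⊞ ModuleCat.of S (Fin k → S) :=
        (Fin.consLinearEquiv S (fun _ : Fin (k + 1) => S)).symm.toModuleIso ≪≫
          (ModuleCat.biprodIsoProd (ModuleCat.of S S) (ModuleCat.of S (Fin k → S))).symm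
      have : PreservesBinaryBiproduct (ModuleCat.of S S) (ModuleCat.of S (Fin k → S)) Fn :=
        preservesBinaryBiproduct_of_preservesBiproduct Fn _ _
      exact (PCn.biprod good_ff projective_of_ff hone ih).of_iso
        ((Fn.mapBiprod _ _).symm ≪≫ Fn.mapIso e.symm)
  obtain ⟨_, _⟩ := hF
  let b := (Module.Free.chooseBasis S F).reindex (Fintype.equivFin _)
  exact (hfree _).of_iso (Fn.mapIso b.equivFun.symm.toModuleIso)

include hm in
theorem pcn_finite : ∀ (k : ℕ) (E : DRing.Cx S) (a : ℤ), (∀ i, i < a ∨ 0 < i → IsZero (E.X i)) →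
    (∀ i, ff S (E.X i)) → 1 ≤ a + k → PCn (ff Q) m (Φ ρ G E) := by
  intro k
  induction k with
  | zero =>
    intro E a hE _ hk
    have h0 : IsZero E := by
      rw [IsZero.iff_id_eq_zero]
      exact HomologicalComplex.hom_ext _ _ fun i => (hE i (by omega)).eq_of_src _ _
    exact (bdd_zero good_ff ((DRing.restrictD ρ).map_isZero (Functor.map_isZero DerivedCategory.Q
      (Functor.map_isZero _ h0))) 0 0).pcn _
  | succ k ih =>
    intro E a hE hp hk
    by_cases ha : 0 < a
    · exact ih E a hE hp (by omega)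
    obtain ⟨S', φ, hz, hSp, hSz, hiso, -⟩ := exists_stupidTrunc good_ff E (a + 1) hp
    have hmono : ∀ i, Mono (φ.f i) := fun i => by
      by_cases h : a + 1 ≤ i
      · have := hiso i h
        infer_instance
      · exact ⟨fun _ _ _ => (hz i (not_le.1 h)).eq_of_tgt _ _⟩
    have : Mono φ := HomologicalComplex.mono_of_mono_f φ hmono
    let T := ShortComplex.mk φ (cokernel.π φ) (cokernel.condition φ)
    have hT : T.ShortExact := { exact := ShortComplex.exact_of_g_is_cokernel _ (cokernelIsCokernel φ) }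
    have hTi : ∀ i, (T.map (HomologicalComplex.eval (ModuleCat.{u} S) (.up ℤ) i)).ShortExact :=
      fun i => hT.map_of_exact _
    have hC : ∀ i, i ≠ a → IsZero ((cokernel φ).X i) := fun i hi => by
      have := (hTi i).epi_g
      by_cases h : a + 1 ≤ i
      · have := hiso i h
        refine IsZero.of_epi_eq_zero ((cokernel.π φ).f i) ?_
        rw [← cancel_epi (φ.f i), ← HomologicalComplex.comp_f, cokernel.condition]
        simp
      · exact IsZero.of_epi ((cokernel.π φ).f i) (hE i (by omega))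
    have : (cokernel φ).IsStrictlyGE a :=
      ((cokernel φ).isStrictlyGE_iff a).2 fun i hi => hC i (by omega)
    have : (cokernel φ).IsStrictlyLE a :=
      ((cokernel φ).isStrictlyLE_iff a).2 fun i hi => hC i (by omega)
    obtain ⟨M, ⟨e⟩⟩ := CochainComplex.exists_iso_single (cokernel φ) a
    have : IsIso ((cokernel.π φ).f a) := (hTi a).isIso_g_iff.2 (hz a (by omega))
    have hM : ff S M := good_ff.iso (asIso ((cokernel.π φ).f a) ≪≫
      (HomologicalComplex.eval _ _ a).mapIso e ≪≫ HomologicalComplex.singleObjXSelf (.up ℤ) a M) (hp a)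
    have hC' : ∀ i, proj S (T.X₃.X i) := fun i => by
      by_cases hi : i = a
      · subst hi
        exact proj_of_fproj _ (fproj_of_ff _ (good_ff.iso (asIso ((cokernel.π φ).f i)) (hp i)))
      · exact good_proj.zero (hC i hi)
    refine (exists_triangle ρ G hT hC').1 (ih S' (a + 1) (fun i hi => ?_) hSp (by omega)) ?_
    · rcases hi with hi | hi
      · exact hz i hi
      · exact hSz i (hE i (Or.inr hi))
    · exact (pcn_single ρ hm M hM a (by omega)).of_iso ((DRing.restrictD ρ).mapIso
        (DerivedCategory.Q.mapIso (((KFlat.tcx S).obj G).mapIso e.symm)))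

include hm hG in
theorem pcn_ba (E : DRing.Cx S) (hE : ∀ i, 0 < i → IsZero (E.X i)) (hp : ∀ i, ff S (E.X i)) :
    PCn (ff Q) m (Φ ρ G E) := by
  let a := min 0 (m - c')
  obtain ⟨S', φ, hz, hSp, hSz, hiso, -⟩ := exists_stupidTrunc good_ff E a hp
  have hmono : ∀ i, Mono (φ.f i) := fun i => by
    by_cases h : a ≤ i
    · have := hiso i h
      infer_instance
    · exact ⟨fun _ _ _ => (hz i (not_le.1 h)).eq_of_tgt _ _⟩
  have : Mono φ := HomologicalComplex.mono_of_mono_f φ hmono
  let T := ShortComplex.mk φ (cokernel.π φ) (cokernel.condition φ)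
  have hT : T.ShortExact := { exact := ShortComplex.exact_of_g_is_cokernel _ (cokernelIsCokernel φ) }
  have hTi : ∀ i, (T.map (HomologicalComplex.eval (ModuleCat.{u} S) (.up ℤ) i)).ShortExact :=
    fun i => hT.map_of_exact _
  have hC : ∀ i, a ≤ i → IsZero ((cokernel φ).X i) := fun i hi => by
    have := (hTi i).epi_g
    have := hiso i hi
    refine IsZero.of_epi_eq_zero ((cokernel.π φ).f i) ?_
    rw [← cancel_epi (φ.f i), ← HomologicalComplex.comp_f, cokernel.condition]
    simp
  have hC' : ∀ i, proj S (T.X₃.X i) := fun i => by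
    by_cases hi : a ≤ i
    · exact good_proj.zero (hC i hi)
    · have := (hTi i).isIso_g_iff.2 (hz i (not_le.1 hi))
      exact proj_of_fproj _ (fproj_of_ff _ (good_ff.iso
        (@asIso _ _ _ _ (T.map (HomologicalComplex.eval (ModuleCat.{u} S) (.up ℤ) i)).g this) (hp i)))
  refine (exists_triangle ρ G hT hC').1
    (pcn_finite ρ hm (1 - a).toNat S' a (fun i hi => ?_) hSp (by omega))
    (pcn_of_high ρ G c' hG (a - 1) (fun i hi => hC i (by omega)) (by omega))
  rcases hi with hi | hi
  · exact hz i hi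
  · exact hSz i (hE i hi)

end Core

variable {Q S B : Type u} [CommRing Q] [CommRing S] [CommRing B] [Algebra S B]

/-- `res ∘ ext` is tensoring with the algebra. -/
noncomputable def resExt (X : ModuleCat.{u} S) :
    (ModuleCat.restrictScalars.{u} (algebraMap S B)).obj
        ((ModuleCat.extendScalars.{u, u, u} (algebraMap S B)).obj X) ≅
      (MonoidalCategory.tensorRight (ModuleCat.of S B)).obj X :=
  let e : (ModuleCat.extendScalars.{u, u, u} (algebraMap S B)).obj X ≃+ X ⊗[S] B :=
    (FlatBC.extEquiv S B X).toAddEquiv.trans (TensorProduct.comm S B X).toAddEquiv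
  (AddEquiv.toLinearEquiv
    (M := (ModuleCat.restrictScalars.{u} (algebraMap S B)).obj
      ((ModuleCat.extendScalars.{u, u, u} (algebraMap S B)).obj X)) e fun s x => by
    show TensorProduct.comm S B X (FlatBC.extEquiv S B X
        (algebraMap S B s • (x : (ModuleCat.extendScalars.{u, u, u} (algebraMap S B)).obj X))) =
      s • TensorProduct.comm S B X (FlatBC.extEquiv S B X x)
    rw [map_smul (FlatBC.extEquiv S B X) (algebraMap S B s), algebraMap_smul, map_smul]).toModuleIso

theorem resExt_natural {X Y : ModuleCat.{u} S} (f : X ⟶ Y) :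
    (resExt (B := B) X).hom ≫ (MonoidalCategory.tensorRight (ModuleCat.of S B)).map f =
      (ModuleCat.restrictScalars.{u} (algebraMap S B)).map
        ((ModuleCat.extendScalars.{u, u, u} (algebraMap S B)).map f) ≫ (resExt Y).hom := by
  ext z
  induction z using TensorProduct.induction_on with
  | zero => rw [map_zero, map_zero]
  | tmul b x => rfl
  | add x y hx hy => exact (map_add _ _ _).trans ((congrArg₂ (· + ·) hx hy).trans (map_add _ _ _).symm)

/-- `res ∘ ext` is tensoring with the algebra, on complexes. -/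
noncomputable def resExtCx (G : DRing.Cx S) :
    ((ModuleCat.restrictScalars.{u} (algebraMap S B)).mapHomologicalComplex (.up ℤ)).obj
      ((ext (algebraMap S B)).obj G) ≅ (tens (ModuleCat.of S B)).obj G :=
  HomologicalComplex.Hom.isoOfComponents (fun j => resExt (G.X j)) fun _ _ _ => resExt_natural _

/-- Pseudo-coherence over the base passes through a pseudo-coherent algebra. -/
theorem pcn_algebra (ρ : Q →+* S) (hB : PCRing (algebraMap S B)) [DRing.HasLBaseChange (algebraMap S B)]
    {m b : ℤ} (T : Dual.D S) (hT : T.IsLE b) (h : PCn (ff Q) m ((DRing.restrictD ρ).obj T)) :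
    PCn (ff Q) m ((DRing.restrictD ((algebraMap S B).comp ρ)).obj
      ((DRing.LBaseChange (algebraMap S B)).obj T)) := by
  obtain ⟨G, hG, hGp, ⟨eG⟩⟩ := ba_free hT
  have hGf : ∀ i, flat S (G.X i) := fun i => flat_of_free _ (hGp i)
  have hGK := KFlat.isKFlat_of_flat G b hG hGf
  let Bs : ModuleCat.{u} S := ModuleCat.of S B
  let s₀ := (HomologicalComplex.single (ModuleCat.{u} S) (ComplexShape.up ℤ) 0).obj Bs
  have hBs : ∀ j, PCn (ff S) j (DerivedCategory.Q.obj s₀) := fun j =>
    (hB j).of_iso ((sgl S 0).mapIso (FlatBC.resEquiv S B).toModuleIso ≪≫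
      (DerivedCategory.singleFunctorIsoCompQ (ModuleCat.{u} S) 0).app Bs)
  obtain ⟨E, hE, hp, ⟨eE⟩⟩ := ba_ff_of_forall hBs (b := 0)
    (isLE_Q_of_isZero _ 0 fun i hi => HomologicalComplex.isZero_single_obj_X _ 0 Bs i (by omega))
  have h1 := pcn_ba ρ b hG (h.of_iso ((DRing.restrictD ρ).mapIso eG.symm)) E hE hp
  obtain ⟨e₁⟩ := LTensorCx.nonempty_tensor_iso hGK eE
  obtain ⟨e₂⟩ := restrictD_comp ρ (algebraMap S B) ((DRing.LBaseChange (algebraMap S B)).obj T)
  refine (h1.of_iso ((DRing.restrictD ρ).mapIso ?_)).of_iso e₂.symm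
  exact e₁ ≪≫ DerivedCategory.Q.mapIso (DTen.braidCx G s₀ ≪≫ LTensorCx.singleTensorIso Bs G ≪≫
      (resExtCx G).symm) ≪≫ (ExactPush.mapQ (res (algebraMap S B)) ((ext (algebraMap S B)).obj G)).symm ≪≫
    (DRing.restrictD (algebraMap S B)).mapIso ((bcFlat (algebraMap S B) G b hG hGf).symm ≪≫
      (DRing.LBaseChange (algebraMap S B)).mapIso eG)

attribute [local instance] MvPolynomial.algebraMvPolynomial

open MvPolynomial in
/-- Relative pseudo-coherence under derived base change along a relatively pseudo-coherent algebra. -/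
theorem rel_LBaseChange {R A B : Type u} [CommRing R] [CommRing A] [CommRing B] [Algebra R A]
    [Algebra A B] [Algebra R B] [IsScalarTower R A B] [Algebra.FiniteType R A] [Algebra.FiniteType A B]
    (hB : DerCA.IsRelPseudoCoherentModuleAll A B B) [DRing.HasLBaseChange (algebraMap A B)]
    (K : Dual.D A) (m : ℤ) (hK : DerCA.IsRelPseudoCoherent R A m K) :
    DerCA.IsRelPseudoCoherent R B m ((DRing.LBaseChange (algebraMap A B)).obj K) := by
  obtain ⟨n, α, hα⟩ := H54.RelPCApp.exists_pres ‹Algebra.FiniteType R A›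
  obtain ⟨k, β, hβ⟩ := H54.RelPCApp.exists_pres ‹Algebra.FiniteType A B›
  let γ : MvPolynomial (Fin (n + k)) R →ₐ[R] B :=
    aeval (Fin.addCases (fun i => algebraMap A B (α (X i))) fun j => β (X j))
  let ε : MvPolynomial (Fin (n + k)) R →+* MvPolynomial (Fin k) (MvPolynomial (Fin n) R) :=
    (sumRingEquiv R (Fin k) (Fin n)).toRingHom.comp
      (renameEquiv R (finSumFinEquiv.symm.trans (Equiv.sumComm (Fin n) (Fin k)))).toRingEquiv.toRingHom
  have hε : Function.Bijective ε :=
    (sumRingEquiv R (Fin k) (Fin n)).bijective.comp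
      (renameEquiv R (finSumFinEquiv.symm.trans (Equiv.sumComm (Fin n) (Fin k)))).bijective
  have hγ' : γ.toRingHom = (β.toRingHom.comp (MvPolynomial.map α.toRingHom)).comp ε := by
    refine MvPolynomial.ringHom_ext (fun r => ?_) (fun i => ?_)
    · simp [γ, ε, ← IsScalarTower.algebraMap_apply]
    · refine Fin.addCases (fun i => ?_) (fun i => ?_) i <;> simp [γ, ε]
  have hγ : Function.Surjective γ := by
    have : Function.Surjective γ.toRingHom := by
      rw [hγ']
      exact (hβ.comp (MvPolynomial.map_surjective _ hα)).comp hε.2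
    exact this
  let P := MvPolynomial (Fin n) R
  let P' := MvPolynomial (Fin k) P
  let S := MvPolynomial (Fin k) A
  letI : Algebra P A := α.toRingHom.toAlgebra
  haveI : Algebra.IsPushout P A P' S := (inferInstance : Algebra.IsPushout P P' A S).symm
  have htor : ∀ p : ℕ, 1 ≤ p → Subsingleton (DRing.Tor P p A P') := fun p hp => by
    obtain ⟨q, rfl⟩ : ∃ q, p = q + 1 := ⟨p - 1, by omega⟩
    have : Projective (ModuleCat.of P P') :=
      (IsProjective.iff_projective (R := P) (ModuleCat.of P P')).1 inferInstance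
    exact ModuleCat.subsingleton_of_isZero (CategoryTheory.isZero_Tor_succ_of_projective
      (C := ModuleCat.{u} P) (ModuleCat.of P A) (ModuleCat.of P P') q)
  haveI : DRing.HasLBaseChange (algebraMap A S) := BaseChangeU.hasLBaseChange _
  have hK' : PCn (ff P) m ((DRing.restrictD (algebraMap P A)).obj K) := (rel_iff α hα m K).1 hK
  have hT := TorBC.pcn_square (P' := P') (A' := S) htor hK'
  letI : Algebra S B := β.toRingHom.toAlgebra
  haveI : DRing.HasLBaseChange (algebraMap S B) := BaseChangeU.hasLBaseChange _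
  have hBS : PCRing (algebraMap S B) := fun j => (relModule_iff β hβ j B).1 (hB j)
  obtain ⟨b, hb⟩ := hK'.exists_isLE
  have hTle : ((DRing.LBaseChange (algebraMap A S)).obj K).IsLE b :=
    (ba_LBaseChange (algebraMap A S) flat_of_free (ext_free _) (ba_free (isLE_of_res hb))).isLE
  have h2 := pcn_algebra (algebraMap P' S) hBS _ hTle hT
  have hc : (algebraMap S B).comp (algebraMap A S) = algebraMap A B := RingHom.ext β.commutes
  haveI : DRing.HasLBaseChange ((algebraMap S B).comp (algebraMap A S)) := BaseChangeU.hasLBaseChange _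
  obtain ⟨e⟩ := BaseChangeU.nonempty_LBaseChange_comp (algebraMap A S) (algebraMap S B) K
  have e' : Nonempty ((DRing.LBaseChange ((algebraMap S B).comp (algebraMap A S))).obj K ≅
      (DRing.LBaseChange (algebraMap A B)).obj K) := by
    have : ∀ (f g : A →+* B) (h : f = g) [DRing.HasLBaseChange f] [DRing.HasLBaseChange g],
        Nonempty ((DRing.LBaseChange f).obj K ≅ (DRing.LBaseChange g).obj K) := by
      rintro f g rfl i j
      exact ⟨Iso.refl _⟩
    exact this _ _ hc
  obtain ⟨e'⟩ := e'
  refine (rel_iff γ hγ m _).2 ?_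
  rw [hγ', pcn_comp_iff (pcRing_of_bijective _ hε)]
  exact h2.of_iso ((DRing.restrictD _).mapIso (e ≪≫ e'))

end Groth.Agent.Lib.DR.RelPCBC
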