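import Groth.Agent.Lib.DR.ToSingle
import Groth.Agent.Lib.DR.TorAmp
import Groth.Agent.Lib.KoszulOrth36.Trunc

/-!
# Splitting off truncations with projective terms
-/

universe u

open CategoryTheory CategoryTheory.Limits Pretriangulated
open Groth.Agent.Lib.RGamma
open Groth.Agent.Lib.DR.Basic Groth.Agent.Lib.DR.PseudoCoherent

attribute [local instance] HasDerivedCategory.standard

set_option backward.isDefEq.respectTransparency false

namespace Groth.Agent.Lib.DR.SplitTrunc

variable {A : Type u} [CommRing A]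

/-- The map to a single degree complex given by a functional killing boundaries. -/
noncomputable def toSingleCx (E : DRing.Cx A) (a : ℤ) {M : ModuleCat.{u} A} (π : E.X a ⟶ M)
    (hπ : E.d (a - 1) a ≫ π = 0) :
    E ⟶ (HomologicalComplex.single (ModuleCat.{u} A) (ComplexShape.up ℤ) a).obj M :=
  HomologicalComplex.mkHomToSingle π fun j hj => by
    obtain rfl : j = a - 1 := by simp at hj; omega
    exact hπ

theorem toSingleCx_comp (E : DRing.Cx A) (a : ℤ) {M N : ModuleCat.{u} A} (π : E.X a ⟶ M)
    (hπ : E.d (a - 1) a ≫ π = 0) (g : M ⟶ N) (hπ' : E.d (a - 1) a ≫ π ≫ g = 0) :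
    toSingleCx E a π hπ ≫ (HomologicalComplex.single (ModuleCat.{u} A) (ComplexShape.up ℤ) a).map g =
      toSingleCx E a (π ≫ g) hπ' := by
  apply HomologicalComplex.to_single_hom_ext
  simp [toSingleCx, HomologicalComplex.mkHomToSingle, HomologicalComplex.single_map_f_self, HomologicalComplex.singleObjXSelf]

theorem Q_map_toSingleCx_eq_zero_iff (E : DRing.Cx A) [E.IsKProjective] (a : ℤ) {M : ModuleCat.{u} A}
    (π : E.X a ⟶ M) (hπ : E.d (a - 1) a ≫ π = 0) :
    DerivedCategory.Q.map (toSingleCx E a π hπ) = 0 ↔ ∃ l : E.X (a + 1) ⟶ M, π = E.d a (a + 1) ≫ l := by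
  let S := (HomologicalComplex.single (ModuleCat.{u} A) (ComplexShape.up ℤ) a).obj M
  have hd : S.d (a - 1) a = 0 :=
    (HomologicalComplex.isZero_single_obj_X (ComplexShape.up ℤ) a M (a - 1) (by omega)).eq_of_src _ _
  let s := HomologicalComplex.singleObjXSelf (ComplexShape.up ℤ) a M
  have hf : (toSingleCx E a π hπ).f a = π ≫ s.inv := by
    simp [toSingleCx, HomologicalComplex.mkHomToSingle, s, HomologicalComplex.singleObjXSelf]
  constructor
  · intro h
    obtain ⟨H⟩ := Basic.nonempty_homotopy_of_Q_map_eq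
      (h.trans (DerivedCategory.Q.map_zero E S).symm : DerivedCategory.Q.map _ =
        DerivedCategory.Q.map (0 : E ⟶ S))
    refine ⟨H.hom (a + 1) a ≫ s.hom, ?_⟩
    have hc := H.comm a
    rw [dNext_eq H.hom (show (ComplexShape.up ℤ).Rel a (a + 1) from rfl),
      prevD_eq H.hom (show (ComplexShape.up ℤ).Rel (a - 1) a by simp), hd, comp_zero, add_zero,
      HomologicalComplex.zero_f, add_zero, hf] at hc
    rw [← Category.assoc, ← hc, Category.assoc, Iso.inv_hom_id, Category.comp_id]
  · rintro ⟨l, hl⟩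
    let h : ∀ i j : ℤ, (ComplexShape.up ℤ).Rel j i → (E.X i ⟶ S.X j) := fun i j hij =>
      if hj : j = a then
        (E.XIsoOfEq (show i = a + 1 by subst hj; exact (Eq.symm hij))).hom ≫ l ≫ s.inv ≫
          (S.XIsoOfEq hj.symm).hom
      else 0
    have e : toSingleCx E a π hπ = Homotopy.nullHomotopicMap' h := by
      apply HomologicalComplex.to_single_hom_ext
      rw [Homotopy.nullHomotopicMap'_f (show (ComplexShape.up ℤ).Rel (a - 1) a by simp)
        (show (ComplexShape.up ℤ).Rel a (a + 1) from rfl), hd, comp_zero, add_zero, hf, hl]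
      simp [h]; erw [Category.comp_id]
    rw [e, DerivedCategory.Q_map_eq_of_homotopy _ (Homotopy.nullHomotopy' h), Functor.map_zero]

/-- `M[-a]` is the image of the single degree complex. -/
noncomputable def singleIso (a : ℤ) (M : ModuleCat.{u} A) :
    (shiftFunctor (Dual.D A) (-a)).obj ((DerivedCategory.singleFunctor (ModuleCat.{u} A) 0).obj M) ≅
      DerivedCategory.Q.obj ((HomologicalComplex.single (ModuleCat.{u} A) (ComplexShape.up ℤ) a).obj M) :=
  ((DerivedCategory.singleFunctors (ModuleCat.{u} A)).shiftIso (-a) a 0 (by omega)).app M ≪≫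
    (DerivedCategory.singleFunctorIsoCompQ (ModuleCat.{u} A) a).app M

theorem singleIso_naturality (a : ℤ) {M N : ModuleCat.{u} A} (g : M ⟶ N) :
    DerivedCategory.Q.map ((HomologicalComplex.single (ModuleCat.{u} A) (ComplexShape.up ℤ) a).map g) ≫
        (singleIso a N).inv =
      (singleIso a M).inv ≫
        (shiftFunctor (Dual.D A) (-a)).map ((DerivedCategory.singleFunctor (ModuleCat.{u} A) 0).map g) := by
  rw [Iso.eq_inv_comp, ← Category.assoc, Iso.comp_inv_eq]
  have h1 := ((DerivedCategory.singleFunctors (ModuleCat.{u} A)).shiftIso (-a) a 0 (by omega)).hom.naturality g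
  have h2 := (DerivedCategory.singleFunctorIsoCompQ (ModuleCat.{u} A) a).hom.naturality g
  simp only [singleIso, Iso.trans_hom, Iso.app_hom]
  exact (Category.assoc _ _ _).trans <| (congrArg (_ ≫ ·) h2.symm).trans <|
    (Category.assoc _ _ _).symm.trans <| (congrArg (· ≫ _) h1.symm).trans (Category.assoc _ _ _)

/-- The morphism `K ⟶ M[-a]` given by a functional on a representing complex. -/
noncomputable def toK {E : DRing.Cx A} {K : Dual.D A} (e : DerivedCategory.Q.obj E ≅ K) (a : ℤ)
    {M : ModuleCat.{u} A} (π : E.X a ⟶ M) (hπ : E.d (a - 1) a ≫ π = 0) :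
    K ⟶ (shiftFunctor (Dual.D A) (-a)).obj ((DerivedCategory.singleFunctor (ModuleCat.{u} A) 0).obj M) :=
  e.inv ≫ DerivedCategory.Q.map (toSingleCx E a π hπ) ≫ (singleIso a M).inv

theorem toK_comp {E : DRing.Cx A} {K : Dual.D A} (e : DerivedCategory.Q.obj E ≅ K) (a : ℤ)
    {M N : ModuleCat.{u} A} (π : E.X a ⟶ M) (hπ : E.d (a - 1) a ≫ π = 0) (g : M ⟶ N)
    (hπ' : E.d (a - 1) a ≫ π ≫ g = 0) :
    toK e a π hπ ≫
        (shiftFunctor (Dual.D A) (-a)).map ((DerivedCategory.singleFunctor (ModuleCat.{u} A) 0).map g) =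
      toK e a (π ≫ g) hπ' := by
  rw [toK, toK, Category.assoc, Category.assoc, ← singleIso_naturality, ← toSingleCx_comp E a π hπ g hπ',
    Functor.map_comp, Category.assoc]

theorem toK_eq_zero_iff {E : DRing.Cx A} [E.IsKProjective] {K : Dual.D A}
    (e : DerivedCategory.Q.obj E ≅ K) (a : ℤ)
    {M : ModuleCat.{u} A} (π : E.X a ⟶ M) (hπ : E.d (a - 1) a ≫ π = 0) :
    toK e a π hπ = 0 ↔ ∃ l : E.X (a + 1) ⟶ M, π = E.d a (a + 1) ≫ l := by
  rw [← Q_map_toSingleCx_eq_zero_iff E a π hπ]
  refine ⟨fun h => ?_, fun h => by rw [toK, h, zero_comp, comp_zero]⟩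
  rwa [toK, ← cancel_epi e.hom, Iso.hom_inv_id_assoc, ← cancel_mono (singleIso a M).hom, Category.assoc,
    Iso.inv_hom_id, Category.comp_id, comp_zero, zero_comp] at h

/-- The hypothesis "injective on injections" gives a retraction onto the boundaries in degree `a + 1`. -/
theorem exists_retraction {E : DRing.Cx A} [E.IsKProjective] {K : Dual.D A}
    (e : DerivedCategory.Q.obj E ≅ K) (a : ℤ)
    (h : ∀ (M M' : Type u) [AddCommGroup M] [Module A M] [AddCommGroup M'] [Module A M'] (g : M →ₗ[A] M'),
      Function.Injective g → Function.Injective (fun x : K ⟶ (shiftFunctor (Dual.D A) (-a)).obj (Dual.inD A M) =>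
        x ≫ (shiftFunctor (Dual.D A) (-a)).map
          ((DerivedCategory.singleFunctor (ModuleCat.{u} A) 0).map (ModuleCat.ofHom g)))) :
    ∃ r : E.X (a + 1) →ₗ[A] E.X (a + 1), (∀ y, r y ∈ LinearMap.range (E.d a (a + 1)).hom) ∧
      ∀ x, r ((E.d a (a + 1)).hom x) = (E.d a (a + 1)).hom x := by
  let B := LinearMap.range (E.d a (a + 1)).hom
  let π : E.X a ⟶ ModuleCat.of A B := ModuleCat.ofHom (E.d a (a + 1)).hom.rangeRestrict
  let g : ModuleCat.of A B ⟶ ModuleCat.of A (E.X (a + 1)) := ModuleCat.ofHom B.subtype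
  have hπ : E.d (a - 1) a ≫ π = 0 := ModuleCat.hom_ext (LinearMap.ext fun x =>
    Subtype.ext (ConcreteCategory.congr_hom (E.d_comp_d (a - 1) a (a + 1)) x))
  have hπg : π ≫ g = E.d a (a + 1) := rfl
  have hπ' : E.d (a - 1) a ≫ π ≫ g = 0 := by rw [hπg, E.d_comp_d]
  have h0 : toK e a π hπ ≫ (shiftFunctor (Dual.D A) (-a)).map
      ((DerivedCategory.singleFunctor (ModuleCat.{u} A) 0).map g) = 0 :=
    (toK_comp e a π hπ g hπ').trans
      ((toK_eq_zero_iff e a _ hπ').2 ⟨𝟙 _, (Category.comp_id _).symm⟩)
  have h1 : toK e a π hπ = 0 := h B (E.X (a + 1)) B.subtype B.injective_subtype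
    (h0.trans zero_comp.symm)
  obtain ⟨l, hl⟩ := (toK_eq_zero_iff e a π hπ).1 h1
  refine ⟨B.subtype ∘ₗ l.hom, fun y => (l.hom y).2, fun x => ?_⟩
  exact (congrArg Subtype.val (ConcreteCategory.congr_hom hl x)).symm

/-- The truncation above a split differential has projective terms. -/
theorem projective_truncGE {E : DRing.Cx A} (hp : ∀ i, Module.Projective A (E.X i)) (a : ℤ)
    {r : E.X (a + 1) →ₗ[A] E.X (a + 1)} (hr : ∀ y, r y ∈ LinearMap.range (E.d a (a + 1)).hom)
    (hr' : ∀ x, r ((E.d a (a + 1)).hom x) = (E.d a (a + 1)).hom x) (i : ℤ) :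
    Module.Projective A ((E.truncGE (a + 1)).X i) := by
  rcases lt_trichotomy i (a + 1) with hi | hi | hi
  · have := ModuleCat.subsingleton_of_isZero ((E.truncGE (a + 1)).isZero_of_isStrictlyGE (a + 1) i hi)
    infer_instance
  · subst hi
    let B := LinearMap.range (E.d a (a + 1)).hom
    have := hp (a + 1)
    have hq : Module.Projective A (E.X (a + 1) ⧸ B) := Module.Projective.of_split
      (B.liftQ (LinearMap.id - r) (by
        rintro _ ⟨x, rfl⟩
        simp [hr' x])) B.mkQ (by
        apply Submodule.linearMap_qext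
        refine LinearMap.ext fun y => ?_
        simp [(Submodule.Quotient.mk_eq_zero _).2 (hr y), Submodule.Quotient.mk_sub, B])
    have e := TorAmp.opcyclesIso E (a + 1) ≪≫ (E.truncGEXIsoOpcycles (a + 1)).symm
    rw [show a + 1 - 1 = a by omega] at e
    exact Module.Projective.of_equiv e.toLinearEquiv
  · have := hp i
    exact Module.Projective.of_equiv (E.truncGEXIso (a + 1) i hi).toLinearEquiv.symm

/-- The truncation of `Q E` is computed by the naive truncation. -/
theorem nonempty_truncGE_iso {E : DRing.Cx A} {K : Dual.D A} (e : DerivedCategory.Q.obj E ≅ K) (n : ℤ) :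
    Nonempty (DerivedCategory.Q.obj (E.truncGE n) ≅
      ((DerivedCategory.TStructure.t : Triangulated.TStructure (Dual.D A)).truncGE n).obj K) := by
  let t : Triangulated.TStructure (Dual.D A) := DerivedCategory.TStructure.t
  have : IsIso ((t.truncGE n).map (DerivedCategory.Q.map (E.πTruncGE n))) :=
    KoszulOrth36.Trunc.isIso_truncGE_map _ n fun i hi => by
      have : IsIso (HomologicalComplex.homologyMap (E.πTruncGE n) i) :=
        (quasiIsoAt_iff_isIso_homologyMap _ i).1 (E.quasiIsoAt_πTruncGE n i hi)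
      exact (NatIso.isIso_map_iff (DerivedCategory.homologyFunctorFactors (ModuleCat.{u} A) i) _).2 this
  have hge : t.IsGE (DerivedCategory.Q.obj (E.truncGE n)) n :=
    (DerivedCategory.isGE_Q_obj_iff _ n).2 inferInstance
  have : IsIso ((t.truncGEπ n).app (DerivedCategory.Q.obj (E.truncGE n))) :=
    (t.isGE_iff_isIso_truncGEπ_app n _).1 hge
  exact ⟨asIso ((t.truncGEπ n).app (DerivedCategory.Q.obj (E.truncGE n))) ≪≫
    (asIso ((t.truncGE n).map (DerivedCategory.Q.map (E.πTruncGE n)))).symm ≪≫ (t.truncGE n).mapIso e⟩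

/-- The distinguished triangle of truncations splits when its connecting morphism vanishes. -/
theorem exists_split_of_δ {K : Dual.D A} {n : ℤ}
    [HasBinaryBiproduct (((DerivedCategory.TStructure.t : Triangulated.TStructure (Dual.D A)).truncLT n).obj K)
      (((DerivedCategory.TStructure.t : Triangulated.TStructure (Dual.D A)).truncGE n).obj K)]
    (hz : ((DerivedCategory.TStructure.t : Triangulated.TStructure (Dual.D A)).truncGEδLT n).app K = 0) :
    ∃ e : K ≅ ((DerivedCategory.TStructure.t : Triangulated.TStructure (Dual.D A)).truncLT n).obj K ⊞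
        ((DerivedCategory.TStructure.t : Triangulated.TStructure (Dual.D A)).truncGE n).obj K,
      ((DerivedCategory.TStructure.t : Triangulated.TStructure (Dual.D A)).truncLTι n).app K ≫ e.hom = biprod.inl ∧
        e.hom ≫ biprod.snd =
          ((DerivedCategory.TStructure.t : Triangulated.TStructure (Dual.D A)).truncGEπ n).app K := by
  let t : Triangulated.TStructure (Dual.D A) := DerivedCategory.TStructure.t
  obtain ⟨e, h1, h2⟩ := exists_iso_binaryBiproduct_of_distTriang _ (t.triangleLTGE_distinguished n K) hz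
  exact ⟨e, h1, h2.symm⟩

/-- The distinguished triangle of truncations splits when the upper part has projective terms. -/
theorem exists_split {K : Dual.D A} {n : ℤ} (P : DRing.Cx A) (b : ℤ) (hP : DRing.VanishesOutside P n b)
    (hp : ∀ i, Module.Projective A (P.X i))
    (eP : DerivedCategory.Q.obj P ≅
      ((DerivedCategory.TStructure.t : Triangulated.TStructure (Dual.D A)).truncGE n).obj K)
    [HasBinaryBiproduct (((DerivedCategory.TStructure.t : Triangulated.TStructure (Dual.D A)).truncLT n).obj K)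
      (((DerivedCategory.TStructure.t : Triangulated.TStructure (Dual.D A)).truncGE n).obj K)] :
    ∃ e : K ≅ ((DerivedCategory.TStructure.t : Triangulated.TStructure (Dual.D A)).truncLT n).obj K ⊞
        ((DerivedCategory.TStructure.t : Triangulated.TStructure (Dual.D A)).truncGE n).obj K,
      ((DerivedCategory.TStructure.t : Triangulated.TStructure (Dual.D A)).truncLTι n).app K ≫ e.hom = biprod.inl ∧
        e.hom ≫ biprod.snd =
          ((DerivedCategory.TStructure.t : Triangulated.TStructure (Dual.D A)).truncGEπ n).app K := by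
  let t : Triangulated.TStructure (Dual.D A) := DerivedCategory.TStructure.t
  have : P.IsStrictlyLE b := (CochainComplex.isStrictlyLE_iff P b).2 fun i hi => hP i (Or.inr hi)
  have : ∀ i, Projective (P.X i) := fun i => by
    have := hp i
    infer_instance
  have : P.IsKProjective := CochainComplex.isKProjective_of_projective P b
  have hle : t.IsLE ((shiftFunctor (Dual.D A) (1 : ℤ)).obj ((t.truncLT n).obj K)) (n - 1) := by
    have := t.isLE_shift ((t.truncLT n).obj K) (n - 1) 1 (n - 2)
    exact t.isLE_of_le _ (n - 2) (n - 1) (by omega)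
  have hz : (t.truncGEδLT n).app K = 0 := by
    rw [← cancel_epi eP.hom, comp_zero]
    exact Basic.hom_eq_zero_of_isKProjective (fun i hi => hP i (Or.inl hi)) hle _
  exact exists_split_of_δ hz

/-- If `Hom(K, -[-a])` is injective on injections, then `τ_{≥ a+1} K` has projective terms. -/
theorem exists_proj_truncGE {K : Dual.D A} (a : ℤ) (b : ℤ) (hb : K.IsLE b)
    (h : ∀ (M M' : Type u) [AddCommGroup M] [Module A M] [AddCommGroup M'] [Module A M'] (g : M →ₗ[A] M'),
      Function.Injective g → Function.Injective (fun x : K ⟶ (shiftFunctor (Dual.D A) (-a)).obj (Dual.inD A M) =>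
        x ≫ (shiftFunctor (Dual.D A) (-a)).map
          ((DerivedCategory.singleFunctor (ModuleCat.{u} A) 0).map (ModuleCat.ofHom g)))) :
    ∃ (P : DRing.Cx A) (c : ℤ), DRing.VanishesOutside P (a + 1) c ∧ (∀ i : ℤ, Module.Projective A (P.X i)) ∧
      Nonempty (DerivedCategory.Q.obj P ≅
        ((DerivedCategory.TStructure.t : Triangulated.TStructure (Dual.D A)).truncGE (a + 1)).obj K) := by
  obtain ⟨E, hE, hp, ⟨e⟩⟩ := Representative.ba_proj hb
  have : E.IsStrictlyLE b := (CochainComplex.isStrictlyLE_iff E b).2 hE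
  have : ∀ i, Projective (E.X i) := fun i => by
    have : Module.Projective A (E.X i) := hp i
    infer_instance
  have : E.IsKProjective := CochainComplex.isKProjective_of_projective E b
  obtain ⟨r, hr, hr'⟩ := exists_retraction e a h
  refine ⟨E.truncGE (a + 1), max b (a + 1), fun i hi => ?_, projective_truncGE hp a hr hr',
    nonempty_truncGE_iso e (a + 1)⟩
  rcases hi with hi | hi
  · exact (E.truncGE (a + 1)).isZero_of_isStrictlyGE (a + 1) i hi
  · exact (hE i (by omega)).of_iso (E.truncGEXIso (a + 1) i (by omega))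

/-- If `Hom(K, -[-a])` vanishes, then `H^a K = 0`. -/
theorem isZero_homology_of_vanishing {K : Dual.D A} (a : ℤ) (b : ℤ) (hb : K.IsLE b)
    (h : ∀ (M : Type u) [AddCommGroup M] [Module A M],
      Subsingleton (K ⟶ (shiftFunctor (Dual.D A) (-a)).obj (Dual.inD A M))) :
    IsZero ((DerivedCategory.homologyFunctor (ModuleCat.{u} A) a).obj K) := by
  obtain ⟨E, hE, hp, ⟨e⟩⟩ := Representative.ba_proj hb
  have : E.IsStrictlyLE b := (CochainComplex.isStrictlyLE_iff E b).2 hE
  have : ∀ i, Projective (E.X i) := fun i => by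
    have : Module.Projective A (E.X i) := hp i
    infer_instance
  have : E.IsKProjective := CochainComplex.isKProjective_of_projective E b
  let B := LinearMap.range (E.d (a - 1) a).hom
  let π : E.X a ⟶ ModuleCat.of A (E.X a ⧸ B) := ModuleCat.ofHom B.mkQ
  have hπ : E.d (a - 1) a ≫ π = 0 := ModuleCat.hom_ext (LinearMap.ext fun x =>
    (Submodule.Quotient.mk_eq_zero B).2 ⟨x, rfl⟩)
  obtain ⟨l, hl⟩ := (toK_eq_zero_iff e a π hπ).1 ((h _).elim _ _)
  have : Subsingleton (E.homology a) := subsingleton_of_forall_eq 0 fun y => by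
    obtain ⟨z, rfl⟩ := cls_surjective E a y
    refine (cls_eq_zero_iff E a z).2 ?_
    exact (Submodule.Quotient.mk_eq_zero B).1 ((ConcreteCategory.congr_hom hl z.1).trans
      ((congrArg l.hom z.2).trans (map_zero _)))
  exact (ModuleCat.isZero_of_subsingleton (E.homology a)).of_iso
    ((DerivedCategory.homologyFunctor (ModuleCat.{u} A) a).mapIso e.symm ≪≫ hdIso E a)

/-- Without cohomology in `[a, b)`, the truncations `< a` and `< b` agree. -/
theorem isIso_natTrans_of_gap {K : Dual.D A} (a b : ℤ) (hab : a ≤ b)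
    (h : ∀ i, a ≤ i → i < b → IsZero ((DerivedCategory.homologyFunctor (ModuleCat.{u} A) i).obj K)) :
    IsIso (((DerivedCategory.TStructure.t : Triangulated.TStructure (Dual.D A)).natTransTruncLTOfLE a b hab).app K) := by
  let t : Triangulated.TStructure (Dual.D A) := DerivedCategory.TStructure.t
  let H := DerivedCategory.homologyFunctor (ModuleCat.{u} A)
  have hι : ∀ n i : ℤ, i < n → IsIso ((H i).map ((t.truncLTι n).app K)) := fun n i hi =>
    @DerCat.TStruct.isIso_homologyMap_mor₁ _ _ _ _ _ (t.triangleLTGE_distinguished n K) n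
      (inferInstance : t.IsGE ((t.truncGE n).obj K) n) i hi
  rw [DerivedCategory.isIso_iff]
  intro i
  by_cases hi : i < a
  · have := hι a i hi
    have := hι b i (by omega)
    have e : (H i).map ((t.natTransTruncLTOfLE a b hab).app K) ≫
        (H i).map ((t.truncLTι b).app K) = (H i).map ((t.truncLTι a).app K) := by
      rw [← Functor.map_comp, t.natTransTruncLTOfLE_ι_app]
    exact IsIso.of_isIso_fac_right e
  · refine ⟨0, (DerivedCategory.isZero_of_isLE ((t.truncLT a).obj K) (a - 1) i (by omega)).eq_of_src _ _, ?_⟩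
    by_cases hib : i < b
    · have := hι b i hib
      exact ((h i (by omega) hib).of_iso (asIso ((H i).map ((t.truncLTι b).app K)))).eq_of_src _ _
    · exact (DerivedCategory.isZero_of_isLE ((t.truncLT b).obj K) (b - 1) i (by omega)).eq_of_src _ _

/-- Without cohomology in degree `a`, the truncations `< a` and `< a + 1` agree. -/
theorem isIso_natTrans {K : Dual.D A} (a : ℤ)
    (h : IsZero ((DerivedCategory.homologyFunctor (ModuleCat.{u} A) a).obj K)) :
    IsIso (((DerivedCategory.TStructure.t : Triangulated.TStructure (Dual.D A)).natTransTruncLTOfLE a (a + 1)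
      (by omega)).app K) :=
  isIso_natTrans_of_gap a (a + 1) (by omega) fun i h1 h2 => (show i = a by omega) ▸ h

end Groth.Agent.Lib.DR.SplitTrunc
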