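import Groth.Agent.Lib.DR.FlatBC
import Groth.Agent.Lib.PCoh.Resolve
import Mathlib.Algebra.Homology.HomologicalComplexBiprod
import Mathlib.RingTheory.Spectrum.Prime.FreeLocus
import Mathlib.Algebra.Homology.ShortComplex.Exact
import Mathlib.Order.Interval.Finset.Basic
import Mathlib.Data.Int.Interval

/-!
# Stable isomorphism of homotopy equivalent bounded complexes of projectives
-/

universe u

open CategoryTheory CategoryTheory.Limits TensorProduct
open Groth.Agent.Lib.DR.Basic Groth.Agent.Lib.DR.PseudoCoherent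

attribute [local instance] HasDerivedCategory.standard

set_option backward.isDefEq.respectTransparency false

namespace Groth.Agent.Lib.DR.StableIso

variable {R : Type u} [CommRing R]

/-- A bounded complex of finite projectives with a null-homotopic identity. -/
def Triv (X : DRing.Cx R) : Prop :=
  (∃ a b : ℤ, DRing.VanishesOutside X a b) ∧ DRing.TermwiseFiniteProjective X ∧ Nonempty (Homotopy (𝟙 X) 0)

theorem fproj_of_decomp {A B X : ModuleCat.{u} R} (hA : fproj R A) (hB : fproj R B)
    (s : X ⟶ A) (t : X ⟶ B) (i : A ⟶ X) (j : B ⟶ X) (h : s ≫ i + t ≫ j = 𝟙 X) : fproj R X := by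
  obtain ⟨_, _⟩ := hA
  obtain ⟨_, _⟩ := hB
  let p := LinearMap.coprod i.hom j.hom
  let q := LinearMap.prod s.hom t.hom
  have hpq : p ∘ₗ q = LinearMap.id := by
    refine LinearMap.ext fun x => ?_
    exact ConcreteCategory.congr_hom h x
  exact ⟨Module.Finite.of_surjective p fun x => ⟨q x, LinearMap.congr_fun hpq x⟩,
    Module.Projective.of_split q p hpq⟩

theorem biprod_f_total (K L : DRing.Cx R) (n : ℤ) :
    (biprod.fst : K ⊞ L ⟶ K).f n ≫ (biprod.inl : K ⟶ K ⊞ L).f n +
      (biprod.snd : K ⊞ L ⟶ L).f n ≫ (biprod.inr : L ⟶ K ⊞ L).f n = 𝟙 _ := by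
  rw [← HomologicalComplex.comp_f, ← HomologicalComplex.comp_f, ← HomologicalComplex.add_f_apply,
    biprod.total, HomologicalComplex.id_f]

theorem isKProjective_of_bdd {P : DRing.Cx R} {a b : ℤ} (hv : DRing.VanishesOutside P a b)
    (hp : DRing.TermwiseFiniteProjective P) : P.IsKProjective :=
  FiniteComplex.isKProjective_of_bounds projective_of_fproj (fun i hi => hv i (Or.inr hi)) hp

/-- A homotopy equivalence becomes an isomorphism after adding trivial complexes. -/
theorem exists_stable_iso {M N : DRing.Cx R} {a b : ℤ}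
    (hM : DRing.VanishesOutside M a b) (hN : DRing.VanishesOutside N a b)
    (hMp : DRing.TermwiseFiniteProjective M) (hNp : DRing.TermwiseFiniteProjective N)
    (e : DRing.toD M ≅ DRing.toD N) :
    ∃ X Y : DRing.Cx R, Triv X ∧ Triv Y ∧ Nonempty (M ⊞ X ≅ N ⊞ Y) := by
  have := isKProjective_of_bdd hM hMp
  obtain ⟨φ, hφ⟩ := exists_Q_map_eq (E := M) (K := N) e.hom
  have : QuasiIso φ := by
    rw [← DerivedCategory.isIso_Q_map_iff_quasiIso, hφ]
    exact e.isIso_hom
  let X := CochainComplex.mappingCocone (𝟙 N)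
  have hXp : DRing.TermwiseFiniteProjective X := fun p =>
    fproj_of_decomp (hNp p) (hNp (p + -1)) ((CochainComplex.mappingCocone.fst (𝟙 N)).f p)
      ((CochainComplex.mappingCocone.snd (𝟙 N)).v p (p + -1) rfl)
      ((CochainComplex.mappingCocone.inl (𝟙 N)).v p p (add_zero p))
      ((CochainComplex.mappingCocone.inr (𝟙 N)).1.v (p + -1) p (by omega))
      (CochainComplex.mappingCocone.id_X (𝟙 N) p (p + -1) rfl)
  have hXv : DRing.VanishesOutside X a (b + 1) := fun p hp => by
    rw [IsZero.iff_id_eq_zero, ← CochainComplex.mappingCocone.id_X (𝟙 N) p (p + -1) rfl,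
      (hN p (by omega)).eq_of_tgt ((CochainComplex.mappingCocone.fst (𝟙 N)).f p) 0,
      (hN (p + -1) (by omega)).eq_of_tgt ((CochainComplex.mappingCocone.snd (𝟙 N)).v p (p + -1) rfl) 0]
    simp
  have := isKProjective_of_bdd hXv hXp
  have hXac : HomologicalComplex.Acyclic X := fun i => PCoh.Resolve.exactAt_cocone_id N i
  have hX : Triv X := ⟨⟨a, b + 1, hXv⟩, hXp, CochainComplex.IsKProjective.nonempty_homotopy_zero (𝟙 X) hXac⟩
  let E := M ⊞ X
  let g : E ⟶ N := biprod.desc φ (CochainComplex.mappingCocone.fst (𝟙 N))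
  have hgepi : ∀ n, Epi (g.f n) := fun n => by
    refine epi_of_epi_fac (f := (CochainComplex.mappingCocone.inl (𝟙 N)).v n n (add_zero n) ≫
      (biprod.inr : X ⟶ E).f n) (h := 𝟙 (N.X n)) ?_
    rw [Category.assoc, ← HomologicalComplex.comp_f, biprod.inr_desc,
      CochainComplex.mappingCocone.inl_v_fst_f]
  have : Epi g := HomologicalComplex.epi_of_epi_f g hgepi
  have hinl : QuasiIso (biprod.inl : M ⟶ E) := by
    refine ⟨fun i => ?_⟩
    rw [quasiIsoAt_iff_isIso_homologyMap]
    refine ⟨HomologicalComplex.homologyMap biprod.fst i, by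
      rw [← HomologicalComplex.homologyMap_comp, biprod.inl_fst, HomologicalComplex.homologyMap_id], ?_⟩
    rw [← HomologicalComplex.homologyMap_comp, ← HomologicalComplex.homologyMap_id]
    conv_rhs => rw [← biprod.total, HomologicalComplex.homologyMap_add,
      HomologicalComplex.homologyMap_comp biprod.snd biprod.inr,
      (hXac i).isZero_homology.eq_of_tgt (HomologicalComplex.homologyMap (biprod.snd : E ⟶ X) i) 0, zero_comp,
      add_zero]
  have : QuasiIso ((biprod.inl : M ⟶ E) ≫ g) := by
    rw [biprod.inl_desc]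
    infer_instance
  have hg : QuasiIso g := quasiIso_of_comp_left (biprod.inl : M ⟶ E) g
  let S := ShortComplex.mk (kernel.ι g) g (kernel.condition g)
  have hS : S.ShortExact := { exact := ShortComplex.exact_kernel g }
  let Y := kernel g
  have hS' : ∀ n, (S.map (HomologicalComplex.eval _ _ n)).ShortExact := fun n =>
    hS.map_of_exact (HomologicalComplex.eval _ _ n)
  have hsp : ∀ n, Nonempty (S.map (HomologicalComplex.eval _ _ n)).Splitting := fun n => by
    have := (hNp n).2
    have : Projective (S.map (HomologicalComplex.eval _ _ n)).X₃ :=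
      (IsProjective.iff_projective (R := R) (N.X n)).mp inferInstance
    exact ⟨(hS' n).splittingOfProjective⟩
  let r : ∀ n, E.X n ⟶ Y.X n := fun n => (hsp n).some.r
  have hr : ∀ n, (kernel.ι g).f n ≫ r n = 𝟙 _ := fun n => (hsp n).some.f_r
  have hEp : ∀ n, fproj R (E.X n) := fun n => fproj_of_decomp (hMp n) (hXp n) _ _ _ _ (biprod_f_total M X n)
  have hYp : DRing.TermwiseFiniteProjective Y := fun n => by
    obtain ⟨_, _⟩ := hEp n
    exact ⟨Module.Finite.of_surjective (r n).hom fun y => ⟨((kernel.ι g).f n).hom y,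
        ConcreteCategory.congr_hom (hr n) y⟩,
      Module.Projective.of_split ((kernel.ι g).f n).hom (r n).hom (congrArg ModuleCat.Hom.hom (hr n))⟩
  have hYv : DRing.VanishesOutside Y a (b + 1) := fun n hn => by
    have hE : IsZero (E.X n) := by
      rw [IsZero.iff_id_eq_zero, ← biprod_f_total M X n,
        (hM n (by omega)).eq_of_tgt ((biprod.fst : E ⟶ M).f n) 0,
        (hXv n hn).eq_of_tgt ((biprod.snd : E ⟶ X).f n) 0, zero_comp, zero_comp, add_zero]
    rw [IsZero.iff_id_eq_zero, ← hr n, hE.eq_of_tgt ((kernel.ι g).f n) 0, zero_comp]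
  have := isKProjective_of_bdd hYv hYp
  have hYac : HomologicalComplex.Acyclic Y := fun m => by
    rw [HomologicalComplex.exactAt_iff_isZero_homology]
    refine (hS.homology_exact₁ (m - 1) m (sub_add_cancel m 1)).isZero_X₂ ?_ ?_
    · change hS.δ (m - 1) m (sub_add_cancel m 1) = 0
      rw [← cancel_epi (HomologicalComplex.homologyMap g (m - 1))]
      exact (hS.comp_δ (m - 1) m (sub_add_cancel m 1)).trans comp_zero.symm
    · change HomologicalComplex.homologyMap (kernel.ι g) m = 0
      rw [← cancel_mono (HomologicalComplex.homologyMap g m), ← HomologicalComplex.homologyMap_comp,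
        kernel.condition, zero_comp, HomologicalComplex.homologyMap_zero]
  obtain ⟨h⟩ := CochainComplex.IsKProjective.nonempty_homotopy_zero (𝟙 Y) hYac
  have hid : ∀ n, h.hom n (n - 1) ≫ Y.d (n - 1) n + Y.d n (n + 1) ≫ h.hom (n + 1) n = 𝟙 (Y.X n) := fun n => by
    have := h.comm n
    rw [dNext_eq h.hom (show (ComplexShape.up ℤ).Rel n (n + 1) from rfl),
      prevD_eq h.hom (show (ComplexShape.up ℤ).Rel (n - 1) n by simp), HomologicalComplex.zero_f, add_zero,
      HomologicalComplex.id_f] at this
    rw [this, add_comm]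
  have hid' : ∀ i, h.hom (i + 1) i ≫ Y.d i (i + 1) + Y.d (i + 1) (i + 1 + 1) ≫ h.hom (i + 1 + 1) (i + 1) = 𝟙 (Y.X (i + 1)) :=
    fun i => by
      have key : ∀ n m, n - 1 = m → h.hom n m ≫ Y.d m n + Y.d n (n + 1) ≫ h.hom (n + 1) n = 𝟙 (Y.X n) := by
        rintro n _ rfl
        exact hid n
      exact key (i + 1) i (by omega)
  have hdhd : ∀ i j k : ℤ, i + 1 = j → j + 1 = k → Y.d i j ≫ h.hom j i ≫ Y.d i j = Y.d i j := fun i j k hij hjk => by
    obtain rfl : j = i + 1 := hij.symm
    have := congrArg (Y.d i (i + 1) ≫ ·) (hid' i)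
    simp only [Preadditive.comp_add, HomologicalComplex.d_comp_d_assoc, zero_comp,
      add_zero, Category.comp_id] at this
    exact this
  let r' : E ⟶ Y :=
    { f := fun n => r n ≫ h.hom n (n - 1) ≫ Y.d (n - 1) n + E.d n (n + 1) ≫ r (n + 1) ≫ h.hom (n + 1) n
      comm' := fun i j hij => by
        obtain rfl : j = i + 1 := (show i + 1 = j from hij).symm
        have key : ∀ m, i + 1 - 1 = m → E.d i (i + 1) ≫ r (i + 1) ≫ h.hom (i + 1) (i + 1 - 1) ≫ Y.d (i + 1 - 1) (i + 1) =
            E.d i (i + 1) ≫ r (i + 1) ≫ h.hom (i + 1) m ≫ Y.d m (i + 1) := by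
          rintro _ rfl
          rfl
        simp only [Preadditive.add_comp, Preadditive.comp_add, Category.assoc, HomologicalComplex.d_comp_d,
          HomologicalComplex.d_comp_d_assoc, comp_zero, zero_comp, add_zero, zero_add]
        exact (key i (by omega)).symm }
  have hr' : kernel.ι g ≫ r' = 𝟙 Y := HomologicalComplex.hom_ext _ _ fun n => by
    show (kernel.ι g).f n ≫ (r n ≫ h.hom n (n - 1) ≫ Y.d (n - 1) n + E.d n (n + 1) ≫ r (n + 1) ≫ h.hom (n + 1) n) = _
    rw [Preadditive.comp_add, reassoc_of% (hr n), (kernel.ι g).comm_assoc, reassoc_of% (hr (n + 1))]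
    exact hid n
  let sp := ShortComplex.Splitting.ofExactOfRetraction S hS.exact r' hr' inferInstance
  exact ⟨X, Y, hX, ⟨⟨a, b + 1, hYv⟩, hYp, ⟨h⟩⟩, ⟨sp.isoBinaryBiproduct ≪≫ biprod.braiding Y N⟩⟩

section Free

variable (p : Ideal R) [p.IsPrime]

/-- Freeness on a smaller basic open. -/
theorem free_mono (B : Type u) [AddCommGroup B] [Module R B] (f g : R)
    (h : Module.Free (Localization.Away f) (Localization.Away f ⊗[R] B)) :
    Module.Free (Localization.Away (f * g)) (Localization.Away (f * g) ⊗[R] B) := by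
  let φ : Localization.Away f →+* Localization.Away (f * g) :=
    IsLocalization.Away.lift f (g := algebraMap R (Localization.Away (f * g))) (by
      have := IsLocalization.Away.algebraMap_isUnit (S := Localization.Away (f * g)) (f * g)
      rw [map_mul] at this
      exact isUnit_of_mul_isUnit_left this)
  let := φ.toAlgebra
  have : IsScalarTower R (Localization.Away f) (Localization.Away (f * g)) :=
    IsScalarTower.of_algebraMap_eq fun r => (IsLocalization.Away.lift_eq f _ r).symm
  exact Module.Free.of_equiv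
    (TensorProduct.AlgebraTensorModule.cancelBaseChange R (Localization.Away f) (Localization.Away (f * g))
      (Localization.Away (f * g)) B)

/-- Finitely many finite projectives are free near a prime. -/
theorem exists_free {ι : Type*} (s : Finset ι) (B : ι → Type u) [∀ i, AddCommGroup (B i)] [∀ i, Module R (B i)]
    [∀ i, Module.Finite R (B i)] [∀ i, Module.Projective R (B i)] :
    ∃ f : R, f ∉ p ∧ ∀ i ∈ s, Module.Free (Localization.Away f) (Localization.Away f ⊗[R] B i) := by
  classical
  induction s using Finset.induction_on with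
  | empty => exact ⟨1, fun h => Ideal.IsPrime.ne_top inferInstance ((Ideal.eq_top_iff_one p).2 h), by simp⟩
  | @insert i s _ ih =>
    obtain ⟨f, hf, hs⟩ := ih
    have : Module.FinitePresentation R (B i) := Module.finitePresentation_of_projective R (B i)
    have : Module.Free (Localization.AtPrime p) (LocalizedModule p.primeCompl (B i)) := by
      have hfree : (⟨p, inferInstance⟩ : PrimeSpectrum R) ∈ Module.freeLocus R (B i) := by
        rw [Module.freeLocus_eq_univ]
        trivial
      exact hfree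
    obtain ⟨g, hg, hgfree, -⟩ := Module.FinitePresentation.exists_free_localizedModule_powers p.primeCompl
      (LocalizedModule.mkLinearMap p.primeCompl (B i)) (Localization.AtPrime p)
    have h1 : Module.Free (Localization.Away g) (Localization.Away g ⊗[R] B i) :=
      Module.Free.of_equiv (LocalizedModule.equivTensorProduct (Submonoid.powers g) (B i))
    refine ⟨f * g, fun h => ((Ideal.IsPrime.mul_mem_iff_mem_or_mem inferInstance).1 h).elim hf hg, fun j hj => ?_⟩
    rcases Finset.mem_insert.1 hj with rfl | hj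
    · rw [mul_comm]
      exact free_mono (B j) g f h1
    · exact free_mono (B j) f g (hs j hj)

end Free

section Split

variable {Y : DRing.Cx R} (h : Homotopy (𝟙 Y) 0) (j : ℤ)

theorem decomp_apply (i k : ℤ) (hij : i + 1 = j) (hjk : j + 1 = k) (x : Y.X j) :
    (Y.d i j).hom ((h.hom j i).hom x) + (h.hom k j).hom ((Y.d j k).hom x) = x := by
  have := h.comm j
  rw [dNext_eq h.hom (show (ComplexShape.up ℤ).Rel j k from hjk),
    prevD_eq h.hom (show (ComplexShape.up ℤ).Rel i j from hij), HomologicalComplex.zero_f, add_zero,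
    HomologicalComplex.id_f] at this
  exact (add_comm _ _).trans (ConcreteCategory.congr_hom this x).symm

theorem d_h_d (i : ℤ) (hij : i + 1 = j) (x : Y.X i) :
    (Y.d i j).hom ((h.hom j i).hom ((Y.d i j).hom x)) = (Y.d i j).hom x := by
  have := decomp_apply h i (i - 1) j (by omega) hij x
  have h2 := congrArg (Y.d i j).hom this
  rw [map_add, show (Y.d i j).hom ((Y.d (i - 1) i).hom _) = 0 from
    ConcreteCategory.congr_hom (Y.d_comp_d (i - 1) i j) _, zero_add] at h2
  exact h2

end Split

/-- Trivial complexes become free near a prime. -/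
theorem exists_free_trivial (p : Ideal R) [p.IsPrime] {X Y : DRing.Cx R} (hX : Triv X) (hY : Triv Y) :
    ∃ f : R, f ∉ p ∧ ∀ Z : DRing.Cx R, Z = X ∨ Z = Y →
      let Zf := (BaseChange.ext (algebraMap R (Localization.Away f))).obj Z
      (∃ a b : ℤ, DRing.VanishesOutside Zf a b) ∧ DRing.TermwiseFiniteFree Zf ∧
        (∀ i : ℤ, Module.Free (Localization.Away f) (LinearMap.range (Zf.d i (i + 1)).hom)) ∧
        Nonempty (Homotopy (𝟙 Zf) 0) := by
  obtain ⟨⟨a₁, b₁, hv₁⟩, hp₁, ⟨h₁⟩⟩ := hX
  obtain ⟨⟨a₂, b₂, hv₂⟩, hp₂, ⟨h₂⟩⟩ := hY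
  let Zs : Bool → DRing.Cx R := fun t => bif t then X else Y
  let hs : ∀ t, Homotopy (𝟙 (Zs t)) 0 := fun t => by cases t <;> assumption
  have hp : ∀ t i, fproj R ((Zs t).X i) := fun t i => by
    cases t
    · exact hp₂ i
    · exact hp₁ i
  let B : Bool × ℤ → Type u := fun q => LinearMap.range ((Zs q.1).d q.2 (q.2 + 1)).hom
  let π : ∀ q : Bool × ℤ, (Zs q.1).X (q.2 + 1) →ₗ[R] B q := fun q =>
    ((Zs q.1).d q.2 (q.2 + 1)).hom.rangeRestrict ∘ₗ ((hs q.1).hom (q.2 + 1) q.2).hom
  have hπ : ∀ q, π q ∘ₗ (LinearMap.range ((Zs q.1).d q.2 (q.2 + 1)).hom).subtype = LinearMap.id := fun q => by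
    refine LinearMap.ext fun ⟨y, x, hx⟩ => Subtype.ext ?_
    subst hx
    exact d_h_d (hs q.1) (q.2 + 1) q.2 rfl x
  have hBf : ∀ q, Module.Finite R (B q) := fun q => by
    have := (hp q.1 (q.2 + 1)).1
    exact Module.Finite.of_surjective (π q) fun y => ⟨_, LinearMap.congr_fun (hπ q) y⟩
  have hBp : ∀ q, Module.Projective R (B q) := fun q => by
    have := (hp q.1 (q.2 + 1)).2
    exact Module.Projective.of_split _ (π q) (hπ q)
  obtain ⟨f, hf, hfree⟩ := exists_free p ((Finset.univ : Finset Bool) ×ˢ
    Finset.Icc (min a₁ a₂ - 1) (max b₁ b₂)) B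
  refine ⟨f, hf, fun Z hZ => ?_⟩
  obtain ⟨t, rfl⟩ : ∃ t, Z = Zs t := hZ.elim (fun h => ⟨true, h⟩) fun h => ⟨false, h⟩
  intro Zf
  let Rf := Localization.Away f
  let F := ModuleCat.extendScalars.{u, u, u} (algebraMap R Rf)
  have hvZ : ∀ i, i < min a₁ a₂ ∨ max b₁ b₂ < i → IsZero ((Zs t).X i) := fun i hi => by
    cases t
    · exact hv₂ i (by omega)
    · exact hv₁ i (by omega)
  have hall : ∀ i, Module.Free Rf (Rf ⊗[R] B (t, i)) := fun i => by
    by_cases hi : i ∈ Finset.Icc (min a₁ a₂ - 1) (max b₁ b₂)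
    · exact hfree (t, i) (Finset.mem_product.2 ⟨Finset.mem_univ t, hi⟩)
    · have : Subsingleton (B (t, i)) := by
        refine subsingleton_of_forall_eq 0 fun ⟨y, x, hx⟩ => Subtype.ext ?_
        have := ModuleCat.subsingleton_of_isZero (hvZ i (by rw [Finset.mem_Icc] at hi; omega))
        show y = 0
        rw [← hx, Subsingleton.elim x 0, map_zero]
      have : Subsingleton (Rf ⊗[R] B (t, i)) := subsingleton_of_forall_eq 0 fun z => by
        induction z using TensorProduct.induction_on with
        | zero => rfl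
        | tmul c x => rw [Subsingleton.elim x 0, TensorProduct.tmul_zero]
        | add x y hx hy => rw [hx, hy, add_zero]
      infer_instance
  let E : ∀ k, Zf.X k ≃ₗ[Rf] Rf ⊗[R] ((Zs t).X k) := fun k => FlatBC.extEquiv R Rf ((Zs t).X k)
  have hE : ∀ i k (z : Zf.X i), E k ((Zf.d i k).hom z) = ((Zs t).d i k).hom.baseChange Rf (E i z) := fun i k z => by
    obtain ⟨w, rfl⟩ := (E i).symm.surjective z
    rw [(E i).apply_symm_apply]
    induction w using TensorProduct.induction_on with
    | zero => simp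
    | tmul c x => rfl
    | add x y hx hy => simp only [map_add, hx, hy]
  refine ⟨⟨min a₁ a₂, max b₁ b₂, fun i hi => F.map_isZero (hvZ i hi)⟩, fun i => ?_, fun i => ?_,
    ⟨(Homotopy.ofEq ((F.mapHomologicalComplex _).map_id _).symm).trans ((F.mapHomotopy (hs t)).trans
      (Homotopy.ofEq ((F.mapHomologicalComplex _).map_zero _ _)))⟩⟩
  · -- the terms
    let d₀ := ((Zs t).d (i - 1) i).hom
    let d₁ := ((Zs t).d i (i + 1)).hom
    let B₀ := LinearMap.range d₀
    let s₀ := ((hs t).hom i (i - 1)).hom
    let s₁ := ((hs t).hom (i + 1) i).hom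
    let e : (Zs t).X i ≃ₗ[R] B (t, i) × B₀ :=
      LinearEquiv.ofLinear (d₁.rangeRestrict.prod (d₀.rangeRestrict ∘ₗ s₀))
        ((s₁ ∘ₗ (LinearMap.range d₁).subtype).coprod B₀.subtype) (by
        refine LinearMap.ext fun ⟨⟨_, x, rfl⟩, ⟨_, y, rfl⟩⟩ => Prod.ext (Subtype.ext ?_) (Subtype.ext ?_)
        · show d₁ (s₁ (d₁ x) + d₀ y) = d₁ x
          rw [map_add, d_h_d (hs t) (i + 1) i rfl x, show d₁ (d₀ y) = 0 from
            ConcreteCategory.congr_hom ((Zs t).d_comp_d (i - 1) i (i + 1)) y, add_zero]
        · show d₀ (s₀ (s₁ (d₁ x) + d₀ y)) = d₀ y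
          have h1 := decomp_apply (hs t) i (i - 1) (i + 1) (by omega) rfl (s₁ (d₁ x) + d₀ y)
          have h2 : d₁ (s₁ (d₁ x) + d₀ y) = d₁ x := by
            rw [map_add, d_h_d (hs t) (i + 1) i rfl x, show d₁ (d₀ y) = 0 from
              ConcreteCategory.congr_hom ((Zs t).d_comp_d (i - 1) i (i + 1)) y, add_zero]
          rw [h2] at h1
          exact add_right_cancel (h1.trans (add_comm (s₁ (d₁ x)) (d₀ y)))) (by
        refine LinearMap.ext fun x => ?_
        exact (add_comm _ _).trans (decomp_apply (hs t) i (i - 1) (i + 1) (by omega) rfl x))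
    have : Module.Free Rf (Rf ⊗[R] B₀) := by
      have := hall (i - 1)
      have heq : LinearMap.range ((Zs t).d (i - 1) (i - 1 + 1)).hom ≃ₗ[R] B₀ :=
        LinearEquiv.ofSubmodules ((Zs t).XIsoOfEq (show i - 1 + 1 = i by omega)).toLinearEquiv _ _ (by
          rw [LinearEquiv.toLinearMap_eq_coe, ← LinearMap.range_comp]
          exact congrArg (fun q => LinearMap.range q.hom) ((Zs t).d_comp_XIsoOfEq_hom (show i - 1 + 1 = i by omega) (i - 1)))
      exact Module.Free.of_equiv (heq.baseChange R Rf _ _)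
    have := hall i
    have hfr : Module.Free Rf (Zf.X i) := Module.Free.of_equiv
      ((E i).trans ((e.baseChange R Rf _ _).trans (TensorProduct.prodRight R Rf Rf _ _))).symm
    have := (hp t i).1
    exact ⟨Module.Finite.equiv (E i).symm, hfr⟩
  · -- the boundaries
    let d := ((Zs t).d i (i + 1)).hom
    let ι := (LinearMap.range d).subtype.baseChange Rf
    have hι : Function.Injective ι := Function.LeftInverse.injective (g := (π (t, i)).baseChange Rf) fun z => by
      rw [← LinearMap.comp_apply, ← LinearMap.baseChange_comp, hπ, LinearMap.baseChange_id, LinearMap.id_apply]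
    have hr : LinearMap.range ι = (LinearMap.range (Zf.d i (i + 1)).hom).map (E (i + 1)).toLinearMap := by
      have h1 : LinearMap.range (d.baseChange Rf) = LinearMap.range ι := by
        have hs : Function.Surjective (d.rangeRestrict.baseChange Rf) := by
          rw [LinearMap.baseChange_eq_ltensor]
          exact LinearMap.lTensor_surjective Rf d.surjective_rangeRestrict
        have hd : d.baseChange Rf = ι ∘ₗ d.rangeRestrict.baseChange Rf := by
          rw [← LinearMap.baseChange_comp, show (LinearMap.range d).subtype ∘ₗ d.rangeRestrict = d from rfl]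
        rw [hd, LinearMap.range_comp_of_range_eq_top _ (LinearMap.range_eq_top.2 hs)]
      rw [← h1]
      ext w
      constructor
      · rintro ⟨w, rfl⟩
        exact ⟨_, ⟨(E i).symm w, rfl⟩, (hE _ _ _).trans (congrArg _ ((E i).apply_symm_apply w))⟩
      · rintro ⟨_, ⟨z, rfl⟩, rfl⟩
        exact ⟨E i z, (hE _ _ z).symm⟩
    have := hall i
    exact Module.Free.of_equiv (((LinearEquiv.ofInjective ι hι).trans (LinearEquiv.ofEq _ _ hr)).trans
      ((E (i + 1)).submoduleMap _).symm)

end Groth.Agent.Lib.DR.StableIso
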