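import Groth.Agent.Lib.DR.DComp.Step
import Groth.Agent.Lib.DR.Representative

/-!
# Morphisms into modules in a single degree detecting cohomology classes
-/

universe u

open CategoryTheory CategoryTheory.Limits
open Groth.Agent.Lib.RGamma

attribute [local instance] HasDerivedCategory.standard

set_option backward.isDefEq.respectTransparency false

namespace Groth.Agent.Lib.DR.ToSingle

variable {A : Type u} [CommRing A]

/-- A functional on `E^i` killing boundaries gives a morphism to `N[-i]` computing it on cohomology. -/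
theorem exists_hom (E : DRing.Cx A) {K : Dual.D A} (e : DerivedCategory.Q.obj E ≅ K) (i : ℤ)
    (N : Type u) [AddCommGroup N] [Module A N] (π : E.X i →ₗ[A] N)
    (hπ : ∀ y, π ((E.d (i - 1) i).hom y) = 0) :
    ∃ (f : K ⟶ (shiftFunctor (Dual.D A) (-i)).obj (Dual.inD A N))
      (ε : Dual.HD A K i ≃ₗ[A] E.homology i),
      ∀ z : Cyc E i, ((DerivedCategory.homologyFunctor (ModuleCat.{u} A) i).map f).hom (ε.symm (cls E i z)) = 0 ↔
        π z.1 = 0 := by
  classical
  let S : DRing.Cx A := (HomologicalComplex.single (ModuleCat.{u} A) (ComplexShape.up ℤ) i).obj (ModuleCat.of A N)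
  let g : E ⟶ S := HomologicalComplex.mkHomToSingle (ModuleCat.ofHom π) fun j hj => by
    obtain rfl : j = i - 1 := by simp at hj; omega
    exact ModuleCat.hom_ext (LinearMap.ext hπ)
  let ι : (shiftFunctor (Dual.D A) (-i)).obj (Dual.inD A N) ≅ DerivedCategory.Q.obj S :=
    ((DerivedCategory.singleFunctors (ModuleCat.{u} A)).shiftIso (-i) i 0 (by omega)).app (ModuleCat.of A N) ≪≫
      (DerivedCategory.singleFunctorIsoCompQ (ModuleCat.{u} A) i).app (ModuleCat.of A N)
  let H := DerivedCategory.homologyFunctor (ModuleCat.{u} A) i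
  let ε := ((H.mapIso e.symm) ≪≫ hdIso E i).toLinearEquiv
  refine ⟨e.inv ≫ DerivedCategory.Q.map g ≫ ι.inv, ε, fun z => ?_⟩
  let w := (H.map e.inv).hom (ε.symm (cls E i z))
  have hw : (hdIso E i).hom.hom w = cls E i z := ε.apply_symm_apply _
  have h1 : (hdIso S i).hom.hom ((H.map (DerivedCategory.Q.map g)).hom w) =
      cls S i ⟨(g.f i).hom z.1, (congr($(g.comm i (i + 1)) z.1)).trans
        ((congrArg (g.f (i + 1)).hom z.2).trans (map_zero _))⟩ := by
    rw [DComp.hdIso_naturality, hw, homologyMap_cls]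
  rw [Functor.map_comp, Functor.map_comp]
  show (H.mapIso ι.symm).toLinearEquiv ((H.map (DerivedCategory.Q.map g)).hom w) = 0 ↔ _
  rw [LinearEquiv.map_eq_zero_iff, ← (hdIso S i).toLinearEquiv.map_eq_zero_iff]
  show (hdIso S i).hom.hom _ = 0 ↔ _
  rw [h1, cls_eq_zero_iff]
  have hs : (g.f i).hom z.1 =
      (HomologicalComplex.singleObjXSelf (ComplexShape.up ℤ) i (ModuleCat.of A N)).toLinearEquiv.symm (π z.1) := by
    simp [g, HomologicalComplex.mkHomToSingle]
    rfl
  constructor
  · rintro ⟨y, hy⟩
    have := ModuleCat.subsingleton_of_isZero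
      (HomologicalComplex.isZero_single_obj_X (ComplexShape.up ℤ) i (ModuleCat.of A N) (i - 1) (by omega))
    rw [Subsingleton.elim y 0, map_zero] at hy
    exact (LinearEquiv.map_eq_zero_iff _).1 (hs.symm.trans hy.symm)
  · intro h
    exact ⟨0, ((map_zero _).trans ((hs.trans (by rw [h, map_zero])).symm))⟩

end Groth.Agent.Lib.DR.ToSingle
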