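import Groth.Agent.Lib.DR.LTensorCx
import Groth.Agent.Lib.DR.Representative
import Groth.Agent.Lib.DR.TensorBdd
import Mathlib.LinearAlgebra.TensorProduct.RightExactness
import Mathlib.RingTheory.LocalRing.Module
import Mathlib.RingTheory.PicardGroup

/-!
The top cohomology of a tensor product of bounded above complexes, and tensor inverses over a local ring.
-/

set_option linter.style.haveILetI false

universe u

open CategoryTheory CategoryTheory.Limits MonoidalCategory
open Groth.Agent.Lib.TensorCx.Basic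
open Groth.Agent.Lib.DR.Basic Groth.Agent.Lib.DR.FiniteComplex Groth.Agent.Lib.DR.PseudoCoherent
open scoped TensorProduct

attribute [local instance] HasDerivedCategory.standard

namespace Groth.Agent.Lib.DR.TopTensor

variable {A : Type u} [CommRing A]

theorem nonempty_homology_equiv (Z : DRing.Cx A) (n₀ n n₁ : ℤ) (h0 : n₀ + 1 = n) (h1 : n + 1 = n₁)
    (hz : IsZero (Z.X n₁)) :
    Nonempty (Z.homology n ≃ₗ[A] (Z.X n ⧸ LinearMap.range (Z.d n₀ n).hom)) := by
  let S := Z.sc' n₀ n n₁
  haveI : Subsingleton S.X₃ := ModuleCat.subsingleton_of_isZero hz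
  have hker : LinearMap.ker S.g.hom = ⊤ := Submodule.eq_top_iff'.2 fun x => Subsingleton.elim _ _
  let e : LinearMap.ker S.g.hom ≃ₗ[A] S.X₂ := LinearEquiv.ofTop _ hker
  have hm : (LinearMap.range S.moduleCatToCycles).map (e : LinearMap.ker S.g.hom →ₗ[A] S.X₂) =
      LinearMap.range S.f.hom := by
    rw [← LinearMap.range_comp]
    rfl
  exact ⟨((ShortComplex.homologyMapIso (Z.isoSc' n₀ n n₁ (by simp; lia) (by simp; lia))) ≪≫
    S.moduleCatHomologyIso).toLinearEquiv.trans (Submodule.Quotient.equiv _ _ e hm)⟩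

theorem nonempty_top_equiv (F G : DRing.Cx A) (b₀ b b₁ c₀ c c₁ n₀ n : ℤ) (hb₀ : b₀ + 1 = b) (hb₁ : b + 1 = b₁)
    (hc₀ : c₀ + 1 = c) (hc₁ : c + 1 = c₁) (hn₀ : n₀ + 1 = n) (hn : b + c = n)
    (hF : ∀ i, b < i → IsZero (F.X i)) (hG : ∀ i, c < i → IsZero (G.X i)) :
    Nonempty (((tens F G).X n ⧸ LinearMap.range ((tens F G).d n₀ n).hom) ≃ₗ[A]
      ((F.X b ⧸ LinearMap.range (F.d b₀ b).hom) ⊗[A] (G.X c ⧸ LinearMap.range (G.d c₀ c).hom))) := by
  let f := (LinearMap.range (F.d b₀ b).hom).mkQ
  let g := (LinearMap.range (G.d c₀ c).hom).mkQ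
  let Φ := TensorProduct.map f g ∘ₗ proj F G b c n
  have hΦ : Function.Surjective Φ := fun y => by
    obtain ⟨x, rfl⟩ := TensorProduct.map_surjective (Submodule.mkQ_surjective _) (Submodule.mkQ_surjective _) y
    exact ⟨incl F G b c n hn x, congrArg (TensorProduct.map f g) (proj_incl F G b c n hn x)⟩
  have hexF : Function.Exact (F.d b₀ b).hom f := LinearMap.exact_iff.2 (Submodule.ker_mkQ _)
  have hexG : Function.Exact (G.d c₀ c).hom g := LinearMap.exact_iff.2 (Submodule.ker_mkQ _)
  have hker : LinearMap.ker Φ = LinearMap.range ((tens F G).d n₀ n).hom := by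
    have hk := TensorProduct.map_ker hexF (Submodule.mkQ_surjective _) hexG (Submodule.mkQ_surjective _)
    refine le_antisymm (fun z hz => ?_) ?_
    · have hz' : proj F G b c n z ∈ LinearMap.ker (TensorProduct.map f g) := hz
      rw [hk] at hz'
      obtain ⟨p, ⟨v, hv⟩, q, ⟨w, hw⟩, hpq⟩ := Submodule.mem_sup.1 hz'
      have key : z = incl F G b c n hn (proj F G b c n z) := ext_proj fun i j hij => by
        by_cases hi : i = b ∧ j = c
        · obtain ⟨rfl, rfl⟩ := hi
          rw [proj_incl]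
        · rw [proj_incl_ne F G b c i j n hn (fun h => hi ⟨h.1.symm, h.2.symm⟩)]
          rcases lt_or_ge b i with h | h
          · haveI := ModuleCat.subsingleton_of_isZero (hF i h)
            exact Subsingleton.elim _ _
          · haveI := ModuleCat.subsingleton_of_isZero (hG j (by lia))
            exact Subsingleton.elim _ _
      have hd₂ : incl F G b c n hn ((G.d c₀ c).hom.lTensor (F.X b) v) ∈
          LinearMap.range ((tens F G).d n₀ n).hom := by
        refine ⟨((b.negOnePow : ℤˣ) : ℤ) • incl F G b c₀ n₀ (by lia) v, ?_⟩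
        rw [map_zsmul]
        erw [d_incl F G b c₀ n₀ b₁ c n (by lia) hb₁ hc₀ (by lia) hn v]
        haveI := ModuleCat.subsingleton_of_isZero (hF b₁ (by lia))
        rw [Subsingleton.elim ((F.d b b₁).hom.rTensor (G.X c₀) v) 0, map_zero, zero_add, smul_smul,
          ← Units.val_mul, Int.units_mul_self, Units.val_one, one_smul]
      have hd₁ : incl F G b c n hn ((F.d b₀ b).hom.rTensor (G.X c) w) ∈
          LinearMap.range ((tens F G).d n₀ n).hom := by
        refine ⟨incl F G b₀ c n₀ (by lia) w, ?_⟩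
        erw [d_incl F G b₀ c n₀ b c₁ n (by lia) hb₀ hc₁ hn (by lia) w]
        haveI := ModuleCat.subsingleton_of_isZero (hG c₁ (by lia))
        rw [Subsingleton.elim ((G.d c c₁).hom.lTensor (F.X b₀) w) 0, map_zero, smul_zero, add_zero]
      rw [key, ← hpq, ← hv, ← hw, map_add]
      exact Submodule.add_mem _ hd₂ hd₁
    · rintro - ⟨x, rfl⟩
      show TensorProduct.map f g (proj F G b c n ((tens F G).d n₀ n x)) = 0
      erw [proj_d F G b₀ b c₀ c n₀ n hb₀ hc₀ hn hn₀ x]
      have z1 : ∀ t, TensorProduct.map f g ((F.d b₀ b).hom.rTensor (G.X c) t) = 0 := fun t => by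
        induction t using TensorProduct.induction_on with
        | zero => simp
        | add p q hp hq => rw [map_add, map_add, hp, hq, add_zero]
        | tmul p q => rw [LinearMap.rTensor_tmul, TensorProduct.map_tmul, hexF.apply_apply_eq_zero, TensorProduct.zero_tmul]
      have z2 : ∀ t, TensorProduct.map f g ((G.d c₀ c).hom.lTensor (F.X b) t) = 0 := fun t => by
        induction t using TensorProduct.induction_on with
        | zero => simp
        | add p q hp hq => rw [map_add, map_add, hp, hq, add_zero]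
        | tmul p q => rw [LinearMap.lTensor_tmul, TensorProduct.map_tmul, hexG.apply_apply_eq_zero, TensorProduct.tmul_zero]
      rw [map_add, map_zsmul, z1, z2, smul_zero, add_zero]
  exact ⟨(Submodule.quotEquivOfEq _ _ hker.symm).trans (Φ.quotKerEquivOfSurjective hΦ)⟩

variable [IsLocalRing A]

theorem nontrivial_tensor (M N : Type u) [AddCommGroup M] [Module A M] [Module.Finite A M] [Nontrivial M]
    [AddCommGroup N] [Module A N] [Module.Finite A N] [Nontrivial N] : Nontrivial (M ⊗[A] N) := by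
  let k := IsLocalRing.ResidueField A
  haveI : Nontrivial (k ⊗[A] M) := not_subsingleton_iff_nontrivial.1 fun h =>
    not_subsingleton M (IsLocalRing.subsingleton_tensorProduct.1 h)
  haveI : Nontrivial (k ⊗[A] N) := not_subsingleton_iff_nontrivial.1 fun h =>
    not_subsingleton N (IsLocalRing.subsingleton_tensorProduct.1 h)
  haveI : Nontrivial ((k ⊗[A] M) ⊗[k] (k ⊗[A] N)) :=
    (Module.FaithfullyFlat.nontrivial_tensorProduct_iff_right (R := k) (M := k ⊗[A] M)).2 inferInstance
  haveI : Nontrivial (k ⊗[A] (M ⊗[A] N)) :=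
    (TensorProduct.AlgebraTensorModule.distribBaseChange A k M N).toEquiv.nontrivial
  exact not_subsingleton_iff_nontrivial.1 fun h =>
    not_subsingleton (k ⊗[A] (M ⊗[A] N)) inferInstance

/-- Contraction against a functional on the top degree. -/
theorem exactAt_of_contraction (F G : DRing.Cx A) (b : ℤ) (hF : ∀ i, b < i → IsZero (F.X i))
    (φ : F.X b →ₗ[A] A) (hφ : ∀ v, φ (F.d (b - 1) b v) = 0) (x : F.X b) (hx : φ x = 1) (j : ℤ)
    (h : (tens F G).ExactAt (b + j)) : G.ExactAt j := by
  rw [HomologicalComplex.exactAt_iff' _ (b + j - 1) (b + j) (b + j + 1) (by simp) (by simp),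
    ShortComplex.moduleCat_exact_iff] at h
  rw [HomologicalComplex.exactAt_iff' _ (j - 1) j (j + 1) (by simp) (by simp), ShortComplex.moduleCat_exact_iff]
  intro y hy
  have hw : (tens F G).d (b + j) (b + j + 1) (incl F G b j (b + j) rfl (x ⊗ₜ y)) = 0 := by
    erw [d_incl F G b j (b + j) (b + 1) (j + 1) (b + j + 1) rfl rfl rfl (by lia) (by lia) (x ⊗ₜ y)]
    haveI := ModuleCat.subsingleton_of_isZero (hF (b + 1) (by lia))
    rw [Subsingleton.elim ((F.d b (b + 1)).hom.rTensor (G.X j) (x ⊗ₜ[A] y)) 0, map_zero, zero_add,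
      LinearMap.lTensor_tmul]
    rw [show (G.d j (j + 1)).hom y = 0 from hy, TensorProduct.tmul_zero, map_zero, smul_zero]
  obtain ⟨v, hv⟩ := h _ hw
  let C : ∀ i, F.X b ⊗[A] G.X i →ₗ[A] G.X i := fun i =>
    (TensorProduct.lid A (G.X i)).toLinearMap ∘ₗ φ.rTensor (G.X i)
  refine ⟨((b.negOnePow : ℤˣ) : ℤ) • C (j - 1) (proj F G b (j - 1) (b + j - 1) v), ?_⟩
  have e := congrArg (C j) (congrArg (proj F G b j (b + j)) hv)
  erw [proj_d F G (b - 1) b (j - 1) j (b + j - 1) (b + j) (by lia) (by lia) rfl (by lia) v, proj_incl] at e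
  rw [map_add, map_zsmul] at e
  have e1 : ∀ t, C j ((F.d (b - 1) b).hom.rTensor (G.X j) t) = 0 := fun t => by
    induction t using TensorProduct.induction_on with
    | zero => simp
    | add p q hp hq => rw [map_add, map_add, hp, hq, add_zero]
    | tmul p q => simp [C, hφ]
  have e2 : ∀ t, C j ((G.d (j - 1) j).hom.lTensor (F.X b) t) = G.d (j - 1) j (C (j - 1) t) := fun t => by
    induction t using TensorProduct.induction_on with
    | zero => simp
    | add p q hp hq => simp only [map_add, hp, hq]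
    | tmul p q => simp [C]
  rw [e1, zero_add, e2] at e
  refine (map_zsmul (G.d (j - 1) j).hom _ _).trans (e.trans ?_)
  simp [C, hx]

/-- An object with one cohomology module, a free one of rank one. -/
theorem nonempty_iso_shift (X : Dual.D A) (c : ℤ) (h : ∀ i, i ≠ c → Subsingleton (Dual.HD A X i))
    (e : Dual.HD A X c ≃ₗ[A] A) : Nonempty (X ≅ (Dual.inD A A)⟦(-c)⟧) := by
  haveI : X.IsGE c := (isGE_iff_subsingleton X c).2 fun i hi => h i (by lia)
  haveI : X.IsLE c := (isLE_iff_subsingleton X c).2 fun i hi => h i (by lia)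
  obtain ⟨Y, ⟨eY⟩⟩ := DerivedCategory.exists_iso_singleFunctor_obj_of_isGE_of_isLE X c
  let eA : Y ≅ ModuleCat.of A A :=
    ((DerivedCategory.singleFunctorCompHomologyFunctorIso _ c).app Y).symm ≪≫
      (DerivedCategory.homologyFunctor _ c).mapIso eY.symm ≪≫ e.toModuleIso
  exact ⟨eY ≪≫ (DerivedCategory.singleFunctor _ c).mapIso eA ≪≫
    (singleShift (ModuleCat.of A A) (-c) c 0 (by lia)).symm⟩

variable [IsNoetherianRing A]

/-- Bounded above finite free representatives whose tensor product is the unit. -/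
theorem exists_shift (F G : DRing.Cx A) (b c : ℤ) (hF : ∀ i, b < i → IsZero (F.X i))
    (hG : ∀ i, c < i → IsZero (G.X i)) (hFf : Module.Finite A (F.X b)) (hGf : Module.Finite A (G.X c))
    (hFt : ¬ IsZero (F.homology b)) (hGt : ¬ IsZero (G.homology c))
    (hT : ∀ i, i ≠ 0 → (tens F G).ExactAt i) (e₀ : (tens F G).homology 0 ≃ₗ[A] A) :
    b + c = 0 ∧ (∀ j, j ≠ c → G.ExactAt j) ∧ Nonempty (G.homology c ≃ₗ[A] A) := by
  obtain ⟨eF⟩ := nonempty_homology_equiv F (b - 1) b (b + 1) (by lia) rfl (hF _ (by lia))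
  obtain ⟨eG⟩ := nonempty_homology_equiv G (c - 1) c (c + 1) (by lia) rfl (hG _ (by lia))
  obtain ⟨eT⟩ := nonempty_homology_equiv (tens F G) (b + c - 1) (b + c) (b + c + 1) (by lia) rfl
    (TensorBdd.isZero_tens_above F G hF hG _ (by lia))
  obtain ⟨eP⟩ := nonempty_top_equiv F G (b - 1) b (b + 1) (c - 1) c (c + 1) (b + c - 1) (b + c) (by lia) rfl
    (by lia) rfl (by lia) rfl hF hG
  let M := F.X b ⧸ LinearMap.range (F.d (b - 1) b).hom
  let N := G.X c ⧸ LinearMap.range (G.d (c - 1) c).hom
  haveI : Nontrivial M := not_subsingleton_iff_nontrivial.1 fun h =>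
    haveI := eF.toEquiv.subsingleton
    hFt (ModuleCat.isZero_of_subsingleton _)
  haveI : Nontrivial N := not_subsingleton_iff_nontrivial.1 fun h =>
    haveI := eG.toEquiv.subsingleton
    hGt (ModuleCat.isZero_of_subsingleton _)
  haveI : Nontrivial (M ⊗[A] N) := nontrivial_tensor M N
  have hbc : b + c = 0 := by
    by_contra hne
    haveI := ModuleCat.subsingleton_of_isZero ((HomologicalComplex.exactAt_iff_isZero_homology _ _).1 (hT _ hne))
    exact not_subsingleton (M ⊗[A] N) (eT.trans eP).symm.toEquiv.subsingleton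
  have e₁ : Nonempty ((tens F G).homology (b + c) ≃ₗ[A] A) := by
    rw [hbc]
    exact ⟨e₀⟩
  obtain ⟨e₁⟩ := e₁
  let e : M ⊗[A] N ≃ₗ[A] A := (eT.trans eP).symm.trans e₁
  haveI : Module.Invertible A M := Module.Invertible.left e
  haveI : Module.Invertible A N := Module.Invertible.right e
  haveI : Module.Free A M := Module.free_of_flat_of_isLocalRing
  haveI : Module.Free A N := Module.free_of_flat_of_isLocalRing
  obtain ⟨uM⟩ := Module.Invertible.free_iff_linearEquiv.1 (inferInstance : Module.Free A M)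
  obtain ⟨uN⟩ := Module.Invertible.free_iff_linearEquiv.1 (inferInstance : Module.Free A N)
  obtain ⟨x, hx⟩ := Submodule.mkQ_surjective _ (uM.symm 1)
  refine ⟨hbc, fun j hj => exactAt_of_contraction F G b hF
    (uM.toLinearMap ∘ₗ (LinearMap.range (F.d (b - 1) b).hom).mkQ) (fun v => ?_) x ?_ j (hT _ (by lia)),
    ⟨eG.trans uN⟩⟩
  · show uM (Submodule.Quotient.mk (p := LinearMap.range (F.d (b - 1) b).hom) ((F.d (b - 1) b).hom v)) = 0
    rw [(Submodule.Quotient.mk_eq_zero _).2 (LinearMap.mem_range_self _ v), map_zero]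
  · show uM ((LinearMap.range (F.d (b - 1) b).hom).mkQ x) = 1
    rw [hx, LinearEquiv.apply_symm_apply]

end Groth.Agent.Lib.DR.TopTensor
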