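import Groth.Agent.Lib.DMod.TorIndepData
import Groth.Agent.Lib.DR.Nilp
import Groth.Agent.H54.RelPCApp
import Mathlib.RingTheory.TensorProduct.MvPolynomial

/-!
# Relative pseudo-coherence and tor independent base change
-/

set_option linter.style.haveILetI false

universe u

open CategoryTheory CategoryTheory.Limits CategoryTheory.Pretriangulated MonoidalCategory
open Groth.Agent.Lib.DR Groth.Agent.Lib.DMod
open Groth.Agent.Lib.DR.Basic Groth.Agent.Lib.DR.FiniteComplex Groth.Agent.Lib.DR.PseudoCoherent
open Groth.Agent.Lib.DR.Representative Groth.Agent.Lib.DR.BaseChange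
open Groth.Agent.H54.RelPC
open scoped TensorProduct

attribute [local instance] HasDerivedCategory.standard
attribute [local instance] MvPolynomial.algebraMvPolynomial Algebra.TensorProduct.rightAlgebra

set_option backward.isDefEq.respectTransparency false

namespace Groth.Agent.Lib.DR.TorBC

/-- Tor vanishing passes to flat extensions of the base. -/
theorem subsingleton_tor_bc {R P A : Type u} [CommRing R] [CommRing P] [CommRing A] [Algebra R P]
    [Module.Flat R P] [Algebra R A] [Algebra P A] [IsScalarTower R P A]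
    (M : Type u) [AddCommGroup M] [Module R M]
    (htor : ∀ p : ℕ, 0 < p → Subsingleton (DRing.Tor R p A M)) (p : ℕ) (hp : 0 < p) :
    Subsingleton (DRing.Tor P p A (P ⊗[R] M)) := by
  obtain ⟨k, rfl⟩ : ∃ k, p = k + 1 := ⟨p - 1, by omega⟩
  let F := ModuleCat.extendScalars.{u, u, u} (algebraMap R P)
  haveI : F.PreservesProjectiveObjects := ⟨fun {X} hX =>
    (IsProjective.iff_projective (R := P) (F.obj X)).1
      (BaseChange.ext_proj (algebraMap R P) X ((IsProjective.iff_projective (R := R) X).2 hX))⟩
  haveI : PreservesFiniteLimits F := FlatBC.preservesFiniteLimits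
  haveI : PreservesFiniteColimits F := FlatBC.preservesFiniteColimits
  haveI : F.PreservesHomology := F.preservesHomology_of_preservesEpis_and_kernels
  let Pr : ProjectiveResolution (ModuleCat.of R M) := projectiveResolution _
  let Q := F.mapProjectiveResolution Pr
  let G := MonoidalCategory.tensorLeft (ModuleCat.of P A)
  let C := (G.mapHomologicalComplex (ComplexShape.down ℕ)).obj Q.complex
  let T := (CategoryTheory.Tor (ModuleCat.{u} P) (k + 1)).obj (ModuleCat.of P A)
  let e : T.obj (ModuleCat.of P (P ⊗[R] M)) ≅ C.homology (k + 1) :=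
    T.mapIso (FlatBC.extEquiv R P M).toModuleIso.symm ≪≫ Q.isoLeftDerivedObj G (k + 1)
  suffices h : C.ExactAt (k + 1) from ModuleCat.subsingleton_of_isZero
    (((HomologicalComplex.exactAt_iff_isZero_homology _ _).1 h).of_iso e)
  rw [HomologicalComplex.exactAt_iff' C (k + 2) (k + 1) k (by simp) (by simp),
    ShortComplex.ShortExact.moduleCat_exact_iff_function_exact]
  let d₂ := (Pr.complex.d (k + 2) (k + 1)).hom
  let d₁ := (Pr.complex.d (k + 1) k).hom
  have hex : Function.Exact (d₂.lTensor A) (d₁.lTensor A) :=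
    (H54.TorDimHom.subsingleton_tor_iff A M Pr k).1 (htor (k + 1) (by omega))
  have hexP := (H54.TorDimHom.exact_lTensor_iff (A := R) (B := P) A d₂ d₁).2 hex
  let E := fun N : ModuleCat.{u} R => (FlatBC.extEquiv R P N).lTensor A
  have key : ∀ {N N' : ModuleCat.{u} R} (u : N ⟶ N'),
      (u.hom.baseChange P).lTensor A ∘ₗ (E N).toLinearMap = (E N').toLinearMap ∘ₗ ((F.map u).hom.lTensor A) := by
    intro N N' u
    refine TensorProduct.ext' fun a x => ?_
    show a ⊗ₜ[P] (u.hom.baseChange P) (FlatBC.extEquiv R P N x) = a ⊗ₜ[P] FlatBC.extEquiv R P N' ((F.map u).hom x)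
    refine congrArg (a ⊗ₜ[P] ·) ?_
    induction x using TensorProduct.induction_on with
    | zero => erw [map_zero]
    | add x y hx hy => erw [map_add, map_add, map_add, map_add, hx, hy]
    | tmul b m => rfl
  exact (Function.Exact.iff_of_ladder_linearEquiv (e₁ := E _) (e₂ := E _) (e₃ := E _) (key _) (key _)).1 hexP

/-- Derived base change preserves pseudo-coherence. -/
theorem pcn_LBaseChange {A B : Type u} [CommRing A] [CommRing B] (f : A →+* B) [DRing.HasLBaseChange f]
    {m : ℤ} {X : Dual.D A} (h : PCn (ff A) m X) : PCn (ff B) m ((DRing.LBaseChange f).obj X) := by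
  obtain ⟨E, a, b, g, hE, hp, Z, q, r, hT, hZ⟩ := h
  have hd := inv_rot_of_distTriang _ hT
  have h1 : (Triangle.mk g q r).invRotate.obj₁.IsLE m :=
    DerivedCategory.TStructure.t.isLE_shift Z (m - 1) (-1) m
  have hE' : Bdd (ff A) a b (DerivedCategory.Q.obj E) := ⟨E, hE, hp, ⟨Iso.refl _⟩⟩
  have hle : ((DRing.LBaseChange f).obj (Triangle.mk g q r).invRotate.obj₁).IsLE m :=
    (ba_LBaseChange f flat_of_free (ext_free f) (ba_free h1)).isLE
  exact Nilp.pcn_cone_LBC (A := A) (B := fun _ : Unit => B) (fun _ => f) () _ hd h1 hE'.isLE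
    (pcn_of_isLE good_ff (isLE_mono hle (by omega)))
    ((bdd_LBaseChange f (fun M hM => flat_of_fproj M (fproj_of_ff M hM)) (ext_ff f) hE').pcn _)

section Square

variable {P A P' A' : Type u} [CommRing P] [CommRing A] [CommRing P'] [CommRing A']
  [Algebra P A] [Algebra P P'] [Algebra A A'] [Algebra P' A'] [Algebra P A']
  [IsScalarTower P A A'] [IsScalarTower P P' A'] [Algebra.IsPushout P A P' A']

/-- Pseudo-coherence over the base along a tor independent square. -/
theorem pcn_square (htor : ∀ p : ℕ, 1 ≤ p → Subsingleton (DRing.Tor P p A P'))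
    [DRing.HasLBaseChange (algebraMap A A')] {m : ℤ} {K : Dual.D A}
    (h : PCn (ff P) m ((DRing.restrictD (algebraMap P A)).obj K)) :
    PCn (ff P') m ((DRing.restrictD (algebraMap P' A')).obj ((DRing.LBaseChange (algebraMap A A')).obj K)) := by
  haveI : DRing.HasLBaseChange (algebraMap P P') := BaseChangeU.hasLBaseChange _
  obtain ⟨E, e, q, he, hq', hEf, hq⟩ :=
    TorIndepData.exists_data (R := P) (A := A) (R' := P') (A' := A') htor
  have hsq : (algebraMap A A').comp (algebraMap P A) = (algebraMap P' A').comp (algebraMap P P') :=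
    (IsScalarTower.algebraMap_eq P A A').symm.trans (IsScalarTower.algebraMap_eq P P' A')
  let adjσ : DRing.LBaseChange (algebraMap P P') ⊣ DRing.restrictD (algebraMap P P') :=
    Derived.derivedAdj (ModuleCat.extendRestrictScalarsAdj.{u} (algebraMap P P'))
  let adjα : DRing.LBaseChange (algebraMap A A') ⊣ DRing.restrictD (algebraMap A A') :=
    Derived.derivedAdj (ModuleCat.extendRestrictScalarsAdj.{u} (algebraMap A A'))
  have := TorIndepBC.isIso_cmp _ _ _ _ hsq e q adjσ adjα hEf hq K
  exact (pcn_LBaseChange (algebraMap P P') h).of_iso (asIso (TrivBC.cmp adjσ adjα hsq K))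

end Square

/-- Relative pseudo-coherence under tor independent change of base. -/
theorem rel_baseChange {R A R' : Type u} [CommRing R] [CommRing A]
    [CommRing R'] [Algebra R A] [Algebra.FiniteType R A] [Algebra R R']
    (htor : ∀ p : ℕ, 0 < p → Subsingleton (DRing.Tor R p A R'))
    [DRing.HasLBaseChange (algebraMap A (R' ⊗[R] A))]
    (K : Dual.D A) (m : ℤ) (hK : DerCA.IsRelPseudoCoherent R A m K) :
    DerCA.IsRelPseudoCoherent R' (R' ⊗[R] A) m
      ((DRing.LBaseChange (algebraMap A (R' ⊗[R] A))).obj K) := by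
  obtain ⟨n, ψ, hψ⟩ := H54.RelPCApp.exists_pres ‹Algebra.FiniteType R A›
  let P := MvPolynomial (Fin n) R
  let P' := MvPolynomial (Fin n) R'
  let A' := R' ⊗[R] A
  let ψ'' : P' →ₐ[R'] A' :=
    MvPolynomial.aeval fun i => Algebra.TensorProduct.includeRight (R := R) (A := R') (ψ (MvPolynomial.X i))
  have hcomp : (algebraMap A A').comp ψ.toRingHom = ψ''.toRingHom.comp (algebraMap P P') := by
    refine MvPolynomial.ringHom_ext (fun r => ?_) fun i => ?_
    · show algebraMap A A' (ψ (MvPolynomial.C r)) = ψ'' (MvPolynomial.map (algebraMap R R') (MvPolynomial.C r))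
      rw [MvPolynomial.map_C, MvPolynomial.aeval_C, ← IsScalarTower.algebraMap_apply,
        show ψ (MvPolynomial.C r) = algebraMap R A r from ψ.commutes r, ← IsScalarTower.algebraMap_apply]
    · show algebraMap A A' (ψ (MvPolynomial.X i)) = ψ'' (MvPolynomial.map (algebraMap R R') (MvPolynomial.X i))
      rw [MvPolynomial.map_X, MvPolynomial.aeval_X]
      rfl
  have hψ'' : Function.Surjective ψ'' := fun z => by
    induction z using TensorProduct.induction_on with
    | zero => exact ⟨0, map_zero _⟩
    | add x y hx hy =>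
      obtain ⟨a, rfl⟩ := hx
      obtain ⟨b, rfl⟩ := hy
      exact ⟨a + b, map_add _ _ _⟩
    | tmul r a =>
      obtain ⟨f, rfl⟩ := hψ a
      refine ⟨MvPolynomial.C r * algebraMap P P' f, ?_⟩
      rw [map_mul, MvPolynomial.aeval_C]
      have h1 : ψ'' (algebraMap P P' f) = (1 : R') ⊗ₜ[R] ψ f := (RingHom.congr_fun hcomp f).symm
      rw [h1]
      show r ⊗ₜ[R] (1 : A) * (1 : R') ⊗ₜ[R] ψ f = r ⊗ₜ[R] ψ f
      rw [Algebra.TensorProduct.tmul_mul_tmul, mul_one, one_mul]
  letI : Algebra P A := ψ.toRingHom.toAlgebra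
  letI : Algebra P' A' := ψ''.toRingHom.toAlgebra
  letI : Algebra P A' := ((algebraMap A A').comp ψ.toRingHom).toAlgebra
  haveI : IsScalarTower R P A := IsScalarTower.of_algebraMap_eq fun r => (ψ.commutes r).symm
  haveI : IsScalarTower R' P' A' := IsScalarTower.of_algebraMap_eq fun r => (ψ''.commutes r).symm
  haveI : IsScalarTower P A A' := IsScalarTower.of_algebraMap_eq fun r => rfl
  haveI : IsScalarTower P P' A' := IsScalarTower.of_algebraMap_eq fun f => RingHom.congr_fun hcomp f
  haveI : IsScalarTower R P' A' := IsScalarTower.of_algebraMap_eq fun r => by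
    rw [IsScalarTower.algebraMap_apply R R' A', IsScalarTower.algebraMap_apply R' P' A',
      IsScalarTower.algebraMap_apply R R' P']
  haveI : Algebra.IsPushout R A R' A' := inferInstance
  haveI : Algebra.IsPushout P A P' A' := (Algebra.IsPushout.comp_iff R P R' P').1 inferInstance
  have htor' : ∀ p : ℕ, 1 ≤ p → Subsingleton (DRing.Tor P p A P') := fun p hp => by
    have h1 := subsingleton_tor_bc (R := R) (P := P) (A := A) R' htor p hp
    let e := ((CategoryTheory.Tor (ModuleCat.{u} P) p).obj (ModuleCat.of P A)).mapIso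
      ((Algebra.IsPushout.equiv R P R' P').toLinearEquiv).toModuleIso
    exact e.toLinearEquiv.symm.toEquiv.subsingleton
  exact (rel_iff ψ'' hψ'' m _).2 (pcn_square htor' ((rel_iff ψ hψ m K).1 hK))

end Groth.Agent.Lib.DR.TorBC
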