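import Groth.Agent.Lib.DR.KoszulTensor
import Groth.Agent.Lib.DR.DTenRing
import Groth.Agent.Lib.DR.KFlatTri
import Groth.Agent.Lib.DR.LocBij
import Mathlib.RingTheory.Localization.AtPrime.Basic
import Mathlib.RingTheory.Localization.BaseChange

/-!
# Localised triple Tor of quotients cut out locally by regular sequences
-/

set_option linter.style.haveILetI false
set_option linter.unusedSimpArgs false

universe u

open CategoryTheory CategoryTheory.Limits MonoidalCategory TensorProduct HomologicalComplex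
open RingTheory.Sequence

attribute [local instance] HasDerivedCategory.standard

namespace Groth.Agent.Lib.DR.TorTriple

open Groth.Agent.Lib.Koszul.Basic Groth.Agent.Lib.DR.KoszulTensor

variable {A : Type u} [CommRing A] (p : Ideal A) [p.IsPrime]

/-- The local ring as a complex of `A`-modules. -/
noncomputable abbrev locCx : DRing.Cx A := sgl (ModuleCat.of A (Localization.AtPrime p))

theorem isKFlat_sgl (M : Type u) [AddCommGroup M] [Module A M] [Module.Flat A M] :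
    DRing.IsKFlat A (sgl (ModuleCat.of A M)) := by
  refine KFlat.isKFlat_of_flat _ 0 (fun i hi => isZero_single_obj_X _ _ _ _ hi.ne') fun i => ?_
  rcases eq_or_ne i 0 with rfl | hi
  · exact Module.Flat.of_linearEquiv
      (singleObjXSelf (ComplexShape.up ℤ) 0 (ModuleCat.of A M)).toLinearEquiv
  · haveI : Subsingleton ((sgl (ModuleCat.of A M)).X i) := KoszulTensor.subsingleton_X hi
    infer_instance

theorem isKFlat_locCx : DRing.IsKFlat A (locCx p) :=
  haveI : Module.Flat A (Localization.AtPrime p) := IsLocalization.flat _ p.primeCompl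
  isKFlat_sgl _

theorem isKFlat_koszulOn : ∀ l : List A, DRing.IsKFlat A (koszulOn (one A) l)
  | [] => isKFlat_sgl A
  | _ :: l => KFlatTri.isKFlat_mappingCone _ (isKFlat_koszulOn l) (isKFlat_koszulOn l)

/-- `A_p ⊗ M` is the localised module. -/
noncomputable def tensorLocEquiv (M : Type u) [AddCommGroup M] [Module A M] :
    (Localization.AtPrime p) ⊗[A] M ≃ₗ[A] LocalizedModule p.primeCompl M :=
  (IsLocalizedModule.isBaseChange p.primeCompl (Localization.AtPrime p)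
    (LocalizedModule.mkLinearMap p.primeCompl M)).equiv.restrictScalars A

/-- Homology of `A_p ⊗ X`. -/
theorem nonempty_homology_loc (X : DRing.Cx A) (i : ℤ) :
    Nonempty ((locCx p ⊗ X).homology i ≃ₗ[A] LocalizedModule p.primeCompl (X.homology i)) := by
  let F := MonoidalCategory.tensorLeft (ModuleCat.of A (Localization.AtPrime p))
  haveI : Module.Flat A (ModuleCat.of A (Localization.AtPrime p)) :=
    IsLocalization.flat (Localization.AtPrime p) p.primeCompl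
  haveI : PreservesFiniteLimits F := inferInstance
  haveI : PreservesFiniteColimits F := PreservesColimitsOfSize.preservesFiniteColimits _
  haveI : F.PreservesHomology := Functor.preservesHomologyOfExact F
  exact ⟨((homologyFunctor _ _ i).mapIso (sglTensorIso (ModuleCat.of A (Localization.AtPrime p)) X)).symm.toLinearEquiv
    ≪≫ₗ ((X.sc i).mapHomologyIso F).toLinearEquiv ≪≫ₗ tensorLocEquiv p (X.homology i)⟩

/-- Localised, a resolution of `A/I` is a Koszul complex on local regular generators of `I`. -/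
theorem nonempty_Q_iso (P : DRing.Cx A) (I : Ideal A) (e : DerivedCategory.Q.obj P ≅ Dual.inD A (A ⧸ I))
    (l : List A) (hreg : IsWeaklyRegular (Localization.AtPrime p) l)
    (hgen : (Ideal.ofList l).map (algebraMap A (Localization.AtPrime p)) =
      I.map (algebraMap A (Localization.AtPrime p))) :
    Nonempty (DerivedCategory.Q.obj (locCx p ⊗ P) ≅ DerivedCategory.Q.obj (locCx p ⊗ koszulOn (one A) l)) := by
  obtain ⟨e1⟩ := LTensorCx.nonempty_tensor_iso (isKFlat_locCx p)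
    (e ≪≫ (DerivedCategory.singleFunctorIsoCompQ (ModuleCat.{u} A) 0).app (ModuleCat.of A (A ⧸ I)))
  obtain ⟨Q, π, hπ, ⟨eQ⟩⟩ := exists_qis (ModuleCat.of A (Localization.AtPrime p)) l hreg
  haveI := hπ
  haveI := DTenBasic.isIso_Q_map π hπ
  have hsub : (Ideal.ofList l • ⊤ : Submodule A (Localization.AtPrime p)) = I • ⊤ := by
    rw [Ideal.smul_top_eq_map, Ideal.smul_top_eq_map, hgen]
  let F := MonoidalCategory.tensorLeft (ModuleCat.of A (Localization.AtPrime p))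
  let eN : F.obj (ModuleCat.of A (A ⧸ I)) ≅ Q :=
    (TensorProduct.tensorQuotEquivQuotSMul (Localization.AtPrime p) I ≪≫ₗ
      (Submodule.quotEquivOfEq _ _ hsub).symm ≪≫ₗ eQ.symm).toModuleIso
  refine ⟨e1 ≪≫ DerivedCategory.Q.mapIso
    ((sglTensorIso (ModuleCat.of A (Localization.AtPrime p)) _).symm ≪≫
      (singleMapHomologicalComplex F _ 0).app (ModuleCat.of A (A ⧸ I)) ≪≫
      (single _ (ComplexShape.up ℤ) 0).mapIso eN) ≪≫ (asIso (DerivedCategory.Q.map π)).symm ≪≫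
    DerivedCategory.Q.mapIso ((tensorIso l (locCx p)).symm ≪≫ DTen.braidCx _ _)⟩

/-- Replace one factor. -/
theorem nonempty_step {L P K Y : DRing.Cx A} (hY : DRing.IsKFlat A Y)
    (h : Nonempty (DerivedCategory.Q.obj (L ⊗ P) ≅ DerivedCategory.Q.obj (L ⊗ K))) :
    Nonempty (DerivedCategory.Q.obj (L ⊗ (P ⊗ Y)) ≅ DerivedCategory.Q.obj (L ⊗ (K ⊗ Y))) := by
  obtain ⟨e⟩ := h
  obtain ⟨e'⟩ := LTensorCx.nonempty_tensor_iso hY e
  exact ⟨DerivedCategory.Q.mapIso ((α_ L P Y).symm ≪≫ DTen.braidCx _ _) ≪≫ e' ≪≫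
    DerivedCategory.Q.mapIso (DTen.braidCx _ _ ≪≫ α_ L K Y)⟩

/-- Rotate three factors. -/
noncomputable def rot (P Q R : DRing.Cx A) : P ⊗ (Q ⊗ R) ≅ Q ⊗ (R ⊗ P) :=
  DTen.braidCx _ _ ≪≫ α_ Q R P

/-- The localised triple Tor as Koszul homology. -/
theorem nonempty_tor_equiv [DTen.HasLTen₃ A] (I₁ I₂ I₃ : Ideal A) (l₁ l₂ l₃ : List A)
    (h₁ : IsWeaklyRegular (Localization.AtPrime p) l₁) (h₂ : IsWeaklyRegular (Localization.AtPrime p) l₂)
    (h₃ : IsWeaklyRegular (Localization.AtPrime p) l₃)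
    (g₁ : (Ideal.ofList l₁).map (algebraMap A (Localization.AtPrime p)) = I₁.map (algebraMap A _))
    (g₂ : (Ideal.ofList l₂).map (algebraMap A (Localization.AtPrime p)) = I₂.map (algebraMap A _))
    (g₃ : (Ideal.ofList l₃).map (algebraMap A (Localization.AtPrime p)) = I₃.map (algebraMap A _)) (i : ℤ) :
    Nonempty (LocalizedModule p.primeCompl (Dual.HD A ((DTen.LTen₃ A).obj
        (Dual.inD A (A ⧸ I₁), (Dual.inD A (A ⧸ I₂), Dual.inD A (A ⧸ I₃)))) i) ≃ₗ[A]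
      (koszulOn (locCx p) (l₁ ++ (l₂ ++ l₃))).homology i) := by
  haveI : DTen.HasLTen A := DTenBasic.hasLTen
  obtain ⟨P₁, hP₁, ⟨e₁⟩⟩ := DTenBasic.exists_rep (Dual.inD A (A ⧸ I₁))
  obtain ⟨P₂, hP₂, ⟨e₂⟩⟩ := DTenBasic.exists_rep (Dual.inD A (A ⧸ I₂))
  obtain ⟨P₃, hP₃, ⟨e₃⟩⟩ := DTenBasic.exists_rep (Dual.inD A (A ⧸ I₃))
  haveI := hP₁; haveI := hP₂; haveI := hP₃
  let E : (DTen.LTen₃ A).obj (Dual.inD A (A ⧸ I₁), (Dual.inD A (A ⧸ I₂), Dual.inD A (A ⧸ I₃))) ≅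
      DerivedCategory.Q.obj (P₁ ⊗ (P₂ ⊗ P₃)) :=
    (DTen.LTen₃ A).mapIso (e₁.symm.prod (e₂.symm.prod e₃.symm)) ≪≫ asIso ((DTen.ε₃ A).app (P₁, (P₂, P₃)))
  let H := DerivedCategory.homologyFunctor (ModuleCat.{u} A) i
  let EH : Dual.HD A ((DTen.LTen₃ A).obj
      (Dual.inD A (A ⧸ I₁), (Dual.inD A (A ⧸ I₂), Dual.inD A (A ⧸ I₃)))) i ≃ₗ[A]
      (P₁ ⊗ (P₂ ⊗ P₃)).homology i :=
    (H.mapIso E ≪≫ (DerivedCategory.homologyFunctorFactors (ModuleCat.{u} A) i).app _).toLinearEquiv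
  obtain ⟨E0⟩ := nonempty_homology_loc p (P₁ ⊗ (P₂ ⊗ P₃)) i
  let K₁ := koszulOn (one A) l₁; let K₂ := koszulOn (one A) l₂; let K₃ := koszulOn (one A) l₃
  have f₁ := KFlat.isKFlat_of_isKProjective P₁
  have f₂ := KFlat.isKFlat_of_isKProjective P₂
  have f₃ := KFlat.isKFlat_of_isKProjective P₃
  obtain ⟨s₁⟩ := nonempty_step (K := K₁) (DTenRing.isKFlat_tensor f₂ f₃) (nonempty_Q_iso p P₁ I₁ e₁ l₁ h₁ g₁)
  obtain ⟨s₂⟩ := nonempty_step (K := K₂) (DTenRing.isKFlat_tensor f₃ (isKFlat_koszulOn l₁))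
    (nonempty_Q_iso p P₂ I₂ e₂ l₂ h₂ g₂)
  obtain ⟨s₃⟩ := nonempty_step (K := K₃) (DTenRing.isKFlat_tensor (isKFlat_koszulOn l₁) (isKFlat_koszulOn l₂))
    (nonempty_Q_iso p P₃ I₃ e₃ l₃ h₃ g₃)
  let eK : K₁ ⊗ (K₂ ⊗ K₃) ≅ koszulOn (one A) (l₁ ++ (l₂ ++ l₃)) :=
    tensorIso l₁ _ ≪≫ eqToIso (show koszulOn (K₂ ⊗ K₃) l₁ = _ from rfl) ≪≫
      Koszul.Tensor.tensorCxIso.go l₁ (tensorIso l₂ _) ≪≫
        eqToIso (by rw [koszulOn_append, koszulOn_append])
  let EQ : DerivedCategory.Q.obj (locCx p ⊗ (P₁ ⊗ (P₂ ⊗ P₃))) ≅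
      DerivedCategory.Q.obj (koszulOn (locCx p) (l₁ ++ (l₂ ++ l₃))) :=
    s₁ ≪≫ DerivedCategory.Q.mapIso (whiskerLeftIso _ (rot K₁ P₂ P₃)) ≪≫
      s₂ ≪≫ DerivedCategory.Q.mapIso (whiskerLeftIso _ (rot K₂ P₃ K₁)) ≪≫
      s₃ ≪≫ DerivedCategory.Q.mapIso (whiskerLeftIso _ (rot K₃ K₁ K₂ ≪≫ eK) ≪≫
        DTen.braidCx _ _ ≪≫ tensorIso _ _)
  let EL : LocalizedModule p.primeCompl _ ≃ₗ[A] LocalizedModule p.primeCompl _ :=
    LinearEquiv.ofBijective _ (LocBij.bijective_map (LocBij.of_equiv (S := p.primeCompl) EH))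
  exact ⟨EL ≪≫ₗ E0.symm ≪≫ₗ
    (((DerivedCategory.homologyFunctorFactors (ModuleCat.{u} A) i).app _).symm ≪≫ H.mapIso EQ ≪≫
      (DerivedCategory.homologyFunctorFactors (ModuleCat.{u} A) i).app _).toLinearEquiv⟩

/-- Koszul homology over `A_p` of a list containing regular generators. -/
theorem nonempty_koszul_homology (l zs hs : List A) (hperm : (zs ++ hs).Perm l)
    (hreg : IsWeaklyRegular (Localization.AtPrime p) hs) (J : Ideal A) (hzs : ∀ z ∈ zs, z ∈ J)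
    (hgen : (Ideal.ofList hs).map (algebraMap A (Localization.AtPrime p)) =
      J.map (algebraMap A (Localization.AtPrime p))) (q : ℕ) :
    Nonempty ((koszulOn (locCx p) l).homology (-(q : ℤ)) ≃ₗ[A]
      (Fin (zs.length.choose q) → LocalizedModule p.primeCompl (A ⧸ J))) := by
  obtain ⟨eP⟩ := Koszul.Tensor.nonempty_iso_of_perm (locCx p) hperm.symm
  obtain ⟨Q, π, hπ, ⟨eQ⟩⟩ := exists_qis (ModuleCat.of A (Localization.AtPrime p)) hs hreg
  haveI := hπ
  have hsub : (Ideal.ofList hs • ⊤ : Submodule A (Localization.AtPrime p)) = J • ⊤ := by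
    rw [Ideal.smul_top_eq_map, Ideal.smul_top_eq_map, hgen]
  let eM : Q ≃ₗ[A] LocalizedModule p.primeCompl (A ⧸ J) :=
    eQ ≪≫ₗ Submodule.quotEquivOfEq _ _ hsub ≪≫ₗ
      (TensorProduct.tensorQuotEquivQuotSMul (Localization.AtPrime p) J).symm ≪≫ₗ tensorLocEquiv p (A ⧸ J)
  have hkill : ∀ z ∈ zs, ∀ m : Q, z • m = 0 := by
    intro z hz m
    obtain ⟨m', rfl⟩ := (eQ ≪≫ₗ Submodule.quotEquivOfEq _ _ hsub).symm.surjective m
    rw [← map_smul]
    obtain ⟨y, rfl⟩ := Submodule.Quotient.mk_surjective _ m'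
    rw [← Submodule.Quotient.mk_smul, (Submodule.Quotient.mk_eq_zero _).2
      (Submodule.smul_mem_smul (hzs z hz) Submodule.mem_top), map_zero]
  obtain ⟨eZ⟩ := nonempty_homology_zero_struct Q zs hkill q
  exact ⟨((homologyFunctor _ _ (-(q : ℤ))).mapIso (eP ≪≫ eqToIso (koszulOn_append _ zs hs)) ≪≫
    homologyIsoOfQuasiIso π zs _).toLinearEquiv ≪≫ₗ eZ ≪≫ₗ LinearEquiv.piCongrRight (fun _ => eM)⟩

end Groth.Agent.Lib.DR.TorTriple
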