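import Groth.Agent.Lib.DR.TwoTerm
import Mathlib.Algebra.Homology.DerivedCategory.Linear

/-!
# `Ext¹` of two-term complexes
-/

universe u

open CategoryTheory CategoryTheory.Limits CategoryTheory.Pretriangulated
open Groth.Agent.Lib.DR.Basic Groth.Agent.Lib.DR.FiniteComplex Groth.Agent.Lib.DR.PseudoCoherent
open Groth.Agent.Lib.DR.TwoTerm

attribute [local instance] HasDerivedCategory.standard

namespace Groth.Agent.Lib.DR.TwoTermExt

variable {A : Type u} [CommRing A]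

/-- `N[0][1] ≅ Q (N[1])`. -/
noncomputable def extIso (N : ModuleCat.{u} A) :
    (Dual.inD A N)⟦(1 : ℤ)⟧ ≅
      DerivedCategory.Q.obj ((HomologicalComplex.single (ModuleCat.{u} A) (ComplexShape.up ℤ) (-1)).obj N) :=
  singleShift N 1 (-1) 0 (by lia) ≪≫ (DerivedCategory.singleFunctorIsoCompQ (ModuleCat.{u} A) (-1)).app N

theorem comp_ext_eq_zero_iff (M E : DRing.Cx A) (hM : ∀ i : ℤ, 0 < i → IsZero (M.X i))
    (hM0 : Module.Projective A (M.X 0)) (hE : ∀ i : ℤ, i ≠ -1 → i ≠ 0 → IsZero (E.X i))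
    (hE0 : Module.Projective A (E.X 0)) (a : M ⟶ E) :
    (∀ (N : Type u) [AddCommGroup N] [Module A N] (ξ : DRing.toD E ⟶ (Dual.inD A N)⟦(1 : ℤ)⟧),
        DerivedCategory.Q.map a ≫ ξ = 0) ↔
      ∃ h : M.X 0 ⟶ E.X (-1), a.f (-1) + M.d (-1) 0 ≫ h = 0 := by
  let S := HomologicalComplex.single (ModuleCat.{u} A) (ComplexShape.up ℤ) (-1)
  have hS : ∀ (N : ModuleCat.{u} A) (i : ℤ), i ≤ -2 → IsZero ((S.obj N).X i) := fun N i hi =>
    HomologicalComplex.isZero_single_obj_X _ _ _ _ (by lia)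
  have hE' : ∀ i : ℤ, 0 < i → IsZero (E.X i) := fun i hi => hE i (by lia) (by lia)
  constructor
  · intro H
    let p : E ⟶ S.obj (E.X (-1)) := HomologicalComplex.mkHomToSingle (𝟙 _) fun i hi => by
      obtain rfl : i = -2 := by simp at hi; lia
      exact (hE (-2) (by lia) (by lia)).eq_of_src _ _
    have h0 : DerivedCategory.Q.map (a ≫ p) = 0 := by
      rw [← cancel_mono (extIso (E.X (-1))).inv, zero_comp, Functor.map_comp, Category.assoc]
      exact H (E.X (-1)) (DerivedCategory.Q.map p ≫ (extIso (E.X (-1))).inv)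
    obtain ⟨T⟩ := nonempty_homotopy_of_Q_map_eq_zero hM hM0 (hS _) (a ≫ p) h0
    have e1 := T.comm (-1)
    rw [dNext_eq T.hom (show (ComplexShape.up ℤ).Rel (-1) 0 from by simp),
      prevD_eq T.hom (show (ComplexShape.up ℤ).Rel (-2) (-1) from by simp),
      (hS _ (-2) le_rfl).eq_of_tgt (T.hom (-1) (-2)) 0, zero_comp, add_zero,
      HomologicalComplex.zero_f, add_zero] at e1
    refine ⟨-(T.hom 0 (-1) ≫ (HomologicalComplex.singleObjXSelf _ _ _).hom), ?_⟩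
    rw [Preadditive.comp_neg, ← Category.assoc, ← e1]
    simp [p, S]
  · rintro ⟨h, hh⟩ N _ _ ξ
    obtain ⟨φ, hφ⟩ := exists_Q_map_eq' hE' hE0 (hS (ModuleCat.of A N))
      (ξ ≫ (extIso (ModuleCat.of A N)).hom)
    rw [← cancel_mono (extIso (ModuleCat.of A N)).hom, zero_comp, Category.assoc, ← hφ]
    rw [← Functor.map_comp]
    refine Q_map_eq_zero (a ≫ φ) (-1) 0 (by lia) ((-h) ≫ φ.f (-1)) ?_ ?_ ?_
    · exact (HomologicalComplex.isZero_single_obj_X _ _ _ _ (by lia)).eq_of_tgt _ _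
    · rw [← Category.assoc, Preadditive.comp_neg, HomologicalComplex.comp_f,
        eq_neg_of_add_eq_zero_left hh]
    · exact fun k hk _ => (HomologicalComplex.isZero_single_obj_X _ _ _ _ hk).eq_of_tgt _ _

theorem smul_ext_eq_zero_iff (E : DRing.Cx A) (hE : ∀ i : ℤ, i ≠ -1 → i ≠ 0 → IsZero (E.X i))
    (hE0 : Module.Projective A (E.X 0)) (a : A) :
    (∀ (N : Type u) [AddCommGroup N] [Module A N] (ξ : DRing.toD E ⟶ (Dual.inD A N)⟦(1 : ℤ)⟧),
        a • ξ = 0) ↔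
      ∃ h : E.X 0 ⟶ E.X (-1), E.d (-1) 0 ≫ h = a • 𝟙 (E.X (-1)) := by
  have e : ∀ {Z : Dual.D A} (ξ : DRing.toD E ⟶ Z), DerivedCategory.Q.map (a • 𝟙 E) ≫ ξ = a • ξ :=
    fun ξ => by
      rw [Functor.map_smul, Linear.smul_comp, CategoryTheory.Functor.map_id, Category.id_comp]
  have key := comp_ext_eq_zero_iff E E (fun i hi => hE i (by lia) (by lia)) hE0 hE hE0 (a • 𝟙 E)
  simp only [HomologicalComplex.smul_f_apply, HomologicalComplex.id_f] at key
  constructor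
  · intro H
    obtain ⟨h, hh⟩ := key.1 fun N _ _ ξ => (e ξ).trans (H N ξ)
    exact ⟨-h, by rw [Preadditive.comp_neg, eq_neg_of_add_eq_zero_left hh]⟩
  · rintro ⟨h, hh⟩ N _ _ ξ
    exact (e ξ).symm.trans (key.2 ⟨-h, by rw [Preadditive.comp_neg, hh, add_neg_cancel]⟩ N ξ)

lemma smul_ext_eq_zero_congr {K K' : Dual.D A} (e : K ≅ K') {a : A}
    (H : ∀ (N : Type u) [AddCommGroup N] [Module A N] (ξ : K ⟶ (Dual.inD A N)⟦(1 : ℤ)⟧), a • ξ = 0)
    (N : Type u) [AddCommGroup N] [Module A N] (ξ : K' ⟶ (Dual.inD A N)⟦(1 : ℤ)⟧) : a • ξ = 0 := by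
  rw [← cancel_epi e.hom, comp_zero, Linear.comp_smul]
  exact H N _

end Groth.Agent.Lib.DR.TwoTermExt
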